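import Cfsg.Prelude.Def_EvenType
import Cfsg.Agent.Lib.Fusion.PEmbedded
import Mathlib.GroupTheory.Nilpotent
import Mathlib.GroupTheory.SpecificGroups.Quaternion
import Mathlib.GroupTheory.SpecificGroups.Cyclic

/-!
A fusion criterion for strongly `p`-embedded subgroups and its converse, inheritance, and groups
with one subgroup of order `p` in a Sylow subgroup.
-/

set_option autoImplicit false

open Cfsg
open scoped Pointwise

namespace CfsgLib.LocalEven.StrongEmb

variable {G : Type*} [Group G] [Finite G] {p : ℕ} [Fact p.Prime]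

/-- `E` controls the conjugation of its elements of order `p`. -/
def FusesInside (p : ℕ) (E : Subgroup G) : Prop :=
  ∀ a ∈ E, orderOf a = p → ∀ g : G, g * a * g⁻¹ ∈ E → g ∈ E

theorem fusesInside_of_isStronglyPEmbedded {E : Subgroup G} (h : IsStronglyPEmbedded p E) :
    FusesInside p E := by
  obtain ⟨R, hR⟩ := CfsgLib.Fusion.exists_embeddingData h
  intro a ha hao g hg
  refine hR.mem_of_conj (A := Subgroup.zpowers a) (Subgroup.zpowers_le.2 ha)
    (IsPGroup.of_card (n := 1) (by rw [Nat.card_zpowers, hao, pow_one])) ?_ ?_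
  · rw [Ne, Subgroup.zpowers_eq_bot]
    intro h1
    rw [h1, orderOf_one] at hao
    exact (Fact.out : p.Prime).ne_one hao.symm
  · rintro _ ⟨i, rfl⟩
    show g * a ^ i * g⁻¹ ∈ E
    rw [← conj_zpow]
    exact E.zpow_mem hg i

theorem exists_sylow_le_of_isStronglyPEmbedded {E : Subgroup G} (h : IsStronglyPEmbedded p E) :
    ∃ R : Sylow p G, (R : Subgroup G) ≤ E :=
  let ⟨R, hR⟩ := CfsgLib.Fusion.exists_embeddingData h
  ⟨R, hR.le⟩

theorem dvd_card_of_isStronglyPEmbedded {E : Subgroup G} (h : IsStronglyPEmbedded p E) :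
    p ∣ Nat.card E :=
  let ⟨R, hR⟩ := exists_sylow_le_of_isStronglyPEmbedded h
  (R.dvd_card_of_dvd_card h.1).trans (Subgroup.card_dvd_of_le hR)

theorem FusesInside.exists_sylow_le {E : Subgroup G} (hE : FusesInside p E) (hp : p ∣ Nat.card E) :
    ∃ R : Sylow p G, (R : Subgroup G) ≤ E := by
  obtain ⟨⟨x, hxE⟩, hx⟩ := exists_prime_orderOf_dvd_card' (G := E) p hp
  rw [Subgroup.orderOf_mk] at hx
  obtain ⟨R, hR⟩ := (IsPGroup.of_card (p := p) (n := 1)
    (G := Subgroup.zpowers x) (by rw [Nat.card_zpowers, hx, pow_one])).exists_le_sylow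
  refine ⟨R, ?_⟩
  by_contra hne
  have hlt : E.subgroupOf (R : Subgroup G) < ⊤ := by
    rw [lt_top_iff_ne_top, Ne, Subgroup.subgroupOf_eq_top]; exact hne
  have : Group.IsNilpotent (R : Subgroup G) := R.2.isNilpotent
  obtain ⟨⟨g, hgR⟩, hg, hgE⟩ :=
    SetLike.exists_of_lt (Group.normalizerCondition_of_isNilpotent _ hlt)
  refine hgE (hE x hxE hx g ?_)
  exact (Subgroup.mem_normalizer_iff.1 hg ⟨x, hR (Subgroup.mem_zpowers x)⟩).1 hxE

theorem isStronglyPEmbedded_of_fusesInside {E : Subgroup G} (hE : FusesInside p E)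
    (hne : E ≠ ⊤) (hp : p ∣ Nat.card E) : IsStronglyPEmbedded p E := by
  obtain ⟨R, hR⟩ := hE.exists_sylow_le hp
  refine ⟨hp.trans (Subgroup.card_subgroup_dvd_card E), hne, R, ?_⟩
  refine iSup_le ?_
  rintro ⟨Q, hQR, hQ⟩ g hg
  have hQne : Q ≠ ⊥ := by
    rintro rfl
    refine hQ ?_
    intro A _ _
    have : Subsingleton (⊥ : Subgroup G) := inferInstance
    rw [Nat.card_of_subsingleton (⟨1, A.one_mem⟩ : A)]
    exact Nat.one_le_pow _ _ (Fact.out : p.Prime).pos
  obtain ⟨n, hn⟩ := IsPGroup.iff_card.1 (R.2.to_le hQR)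
  have hd : p ∣ Nat.card Q := by
    rw [hn]
    refine dvd_pow_self p fun h0 => hQne (Subgroup.card_eq_one.1 ?_)
    rw [hn, h0, pow_zero]
  obtain ⟨⟨a, haQ⟩, ha⟩ := exists_prime_orderOf_dvd_card' (G := Q) p hd
  rw [Subgroup.orderOf_mk] at ha
  exact hE a (hR (hQR haQ)) ha g (hR (hQR ((Subgroup.mem_normalizer_iff.1 hg a).1 haQ)))

theorem isStronglyPEmbedded_inf {E H : Subgroup G} (h : IsStronglyPEmbedded p E) (hH : ¬ H ≤ E)
    (hp : p ∣ Nat.card ↥(H ⊓ E)) : IsStronglyPEmbedded p ((H ⊓ E).subgroupOf H) := by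
  refine isStronglyPEmbedded_of_fusesInside ?_ ?_ ?_
  · intro a ha hao g hg
    refine ⟨g.2, fusesInside_of_isStronglyPEmbedded h a.1 ha.2 ?_ g.1 ?_⟩
    · rw [Subgroup.orderOf_coe]; exact hao
    · exact (Subgroup.mem_subgroupOf.1 hg).2
  · rw [Ne, Subgroup.subgroupOf_eq_top]
    exact fun hle => hH (hle.trans inf_le_right)
  · rw [Nat.card_congr (Subgroup.subgroupOfEquivOfLe inf_le_left).toEquiv]; exact hp

omit [Fact p.Prime] in
theorem pow_eq_one_ncard_le_of_quaternion {T : Type*} [Group T] [Finite T] {n : ℕ}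
    (e : T ≃* QuaternionGroup n) : ({x : T | x ^ 2 = 1} : Set T).ncard ≤ 2 := by
  have : Finite (QuaternionGroup n) := Finite.of_equiv T e.toEquiv
  have hn : NeZero n := ⟨by
    rintro rfl
    have : Finite (DihedralGroup 0) :=
      Finite.of_equiv _ QuaternionGroup.quaternionGroupZeroEquivDihedralGroupZero.toEquiv
    exact not_finite (DihedralGroup 0)⟩
  have hsub : ({x : T | x ^ 2 = 1} : Set T) ⊆
      {e.symm (QuaternionGroup.a 0), e.symm (QuaternionGroup.a (n : ZMod (2 * n)))} := by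
    intro x hx
    rcases hq : e x with i | i
    · have h1 : (e x) ^ 2 = 1 := by rw [← map_pow, hx, map_one]
      rw [hq, pow_two, QuaternionGroup.a_mul_a, ← QuaternionGroup.a_zero] at h1
      injection h1 with h2
      have h3 : ((2 * i.val : ℕ) : ZMod (2 * n)) = 0 := by
        push_cast; rw [ZMod.natCast_zmod_val]; linear_combination h2
      rw [ZMod.natCast_eq_zero_iff] at h3
      have hd : n ∣ i.val := (Nat.mul_dvd_mul_iff_left (by norm_num : 0 < 2)).1 h3
      obtain ⟨c, hc⟩ := hd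
      have hlt := i.val_lt
      have hn0 := hn.out
      have hc2 : c < 2 := by
        by_contra hc2
        have : 2 * n ≤ n * c := by rw [mul_comm 2 n]; exact Nat.mul_le_mul_left n (not_lt.1 hc2)
        omega
      rw [← e.symm_apply_apply x, hq]
      interval_cases c
      · left
        rw [← ZMod.natCast_zmod_val i, hc, mul_zero, Nat.cast_zero]
      · right
        rw [Set.mem_singleton_iff, ← ZMod.natCast_zmod_val i, hc, mul_one]
    · exfalso
      have h1 : orderOf (e x) ∣ 2 := orderOf_dvd_of_pow_eq_one (by rw [← map_pow, hx, map_one])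
      rw [hq, QuaternionGroup.orderOf_xa] at h1
      exact absurd h1 (by norm_num)
  refine (Set.ncard_le_ncard hsub (Set.toFinite _)).trans ?_
  exact (Set.ncard_insert_le _ _).trans (by rw [Set.ncard_singleton])

end CfsgLib.LocalEven.StrongEmb
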