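import Cfsg.Agent.Lib.PLocal.SLTwoSection

/-!
In a faithful linear group of odd characteristic `p`, a quadratic element outside `O_p` commutes
with an involution.
-/

set_option autoImplicit false

open scoped MatrixGroups

namespace CfsgLib.LocalEven.QuadCommute

section Algebra

variable {R A : Type*} [CommRing R] [Ring A] [Algebra R A]

/-- The product of two combinations of `1, E, F, E F`. -/
theorem form_mul {E F : A} {c : R} (hE : E * E = 0) (hF : F * F = 0)
    (hFE : F * E = c • (1 : A) - E * F) (α β γ δ α' β' γ' δ' : R) :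
    (α • (1 : A) + β • E + γ • F + δ • (E * F)) * (α' • (1 : A) + β' • E + γ' • F + δ' • (E * F)) =
      (α * α' + γ * β' * c) • (1 : A) + (α * β' + β * α' + δ * β' * c) • E +
        (α * γ' + γ * α' + γ * δ' * c) • F +
        (α * δ' + δ * α' + β * γ' - γ * β' + δ * δ' * c) • (E * F) := by
  have h1 : E * (E * F) = 0 := by rw [← mul_assoc, hE, zero_mul]
  have h2 : E * F * F = 0 := by rw [mul_assoc, hF, mul_zero]
  have h3 : F * (E * F) = c • F := by
    rw [← mul_assoc, hFE, sub_mul, smul_mul_assoc, one_mul, h2, sub_zero]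
  have h4 : E * F * E = c • E := by
    rw [mul_assoc, hFE, mul_sub, mul_smul_comm, mul_one, h1, sub_zero]
  have h5 : E * F * (E * F) = c • (E * F) := by rw [← mul_assoc, h4, smul_mul_assoc]
  simp only [add_mul, mul_add, smul_mul_assoc, mul_smul_comm, one_mul, mul_one, hE, hF, hFE, h1, h2,
    h3, h4, h5, smul_zero]
  module

end Algebra

/-- Everything generated by two quadratic elements has central sum with its inverse. -/
theorem commute_add_inv {H A : Type*} [Group H] [Finite H] [Ring A] (σ : H →* A) {a b : H}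
    (hgen : Subgroup.closure ({a, b} : Set H) = ⊤)
    (ha : (σ a - 1) * (σ a - 1) = 0) (hb : (σ b - 1) * (σ b - 1) = 0) (h : H) :
    Commute (σ h + σ h⁻¹) (σ a) := by
  classical
  set E := σ a - 1 with hE
  set F := σ b - 1 with hF
  set c := E * F + F * E with hc
  have hcE : Commute c E := by
    show (E * F + F * E) * E = E * (E * F + F * E)
    rw [add_mul, mul_add, mul_assoc F E E, ha, ← mul_assoc E E F, ha, mul_zero, zero_mul, add_zero,
      zero_add, mul_assoc]
  have hcF : Commute c F := by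
    show (E * F + F * E) * F = F * (E * F + F * E)
    rw [add_mul, mul_add, mul_assoc E F F, hb, ← mul_assoc F F E, hb, mul_zero, zero_mul, add_zero,
      zero_add, mul_assoc]
  let B : Subring A := Subring.centralizer {c}
  have hmem : ∀ x : A, Commute c x → x ∈ B := fun x hx =>
    Subring.mem_centralizer_iff.2 fun y hy => (Set.mem_singleton_iff.1 hy) ▸ hx
  let E' : B := ⟨E, hmem _ hcE⟩
  let F' : B := ⟨F, hmem _ hcF⟩
  let c' : Subring.center B := ⟨⟨c, hmem _ (Commute.refl c)⟩, Subring.mem_center_iff.2 fun y =>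
    Subtype.ext (Subring.mem_centralizer_iff.1 y.2 c rfl).symm⟩
  have hE' : E' * E' = 0 := Subtype.ext ha
  have hF' : F' * F' = 0 := Subtype.ext hb
  have hFE : F' * E' = c' • (1 : B) - E' * F' := by
    refine eq_sub_of_add_eq ?_
    refine Subtype.ext ?_
    show F * E + E * F = c * 1
    rw [mul_one, hc, add_comm]
  let frm : Subring.center B → Subring.center B → Subring.center B → Subring.center B → A :=
    fun α β γ δ => ((α • (1 : B) + β • E' + γ • F' + δ • (E' * F') : B) : A)
  suffices key : ∀ h : H, ∃ α β γ δ, σ h = frm α β γ δ ∧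
      σ h⁻¹ = frm (α + δ * c') (-β) (-γ) (-δ) by
    obtain ⟨α, β, γ, δ, e1, e2⟩ := key h
    have e : σ h + σ h⁻¹ = (((2 * α + δ * c') • (1 : B) : B) : A) := by
      rw [e1, e2]
      show ((_ : B) : A) + ((_ : B) : A) = _
      rw [← Subring.coe_add]
      congr 1
      module
    have hz : (2 * α + δ * c') • (1 : B) ∈ Subring.center B := by
      show ((2 * α + δ * c' : Subring.center B) : B) * 1 ∈ Subring.center B
      rw [mul_one]; exact SetLike.coe_mem _
    have := congrArg Subtype.val (Subring.mem_center_iff.1 hz (E' + 1))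
    rw [e]
    show _ * σ a = σ a * _
    have ea : σ a = E + 1 := by rw [hE, sub_add_cancel]
    rw [ea]
    exact this.symm
  have hmulA : ∀ {α β γ δ α' β' γ' δ'}, frm α β γ δ * frm α' β' γ' δ' =
      frm (α * α' + γ * β' * c') (α * β' + β * α' + δ * β' * c') (α * γ' + γ * α' + γ * δ' * c')
        (α * δ' + δ * α' + β * γ' - γ * β' + δ * δ' * c') := by
    intro α β γ δ α' β' γ' δ'
    exact congrArg Subtype.val (form_mul hE' hF' hFE α β γ δ α' β' γ' δ')
  intro h
  have hh : h ∈ Subgroup.closure ({a, b} : Set H) := hgen ▸ Subgroup.mem_top h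
  induction hh using Subgroup.closure_induction with
  | mem x hx =>
    rcases hx with rfl | rfl
    · refine ⟨1, 1, 0, 0, ?_, ?_⟩
      · simp [frm, E', E]
      · have e : σ x * (1 - E) = 1 := by
          have : σ x = 1 + E := by rw [hE]; abel
          rw [this, add_mul, one_mul, mul_sub, mul_one, ha]; abel
        have := congrArg (σ x⁻¹ * ·) e
        simp only [mul_one, ← mul_assoc, ← map_mul, inv_mul_cancel, map_one, one_mul] at this
        rw [← this]
        simp [frm, E', sub_eq_add_neg]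
    · refine ⟨1, 0, 1, 0, ?_, ?_⟩
      · simp [frm, F', F]
      · have e : σ x * (1 - F) = 1 := by
          have : σ x = 1 + F := by rw [hF]; abel
          rw [this, add_mul, one_mul, mul_sub, mul_one, hb]; abel
        have := congrArg (σ x⁻¹ * ·) e
        simp only [mul_one, ← mul_assoc, ← map_mul, inv_mul_cancel, map_one, one_mul] at this
        rw [← this]
        simp [frm, F', sub_eq_add_neg]
  | one => exact ⟨1, 0, 0, 0, by simp [frm], by simp [frm]⟩
  | mul x y _ _ hx hy =>
    obtain ⟨α, β, γ, δ, e1, e2⟩ := hx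
    obtain ⟨α', β', γ', δ', f1, f2⟩ := hy
    refine ⟨_, _, _, _, by rw [map_mul, e1, f1, hmulA], ?_⟩
    rw [mul_inv_rev, map_mul, e2, f2, hmulA]
    congr 1 <;> ring
  | inv x _ hx =>
    obtain ⟨α, β, γ, δ, e1, e2⟩ := hx
    refine ⟨_, _, _, _, e2, ?_⟩
    rw [inv_inv, e1]
    congr 1 <;> ring

universe u v

variable {p : ℕ} [hp : Fact p.Prime]

/-- A quadratic element outside `O_p` commutes with an involution. -/
theorem exists_involution_commute {L : Type u} [Group L] [Finite L] (hp2 : p ≠ 2) {W : Type v}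
    [AddCommGroup W] [Module (ZMod p) W] [FiniteDimensional (ZMod p) W]
    (ρ : L →* Module.End (ZMod p) W) (hρ : Function.Injective ρ) {a : L}
    (ha : (ρ a - 1) * (ρ a - 1) = 0) (hna : a ∉ Cfsg.pCore p L) :
    ∃ z : L, orderOf z = 2 ∧ z * a = a * z := by
  obtain ⟨g, hg⟩ := CfsgLib.PLocal.exists_conj_pair_not_isPGroup hna
  set D := Subgroup.closure ({a, g * a * g⁻¹} : Set L) with hD
  set a' : D := ⟨a, Subgroup.subset_closure (Set.mem_insert _ _)⟩ with ha'
  set b' : D := ⟨g * a * g⁻¹, Subgroup.subset_closure (Set.mem_insert_of_mem _ rfl)⟩ with hb'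
  have hgg : ρ g⁻¹ * ρ g = 1 := by rw [← map_mul, inv_mul_cancel, map_one]
  have hgg' : ρ g * ρ g⁻¹ = 1 := by rw [← map_mul, mul_inv_cancel, map_one]
  have hb : (ρ (g * a * g⁻¹) - 1) * (ρ (g * a * g⁻¹) - 1) = 0 := by
    have e : ρ (g * a * g⁻¹) - 1 = ρ g * (ρ a - 1) * ρ g⁻¹ := by
      rw [mul_sub, sub_mul, mul_one, hgg', map_mul, map_mul]
    rw [e]
    calc ρ g * (ρ a - 1) * ρ g⁻¹ * (ρ g * (ρ a - 1) * ρ g⁻¹)
        = ρ g * (ρ a - 1) * (ρ g⁻¹ * ρ g) * ((ρ a - 1) * ρ g⁻¹) := by simp only [mul_assoc]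
      _ = ρ g * ((ρ a - 1) * (ρ a - 1)) * ρ g⁻¹ := by rw [hgg]; simp only [mul_one, mul_assoc]
      _ = 0 := by rw [ha, mul_zero, zero_mul]
  let σ : D →* Module.End (ZMod p) W := ρ.comp D.subtype
  have hgen : Subgroup.closure ({a', b'} : Set D) = ⊤ := by
    refine Subgroup.map_injective D.subtype_injective ?_
    rw [MonoidHom.map_closure, ← MonoidHom.range_eq_map, Subgroup.range_subtype, Set.image_pair,
      Subgroup.coe_subtype]
  obtain ⟨d, hdn⟩ : ∃ d : D, ¬ IsNilpotent (σ d - 1) := by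
    by_contra! hcon
    refine hg (IsPGroup.of_equiv ?_ Subgroup.topEquiv)
    exact CfsgLib.QuadPair.isPGroup_of_forall_isNilpotent σ (hρ.comp D.subtype_injective)
      (⊤ : Subgroup D) fun h _ => hcon h
  haveI : CharP (AlgebraicClosure (ZMod p)) p :=
    charP_of_injective_algebraMap (algebraMap (ZMod p) (AlgebraicClosure (ZMod p))).injective p
  obtain ⟨μ, φ, hμ, h2, h3, -⟩ :=
    CfsgLib.QuadPair.exists_hom σ hgen (a := a') (b := b') ha hb hdn
  obtain ⟨M, f, hf⟩ := CfsgLib.PLocal.exists_sl2_of_hom_pair hp2 hμ φ (a := a') (b := b') h2 h3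
  have heven : 2 ∣ Nat.card D := by
    refine dvd_trans ?_ ((Subgroup.card_dvd_of_surjective f hf).trans M.card_subgroup_dvd_card)
    have hne : ((-1 : SL(2, ZMod p)) : SL(2, ZMod p)) ≠ 1 := by
      intro h
      have h' := congrArg (fun x : SL(2, ZMod p) => (x : Matrix (Fin 2) (Fin 2) (ZMod p)) 0 0) h
      simp only [Matrix.SpecialLinearGroup.coe_neg, Matrix.SpecialLinearGroup.coe_one,
        Matrix.neg_apply, Matrix.one_apply_eq] at h'
      have h'' : ((2 : ℕ) : ZMod p) = 0 := by push_cast; linear_combination -h'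
      rw [ZMod.natCast_eq_zero_iff] at h''
      exact hp2 ((Nat.prime_dvd_prime_iff_eq hp.out Nat.prime_two).1 h'')
    haveI : Fact (Nat.Prime 2) := ⟨Nat.prime_two⟩
    have ho := orderOf_eq_prime (p := 2) (x := (-1 : SL(2, ZMod p))) (by simp) hne
    exact ho.symm.dvd.trans (orderOf_dvd_natCard (-1 : SL(2, ZMod p)))
  haveI : Fact (Nat.Prime 2) := ⟨Nat.prime_two⟩
  obtain ⟨z, hz⟩ := exists_prime_orderOf_dvd_card' 2 heven
  refine ⟨(z : L), by rw [Subgroup.orderOf_coe, hz], hρ ?_⟩
  have hzi : z⁻¹ = z := inv_eq_of_mul_eq_one_right (by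
    rw [← pow_two, ← hz, pow_orderOf_eq_one])
  have hc := commute_add_inv σ hgen ha hb z
  rw [hzi] at hc
  have e : (2 : ZMod p) • (σ z * σ a' - σ a' * σ z) = 0 := by
    rw [two_smul]
    have hc' : (σ z + σ z) * σ a' = σ a' * (σ z + σ z) := hc
    rw [add_mul, mul_add] at hc'
    rw [sub_add_sub_comm, sub_eq_zero]
    exact hc'
  have h20 : (2 : ZMod p) ≠ 0 := fun h => hp2 ((Nat.prime_dvd_prime_iff_eq hp.out Nat.prime_two).1
    ((ZMod.natCast_eq_zero_iff 2 p).1 (by exact_mod_cast h)))
  rw [map_mul, map_mul]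
  exact sub_eq_zero.1 ((smul_eq_zero.1 e).resolve_left h20)

end CfsgLib.LocalEven.QuadCommute
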