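import Cfsg.Agent.Lib.LocalEven.InvFree
import Cfsg.Agent.Lib.LocalEven.QuadraticCommute
import Cfsg.Agent.Lib.PLocal.SectionStable
import Cfsg.Agent.Lib.PLocal.PStableQuot

/-!
For odd `p`: if no nontrivial `p`-element is inverted in `N_G(Z(J(T)))`, `T` a Sylow `p`-subgroup,
then none is inverted in `G`.
-/

set_option autoImplicit false
set_option linter.unusedSectionVars false

namespace CfsgLib.LocalEven.Inversion

open CfsgLib.PLocal
open scoped commutatorElement

universe u

variable {G : Type u} [Group G] [Finite G] {p e : ℕ} [Fact p.Prime]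

/-- Glauberman's `B ∩ ZJ(S)` theorem with stability only for elements of maximal abelian members. -/
theorem inf_zj_normal_of_max (hp : p ≠ 2) (he : e = 0 ∨ e = p) (S : Sylow p G)
    (hst : ∀ (P : Subgroup G) [P.Normal], IsPGroup p P → ∀ A, IsMaxElemIn e (S : Subgroup G) A →
      ∀ a ∈ A, ⁅⁅P, Subgroup.zpowers a⁆, Subgroup.zpowers a⁆ = ⊥ → a ∈ stabD p P)
    (B : Subgroup G) [B.Normal] (hB : IsPGroup p B) : (B ⊓ zj e (S : Subgroup G)).Normal := by
  suffices key : ∀ n, ∀ B : Subgroup G, B.Normal → IsPGroup p B → Nat.card B = n →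
      (B ⊓ zj e (S : Subgroup G)).Normal from key _ B inferInstance hB rfl
  intro n
  induction n using Nat.strong_induction_on with
  | _ n ih =>
  intro B hBn hB hcard
  subst hcard
  set Z := zj e (S : Subgroup G) with hZ
  have small : ∀ B' : Subgroup G, B'.Normal → B' < B → (B' ⊓ Z).Normal := fun B' hn hlt =>
    ih _ (lt_of_not_ge fun h => hlt.ne (Subgroup.eq_of_le_of_card_ge hlt.le h)) B' hn
      (hB.to_le hlt.le) rfl
  by_contra hnot
  have hBS : B ≤ (S : Subgroup G) :=
    (CfsgLib.PCore.le_pCore hBn hB).trans (CfsgLib.PCore.pCore_le_sylow S)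
  have hSB : (S : Subgroup G) ≤ Subgroup.normalizer (B : Set G) := fun x _ => by
    rw [Subgroup.normalizer_eq_top B]; trivial
  -- `B` is the normal closure of `B ⊓ Z`
  have hcl : ∀ M : Subgroup G, M.Normal → B ⊓ Z ≤ M → B ≤ M := by
    intro M hM hle
    by_contra hnle
    apply hnot
    have hlt : M ⊓ B < B := lt_of_le_of_ne inf_le_right fun h => hnle (h ▸ inf_le_left)
    have := small (M ⊓ B) inferInstance hlt
    rwa [inf_assoc, inf_eq_right.mpr hle] at this
  have hBne : B ≠ ⊥ := by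
    rintro rfl
    apply hnot
    rw [bot_inf_eq]
    infer_instance
  -- the derived subgroup
  have hder : ⁅B, B⁆ < B := by
    haveI : Group.IsNilpotent B := hB.isNilpotent
    haveI : Nontrivial B := (Subgroup.nontrivial_iff_ne_bot B).mpr hBne
    refine lt_of_le_of_ne B.commutator_le_self fun h => ?_
    have h1 : commutator B < ⊤ := IsSolvable.commutator_lt_top_of_nontrivial B
    apply h1.ne
    apply Subgroup.map_injective B.subtype_injective
    rw [Subgroup.map_subtype_commutator, map_subtype_top, h]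
  haveI hKn : (⁅B, B⁆ ⊓ Z).Normal := small _ inferInstance hder
  have hK : ⁅B, B⁆ ≤ ⁅B, B⁆ ⊓ Z := by
    set K := ⁅B, B⁆ ⊓ Z with hKdef
    set q := QuotientGroup.mk' K with hq
    haveI : (B.map q).Normal := hBn.map q (QuotientGroup.mk'_surjective K)
    have h1 : B ≤ (Subgroup.centralizer ((B.map q : Subgroup (G ⧸ K)) : Set (G ⧸ K))).comap q := by
      refine hcl _ inferInstance ?_
      intro x hx
      obtain ⟨hxB, hxZ⟩ := Subgroup.mem_inf.mp hx
      rw [Subgroup.mem_comap, Subgroup.mem_centralizer_iff]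
      rintro _ ⟨y, hy, rfl⟩
      rw [← map_mul, ← map_mul, hq, QuotientGroup.mk'_apply, QuotientGroup.mk'_apply,
        QuotientGroup.eq]
      refine Subgroup.mem_inf.mpr ⟨?_, ?_⟩
      · have := Subgroup.commutator_mem_commutator (inv_mem hxB) (inv_mem hy) (H₁ := B) (H₂ := B)
        simpa [commutatorElement_def, mul_assoc] using this
      · have h2 : y⁻¹ * x * y ∈ Z :=
          inv_conj_mem_of_mem_normalizer (le_normalizer_zj e _ (hBS hy)) hxZ
        have := mul_mem (inv_mem hxZ) h2
        simpa [mul_assoc] using this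
    rw [Subgroup.commutator_le]
    intro x hx y hy
    have h2 : q y * q x = q x * q y := Subgroup.mem_centralizer_iff.mp (h1 hx) (q y) ⟨y, hy, rfl⟩
    have h3 : q ⁅x, y⁆ = 1 := by
      rw [map_commutatorElement, commutatorElement_eq_one_iff_mul_comm]
      exact h2.symm
    exact (QuotientGroup.eq_one_iff _).mp h3
  have hB'Z : ⁅B, B⁆ ≤ Z := hK.trans inf_le_right
  -- a maximal member normalized by `B`
  obtain ⟨A₀, hA₀⟩ := exists_isMaxElemIn e (S : Subgroup G)
  obtain ⟨A₁, hA₁, hBA₁⟩ : ∃ A, IsMaxElemIn e (S : Subgroup G) A ∧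
      B ≤ Subgroup.normalizer (A : Set G) := by
    by_cases h : B ≤ A₀
    · exact ⟨A₀, hA₀, h.trans Subgroup.le_normalizer⟩
    · obtain ⟨A, h1, -, -, h4⟩ := exists_maxElemIn_normalized S.isPGroup' le_rfl
        Subgroup.le_normalizer hBS hSB hA₀ (hB'Z.trans (zj_le_of_isMaxElemIn hA₀))
        (fun h2 => absurd h2 hp) he h
      exact ⟨A, h1, h4⟩
  set D := stabD p B with hD
  set L := (S : Subgroup G) ⊓ D with hL
  have hstB : ∀ A, IsMaxElemIn e (S : Subgroup G) A → B ≤ Subgroup.normalizer (A : Set G) →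
      A ≤ D := fun A hA hN a ha => by
    haveI := hA.elem.1
    exact hst B hB A hA a ha (quadratic_of_normalizes hN ha)
  have hA₁L : A₁ ≤ L := le_inf hA₁.le (hstB A₁ hA₁ hBA₁)
  have hZL : Z ≤ zj e L := zj_le_zj inf_le_left hA₁ hA₁L
  -- `B ⊓ zj L` is normal, hence contains `B`
  have hXn : (B ⊓ zj e L).Normal := by
    rw [← Subgroup.normalizer_eq_top_iff, eq_top_iff, ← centralizer_sup_normalizer_stabD B S]
    refine sup_le ?_ ?_
    · intro c hc
      refine Subgroup.mem_normalizer_iff.mpr fun x => ?_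
      constructor
      · intro hx
        rwa [show c * x * c⁻¹ = x by
          rw [← Subgroup.mem_centralizer_iff.mp hc x hx.1, mul_inv_cancel_right]]
      · intro hx
        have h1 : c * x * c⁻¹ ∈ B := hx.1
        have h2 := Subgroup.mem_centralizer_iff.mp hc _ h1
        have h3 : x = c * x * c⁻¹ := by
          calc x = c⁻¹ * (c * x * c⁻¹ * c) := by group
            _ = c⁻¹ * (c * (c * x * c⁻¹)) := by rw [h2]
            _ = c * x * c⁻¹ := by group
        rwa [h3]
    · intro n hn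
      exact CfsgLib.Techniques.mem_normalizer_inf (by rw [Subgroup.normalizer_eq_top B]; trivial)
        (normalizer_le_normalizer_zj e L hn)
  have hBL : B ≤ zj e L := (hcl _ hXn (inf_le_inf_left B hZL)).trans inf_le_right
  have hBel : Cfsg.IsElementaryAbelian e B := elemAb_of_le (zj_elemAb e L) hBL
  -- all maximal members lie in `L`
  have hall : ∀ A, IsMaxElemIn e (S : Subgroup G) A → A ≤ L := by
    by_contra h
    push Not at h
    classical
    obtain ⟨A, ⟨hA, hAL⟩, hmax⟩ := Set.exists_max_image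
      {A : Subgroup G | IsMaxElemIn e (S : Subgroup G) A ∧ ¬ A ≤ L}
      (fun A => Nat.card (A ⊓ B : Subgroup G)) (Set.toFinite _) h
    haveI := hA.elem.1
    have hnN : ¬ B ≤ Subgroup.normalizer (A : Set G) := fun hN =>
      hAL (le_inf hA.le (hstB A hA hN))
    obtain ⟨A', h1, -, h3, h4, -⟩ := exists_maxElemIn_replacement S.isPGroup' le_rfl
      Subgroup.le_normalizer hBS hSB hA
      (by rw [Subgroup.commutator_self_eq_bot_iff.mpr hBel.1]; exact bot_le)
      (fun h2 => absurd h2 hp) he hnN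
    have hA'L : A' ≤ L := by
      by_contra h'
      exact h3.ne (Subgroup.eq_of_le_of_card_ge h3.le (hmax A' ⟨h1, h'⟩))
    refine h4.ne (inf_eq_right.mpr (hBL.trans (zj_le_of_isMaxElemIn ?_)))
    exact h1.restrict inf_le_left hA'L
  apply hnot
  have heq : Z = zj e L := by
    refine le_antisymm hZL ?_
    rw [hZ, zj_eq_sInf e (S : Subgroup G)]
    refine le_sInf fun A hA => zj_le_of_isMaxElemIn ?_
    exact hA.restrict inf_le_left (hall A hA)
  rw [heq, inf_eq_left.mpr hBL]
  exact hBn

/-- If `ZJ(S)` is not normal, some element of a maximal abelian member acts quadratically and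
unstably on a normal `p`-subgroup. -/
theorem exists_unstable (hp : p ≠ 2)
    (hc : Subgroup.centralizer (Cfsg.pCore p G : Set G) ≤ Cfsg.pCore p G) (S : Sylow p G)
    (hn : ¬ (zj 0 (S : Subgroup G)).Normal) :
    ∃ (B : Subgroup G) (_ : B.Normal), IsPGroup p B ∧ ∃ A, IsMaxElemIn 0 (S : Subgroup G) A ∧
      ∃ a ∈ A, ⁅⁅B, Subgroup.zpowers a⁆, Subgroup.zpowers a⁆ = ⊥ ∧ a ∉ stabD p B := by
  by_contra hcon
  push Not at hcon
  refine hn ?_
  have hle : zj 0 (S : Subgroup G) ≤ Cfsg.pCore p G := by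
    haveI := (zj_elemAb 0 (S : Subgroup G)).1
    refine le_trans ?_ (CfsgLib.PCore.le_pCore (stabD_normal p _)
      (stabD_isPGroup (CfsgLib.PCore.pCore_isPGroup.to_le hc)))
    intro a ha
    obtain ⟨A, hA⟩ := exists_isMaxElemIn 0 (S : Subgroup G)
    exact hcon (Cfsg.pCore p G) inferInstance CfsgLib.PCore.pCore_isPGroup A hA a
      (zj_le_of_isMaxElemIn hA ha) (quadratic_of_normalizes
        ((CfsgLib.PCore.pCore_le_sylow S).trans (le_normalizer_zj 0 _)) ha)
  have h := inf_zj_normal_of_max hp (Or.inl rfl) S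
    (fun P _ hP A hA a ha hq => hcon P inferInstance hP A hA a ha hq) (Cfsg.pCore p G)
    CfsgLib.PCore.pCore_isPGroup
  rwa [inf_eq_right.mpr hle] at h

/-- Elements acting into `O_p` on `P / Φ(P)` act into `O_p` on `P`. -/
theorem comap_stabD_frattini_le (P : Subgroup G) [P.Normal] (hP : IsPGroup p P)
    [((frattini P).map P.subtype).Normal]
    [(P.map (QuotientGroup.mk' ((frattini P).map P.subtype))).Normal] :
    (stabD p (P.map (QuotientGroup.mk' ((frattini P).map P.subtype)))).comap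
      (QuotientGroup.mk' ((frattini P).map P.subtype)) ≤ stabD p P := by
  have hp : Fact p.Prime := inferInstance
  set Φ := (frattini P).map P.subtype with hΦ
  set V := P.map (QuotientGroup.mk' Φ)
  intro a h1
  haveI := stabD_normal p V
  set D := (stabD p V).comap (QuotientGroup.mk' Φ) with hD
  set C := Subgroup.centralizer (P : Set G)
  have hDp : IsPGroup p (D.map (QuotientGroup.mk' C)) := by
    rintro ⟨_, d, hd, rfl⟩
    obtain ⟨k, hk⟩ := CfsgLib.PCore.pCore_isPGroup
      ⟨QuotientGroup.mk' (Subgroup.centralizer (V : Set (G ⧸ Φ))) (QuotientGroup.mk' Φ d), hd⟩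
    have hk' : QuotientGroup.mk' Φ (d ^ p ^ k) ∈ Subgroup.centralizer (V : Set (G ⧸ Φ)) := by
      rw [map_pow]
      refine (QuotientGroup.eq_one_iff _).mp ?_
      simpa using congrArg Subtype.val hk
    set c := d ^ p ^ k
    obtain ⟨j, m, hm, hord⟩ :=
      Nat.exists_eq_pow_mul_and_not_dvd (orderOf_pos c).ne' p hp.out.ne_one
    have hle : Subgroup.zpowers (c ^ p ^ j) ≤ Subgroup.centralizer (P : Set G) := by
      refine CfsgLib.Coprime.le_centralizer_of_trivial_on_frattini _ P ?_ ?_ ?_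
      · rw [Subgroup.normalizer_eq_top P]; exact le_top
      · obtain ⟨n, hn⟩ := IsPGroup.iff_card.mp (hP.to_subgroup (frattini P))
        rw [hn, Nat.card_zpowers, orderOf_pow, hord, Nat.gcd_mul_right_left,
          Nat.mul_div_cancel_left _ (pow_pos hp.out.pos j)]
        exact ((hp.out.coprime_iff_not_dvd.mpr hm).symm).pow_right n
      · intro x hx y hy
        have hxV : QuotientGroup.mk' Φ x ∈ Subgroup.centralizer (V : Set (G ⧸ Φ)) := by
          obtain ⟨i, rfl⟩ := hx
          rw [map_zpow, map_pow]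
          exact zpow_mem (pow_mem hk' _) i
        have e := Subgroup.mem_centralizer_iff.mp hxV _ ⟨y, hy, rfl⟩
        refine (QuotientGroup.eq_one_iff _).mp ?_
        show QuotientGroup.mk' Φ (x * y * x⁻¹ * y⁻¹) = 1
        rw [map_mul, map_mul, map_mul, map_inv, map_inv, ← e, mul_inv_cancel_right, mul_inv_cancel]
    refine ⟨k + j, Subtype.ext ?_⟩
    show (QuotientGroup.mk' C d) ^ p ^ (k + j) = 1
    rw [← map_pow, pow_add, pow_mul]
    exact (QuotientGroup.eq_one_iff _).mpr (hle (Subgroup.mem_zpowers _))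
  haveI : D.Normal := inferInstance
  exact CfsgLib.PCore.le_pCore (‹D.Normal›.map _ (QuotientGroup.mk'_surjective C)) hDp ⟨a, h1, rfl⟩

/-- An unstable quadratic element commutes modulo the stable kernel with a nontrivial 2-element. -/
theorem exists_two_element_commute (hp : p ≠ 2) (B : Subgroup G) [B.Normal] (hB : IsPGroup p B)
    {a : G} (hq : ⁅⁅B, Subgroup.zpowers a⁆, Subgroup.zpowers a⁆ = ⊥) (hna : a ∉ stabD p B) :
    ∃ t : G, t ≠ 1 ∧ (∃ i, orderOf t = 2 ^ i) ∧ ⁅t, a⁆ ∈ stabD p B := by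
  haveI := frattini_map_normal B
  set Φ := (frattini B).map B.subtype with hΦ
  haveI : (B.map (QuotientGroup.mk' Φ)).Normal :=
    (inferInstance : B.Normal).map _ (QuotientGroup.mk'_surjective Φ)
  set V := B.map (QuotientGroup.mk' Φ) with hV
  obtain ⟨W, hW1, hW2, hW3, ρ, hρ, hsq⟩ := exists_rep_quotient V (elementaryAbelian_map_frattini B hB)
  set π := (QuotientGroup.mk' (Subgroup.centralizer (V : Set (G ⧸ Φ)))).comp (QuotientGroup.mk' Φ)
  have hπ : Function.Surjective π :=
    (QuotientGroup.mk'_surjective _).comp (QuotientGroup.mk'_surjective Φ)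
  obtain ⟨z, hz2, hza⟩ := QuadCommute.exists_involution_commute hp ρ hρ (a := π a)
    (hsq (QuotientGroup.mk' Φ a) (map_quadratic _ bot_le hq.le))
    (fun h => hna (comap_stabD_frattini_le B hB h))
  obtain ⟨g, rfl⟩ := hπ z
  obtain ⟨m, hm, h2⟩ := exists_odd_pow g
  refine ⟨g ^ m, fun h => ?_, h2, comap_stabD_frattini_le B hB ?_⟩
  · have h1 : (π g) ^ m = 1 := by rw [← map_pow, h, map_one]
    have h3 := eq_one_of_two_pow_of_odd (i := 1) (by rw [hz2, pow_one]) hm h1
    rw [h3, orderOf_one] at hz2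
    omega
  · refine centralizer_le_stabD p V ?_
    refine (QuotientGroup.eq_one_iff _).1 ?_
    show π ⁅g ^ m, a⁆ = 1
    rw [map_commutatorElement, map_pow, commutatorElement_eq_one_iff_mul_comm]
    exact Commute.pow_left hza m

theorem InvFree.of_map {K : Type*} [Group K] {H : Subgroup G} {f : G →* K}
    (hf : Function.Injective f) (h : InvFree p (H.map f)) : InvFree p H :=
  fun x hx g hg ⟨k, hk⟩ he => hf (by
    rw [map_one]
    exact h (f x) ⟨x, hx, rfl⟩ (f g) ⟨g, hg, rfl⟩ ⟨k, by rw [orderOf_injective f hf, hk]⟩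
      (by rw [← map_inv, ← map_mul, ← map_mul, he, map_inv]))

/-- The hypothesis does not depend on the Sylow subgroup. -/
theorem invFree_normalizer_zj_sylow {T : Sylow p G}
    (h : InvFree p (Subgroup.normalizer (zj 0 (T : Subgroup G) : Set G))) (T' : Sylow p G) :
    InvFree p (Subgroup.normalizer (zj 0 (T' : Subgroup G) : Set G)) := by
  obtain ⟨g, rfl⟩ := MulAction.exists_smul_eq G T T'
  rw [Sylow.coe_subgroup_smul]
  show InvFree p (Subgroup.normalizer
    (zj 0 ((T : Subgroup G).map (MulAut.conj g).toMonoidHom) : Set G))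
  rw [zj_map (show Function.Injective _ from (MulAut.conj g).injective),
    ← Subgroup.map_equiv_normalizer_eq]
  exact h.map_injective _ (MulAut.conj g).injective

/-- Climbing through normalizers of `ZJ`. -/
theorem invFree_climb {T : Sylow p G}
    (hyp : InvFree p (Subgroup.normalizer (zj 0 (T : Subgroup G) : Set G)))
    (hsg : ∀ H : Subgroup G, H ≠ ⊤ → ∀ P : Sylow p ↥H,
      InvFree p (Subgroup.normalizer (zj 0 ((P : Subgroup ↥H).map H.subtype) : Set G)) → InvFree p H)
    (K : Subgroup G → Prop) (hmono : ∀ P P' : Subgroup G, P ≤ P' → K P → K P')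
    (hK : ∀ P : Subgroup G, IsPGroup p P → K P → ¬ (zj 0 P).Normal) :
    ∀ H : Subgroup G, H ≠ ⊤ → ∀ P : Sylow p ↥H, K ((P : Subgroup ↥H).map H.subtype) →
      InvFree p H := by
  suffices key : ∀ n, ∀ H : Subgroup G, H ≠ ⊤ → ∀ P : Sylow p ↥H,
      Nat.card G ≤ Nat.card ↥((P : Subgroup ↥H).map H.subtype) + n →
      K ((P : Subgroup ↥H).map H.subtype) → InvFree p H from
    fun H hH P hKP => key (Nat.card G) H hH P (Nat.le_add_left _ _) hKP
  intro n
  induction n using Nat.strong_induction_on with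
  | _ n ih =>
  intro H hH P hn hKP
  set P₁ := (P : Subgroup ↥H).map H.subtype with hP₁
  have hP₁p : IsPGroup p P₁ := P.2.map _
  refine hsg H hH P ?_
  obtain ⟨T', hT'⟩ := hP₁p.exists_le_sylow
  rcases eq_or_lt_of_le hT' with heq | hlt
  · rw [← hP₁, heq]
    exact invFree_normalizer_zj_sylow hyp T'
  set N := Subgroup.normalizer (zj 0 P₁ : Set G) with hN
  have hNtop : N ≠ ⊤ := fun h => hK P₁ hP₁p hKP (Subgroup.normalizer_eq_top_iff.1 h)
  haveI : Group.IsNilpotent ↥(T' : Subgroup G) := T'.2.isNilpotent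
  have hlt' : P₁.subgroupOf (T' : Subgroup G) < ⊤ := lt_top_iff_ne_top.2 fun h =>
    hlt.not_ge (Subgroup.subgroupOf_eq_top.1 h)
  obtain ⟨⟨u, huT⟩, huN, huP⟩ := SetLike.exists_of_lt
    (Group.normalizerCondition_of_isNilpotent _ hlt')
  have huP₁ : u ∈ Subgroup.normalizer (P₁ : Set G) := by
    refine Subgroup.mem_normalizer_iff.2 fun x => ⟨fun hx => ?_, fun hx => ?_⟩
    · exact (Subgroup.mem_normalizer_iff.1 huN ⟨x, hT' hx⟩).1 hx
    · have hxT : x ∈ (T' : Subgroup G) := by
        have := mul_mem (mul_mem (inv_mem huT) (hT' hx)) huT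
        simpa [mul_assoc] using this
      exact (Subgroup.mem_normalizer_iff.1 huN ⟨x, hxT⟩).2 hx
  set U := P₁ ⊔ Subgroup.zpowers u with hU
  have hUT : U ≤ (T' : Subgroup G) := sup_le hT' (Subgroup.zpowers_le.2 huT)
  have hUN : U ≤ N := sup_le (le_normalizer_zj 0 P₁)
    (Subgroup.zpowers_le.2 (normalizer_le_normalizer_zj 0 P₁ huP₁))
  obtain ⟨R, hR⟩ :=
    ((T'.2.to_le hUT).of_equiv (Subgroup.subgroupOfEquivOfLe hUN).symm).exists_le_sylow
  have hUR : U ≤ (R : Subgroup ↥N).map N.subtype := fun x hx => ⟨⟨x, hUN hx⟩, hR hx, rfl⟩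
  have hPU : P₁ < U := lt_of_le_of_ne le_sup_left fun h =>
    huP (show u ∈ P₁ from h ▸ Subgroup.mem_sup_right (Subgroup.mem_zpowers u))
  have hcard : Nat.card P₁ < Nat.card ↥((R : Subgroup ↥N).map N.subtype) := by
    refine lt_of_not_ge fun h => ?_
    exact hPU.not_ge (hUR.trans (Subgroup.eq_of_le_of_card_ge (le_sup_left.trans hUR) h).ge)
  have hle : Nat.card ↥((R : Subgroup ↥N).map N.subtype) ≤ Nat.card G :=
    Nat.le_of_dvd Nat.card_pos (Subgroup.card_subgroup_dvd_card _)
  exact ih (n - 1) (by omega) N hNtop R (by omega) (hmono _ _ (le_sup_left.trans hUR) hKP)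

/-- If no nontrivial `p`-element is inverted in `N(ZJ(T))`, none is inverted in `G`. -/
theorem invFree_of_normalizer_zj (hp : p ≠ 2) (T : Sylow p G)
    (hyp : InvFree p (Subgroup.normalizer (zj 0 (T : Subgroup G) : Set G))) :
    InvFree p (⊤ : Subgroup G) := by
  suffices key : ∀ n, ∀ (G : Type u) [Group G] [Finite G], Nat.card G = n → ∀ T : Sylow p G,
      InvFree p (Subgroup.normalizer (zj 0 (T : Subgroup G) : Set G)) → InvFree p (⊤ : Subgroup G) from
    key _ G rfl T hyp
  clear hyp T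
  intro n
  induction n using Nat.strong_induction_on with
  | _ n ih =>
  intro G _ _ hn T hyp
  subst hn
  -- proper subgroups
  have hsg : ∀ H : Subgroup G, H ≠ ⊤ → ∀ P : Sylow p ↥H,
      InvFree p (Subgroup.normalizer (zj 0 ((P : Subgroup ↥H).map H.subtype) : Set G)) →
      InvFree p H := by
    intro H hH P hP
    refine (invFree_top_iff H).1 (ih (Nat.card H) ?_ ↥H rfl P (InvFree.of_map H.subtype_injective ?_))
    · exact lt_of_not_ge fun h => hH (Subgroup.eq_top_of_le_card _ h)
    · refine hP.mono ?_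
      rw [zj_map H.subtype_injective]
      exact Subgroup.le_normalizer_map _
  have hov : ∀ (T' : Sylow p G) (H : Subgroup G), H ≠ ⊤ → (T' : Subgroup G) ≤ H → InvFree p H := by
    intro T' H hH hTH
    refine hsg H hH (T'.subtype hTH) ?_
    rw [Sylow.coe_subtype, Subgroup.map_subgroupOf_eq_of_le hTH]
    exact invFree_normalizer_zj_sylow hyp T'
  intro x _ g _ hxk hinv
  by_contra hx1
  obtain ⟨k, hk⟩ := hxk
  have hxp : IsPGroup p (Subgroup.zpowers x) :=
    IsPGroup.of_card (n := k) (by rw [Nat.card_zpowers, hk])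
  set T₀ := Cfsg.pCore p G with hT₀
  have hT₀p : IsPGroup p T₀ := CfsgLib.PCore.pCore_isPGroup
  have hT₀T : T₀ ≤ (T : Subgroup G) := CfsgLib.PCore.pCore_le_sylow T
  have hZn : ¬ (zj 0 (T : Subgroup G)).Normal := by
    intro h
    rw [Subgroup.normalizer_eq_top_iff.2 h] at hyp
    exact hx1 (hyp x trivial g trivial ⟨k, hk⟩ hinv)
  by_cases hbot : T₀ = ⊥
  · -- no normal `p`-subgroup
    set H := Subgroup.normalizer (Subgroup.zpowers x : Set G) with hH
    have hxH : Subgroup.zpowers x ≤ H := Subgroup.le_normalizer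
    have hHtop : H ≠ ⊤ := by
      intro h
      have h1 := CfsgLib.PCore.le_pCore (Subgroup.normalizer_eq_top_iff.1 h) hxp
      rw [← hT₀, hbot, le_bot_iff, Subgroup.zpowers_eq_bot] at h1
      exact hx1 h1
    obtain ⟨P, hP⟩ := (hxp.of_equiv (Subgroup.subgroupOfEquivOfLe hxH).symm).exists_le_sylow
    have hfree := invFree_climb hyp hsg (fun P => P ≠ ⊥)
      (fun P P' hle hP h => hP (le_bot_iff.1 (h ▸ hle)))
      (fun P hP hne hnorm => by
        have h1 := CfsgLib.PCore.le_pCore hnorm (hP.to_le (zj_le 0 P))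
        rw [← hT₀, hbot, le_bot_iff, zj_zero] at h1
        exact centerJ_zero_ne_bot hP hne h1)
      H hHtop P (fun h => hx1 (by
        have : x ∈ (P : Subgroup ↥H).map H.subtype :=
          ⟨⟨x, hxH (Subgroup.mem_zpowers x)⟩, hP (Subgroup.mem_zpowers x), rfl⟩
        rwa [h, Subgroup.mem_bot] at this))
    refine hx1 (hfree x (hxH (Subgroup.mem_zpowers x)) g ?_ ⟨k, hk⟩ hinv)
    refine Subgroup.mem_normalizer_iff_map_conj_eq.2 ?_
    show (Subgroup.zpowers x).map (MulAut.conj g : G →* G) = _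
    rw [MonoidHom.map_zpowers]
    show Subgroup.zpowers (g * x * g⁻¹) = _
    rw [hinv, Subgroup.zpowers_inv]
  -- `O_{p'}(G) = 1`
  have hO : Cfsg.pPrimeCore p G = ⊥ := by
    by_contra hO
    haveI : (Cfsg.pPrimeCore p G).Normal := Cfsg.pPrimeCore_normal p G
    set O := Cfsg.pPrimeCore p G with hOdef
    have hOc : (Nat.card O).Coprime p := CfsgLib.PCore.pPrimeCore_coprime
    set q := QuotientGroup.mk' O with hq
    have hlt : Nat.card (G ⧸ O) < Nat.card G := by
      rw [Subgroup.card_eq_card_quotient_mul_card_subgroup O]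
      exact (Nat.lt_mul_iff_one_lt_right Nat.card_pos).2 (O.one_lt_card_iff_ne_bot.2 hO)
    have hinj : Function.Injective (q.comp (T : Subgroup G).subtype) := by
      rw [injective_iff_map_eq_one]
      intro y hy
      exact Subtype.ext (eq_one_of_mem_pGroup_of_mem_coprime T.isPGroup' hOc y.2
        ((QuotientGroup.eq_one_iff (y : G)).mp hy))
    have hfree := ih _ hlt (G ⧸ O) rfl (T.mapSurjective (QuotientGroup.mk'_surjective O)) (by
      rw [Sylow.coe_mapSurjective, zj_map_of_injOn q _ hinj]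
      refine (InvFree.map hp hyp q (Or.inr (hOc.coprime_dvd_left
        (Subgroup.card_dvd_of_le (inf_le_left.trans (QuotientGroup.ker_mk' O).le))))).mono ?_
      intro y hy
      obtain ⟨y, rfl⟩ := QuotientGroup.mk'_surjective O y
      obtain ⟨n', hn', hny⟩ := exists_mul_mem_normalizer hOc (T.2.to_le (zj_le 0 _)) (x := y)
        fun w hw => by
          rw [map_mul, map_mul, map_inv]
          exact (Subgroup.mem_normalizer_iff.1 hy _).1 ⟨w, hw, rfl⟩
      exact ⟨n' * y, hny, by rw [hq, map_mul, show QuotientGroup.mk' O n' = 1 from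
        (QuotientGroup.eq_one_iff n').2 hn', one_mul]⟩)
    have h1 := hfree (q x) trivial (q g) trivial
      (by
        obtain ⟨j, -, hj⟩ := (Nat.dvd_prime_pow (Fact.out : p.Prime)).1
          (hk ▸ orderOf_map_dvd q x)
        exact ⟨j, hj⟩)
      (by rw [← map_inv, ← map_mul, ← map_mul, hinv, map_inv])
    exact hx1 (eq_one_of_mem_pGroup_of_mem_coprime hxp hOc (Subgroup.mem_zpowers x)
      ((QuotientGroup.eq_one_iff x).1 h1))
  haveI : T₀.Normal := Cfsg.pCore_normal p G
  -- inverted elements lie in `O_p(G)`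
  have hxT₀ : x ∈ T₀ := by
    set q := QuotientGroup.mk' T₀ with hq
    have hlt : Nat.card (G ⧸ T₀) < Nat.card G := by
      rw [Subgroup.card_eq_card_quotient_mul_card_subgroup T₀]
      exact (Nat.lt_mul_iff_one_lt_right Nat.card_pos).2 (T₀.one_lt_card_iff_ne_bot.2 hbot)
    set T' := T.mapSurjective (QuotientGroup.mk'_surjective T₀) with hT'
    have hfree := ih _ hlt (G ⧸ T₀) rfl T' (by
      set R := (zj 0 (T' : Subgroup (G ⧸ T₀))).comap q with hR
      have hN : Subgroup.normalizer (R : Set G) =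
          (Subgroup.normalizer (zj 0 (T' : Subgroup (G ⧸ T₀)) : Set (G ⧸ T₀))).comap q :=
        (Subgroup.comap_normalizer_eq_of_surjective _ (QuotientGroup.mk'_surjective T₀)).symm
      have hRtop : Subgroup.normalizer (R : Set G) ≠ ⊤ := by
        intro h
        have h1 := CfsgLib.PCore.le_pCore (Subgroup.normalizer_eq_top_iff.1 h)
          (CfsgLib.PCore.isPGroup_comap_mk' hT₀p (T'.2.to_le (zj_le 0 _)))
        have h2 : zj 0 (T' : Subgroup (G ⧸ T₀)) = ⊥ := by
          rw [← Subgroup.map_comap_eq_self_of_surjective (QuotientGroup.mk'_surjective T₀)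
            (zj 0 (T' : Subgroup (G ⧸ T₀))), Subgroup.map_eq_bot_iff, QuotientGroup.ker_mk']
          exact h1
        rw [zj_zero] at h2
        refine centerJ_zero_ne_bot T'.2 (fun hT'b => hZn ?_) h2
        have hTT : (T : Subgroup G) = T₀ := le_antisymm (fun y hy => by
          have : q y ∈ (T' : Subgroup (G ⧸ T₀)) := ⟨y, hy, rfl⟩
          rw [hT'b, Subgroup.mem_bot] at this
          exact (QuotientGroup.eq_one_iff y).1 this) hT₀T
        refine Subgroup.normalizer_eq_top_iff.1 (top_le_iff.1 ?_)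
        refine le_trans ?_ (normalizer_le_normalizer_zj 0 (T : Subgroup G))
        rw [hTT, Subgroup.normalizer_eq_top T₀]
      have hTR : (T : Subgroup G) ≤ Subgroup.normalizer (R : Set G) := by
        rw [hN, ← Subgroup.map_le_iff_le_comap]
        exact le_normalizer_zj 0 _
      have h3 := InvFree.map hp (hov T _ hRtop hTR) q (Or.inl (hT₀p.to_le
        (inf_le_left.trans (QuotientGroup.ker_mk' T₀).le)))
      rwa [hN, Subgroup.map_comap_eq_self_of_surjective (QuotientGroup.mk'_surjective T₀)] at h3)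
    obtain ⟨j, -, hj⟩ := (Nat.dvd_prime_pow (Fact.out : p.Prime)).1 (hk ▸ orderOf_map_dvd q x)
    exact (QuotientGroup.eq_one_iff x).1 (hfree (q x) trivial (q g) trivial ⟨j, hj⟩
      (by rw [← map_inv, ← map_mul, ← map_mul, hinv, map_inv]))
  -- `O_p(G)` contains its centralizer
  set C₀ := Subgroup.centralizer (T₀ : Set G) with hC₀
  have hC : C₀ ≤ T₀ := by
    set L := (T : Subgroup G) ⊓ (C₀ ⊔ T₀) with hL
    by_cases hLT : L ≤ T₀
    · have hTC : (T : Subgroup G) ⊓ C₀ ≤ C₀ ⊓ T₀ :=
        le_inf inf_le_right ((le_inf inf_le_left (inf_le_right.trans le_sup_left)).trans hLT)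
      set Z := (C₀ ⊓ T₀).subgroupOf C₀ with hZdef
      haveI : Z.Normal := by rw [hZdef, Subgroup.inf_subgroupOf_left]; infer_instance
      have hidx : Nat.Coprime (Nat.card Z) Z.index := by
        have h1 : ¬ p ∣ (C₀ ⊓ T₀).relIndex C₀ := by
          rw [← le_antisymm hTC (le_inf (inf_le_right.trans hT₀T) inf_le_left)]
          exact CfsgLib.Techniques.not_dvd_relIndex_inf_normal T C₀
        obtain ⟨j, hj⟩ := IsPGroup.iff_card.1
          ((hT₀p.to_le inf_le_right).of_equiv
            (Subgroup.subgroupOfEquivOfLe (inf_le_left : C₀ ⊓ T₀ ≤ C₀)).symm)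
        rw [hZdef, hj]
        exact Nat.Coprime.pow_left j ((Fact.out : p.Prime).coprime_iff_not_dvd.2 h1)
      obtain ⟨K', hK'⟩ := Subgroup.exists_right_complement'_of_coprime hidx
      have hcen : ∀ z ∈ Z, ∀ y : ↥C₀, z * y = y * z := fun z hz y => Subtype.ext
        (Subgroup.mem_centralizer_iff.1 y.2 _ hz.2)
      haveI : K'.Normal := by
        refine ⟨fun y hy w => ?_⟩
        obtain ⟨⟨⟨z, hz⟩, k', hk'⟩, rfl⟩ := (hK'.existsUnique w).exists
        have e : z * k' * y * (z * k')⁻¹ = k' * y * k'⁻¹ := by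
          calc z * k' * y * (z * k')⁻¹ = z * (k' * y * k'⁻¹) * z⁻¹ := by group
            _ = k' * y * k'⁻¹ := by rw [hcen z hz, mul_inv_cancel_right]
        show z * k' * y * (z * k')⁻¹ ∈ K'
        rw [e]
        exact K'.mul_mem (K'.mul_mem hk' hy) (K'.inv_mem hk')
      have hK'c : (Nat.card K').Coprime p := by
        rcases Nat.coprime_or_dvd_of_prime (Fact.out : p.Prime) (Nat.card K') with h | h
        · exact h.symm
        · exfalso
          rw [← hK'.symm.index_eq_card] at h
          have h1 : ¬ p ∣ (C₀ ⊓ T₀).relIndex C₀ := by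
            rw [← le_antisymm hTC (le_inf (inf_le_right.trans hT₀T) inf_le_left)]
            exact CfsgLib.Techniques.not_dvd_relIndex_inf_normal T C₀
          exact h1 h
      have hKbot : K' = ⊥ := le_bot_iff.1 ((CfsgLib.PCore.le_pPrimeCore inferInstance hK'c).trans
        (CfsgLib.PCore.pPrimeCore_eq_bot_of_normal C₀ hO).le)
      intro y hy
      obtain ⟨⟨⟨z, hz⟩, k', hk'⟩, e⟩ := (hK'.existsUnique (⟨y, hy⟩ : ↥C₀)).exists
      replace hk' : k' ∈ K' := hk'
      replace e : z * k' = ⟨y, hy⟩ := e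
      rw [hKbot] at hk'
      obtain rfl := Subgroup.mem_bot.1 hk'
      rw [show z * 1 = z from mul_one z] at e
      have e' : (z : G) = y := congrArg Subtype.val e
      rw [← e']
      exact hz.2
    · exfalso
      have hLn : Subgroup.normalizer (L : Set G) ≠ ⊤ := fun h => hLT
        (CfsgLib.PCore.le_pCore (Subgroup.normalizer_eq_top_iff.1 h) (T.2.to_le inf_le_left))
      have hTL : (T : Subgroup G) ≤ Subgroup.normalizer (L : Set G) := fun y hy =>
        CfsgLib.Techniques.mem_normalizer_inf (Subgroup.le_normalizer hy)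
          (by rw [Subgroup.normalizer_eq_top (C₀ ⊔ T₀)]; trivial)
      have htop : Subgroup.normalizer (L : Set G) ⊔ C₀ = ⊤ := by
        have h1 := CfsgLib.Techniques.sup_normalizer_inf_eq_top T (C₀ ⊔ T₀)
        rw [← hL] at h1
        rw [eq_top_iff, ← h1]
        exact sup_le (sup_le le_sup_right ((hT₀T.trans hTL).trans le_sup_left)) le_sup_left
      obtain ⟨c, hc, n', hn', rfl⟩ := CfsgLib.Techniques.exists_mul_of_mem_sup'
        (A := Subgroup.normalizer (L : Set G)) (B := C₀)
        (by rw [Subgroup.normalizer_eq_top C₀]; exact le_top) (htop ▸ Subgroup.mem_top g)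
      refine hx1 (hov T _ hLn hTL x ((hT₀T.trans hTL) hxT₀) n' hn' ⟨k, hk⟩ ?_)
      have hcx : c * x = x * c := (Subgroup.mem_centralizer_iff.1 hc x hxT₀).symm
      calc n' * x * n'⁻¹ = c⁻¹ * ((c * n') * x * (c * n')⁻¹) * c := by group
        _ = c⁻¹ * x⁻¹ * c := by rw [hinv]
        _ = (c⁻¹ * (x * c))⁻¹ := by group
        _ = x⁻¹ := by rw [← hcx, inv_mul_cancel_left]
  -- proper overgroups of Sylow subgroups have odd order
  have hodd : ∀ (T' : Sylow p G) (H : Subgroup G), H ≠ ⊤ → (T' : Subgroup G) ≤ H → ∀ t ∈ H,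
      (∃ i, orderOf t = 2 ^ i) → t = 1 := fun T' H hH hTH t ht h2 =>
    (hov T' H hH hTH).two_element_eq_one hp hT₀p ((CfsgLib.PCore.pCore_le_sylow T').trans hTH) hC ht h2
  -- a nontrivial 2-element
  obtain ⟨m, hm, h2g⟩ := exists_odd_pow g
  set t₀ := g ^ m with ht₀
  have ht₀1 : t₀ ≠ 1 := by
    intro h
    have := inverts_pow_odd hinv hm
    rw [← ht₀, h] at this
    exact hx1 (eq_one_of_commute (odd_of_prime_pow hp ⟨k, hk⟩) this (Commute.one_left x))
  obtain ⟨B, hBn, hB, A, hA, a, haA, haq, hna⟩ := exists_unstable hp hC T hZn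
  set D := stabD p B with hD
  haveI : D.Normal := stabD_normal p B
  have hT₀D : T₀ ≤ D := fun y hy => CfsgLib.PCore.le_pCore
    ((inferInstance : T₀.Normal).map _ (QuotientGroup.mk'_surjective _)) (hT₀p.map _) ⟨y, hy, rfl⟩
  have hAT₀ : ¬ A ≤ T₀ := fun h => hna (hT₀D (h haA))
  haveI := hA.elem.1
  -- `ZJ` is not normal for `p`-subgroups containing `A`
  have hK : ∀ P : Subgroup G, IsPGroup p P → A ≤ P ∧ T₀ ≤ P → ¬ (zj 0 P).Normal := by
    intro P hP hAP hW
    haveI := hW
    obtain ⟨T', hPT'⟩ := hP.exists_le_sylow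
    obtain ⟨h, hh⟩ := MulAction.exists_smul_eq G T' T
    have hA' : IsMaxElemIn 0 (T' : Subgroup G) A := by
      refine ⟨hAP.1.trans hPT', hA.elem, fun B' hB' hB'e => ?_⟩
      have := hA.2.2 (B'.map (MulAut.conj h).toMonoidHom) ?_ (elemAb_map _ hB'e)
      · rwa [CfsgLib.Techniques.card_map_conj] at this
      · rw [← hh, Sylow.coe_subgroup_smul]
        exact Subgroup.map_mono hB'
    have hZW : zj 0 (T' : Subgroup G) ≤ zj 0 P := zj_le_zj hPT' hA' hAP.1
    set C := Subgroup.centralizer (zj 0 P : Set G) with hCdef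
    have hAC : A ≤ C := fun y hy => Subgroup.mem_centralizer_iff.2 fun w hw =>
      elemAb_commute hA.elem (zj_le_of_isMaxElemIn (hA'.restrict hPT' hAP.1) hw) hy
    set L := (T' : Subgroup G) ⊓ C with hL
    have hLn : Subgroup.normalizer (L : Set G) ≠ ⊤ := fun h => hAT₀
      ((le_inf hA'.le hAC).trans
        (CfsgLib.PCore.le_pCore (Subgroup.normalizer_eq_top_iff.1 h) (T'.2.to_le inf_le_left)))
    have hTL : (T' : Subgroup G) ≤ Subgroup.normalizer (L : Set G) := fun y hy =>
      CfsgLib.Techniques.mem_normalizer_inf (Subgroup.le_normalizer hy)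
        (by rw [Subgroup.normalizer_eq_top C]; trivial)
    have ht₀C : t₀ ∈ C := by
      have h1 := CfsgLib.Techniques.sup_normalizer_inf_eq_top T' C
      rw [sup_comm, ← hL] at h1
      obtain ⟨c, hc, n', hn', he⟩ := CfsgLib.Techniques.exists_mul_of_mem_sup'
        (A := Subgroup.normalizer (L : Set G)) (B := C)
        (by rw [Subgroup.normalizer_eq_top C]; exact le_top) (h1 ▸ Subgroup.mem_top t₀)
      obtain ⟨m', hm', h2'⟩ := exists_odd_pow n'
      have h3 := hodd T' _ hLn hTL _ (pow_mem hn' m') h2'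
      obtain ⟨i, hi⟩ := h2g
      obtain ⟨i', -, hi'⟩ := (Nat.dvd_prime_pow Nat.prime_two).1
        (hi ▸ orderOf_map_dvd (QuotientGroup.mk' C) t₀)
      refine (QuotientGroup.eq_one_iff t₀).1 (eq_one_of_two_pow_of_odd hi' hm' ?_)
      have e : QuotientGroup.mk' C t₀ = QuotientGroup.mk' C n' := by
        rw [← he, map_mul, show QuotientGroup.mk' C c = 1 from (QuotientGroup.eq_one_iff c).2 hc,
          one_mul]
      show QuotientGroup.mk' C t₀ ^ m' = 1
      rw [e, ← map_pow, h3, map_one]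
    have htop : C ⊔ (T' : Subgroup G) = ⊤ := by
      by_contra h
      exact ht₀1 (hodd T' _ h le_sup_right t₀ (Subgroup.mem_sup_left ht₀C) h2g)
    have hnorm : Subgroup.normalizer (zj 0 (T' : Subgroup G) : Set G) = ⊤ := by
      rw [eq_top_iff, ← htop]
      exact sup_le ((Subgroup.centralizer_le hZW).trans (Subgroup.centralizer_le_normalizer _))
        (le_normalizer_zj 0 _)
    have hfree := invFree_normalizer_zj_sylow hyp T'
    rw [hnorm] at hfree
    exact hx1 (hfree x trivial g trivial ⟨k, hk⟩ hinv)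
  obtain ⟨t, ht1, ht2, htD⟩ := exists_two_element_commute hp B hB haq hna
  set Y := (Subgroup.centralizer ({QuotientGroup.mk' D a} : Set (G ⧸ D))).comap
    (QuotientGroup.mk' D) with hY
  have hmemY : ∀ y : G, y ∈ Y ↔ ⁅y, a⁆ ∈ D := fun y => by
    rw [hY, Subgroup.mem_comap, Subgroup.mem_centralizer_singleton_iff,
      ← commutatorElement_eq_one_iff_mul_comm, ← map_commutatorElement, ← QuotientGroup.eq_one_iff]
    rfl
  have hYtop : Y ≠ ⊤ := by
    intro hYt
    refine hna ?_
    set N := D ⊔ Subgroup.zpowers a with hN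
    haveI : N.Normal := ⟨fun y hy w => by
      obtain ⟨d, hd, z, hz, rfl⟩ := Subgroup.mem_sup_of_normal_left.1 hy
      obtain ⟨j, rfl⟩ := Subgroup.mem_zpowers_iff.1 hz
      have h1 : w * a * w⁻¹ ∈ N := by
        have := N.mul_mem (Subgroup.mem_sup_left ((hmemY w).1 (hYt ▸ Subgroup.mem_top w)))
          (Subgroup.mem_sup_right (Subgroup.mem_zpowers a))
        simpa [commutatorElement_def, mul_assoc] using this
      rw [← conj_mul, ← conj_zpow]
      exact N.mul_mem (Subgroup.mem_sup_left ((inferInstance : D.Normal).conj_mem d hd w))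
        (N.zpow_mem h1 j)⟩
    have hNp : IsPGroup p (N.map (QuotientGroup.mk' (Subgroup.centralizer (B : Set G)))) := by
      rw [hN, Subgroup.map_sup, hD, stabD,
        Subgroup.map_comap_eq_self_of_surjective (QuotientGroup.mk'_surjective _)]
      exact CfsgLib.PCore.pCore_isPGroup.to_sup_of_normal_left
        ((T.2.to_le (Subgroup.zpowers_le.2 (hA.le haA))).map _)
    exact CfsgLib.PCore.le_pCore
      ((inferInstance : N.Normal).map _ (QuotientGroup.mk'_surjective _)) hNp
      ⟨a, Subgroup.mem_sup_right (Subgroup.mem_zpowers a), rfl⟩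
  have hAY : A ≤ Y := fun y hy => by
    rw [hmemY, commutatorElement_eq_one_iff_mul_comm.2 (elemAb_commute hA.elem hy haA)]
    exact one_mem D
  have hT₀Y : T₀ ≤ Y := fun y hy => by
    rw [hmemY, commutatorElement_def, mul_assoc, mul_assoc, ← mul_assoc a]
    exact D.mul_mem (hT₀D hy) ((inferInstance : D.Normal).conj_mem _ (D.inv_mem (hT₀D hy)) a)
  obtain ⟨P, hP⟩ := ((T.2.to_le (sup_le hA.le hT₀T)).of_equiv
    (Subgroup.subgroupOfEquivOfLe (sup_le hAY hT₀Y)).symm).exists_le_sylow
  have hAP : A ⊔ T₀ ≤ (P : Subgroup ↥Y).map Y.subtype := fun y hy =>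
    ⟨⟨y, sup_le hAY hT₀Y hy⟩, hP hy, rfl⟩
  have hfree := invFree_climb hyp hsg (fun P => A ≤ P ∧ T₀ ≤ P)
    (fun P P' hle h => ⟨h.1.trans hle, h.2.trans hle⟩) hK Y hYtop P
    ⟨le_sup_left.trans hAP, le_sup_right.trans hAP⟩
  exact ht1 (hfree.two_element_eq_one hp hT₀p hT₀Y hC ((hmemY t).2 htD) ht2)

end CfsgLib.LocalEven.Inversion
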