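import Cfsg.Agent.Lib.LocalEven.Involved
import Cfsg.Agent.Lib.PGroup.Frattini
import Mathlib.GroupTheory.Frattini

/-!
Transporting the relation `Involves`, and the criterion for the symmetric group of degree four
to be involved in a finite group.
-/

set_option autoImplicit false

open Cfsg
open scoped commutatorElement

namespace CfsgLib.LocalEven.Involved

variable {G : Type*} [Group G]

theorem involves_of_hom {D : Type*} [Group D] (H : Subgroup G) (f : ↥H →* D)
    (hf : Function.Surjective f) : Involves D G := by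
  have hk : (f.ker.map H.subtype).subgroupOf H = f.ker :=
    Subgroup.comap_map_eq_self_of_injective H.subtype_injective _
  have hn : ((f.ker.map H.subtype).subgroupOf H).Normal := by rw [hk]; infer_instance
  exact ⟨H, f.ker.map H.subtype, hn,
    ⟨(QuotientGroup.quotientMulEquivOfEq hk).trans (QuotientGroup.quotientKerEquivOfSurjective f hf)⟩⟩

theorem exists_hom_of_involves {D : Type*} [Group D] (h : Involves D G) :
    ∃ (H : Subgroup G) (f : ↥H →* D), Function.Surjective f := by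
  obtain ⟨K, R, hn, ⟨e⟩⟩ := h
  exact ⟨K, e.toMonoidHom.comp (QuotientGroup.mk' _),
    e.surjective.comp (QuotientGroup.mk'_surjective _)⟩

theorem involves_of_subgroup {D : Type*} [Group D] {H : Subgroup G} (h : Involves D ↥H) :
    Involves D G := by
  obtain ⟨K, f, hf⟩ := exists_hom_of_involves h
  let e : ↥K ≃* ↥(K.map H.subtype) := K.equivMapOfInjective H.subtype H.subtype_injective
  exact involves_of_hom (K.map H.subtype) (f.comp e.symm.toMonoidHom) (hf.comp e.symm.surjective)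

theorem involves_of_surjective {G' : Type*} [Group G'] {D : Type*} [Group D] (q : G →* G')
    (hq : Function.Surjective q) (h : Involves D G') : Involves D G := by
  obtain ⟨K, f, hf⟩ := exists_hom_of_involves h
  exact involves_of_hom (K.comap q) (f.comp (q.subgroupComap K))
    (hf.comp (q.subgroupComap_surjective_of_surjective K hq))

theorem involves_of_equiv {D D' : Type*} [Group D] [Group D'] (e : D ≃* D') (h : Involves D G) :
    Involves D' G := by
  obtain ⟨K, f, hf⟩ := exists_hom_of_involves h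
  exact involves_of_hom K (e.toMonoidHom.comp f) (e.surjective.comp hf)

theorem involves_of_factor {A D : Type*} [Group A] [Group D] {H : Subgroup G} (g : ↥H →* A)
    (f : ↥H →* D) (hf : Function.Surjective f) (hk : g.ker ≤ f.ker) : Involves D A := by
  have hs : Function.Surjective g.rangeRestrict := g.rangeRestrict_surjective
  have hk' : g.rangeRestrict.ker ≤ f.ker := by rwa [MonoidHom.ker_rangeRestrict]
  refine involves_of_hom g.range (g.rangeRestrict.liftOfSurjective hs ⟨f, hk'⟩) ?_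
  intro d
  obtain ⟨x, rfl⟩ := hf d
  exact ⟨g.rangeRestrict x, MonoidHom.liftOfRightInverse_comp_apply _ _ _ ⟨f, hk'⟩ x⟩

/-- Burnside: a `q`-group centralising `T` modulo its Frattini subgroup centralises `T`. -/
theorem le_centralizer_of_le_centralizer_frattini [Finite G] {r q : ℕ} [Fact r.Prime] [Fact q.Prime]
    (hrq : r ≠ q) {T P : Subgroup G} (hT : IsPGroup r T) (hP : IsPGroup q P)
    (h : ∀ u ∈ P, ∀ t ∈ T, ⁅u, t⁆ ∈ (frattini ↥T).map T.subtype)
    (hn : P ≤ Subgroup.normalizer (T : Set G)) :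
    P ≤ Subgroup.centralizer (T : Set G) := by
  have hfix : ∀ t ∈ T, ∃ c ∈ T ⊓ Subgroup.centralizer (P : Set G),
      t⁻¹ * c ∈ (frattini ↥T).map T.subtype := by
    intro t ht
    let Φ := (frattini ↥T).map T.subtype
    have hΦn : ∀ u ∈ P, ∀ z ∈ Φ, u * z * u⁻¹ ∈ Φ := by
      rintro u hu _ ⟨z, hz, rfl⟩
      let α : ↥T ≃* ↥T :=
        { toFun := fun s => ⟨u * s * u⁻¹, (Subgroup.mem_normalizer_iff.1 (hn hu) _).1 s.2⟩
          invFun := fun s => ⟨u⁻¹ * s * u, (Subgroup.mem_normalizer_iff''.1 (hn hu) _).1 s.2⟩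
          left_inv := fun s => Subtype.ext (by simp [mul_assoc])
          right_inv := fun s => Subtype.ext (by simp [mul_assoc])
          map_mul' := fun a b => Subtype.ext (by simp [mul_assoc]) }
      have hchar : (frattini ↥T).map α.toMonoidHom = frattini ↥T :=
        Subgroup.characteristic_iff_map_eq.1 inferInstance α
      refine ⟨α z, ?_, rfl⟩
      rw [← hchar]; exact ⟨z, hz, rfl⟩
    let Ω := {c : G // c ∈ T ∧ t⁻¹ * c ∈ Φ}
    have hstep : ∀ (u : ↥P) (c : Ω), (u : G) * c.1 * (u : G)⁻¹ ∈ T ∧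
        t⁻¹ * ((u : G) * c.1 * (u : G)⁻¹) ∈ Φ := by
      intro u c
      refine ⟨(Subgroup.mem_normalizer_iff.1 (hn u.2) _).1 c.2.1, ?_⟩
      have h1 := hΦn u.1 u.2 _ c.2.2
      have h2 : t⁻¹ * ⁅(u : G), t⁆ * t ∈ Φ := by
        obtain ⟨z, hz, hzeq⟩ := h u.1 u.2 t ht
        rw [← hzeq]
        refine ⟨⟨t, ht⟩⁻¹ * z * ⟨t, ht⟩, ?_, rfl⟩
        simpa using (inferInstance : (frattini ↥T).Normal).conj_mem z hz ⟨t, ht⟩⁻¹
      have h3 := Subgroup.mul_mem _ h2 h1
      have : t⁻¹ * ((u : G) * c.1 * (u : G)⁻¹) =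
          t⁻¹ * ⁅(u : G), t⁆ * t * ((u : G) * (t⁻¹ * c.1) * (u : G)⁻¹) := by
        rw [commutatorElement_def]; group
      rw [this]; exact h3
    let A : MulAction ↥P Ω :=
      { smul := fun u c => ⟨(u : G) * c.1 * (u : G)⁻¹, hstep u c⟩
        one_smul := fun c => Subtype.ext (by show (1 : G) * c.1 * (1 : G)⁻¹ = c.1; simp)
        mul_smul := fun a b c => Subtype.ext (by
          show ((a : G) * b) * c.1 * ((a : G) * b)⁻¹ = (a : G) * ((b : G) * c.1 * (b : G)⁻¹) * (a : G)⁻¹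
          group) }
    have hcard : Nat.card Ω = Nat.card Φ := by
      refine Nat.card_congr ⟨fun c => ⟨t⁻¹ * c.1, c.2.2⟩, fun z => ⟨t * z.1, ?_⟩, ?_, ?_⟩
      · exact ⟨Subgroup.mul_mem _ ht (Subgroup.map_subtype_le _ z.2), by simp⟩
      · intro c; exact Subtype.ext (by simp)
      · intro z; exact Subtype.ext (by simp)
    have hnd : ¬ q ∣ Nat.card Ω := by
      rw [hcard]
      obtain ⟨m, hm⟩ := IsPGroup.iff_card.1 (hT.to_le (Subgroup.map_subtype_le (frattini ↥T)))
      rw [hm]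
      intro hd
      exact hrq ((Nat.prime_dvd_prime_iff_eq (Fact.out : q.Prime) (Fact.out : r.Prime)).1
        ((Fact.out : q.Prime).dvd_of_dvd_pow hd)).symm
    obtain ⟨c, hc⟩ := hP.nonempty_fixed_point_of_prime_not_dvd_card Ω hnd
    refine ⟨c.1, ⟨c.2.1, Subgroup.mem_centralizer_iff.2 fun u hu => ?_⟩, c.2.2⟩
    exact mul_inv_eq_iff_eq_mul.1 (congrArg Subtype.val (hc ⟨u, hu⟩))
  have htop : (T ⊓ Subgroup.centralizer (P : Set G)).subgroupOf T ⊔ frattini ↥T = ⊤ := by
    rw [eq_top_iff]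
    intro t _
    obtain ⟨c, hc, z, hz, hzc⟩ := hfix t.1 t.2
    have hct : t = ⟨c, hc.1⟩ * z⁻¹ := by
      apply Subtype.ext
      have hz' : (z : G) = (t : G)⁻¹ * c := hzc
      simp [hz']
    rw [hct]
    exact Subgroup.mul_mem_sup (Subgroup.mem_subgroupOf.2 hc) (Subgroup.inv_mem _ hz)
  have := frattini_nongenerating htop
  rw [Subgroup.subgroupOf_eq_top] at this
  exact fun u hu => Subgroup.mem_centralizer_iff.2 fun t ht =>
    (Subgroup.mem_centralizer_iff.1 (this ht).2 u hu).symm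

theorem isElementaryAbelian_quotient_frattini [Finite G] {q : ℕ} [Fact q.Prime] (hG : IsPGroup q G) :
    IsMulCommutative (G ⧸ frattini G) ∧ ∀ g : G ⧸ frattini G, g ^ q = 1 := by
  refine ⟨(Subgroup.Normal.quotient_commutative_iff_commutator_le).2
    (CfsgLib.PGroup.commutator_le_frattini hG), fun g => ?_⟩
  induction g using QuotientGroup.induction_on with
  | H g =>
    rw [← QuotientGroup.mk_pow, QuotientGroup.eq_one_iff]
    exact CfsgLib.PGroup.pow_mem_frattini hG g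

/-- The heart of the matter: `V ⋊ S₃` gives a section isomorphic to `S₄`. -/
theorem involves_four_of_action [Finite G] (V : Subgroup G) [V.Normal] (hV : IsElementaryAbelian 2 V)
    (x y : G) (P : Subgroup G) {k : ℕ} (hx : orderOf x = 2 ^ k) (hP : IsPGroup 3 P)
    (hxP : x ∈ Subgroup.normalizer (P : Set G)) (hyP : y ∈ P)
    (hy : y ∉ Subgroup.centralizer (V : Set G)) (hy3 : y ^ 3 ∈ Subgroup.centralizer (V : Set G))
    (hPy : ∀ u ∈ P, ∃ i : ℕ, y ^ i * u ∈ Subgroup.centralizer (V : Set G))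
    (hxy : x * y * x⁻¹ * y ∈ Subgroup.centralizer (V : Set G)) :
    Involves (Equiv.Perm (Fin 4)) G := by
  have hcomm : ∀ a ∈ V, ∀ b ∈ V, a * b = b * a := fun a ha b hb =>
    congrArg Subtype.val (hV.1.1.comm (⟨a, ha⟩ : ↥V) ⟨b, hb⟩)
  have hcV : ∀ c ∈ Subgroup.centralizer (V : Set G), ∀ v ∈ V, c * v * c⁻¹ = v := by
    intro c hc v hv
    rw [← Subgroup.mem_centralizer_iff.1 hc v hv]; group
  -- the action of y
  let b : G → G := fun v => y * v * y⁻¹
  have hbV : ∀ v ∈ V, b v ∈ V := fun v hv => Subgroup.Normal.conj_mem inferInstance v hv y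
  have hb3 : ∀ v ∈ V, b (b (b v)) = v := by
    intro v hv
    calc b (b (b v)) = y ^ 3 * v * (y ^ 3)⁻¹ := by simp only [b, pow_succ, pow_zero, one_mul]; group
      _ = v := hcV _ hy3 v hv
  have hxb : ∀ v ∈ V, x * b v * x⁻¹ = b (b (x * v * x⁻¹)) := by
    intro v hv
    have hv' : x * v * x⁻¹ ∈ V := Subgroup.Normal.conj_mem inferInstance v hv x
    have hv2 := hbV _ (hbV _ hv')
    have h3 : y⁻¹ * (x * v * x⁻¹) * y = b (b (x * v * x⁻¹)) := by
      nth_rw 1 [← hb3 _ hv']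
      simp only [b]; group
    have e : x * b v * x⁻¹ =
        (x * y * x⁻¹ * y) * (y⁻¹ * (x * v * x⁻¹) * y) * (x * y * x⁻¹ * y)⁻¹ := by
      simp only [b]; group
    rw [e, h3, hcV _ hxy _ hv2]
  let Z : Subgroup G :=
    { carrier := {v | v ∈ V ∧ v * b v * b (b v) = 1}
      one_mem' := ⟨V.one_mem, by simp [b]⟩
      mul_mem' := by
        rintro a c ⟨ha, ha'⟩ ⟨hc, hc'⟩
        refine ⟨V.mul_mem ha hc, ?_⟩
        have e1 : b (a * c) = b a * b c := by simp only [b]; group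
        have e2 : b (b (a * c)) = b (b a) * b (b c) := by simp only [b]; group
        rw [e2, e1]
        calc a * c * (b a * b c) * (b (b a) * b (b c))
            = a * (c * b a) * (b c * b (b a)) * b (b c) := by group
          _ = a * (b a * c) * (b (b a) * b c) * b (b c) := by
              rw [hcomm c hc _ (hbV a ha), hcomm (b c) (hbV c hc) _ (hbV _ (hbV a ha))]
          _ = a * b a * (c * b (b a)) * b c * b (b c) := by group
          _ = a * b a * (b (b a) * c) * b c * b (b c) := by rw [hcomm c hc _ (hbV _ (hbV a ha))]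
          _ = (a * b a * b (b a)) * (c * b c * b (b c)) := by group
          _ = 1 := by rw [ha', hc', one_mul]
      inv_mem' := by
        rintro a ⟨ha, ha'⟩
        have : a⁻¹ = a := inv_eq_of_mul_eq_one_right (by rw [← pow_two]; exact hV.2 a ha)
        rw [Set.mem_setOf_eq, this]; exact ⟨ha, ha'⟩ }
  have hZne : ∃ v ∈ Z, v ≠ 1 := by
    rw [Subgroup.mem_centralizer_iff] at hy
    push_neg at hy
    obtain ⟨v, hv, hvy⟩ := hy
    refine ⟨v⁻¹ * b v, ⟨V.mul_mem (V.inv_mem hv) (hbV v hv), ?_⟩, ?_⟩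
    · have e1 : b (v⁻¹ * b v) = (b v)⁻¹ * b (b v) := by simp only [b]; group
      have e2 : b (b (v⁻¹ * b v)) = (b (b v))⁻¹ * b (b (b v)) := by simp [b, mul_assoc]
      rw [e2, e1, hb3 v hv]; group
    · intro h
      have h' : y * v * y⁻¹ = v := (inv_mul_eq_one.1 h).symm
      exact hvy (mul_inv_eq_iff_eq_mul.1 h').symm
  have hZx : ∀ v ∈ Z, x * v * x⁻¹ ∈ Z := by
    rintro v ⟨hv, hv'⟩
    have hv1 : x * v * x⁻¹ ∈ V := Subgroup.Normal.conj_mem inferInstance v hv x
    refine ⟨hv1, ?_⟩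
    have h1 : (x * v * x⁻¹) * (x * b v * x⁻¹) * (x * b (b v) * x⁻¹) = 1 := by
      calc _ = x * (v * b v * b (b v)) * x⁻¹ := by group
        _ = 1 := by rw [hv']; group
    rw [hxb v hv, hxb _ (hbV v hv), hxb v hv, hb3 _ (hbV _ hv1)] at h1
    calc x * v * x⁻¹ * b (x * v * x⁻¹) * b (b (x * v * x⁻¹))
        = x * v * x⁻¹ * (b (x * v * x⁻¹) * b (b (x * v * x⁻¹))) := by group
      _ = x * v * x⁻¹ * (b (b (x * v * x⁻¹)) * b (x * v * x⁻¹)) := by
          rw [hcomm _ (hbV _ hv1) _ (hbV _ (hbV _ hv1))]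
      _ = 1 := by rw [← mul_assoc]; exact h1
  -- a fixed point of x in Z
  obtain ⟨w, hwZ, hwx, hw1⟩ : ∃ w ∈ Z, x * w * x⁻¹ = w ∧ w ≠ 1 := by
    have hxn : ∀ g ∈ Subgroup.zpowers x, ∀ v ∈ Z, g * v * g⁻¹ ∈ Z := by
      have hxn' : x ∈ Subgroup.normalizer (Z : Set G) := by
        rw [Subgroup.mem_normalizer_iff]
        refine fun v => ⟨hZx v, fun hv => ?_⟩
        have hfin : (MulAut.conj x) '' (Z : Set G) = (Z : Set G) := by
          refine Set.eq_of_subset_of_ncard_le ?_ ?_ (Set.toFinite _)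
          · rintro _ ⟨u, hu, rfl⟩; exact hZx u hu
          · rw [Set.ncard_image_of_injective _ (MulAut.conj x).injective]
        obtain ⟨u, hu, hu'⟩ : x * v * x⁻¹ ∈ (MulAut.conj x) '' (Z : Set G) := by rw [hfin]; exact hv
        have : u = v := by simpa using hu'
        rwa [← this]
      intro g hg v hv
      exact (Subgroup.mem_normalizer_iff.1 ((Subgroup.zpowers_le.2 hxn') hg) v).1 hv
    have hX : IsPGroup 2 (Subgroup.zpowers x) := IsPGroup.of_card (n := k) (by rw [Nat.card_zpowers, hx])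
    let A : MulAction ↥(Subgroup.zpowers x) ↥Z :=
      { smul := fun g v => ⟨g.1 * v.1 * g.1⁻¹, hxn g.1 g.2 v.1 v.2⟩
        one_smul := fun v => Subtype.ext (by show (1 : G) * v.1 * (1 : G)⁻¹ = v.1; simp)
        mul_smul := fun a c v => Subtype.ext (by
          show (a.1 * c.1) * v.1 * (a.1 * c.1)⁻¹ = a.1 * (c.1 * v.1 * c.1⁻¹) * a.1⁻¹; group) }
    have h2 : 2 ∣ Nat.card ↥Z := by
      obtain ⟨v, hv, hv1⟩ := hZne
      have : orderOf (⟨v, hv⟩ : ↥Z) = 2 :=
        orderOf_eq_prime (Subtype.ext (hV.2 v hv.1)) (fun h => hv1 (congrArg Subtype.val h))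
      rw [← this]; exact orderOf_dvd_natCard _
    have h1 : (1 : ↥Z) ∈ MulAction.fixedPoints ↥(Subgroup.zpowers x) ↥Z :=
      fun g => Subtype.ext (by show g.1 * (1 : G) * g.1⁻¹ = 1; simp)
    obtain ⟨w, hw, hwne⟩ := hX.exists_fixed_point_of_prime_dvd_card_of_fixed_point ↥Z h2 h1
    exact ⟨w.1, w.2, congrArg Subtype.val (hw ⟨x, Subgroup.mem_zpowers x⟩),
      fun h => hwne (Subtype.ext h.symm)⟩
  obtain ⟨hwV, hwb⟩ := hwZ
  have hsq : ∀ v ∈ V, v * v = 1 := fun v hv => by rw [← pow_two]; exact hV.2 v hv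
  have hbb : b (b w) = w * b w := by
    rw [← inv_eq_of_mul_eq_one_right hwb, mul_inv_rev,
      inv_eq_of_mul_eq_one_right (hsq _ (hbV w hwV)), inv_eq_of_mul_eq_one_right (hsq w hwV),
      hcomm _ (hbV w hwV) w hwV]
  have hbne : b w ≠ w := by
    intro h
    rw [h, h, hsq w hwV, one_mul] at hwb
    exact hw1 hwb
  -- the four group
  let W : Subgroup G :=
    { carrier := {1, w, b w, w * b w}
      one_mem' := by simp
      mul_mem' := by
        have m1 : w * (w * b w) = b w := by rw [← mul_assoc, hsq w hwV, one_mul]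
        have m2 : b w * (w * b w) = w := by
          rw [hcomm w hwV _ (hbV w hwV), ← mul_assoc, hsq _ (hbV w hwV), one_mul]
        have m3 : w * b w * w = b w := by
          rw [hcomm (w * b w) (V.mul_mem hwV (hbV w hwV)) w hwV, m1]
        have m4 : w * b w * b w = w := by rw [mul_assoc, hsq _ (hbV w hwV), mul_one]
        have m5 : w * b w * (w * b w) = 1 := hsq _ (V.mul_mem hwV (hbV w hwV))
        have m6 : b w * w = w * b w := hcomm _ (hbV w hwV) w hwV
        rintro a c (ha | ha | ha | ha) (hc | hc | hc | hc) <;> rw [ha, hc] <;>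
          simp [hsq w hwV, hsq _ (hbV w hwV), m1, m2, m3, m4, m5, m6]
      inv_mem' := by
        rintro a (ha | ha | ha | ha) <;> rw [ha]
        · simp
        · rw [inv_eq_of_mul_eq_one_right (hsq w hwV)]; simp
        · rw [inv_eq_of_mul_eq_one_right (hsq _ (hbV w hwV))]; simp
        · rw [inv_eq_of_mul_eq_one_right (hsq _ (V.mul_mem hwV (hbV w hwV)))]; simp }
  have hwW : w ∈ W := Or.inr (Or.inl rfl)
  have hWind : ∀ Q : G → Prop, Q 1 → Q w → Q (b w) → Q (w * b w) → ∀ v ∈ W, Q v := by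
    intro Q h1 h2 h3 h4 v hv
    rcases hv with hv | hv | hv | hv <;> rw [hv] <;> assumption
  have hWV : W ≤ V := hWind (fun v => v ∈ V) V.one_mem hwV (hbV w hwV) (V.mul_mem hwV (hbV w hwV))
  have hWy : ∀ v ∈ W, b v ∈ W := by
    refine hWind (fun v => b v ∈ W) ?_ ?_ ?_ ?_
    · exact Or.inl (by simp [b])
    · exact Or.inr (Or.inr (Or.inl rfl))
    · exact Or.inr (Or.inr (Or.inr hbb))
    · right; left
      have : b (w * b w) = b w * b (b w) := by simp only [b]; group
      rw [this, hbb, hcomm w hwV _ (hbV w hwV), ← mul_assoc, hsq _ (hbV w hwV), one_mul]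
  have hxbw : x * b w * x⁻¹ = w * b w := by rw [hxb w hwV, hwx, hbb]
  have hWx : ∀ v ∈ W, x * v * x⁻¹ ∈ W := by
    refine hWind (fun v => x * v * x⁻¹ ∈ W) ?_ ?_ ?_ ?_
    · exact Or.inl (by simp)
    · rw [hwx]; exact hwW
    · rw [hxbw]; exact Or.inr (Or.inr (Or.inr rfl))
    · have : x * (w * b w) * x⁻¹ = (x * w * x⁻¹) * (x * b w * x⁻¹) := by group
      rw [this, hwx, hxbw, ← mul_assoc, hsq w hwV, one_mul]
      exact Or.inr (Or.inr (Or.inl rfl))
  have normOfStable : ∀ g : G, (∀ v ∈ W, g * v * g⁻¹ ∈ W) → g ∈ Subgroup.normalizer (W : Set G) := by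
    intro g hg
    rw [Subgroup.mem_normalizer_iff]
    refine fun v => ⟨hg v, fun hv => ?_⟩
    have hfin : (MulAut.conj g) '' (W : Set G) = (W : Set G) := by
      refine Set.eq_of_subset_of_ncard_le ?_ ?_ (Set.toFinite _)
      · rintro _ ⟨u, hu, rfl⟩; exact hg u hu
      · rw [Set.ncard_image_of_injective _ (MulAut.conj g).injective]
    obtain ⟨u, hu, hu'⟩ : g * v * g⁻¹ ∈ (MulAut.conj g) '' (W : Set G) := by rw [hfin]; exact hv
    have : u = v := by simpa using hu'
    rwa [← this]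
  have hyN : y ∈ Subgroup.normalizer (W : Set G) := normOfStable y hWy
  have hPN : ∀ u ∈ P, u ∈ Subgroup.normalizer (W : Set G) := by
    intro u hu
    obtain ⟨i, hi⟩ := hPy u hu
    have h1 : y ^ i * u ∈ Subgroup.normalizer (W : Set G) :=
      normOfStable _ fun v hv => by rw [hcV _ hi v (hWV hv)]; exact hv
    have := mul_mem (inv_mem (Subgroup.pow_mem _ hyN i)) h1
    rwa [inv_mul_cancel_left] at this
  set D := Subgroup.zpowers x ⊔ P with hD
  have hDN : D ≤ Subgroup.normalizer (W : Set G) :=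
    sup_le (Subgroup.zpowers_le.2 (normOfStable x hWx)) hPN
  have hDP : D ≤ Subgroup.normalizer (P : Set G) :=
    sup_le (Subgroup.zpowers_le.2 hxP) Subgroup.le_normalizer
  have hfree : ∀ v ∈ W, b v = v → v = 1 := by
    refine hWind (fun v => b v = v → v = 1) (fun _ => rfl) (fun hv => absurd hv hbne) ?_ ?_
    · intro hv
      rw [hbb] at hv
      exact absurd (mul_eq_right.1 hv) hw1
    · intro hv
      exfalso
      have : b (w * b w) = b w * b (b w) := by simp only [b]; group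
      rw [this, hbb, hcomm w hwV _ (hbV w hwV), ← mul_assoc, hsq _ (hbV w hwV), one_mul] at hv
      have hbw : b w = 1 := mul_eq_right.1 hv.symm
      apply hbne
      rw [hbw]
      exact (show w = 1 by simpa [b] using hbw).symm
  have hdis : W ⊓ D = ⊥ := by
    rw [Subgroup.eq_bot_iff_forall]
    rintro v ⟨hvW, hvD⟩
    refine hfree v hvW ?_
    have h1 : v * y * v⁻¹ * y⁻¹ ∈ P :=
      P.mul_mem ((Subgroup.mem_normalizer_iff.1 (hDP hvD) y).1 hyP) (P.inv_mem hyP)
    have h2 : v * y * v⁻¹ * y⁻¹ ∈ W := by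
      have : v * y * v⁻¹ * y⁻¹ = v * (y * v⁻¹ * y⁻¹) := by group
      rw [this]; exact W.mul_mem hvW (hWy _ (W.inv_mem hvW))
    have h3 : v * y * v⁻¹ * y⁻¹ = 1 := by
      obtain ⟨j, hj⟩ := (IsPGroup.iff_orderOf.1 hP) ⟨_, h1⟩
      rw [Subgroup.orderOf_mk] at hj
      have h4 : orderOf (v * y * v⁻¹ * y⁻¹) ∣ 2 := orderOf_dvd_of_pow_eq_one (hV.2 _ (hWV h2))
      rw [hj] at h4
      rw [← orderOf_eq_one_iff, hj]
      rcases Nat.eq_zero_or_pos j with rfl | hj0
      · rfl
      · exact absurd ((dvd_pow_self 3 hj0.ne').trans h4) (by norm_num)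
    have h5 : v * (y * v⁻¹ * y⁻¹) = 1 := by rw [← h3]; group
    have h6 : y * v⁻¹ * y⁻¹ = v⁻¹ := eq_inv_of_mul_eq_one_right h5
    calc b v = (y * v⁻¹ * y⁻¹)⁻¹ := by simp only [b]; group
      _ = v := by rw [h6, inv_inv]
  -- the action on the cosets
  set K := W ⊔ D with hK
  have hWK : W ≤ K := le_sup_left
  have hDK : D ≤ K := le_sup_right
  set φ := MulAction.toPermHom ↥K (↥K ⧸ D.subgroupOf K) with hφ
  have hcardW : Nat.card ↥W = 4 := by
    have hne : w ≠ w * b w ∧ b w ≠ w * b w ∧ b w ≠ 1 ∧ w * b w ≠ 1 := by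
      refine ⟨fun h => ?_, fun h => hw1 (mul_eq_right.1 h.symm), fun h => ?_, fun h => ?_⟩
      · have hbw1 : b w = 1 := mul_eq_left.1 h.symm
        have : w = 1 := by simpa [b] using hbw1
        exact hw1 this
      · have : w = 1 := by simpa [b] using h
        exact hw1 this
      · have h2 : b w = w⁻¹ := eq_inv_of_mul_eq_one_right h
        rw [inv_eq_of_mul_eq_one_right (hsq w hwV)] at h2
        exact hbne h2
    obtain ⟨n1, n2, n3, n4⟩ := hne
    change Nat.card ({1, w, b w, w * b w} : Set G) = 4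
    rw [Nat.card_coe_set_eq, Set.ncard_insert_of_notMem, Set.ncard_insert_of_notMem, Set.ncard_pair n2]
    · simp [Ne.symm hbne, n1]
    · simp [Ne.symm hw1, Ne.symm n3, Ne.symm n4]
  have hmk : ∀ v ∈ W, ∀ v' ∈ W, ∀ (h : v ∈ K) (h' : v' ∈ K),
      ((⟨v, h⟩ : ↥K) : ↥K ⧸ D.subgroupOf K) = ((⟨v', h'⟩ : ↥K) : ↥K ⧸ D.subgroupOf K) → v = v' := by
    intro v hv v' hv' h h' he
    rw [QuotientGroup.eq, Subgroup.mem_subgroupOf] at he
    have : v⁻¹ * v' ∈ W ⊓ D := ⟨W.mul_mem (W.inv_mem hv) hv', he⟩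
    rw [hdis, Subgroup.mem_bot] at this
    exact inv_mul_eq_one.1 this
  have hsur : Function.Surjective
      (fun v : ↥W => ((⟨v.1, hWK v.2⟩ : ↥K) : ↥K ⧸ D.subgroupOf K)) := by
    intro q
    induction q using QuotientGroup.induction_on with
    | H g =>
      have hg : (g : G) ∈ (↑(W ⊔ D) : Set G) := g.2
      rw [Subgroup.coe_mul_of_right_le_normalizer_left W D hDN] at hg
      obtain ⟨a, ha, d, hd, had⟩ := hg
      refine ⟨⟨a, ha⟩, ?_⟩
      rw [QuotientGroup.eq, Subgroup.mem_subgroupOf]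
      show a⁻¹ * (g : G) ∈ D
      rw [← had]; simpa using hd
  have hcardQ : Nat.card (↥K ⧸ D.subgroupOf K) = 4 := by
    rw [← hcardW]
    exact (Nat.card_eq_of_bijective _
      ⟨fun a c hac => Subtype.ext (hmk _ a.2 _ c.2 _ _ hac), hsur⟩).symm
  -- φ on D
  have hφD : ∀ (d : ↥K) (hd : (d : G) ∈ D), ∀ v (hv : v ∈ W),
      φ d ((⟨v, hWK hv⟩ : ↥K) : ↥K ⧸ D.subgroupOf K) =
        ((⟨(d : G) * v * (d : G)⁻¹,
          hWK ((Subgroup.mem_normalizer_iff.1 (hDN hd) v).1 hv)⟩ : ↥K) : ↥K ⧸ D.subgroupOf K) := by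
    intro d hd v hv
    show ((d * ⟨v, hWK hv⟩ : ↥K) : ↥K ⧸ D.subgroupOf K) = _
    rw [QuotientGroup.eq, Subgroup.mem_subgroupOf]
    show ((d : G) * v)⁻¹ * ((d : G) * v * (d : G)⁻¹) ∈ D
    have : ((d : G) * v)⁻¹ * ((d : G) * v * (d : G)⁻¹) = (d : G)⁻¹ := by group
    rw [this]; exact D.inv_mem hd
  have hext : ∀ (d : ↥K), (d : G) ∈ D → (∀ v ∈ W, (d : G) * v * (d : G)⁻¹ = v) → φ d = 1 := by
    intro d hd h
    ext q
    obtain ⟨⟨v, hv⟩, rfl⟩ := hsur q
    rw [hφD d hd v hv, Equiv.Perm.coe_one, id]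
    congr 1
    exact Subtype.ext (h v hv)
  have hne : ∀ (d : ↥K), (d : G) ∈ D → ∀ v ∈ W, (d : G) * v * (d : G)⁻¹ ≠ v → φ d ≠ 1 := by
    intro d hd v hv hne h
    have h1 := hφD d hd v hv
    rw [h, Equiv.Perm.coe_one, id] at h1
    exact hne (hmk _ hv _ ((Subgroup.mem_normalizer_iff.1 (hDN hd) v).1 hv) _ _ h1).symm
  have hxD : x ∈ D := (le_sup_left : Subgroup.zpowers x ≤ D) (Subgroup.mem_zpowers x)
  have hyD : y ∈ D := (le_sup_right : P ≤ D) hyP
  have hx2 : orderOf (φ ⟨x, hDK hxD⟩) = 2 := by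
    refine orderOf_eq_prime ?_ (hne _ hxD (b w) (hWy w hwW) ?_)
    · rw [← map_pow]
      refine hext _ (D.pow_mem hxD 2) ?_
      refine hWind (fun v => (x ^ 2) * v * (x ^ 2)⁻¹ = v) ?_ ?_ ?_ ?_
      · simp
      · show (x ^ 2) * w * (x ^ 2)⁻¹ = w
        calc (x ^ 2) * w * (x ^ 2)⁻¹ = x * (x * w * x⁻¹) * x⁻¹ := by rw [pow_two]; group
          _ = w := by rw [hwx, hwx]
      · show (x ^ 2) * b w * (x ^ 2)⁻¹ = b w
        calc (x ^ 2) * b w * (x ^ 2)⁻¹ = x * (x * b w * x⁻¹) * x⁻¹ := by simp [pow_two, mul_assoc]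
          _ = (x * w * x⁻¹) * (x * b w * x⁻¹) := by
              conv_lhs => rw [hxbw]
              simp [mul_assoc]
          _ = b w := by rw [hxbw, hwx, ← mul_assoc, hsq w hwV, one_mul]
      · show (x ^ 2) * (w * b w) * (x ^ 2)⁻¹ = w * b w
        calc (x ^ 2) * (w * b w) * (x ^ 2)⁻¹
            = (x * (x * w * x⁻¹) * x⁻¹) * (x * (x * b w * x⁻¹) * x⁻¹) := by simp [pow_two, mul_assoc]
          _ = (x * w * x⁻¹) * ((x * w * x⁻¹) * (x * b w * x⁻¹)) := by
              rw [hxbw, hwx]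
              congr 1
              calc x * (w * b w) * x⁻¹ = (x * w * x⁻¹) * (x * b w * x⁻¹) := by simp [mul_assoc]
                _ = w * (w * b w) := by rw [hwx, hxbw]
          _ = w * b w := by rw [hxbw, hwx, ← mul_assoc w w, hsq w hwV, one_mul]
    · show x * b w * x⁻¹ ≠ b w
      rw [hxbw]
      intro h
      exact hw1 (mul_eq_right.1 h)
  have hy3' : orderOf (φ ⟨y, hDK hyD⟩) = 3 := by
    have : Fact (Nat.Prime 3) := ⟨Nat.prime_three⟩
    refine orderOf_eq_prime ?_ (hne _ hyD w hwW hbne)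
    rw [← map_pow]
    exact hext _ (D.pow_mem hyD 3) fun v hv => hcV _ hy3 v (hWV hv)
  have hindex : (D.subgroupOf K).index = 4 := hcardQ
  have hker : φ.ker ≤ D.subgroupOf K := by
    intro g hg
    have h1 : φ g ((1 : ↥K) : ↥K ⧸ D.subgroupOf K) = ((1 : ↥K) : ↥K ⧸ D.subgroupOf K) := by
      rw [MonoidHom.mem_ker.1 hg]; rfl
    have h2 : ((g : ↥K) : ↥K ⧸ D.subgroupOf K) = ((1 : ↥K) : ↥K ⧸ D.subgroupOf K) := by
      rw [← h1]; show _ = ((g * 1 : ↥K) : ↥K ⧸ D.subgroupOf K); rw [mul_one]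
    simpa [QuotientGroup.eq, inv_mem_iff] using h2
  have h6 : 6 ∣ φ.ker.relIndex (D.subgroupOf K) := by
    rw [Subgroup.relIndex_ker]
    refine (Nat.Coprime.mul_dvd_of_dvd_of_dvd (by norm_num : Nat.Coprime 2 3) ?_ ?_)
    · rw [← hx2]
      exact Subgroup.orderOf_dvd_natCard _ ⟨_, Subgroup.mem_subgroupOf.2 hxD, rfl⟩
    · rw [← hy3']
      exact Subgroup.orderOf_dvd_natCard _ ⟨_, Subgroup.mem_subgroupOf.2 hyD, rfl⟩
  have h24 : 24 ∣ Nat.card φ.range := by
    rw [← Subgroup.index_ker, ← Subgroup.relIndex_mul_index hker, hindex]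
    exact Dvd.dvd.trans (by norm_num) (mul_dvd_mul_right h6 4)
  have : Fintype (↥K ⧸ D.subgroupOf K) := Fintype.ofFinite _
  classical
  have hQ : Fintype.card (↥K ⧸ D.subgroupOf K) = 4 := by rw [← Nat.card_eq_fintype_card, hcardQ]
  have hP24 : Nat.card (Equiv.Perm (↥K ⧸ D.subgroupOf K)) = 24 := by
    rw [Nat.card_eq_fintype_card, Fintype.card_perm, hQ]; rfl
  have hs : φ.range = ⊤ := by
    refine Subgroup.eq_top_of_card_eq _ (le_antisymm (Subgroup.card_le_card_group _) ?_)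
    rw [hP24]
    exact Nat.le_of_dvd Nat.card_pos h24
  exact involves_of_hom K ((Fintype.equivFinOfCardEq hQ).permCongrHom.toMonoidHom.comp φ)
    ((Fintype.equivFinOfCardEq hQ).permCongrHom.surjective.comp (MonoidHom.range_eq_top.1 hs))

end CfsgLib.LocalEven.Involved
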