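import Cfsg.Prelude.Def_Amalgam

/-!
Sylow subgroups of a finite subgroup `H` of a group `X` that may be infinite, phrased inside `X`,
and the basic API of `pCoreOf`, `pElementClosure`, `omegaOne`, `sylowCenterClosure`.
-/

set_option autoImplicit false

open Cfsg

namespace CfsgLib.LocalEven

variable {X : Type*} [Group X] {p : ℕ}

/-! ### Conjugation of subgroups -/

theorem conjSub_apply (g x : X) : (MulAut.conj g).toMonoidHom x = g * x * g⁻¹ := rfl

theorem map_conj_eq_self {H : Subgroup X} {g : X} (hg : g ∈ Subgroup.normalizer (H : Set X)) :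
    H.map (MulAut.conj g).toMonoidHom = H := by
  ext x
  rw [Subgroup.mem_map]
  constructor
  · rintro ⟨y, hy, rfl⟩
    exact (Subgroup.mem_normalizer_iff.1 hg y).1 hy
  · intro hx
    refine ⟨g⁻¹ * x * g, ?_, by rw [conjSub_apply]; group⟩
    exact (Subgroup.mem_normalizer_iff''.1 hg x).1 hx

theorem mem_normalizer_of_map_conj_eq {H : Subgroup X} {g : X}
    (h : H.map (MulAut.conj g).toMonoidHom = H) : g ∈ Subgroup.normalizer (H : Set X) := by
  rw [Subgroup.mem_normalizer_iff]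
  intro x
  constructor
  · intro hx
    rw [← h]; exact ⟨x, hx, rfl⟩
  · intro hx
    rw [← h] at hx
    obtain ⟨y, hy, hyx⟩ := hx
    rw [conjSub_apply] at hyx
    have : y = x := by simpa using hyx
    rwa [← this]

theorem map_conj_mul (H : Subgroup X) (g h : X) :
    H.map (MulAut.conj (g * h)).toMonoidHom =
      (H.map (MulAut.conj h).toMonoidHom).map (MulAut.conj g).toMonoidHom := by
  rw [Subgroup.map_map]; congr 1
  ext x; simp [mul_assoc]

theorem map_conj_one (H : Subgroup X) : H.map (MulAut.conj (1 : X)).toMonoidHom = H := by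
  ext x; simp

theorem map_conj_inv_map_conj (H : Subgroup X) (g : X) :
    (H.map (MulAut.conj g).toMonoidHom).map (MulAut.conj g⁻¹).toMonoidHom = H := by
  rw [← map_conj_mul, inv_mul_cancel, map_conj_one]

theorem map_centralizer_conj (H : Subgroup X) (g : X) :
    (Subgroup.centralizer (H : Set X)).map (MulAut.conj g).toMonoidHom =
      Subgroup.centralizer ((H.map (MulAut.conj g).toMonoidHom : Subgroup X) : Set X) := by
  ext x
  rw [Subgroup.mem_map, Subgroup.mem_centralizer_iff]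
  constructor
  · rintro ⟨y, hy, rfl⟩ z ⟨w, hw, rfl⟩
    rw [← map_mul, ← map_mul, Subgroup.mem_centralizer_iff.1 hy w hw]
  · intro hx
    refine ⟨g⁻¹ * x * g, ?_, by rw [conjSub_apply]; group⟩
    rw [Subgroup.mem_centralizer_iff]
    intro w hw
    have h1 := hx _ ⟨w, hw, rfl⟩
    rw [conjSub_apply] at h1
    calc w * (g⁻¹ * x * g) = g⁻¹ * (g * w * g⁻¹ * x) * g := by group
      _ = g⁻¹ * (x * (g * w * g⁻¹)) * g := by rw [h1]
      _ = g⁻¹ * x * g * w := by group

theorem finite_of_le {H K : Subgroup X} [Finite H] (h : K ≤ H) : Finite K :=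
  Finite.of_injective _ (Subgroup.inclusion_injective h)

theorem finite_map (H : Subgroup X) [Finite H] {Y : Type*} [Group Y] (f : X →* Y) :
    Finite (H.map f) :=
  Finite.of_surjective (f.subgroupMap H) (f.subgroupMap_surjective H)

/-! ### Sylow subgroups inside a subgroup -/

/-- `T` is a maximal `p`-subgroup of the subgroup `H`. -/
def IsSylIn (p : ℕ) (T H : Subgroup X) : Prop :=
  T ≤ H ∧ IsPGroup p T ∧ ∀ Q : Subgroup X, Q ≤ H → IsPGroup p Q → T ≤ Q → Q = T

theorem IsSylIn.le {T H : Subgroup X} (h : IsSylIn p T H) : T ≤ H := h.1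

theorem IsSylIn.isPGroup {T H : Subgroup X} (h : IsSylIn p T H) : IsPGroup p T := h.2.1

theorem isSylIn_of_sylow {H : Subgroup X} (S : Sylow p H) :
    IsSylIn p ((S : Subgroup H).map H.subtype) H := by
  refine ⟨Subgroup.map_subtype_le _, S.2.map _, fun Q hQH hQ hle => ?_⟩
  have h1 : (S : Subgroup H) ≤ Q.subgroupOf H := fun x hx => hle ⟨x, hx, rfl⟩
  have h2 : IsPGroup p (Q.subgroupOf H) :=
    hQ.of_equiv (Subgroup.subgroupOfEquivOfLe hQH).symm
  have h3 := S.3 h2 h1
  calc Q = (Q.subgroupOf H).map H.subtype := (Subgroup.map_subgroupOf_eq_of_le hQH).symm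
    _ = (S : Subgroup H).map H.subtype := by rw [h3]

theorem IsSylIn.exists_sylow {T H : Subgroup X} (h : IsSylIn p T H) :
    ∃ S : Sylow p H, (S : Subgroup H).map H.subtype = T := by
  obtain ⟨S, hS⟩ := (h.2.1.of_equiv (Subgroup.subgroupOfEquivOfLe h.1).symm).exists_le_sylow
  refine ⟨S, h.2.2 _ (Subgroup.map_subtype_le _) (S.2.map _) ?_⟩
  intro x hx
  exact ⟨⟨x, h.1 hx⟩, hS hx, rfl⟩

theorem exists_isSylIn_ge {Q H : Subgroup X} (hQH : Q ≤ H) (hQ : IsPGroup p Q) :
    ∃ T, IsSylIn p T H ∧ Q ≤ T := by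
  obtain ⟨S, hS⟩ := (hQ.of_equiv (Subgroup.subgroupOfEquivOfLe hQH).symm).exists_le_sylow
  exact ⟨_, isSylIn_of_sylow S, fun x hx => ⟨⟨x, hQH hx⟩, hS hx, rfl⟩⟩

theorem exists_isSylIn (p : ℕ) (H : Subgroup X) : ∃ T, IsSylIn p T H :=
  let ⟨S⟩ : Nonempty (Sylow p H) := inferInstance
  ⟨_, isSylIn_of_sylow S⟩

theorem IsSylIn.map_equiv {Y : Type*} [Group Y] {T H : Subgroup X} (h : IsSylIn p T H)
    (e : X ≃* Y) : IsSylIn p (T.map e.toMonoidHom) (H.map e.toMonoidHom) := by
  refine ⟨Subgroup.map_mono h.1, h.2.1.map _, fun Q hQH hQ hle => ?_⟩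
  have hinv : ∀ K : Subgroup X, (K.map e.toMonoidHom).map e.symm.toMonoidHom = K := fun K => by
    ext x; simp
  have hinv' : ∀ K : Subgroup Y, (K.map e.symm.toMonoidHom).map e.toMonoidHom = K := fun K => by
    ext x; simp
  have h1 := h.2.2 (Q.map e.symm.toMonoidHom)
    (by rw [← hinv H]; exact Subgroup.map_mono hQH) (hQ.map _)
    (by rw [← hinv T]; exact Subgroup.map_mono hle)
  rw [← h1, hinv']

theorem IsSylIn.map_conj {T H : Subgroup X} (h : IsSylIn p T H) (g : X) :
    IsSylIn p (T.map (MulAut.conj g).toMonoidHom) (H.map (MulAut.conj g).toMonoidHom) :=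
  h.map_equiv (MulAut.conj g)

theorem IsSylIn.map_conj_mem {T H : Subgroup X} (h : IsSylIn p T H) {g : X}
    (hg : g ∈ Subgroup.normalizer (H : Set X)) :
    IsSylIn p (T.map (MulAut.conj g).toMonoidHom) H := by
  have := h.map_conj g
  rwa [map_conj_eq_self hg] at this

theorem IsSylIn.mono {T H K : Subgroup X} (h : IsSylIn p T H) (hTK : T ≤ K) (hKH : K ≤ H) :
    IsSylIn p T K :=
  ⟨hTK, h.2.1, fun Q hQ hp hle => h.2.2 Q (hQ.trans hKH) hp hle⟩

theorem IsSylIn.card_eq [Fact p.Prime] {T T' H : Subgroup X} [Finite H] (h : IsSylIn p T H)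
    (h' : IsSylIn p T' H) : Nat.card T = Nat.card T' := by
  obtain ⟨S, hS⟩ := h.exists_sylow
  obtain ⟨S', hS'⟩ := h'.exists_sylow
  rw [← hS, ← hS', Subgroup.card_subtype, Subgroup.card_subtype, Sylow.card_eq_multiplicity,
    Sylow.card_eq_multiplicity]

theorem IsSylIn.conjugate [Fact p.Prime] {T T' H : Subgroup X} [Finite H] (h : IsSylIn p T H)
    (h' : IsSylIn p T' H) : ∃ g ∈ H, T.map (MulAut.conj g).toMonoidHom = T' := by
  obtain ⟨S, hS⟩ := h.exists_sylow
  obtain ⟨S', hS'⟩ := h'.exists_sylow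
  obtain ⟨g, hg⟩ := MulAction.exists_smul_eq (↥H) S S'
  refine ⟨g, g.2, ?_⟩
  rw [← hS, ← hS', ← hg, Sylow.coe_subgroup_smul]
  ext x
  constructor
  · rintro ⟨_, ⟨y, hy, rfl⟩, rfl⟩
    exact ⟨MulAut.conj g • y, Subgroup.smul_mem_pointwise_smul _ _ _ hy,
      by simp [MulAut.smul_def]⟩
  · rintro ⟨z, hz, rfl⟩
    obtain ⟨y, hy, rfl⟩ := (Subgroup.mem_smul_pointwise_iff_exists _ _ _).1 hz
    exact ⟨_, ⟨y, hy, rfl⟩, by simp [MulAut.smul_def]⟩

theorem isSylIn_of_card_le [Fact p.Prime] {T T' H : Subgroup X} [Finite H] (h' : IsSylIn p T' H)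
    (hle : T ≤ H) (hp : IsPGroup p T) (hc : Nat.card T' ≤ Nat.card T) : IsSylIn p T H := by
  refine ⟨hle, hp, fun Q hQH hQ hTQ => ?_⟩
  obtain ⟨R, hR, hQR⟩ := exists_isSylIn_ge hQH hQ
  have hRfin : Finite R := finite_of_le hR.1
  have hQfin : Finite Q := finite_of_le hQH
  have h1 : Nat.card Q ≤ Nat.card T := by
    calc Nat.card Q ≤ Nat.card R := Subgroup.card_le_of_le hQR
      _ = Nat.card T' := hR.card_eq h'
      _ ≤ Nat.card T := hc
  exact (Subgroup.eq_of_le_of_card_ge hTQ h1).symm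

/-! ### O_p of a subgroup -/

theorem isPGroup_pCore_of_finite [Fact p.Prime] {G : Type*} [Group G] [Finite G] :
    IsPGroup p (pCore p G) := by
  obtain ⟨S⟩ : Nonempty (Sylow p G) := inferInstance
  refine S.2.to_le (sSup_le ?_)
  rintro N ⟨hN, hNp⟩
  obtain ⟨S', hS'⟩ := hNp.exists_le_sylow
  obtain ⟨g, hg⟩ := MulAction.exists_smul_eq G S' S
  intro x hx
  rw [← hg, Sylow.coe_subgroup_smul, Subgroup.mem_smul_pointwise_iff_exists]
  refine ⟨g⁻¹ * x * g, hS' ?_, by simp [MulAut.smul_def, mul_assoc]⟩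
  simpa using hN.conj_mem x hx g⁻¹

theorem pCore_le_sylow [Fact p.Prime] {G : Type*} [Group G] [Finite G] (S : Sylow p G) :
    pCore p G ≤ (S : Subgroup G) := by
  refine sSup_le ?_
  rintro N ⟨hN, hNp⟩
  obtain ⟨S', hS'⟩ := hNp.exists_le_sylow
  obtain ⟨g, hg⟩ := MulAction.exists_smul_eq G S' S
  intro x hx
  rw [← hg, Sylow.coe_subgroup_smul, Subgroup.mem_smul_pointwise_iff_exists]
  refine ⟨g⁻¹ * x * g, hS' ?_, by simp [MulAut.smul_def, mul_assoc]⟩
  simpa using hN.conj_mem x hx g⁻¹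

theorem pCoreOf_le (p : ℕ) (H : Subgroup X) : pCoreOf p H ≤ H := Subgroup.map_subtype_le _

theorem isPGroup_pCoreOf [Fact p.Prime] (H : Subgroup X) [Finite H] :
    IsPGroup p (pCoreOf p H) :=
  (isPGroup_pCore_of_finite (p := p) (G := ↥H)).map _

theorem le_normalizer_pCoreOf (p : ℕ) (H : Subgroup X) :
    H ≤ Subgroup.normalizer (pCoreOf p H : Set X) := by
  have h1 : (⊤ : Subgroup H) ≤ Subgroup.normalizer ((pCore p H : Subgroup H) : Set H) :=
    (Subgroup.normalizer_eq_top (H := pCore p H)).ge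
  calc H = (⊤ : Subgroup H).map H.subtype := (H.range_subtype.symm.trans (MonoidHom.range_eq_map _))
    _ ≤ (Subgroup.normalizer ((pCore p H : Subgroup H) : Set H)).map H.subtype := Subgroup.map_mono h1
    _ ≤ _ := Subgroup.le_normalizer_map _

theorem le_pCoreOf {Q H : Subgroup X} (hQH : Q ≤ H) (hQ : IsPGroup p Q)
    (hn : H ≤ Subgroup.normalizer (Q : Set X)) : Q ≤ pCoreOf p H := by
  have h1 : (Q.subgroupOf H).Normal := ⟨fun n hn' g => by
    exact (Subgroup.mem_normalizer_iff.1 (hn g.2) n).1 hn'⟩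
  have h2 : Q.subgroupOf H ≤ pCore p H :=
    le_sSup ⟨h1, hQ.of_equiv (Subgroup.subgroupOfEquivOfLe hQH).symm⟩
  intro x hx
  exact ⟨⟨x, hQH hx⟩, h2 hx, rfl⟩

theorem pCoreOf_le_isSylIn [Fact p.Prime] {T H : Subgroup X} [Finite H] (h : IsSylIn p T H) :
    pCoreOf p H ≤ T := by
  obtain ⟨S, hS⟩ := h.exists_sylow
  rw [← hS]
  exact Subgroup.map_mono (pCore_le_sylow S)

theorem pCoreOf_map_equiv {Y : Type*} [Group Y] [Fact p.Prime] (H : Subgroup X) [Finite H]
    (e : X ≃* Y) : pCoreOf p (H.map e.toMonoidHom) = (pCoreOf p H).map e.toMonoidHom := by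
  have hfin : Finite (H.map e.toMonoidHom) := finite_map H _
  have hinv : ∀ K : Subgroup X, (K.map e.toMonoidHom).map e.symm.toMonoidHom = K := fun K => by
    ext x; simp
  have hinv' : ∀ K : Subgroup Y, (K.map e.symm.toMonoidHom).map e.toMonoidHom = K := fun K => by
    ext x; simp
  apply le_antisymm
  · have h : (pCoreOf p (H.map e.toMonoidHom)).map e.symm.toMonoidHom ≤ pCoreOf p H := by
      refine le_pCoreOf ?_ ((isPGroup_pCoreOf _).map _) ?_
      · rw [← hinv H]; simp only [hinv]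
        exact (Subgroup.map_mono (pCoreOf_le p _)).trans (hinv H).le
      · have := (Subgroup.map_mono (f := e.symm.toMonoidHom)
          (le_normalizer_pCoreOf p (H.map e.toMonoidHom))).trans (Subgroup.le_normalizer_map _)
        rwa [hinv] at this
    calc pCoreOf p (H.map e.toMonoidHom)
        = ((pCoreOf p (H.map e.toMonoidHom)).map e.symm.toMonoidHom).map e.toMonoidHom :=
          (hinv' _).symm
      _ ≤ _ := Subgroup.map_mono h
  · refine le_pCoreOf (Subgroup.map_mono (pCoreOf_le p H)) ((isPGroup_pCoreOf H).map _) ?_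
    exact (Subgroup.map_mono (le_normalizer_pCoreOf p H)).trans (Subgroup.le_normalizer_map _)

/-- `H` has characteristic `p`, read inside the ambient group. -/
theorem charP_iff_ambient (H : Subgroup X) :
    Subgroup.centralizer (pCore p H : Set H) ≤ pCore p H ↔
      H ⊓ Subgroup.centralizer (pCoreOf p H : Set X) ≤ pCoreOf p H := by
  constructor
  · rintro h x ⟨hxH, hxC⟩
    refine ⟨⟨x, hxH⟩, h ?_, rfl⟩
    rw [Subgroup.mem_centralizer_iff]
    intro y hy
    exact Subtype.ext (Subgroup.mem_centralizer_iff.1 hxC y ⟨y, hy, rfl⟩)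
  · intro h x hx
    have h1 : (x : X) ∈ H ⊓ Subgroup.centralizer (pCoreOf p H : Set X) := by
      refine ⟨x.2, Subgroup.mem_centralizer_iff.2 ?_⟩
      rintro _ ⟨y, hy, rfl⟩
      exact congrArg Subtype.val (Subgroup.mem_centralizer_iff.1 hx y hy)
    obtain ⟨y, hy, hyx⟩ := h h1
    rwa [Subtype.ext hyx] at hy

theorem charP_map_equiv {Y : Type*} [Group Y] [Fact p.Prime] (H : Subgroup X) [Finite H]
    (e : X ≃* Y) (h : H ⊓ Subgroup.centralizer (pCoreOf p H : Set X) ≤ pCoreOf p H) :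
    H.map e.toMonoidHom ⊓ Subgroup.centralizer (pCoreOf p (H.map e.toMonoidHom) : Set Y) ≤
      pCoreOf p (H.map e.toMonoidHom) := by
  rw [pCoreOf_map_equiv H e]
  rintro y ⟨⟨x, hx, rfl⟩, hy⟩
  refine ⟨x, h ⟨hx, Subgroup.mem_centralizer_iff.2 ?_⟩, rfl⟩
  intro z hz
  have := Subgroup.mem_centralizer_iff.1 hy (e z) ⟨z, hz, rfl⟩
  exact e.injective (by simpa using this)

/-! ### O^{p'}(H) -/

theorem pElementClosure_le (p : ℕ) (H : Subgroup X) : pElementClosure p H ≤ H :=
  (Subgroup.closure_le H).2 fun _ hx => hx.1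

theorem le_pElementClosure {Q H : Subgroup X} [Fact p.Prime] (hQH : Q ≤ H) (hQ : IsPGroup p Q) :
    Q ≤ pElementClosure p H := by
  intro x hx
  refine Subgroup.subset_closure ⟨hQH hx, ?_⟩
  obtain ⟨k, hk⟩ := (IsPGroup.iff_orderOf.1 hQ) ⟨x, hx⟩
  exact ⟨k, by rw [← hk, Subgroup.orderOf_mk]⟩

theorem pElementClosure_map_equiv {Y : Type*} [Group Y] (H : Subgroup X) (e : X ≃* Y) :
    pElementClosure p (H.map e.toMonoidHom) = (pElementClosure p H).map e.toMonoidHom := by
  rw [pElementClosure, pElementClosure, MonoidHom.map_closure]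
  congr 1
  ext y
  constructor
  · rintro ⟨⟨x, hx, rfl⟩, k, hk⟩
    exact ⟨x, ⟨hx, k, by rw [← hk]; exact (MulEquiv.orderOf_eq e x).symm⟩, rfl⟩
  · rintro ⟨x, ⟨hx, k, hk⟩, rfl⟩
    exact ⟨⟨x, hx, rfl⟩, k, by rw [← hk]; exact MulEquiv.orderOf_eq e x⟩

theorem le_normalizer_pElementClosure (p : ℕ) (H : Subgroup X) :
    H ≤ Subgroup.normalizer (pElementClosure p H : Set X) := by
  intro h hh
  refine mem_normalizer_of_map_conj_eq ?_
  rw [← pElementClosure_map_equiv H (MulAut.conj h), map_conj_eq_self (Subgroup.le_normalizer hh)]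

/-- Frattini argument: `H = O^{p'}(H) N_H(T)`. -/
theorem exists_mul_normalizer_sylow [Fact p.Prime] {T H : Subgroup X} [Finite H]
    (h : IsSylIn p T H) {g : X} (hg : g ∈ H) :
    ∃ e ∈ pElementClosure p H, ∃ n ∈ H ⊓ Subgroup.normalizer (T : Set X), g = e * n := by
  have hE : pElementClosure p H ≤ H := pElementClosure_le p H
  have hfin : Finite (pElementClosure p H) := finite_of_le hE
  have h' := h.map_conj_mem (Subgroup.le_normalizer hg)
  have hT := h.mono (le_pElementClosure h.1 h.2.1) hE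
  have hT' := h'.mono (le_pElementClosure h'.1 h'.2.1) hE
  obtain ⟨e, he, heq⟩ := hT.conjugate hT'
  refine ⟨e, he, e⁻¹ * g, ⟨H.mul_mem (H.inv_mem (hE he)) hg, ?_⟩, by group⟩
  refine mem_normalizer_of_map_conj_eq ?_
  rw [map_conj_mul, ← heq, map_conj_inv_map_conj]

/-! ### Omega one and the centre closure -/

theorem omegaOne_le (p : ℕ) (H : Subgroup X) : omegaOne p H ≤ H :=
  (Subgroup.closure_le H).2 fun _ hx => hx.1

theorem omegaOne_mono {p : ℕ} {H K : Subgroup X} (h : H ≤ K) : omegaOne p H ≤ omegaOne p K :=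
  Subgroup.closure_mono fun _ hx => ⟨h hx.1, hx.2⟩

theorem omegaOne_map_equiv {Y : Type*} [Group Y] (p : ℕ) (H : Subgroup X) (e : X ≃* Y) :
    omegaOne p (H.map e.toMonoidHom) = (omegaOne p H).map e.toMonoidHom := by
  rw [omegaOne, omegaOne, MonoidHom.map_closure]
  congr 1
  ext y
  constructor
  · rintro ⟨⟨x, hx, rfl⟩, hy⟩
    exact ⟨x, ⟨hx, e.injective (by simpa using hy)⟩, rfl⟩
  · rintro ⟨x, ⟨hx, hx'⟩, rfl⟩
    exact ⟨⟨x, hx, rfl⟩, by rw [← map_pow, hx', map_one]⟩

theorem omegaOne_ne_bot [Fact p.Prime] {H : Subgroup X} [Finite H] (hH : IsPGroup p H)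
    (hne : H ≠ ⊥) : omegaOne p H ≠ ⊥ := by
  obtain ⟨n, hn⟩ := IsPGroup.iff_card.1 hH
  have hn0 : n ≠ 0 := by
    rintro rfl
    exact hne (Subgroup.card_eq_one.1 (by simpa using hn))
  obtain ⟨x, hx⟩ := exists_prime_orderOf_dvd_card' (G := H) p (hn ▸ dvd_pow_self p hn0)
  intro hbot
  have hx1 : (x : X) ∈ omegaOne p H :=
    Subgroup.subset_closure ⟨x.2, by rw [← orderOf_dvd_iff_pow_eq_one, Subgroup.orderOf_coe, hx]⟩
  rw [hbot, Subgroup.mem_bot] at hx1
  have : orderOf x = 1 := by rw [orderOf_eq_one_iff]; exact Subtype.ext hx1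
  exact (Fact.out : p.Prime).ne_one (hx.symm.trans this)

/-- `Z(T)` as a subgroup of `X`. -/
abbrev zOf (T : Subgroup X) : Subgroup X := T ⊓ Subgroup.centralizer (T : Set X)

theorem zOf_map_conj (T : Subgroup X) (g : X) :
    zOf (T.map (MulAut.conj g).toMonoidHom) = (zOf T).map (MulAut.conj g).toMonoidHom := by
  rw [zOf, zOf, Subgroup.map_inf _ _ _ (MulAut.conj g).injective, map_centralizer_conj]

theorem sylowCenterClosure_eq (p : ℕ) (H : Subgroup X) :
    sylowCenterClosure p H = ⨆ (T : Subgroup X) (_ : IsSylIn p T H), omegaOne p (zOf T) := by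
  apply le_antisymm
  · exact iSup_le fun S => le_iSup₂_of_le _ (isSylIn_of_sylow S) le_rfl
  · refine iSup₂_le fun T hT => ?_
    obtain ⟨S, hS⟩ := hT.exists_sylow
    exact le_iSup_of_le S (by rw [hS])

theorem omegaOne_zOf_le_sylowCenterClosure {T H : Subgroup X} (h : IsSylIn p T H) :
    omegaOne p (zOf T) ≤ sylowCenterClosure p H := by
  rw [sylowCenterClosure_eq]
  exact le_iSup₂_of_le T h le_rfl

theorem sylowCenterClosure_map_conj (p : ℕ) (H : Subgroup X) (g : X) :
    sylowCenterClosure p (H.map (MulAut.conj g).toMonoidHom) =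
      (sylowCenterClosure p H).map (MulAut.conj g).toMonoidHom := by
  have aux : ∀ (K : Subgroup X) (k : X), (sylowCenterClosure p K).map (MulAut.conj k).toMonoidHom ≤
      sylowCenterClosure p (K.map (MulAut.conj k).toMonoidHom) := by
    intro K k
    rw [sylowCenterClosure_eq, Subgroup.map_iSup]
    refine iSup_le fun T => ?_
    rw [Subgroup.map_iSup]
    refine iSup_le fun hT => ?_
    rw [← omegaOne_map_equiv, ← zOf_map_conj]
    exact omegaOne_zOf_le_sylowCenterClosure (hT.map_conj k)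
  refine le_antisymm ?_ (aux H g)
  have h2 := aux (H.map (MulAut.conj g).toMonoidHom) g⁻¹
  rw [map_conj_inv_map_conj] at h2
  have h3 := Subgroup.map_mono (f := (MulAut.conj g).toMonoidHom) h2
  rwa [← map_conj_mul, mul_inv_cancel, map_conj_one] at h3

theorem le_normalizer_sylowCenterClosure (p : ℕ) (H : Subgroup X) :
    H ≤ Subgroup.normalizer (sylowCenterClosure p H : Set X) := by
  intro h hh
  refine mem_normalizer_of_map_conj_eq ?_
  rw [← sylowCenterClosure_map_conj, map_conj_eq_self (Subgroup.le_normalizer hh)]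

theorem sylowCenterClosure_le (p : ℕ) (H : Subgroup X) : sylowCenterClosure p H ≤ H := by
  rw [sylowCenterClosure_eq]
  exact iSup₂_le fun T hT => ((omegaOne_le p _).trans inf_le_left).trans hT.1

/-- In a finite group of characteristic `p`, the centre closure lies in `O_p`. -/
theorem sylowCenterClosure_le_pCoreOf [Fact p.Prime] (H : Subgroup X) [Finite H]
    (h : H ⊓ Subgroup.centralizer (pCoreOf p H : Set X) ≤ pCoreOf p H) :
    sylowCenterClosure p H ≤ pCoreOf p H := by
  rw [sylowCenterClosure_eq]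
  refine iSup₂_le fun T hT => (omegaOne_le p _).trans fun x hx => h ⟨hT.1 hx.1, ?_⟩
  exact Subgroup.centralizer_le (pCoreOf_le_isSylIn hT) hx.2

end CfsgLib.LocalEven
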