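import Mathlib
import Cfsg.Prelude.Def_Solvable
import Cfsg.Prelude.Def_CaseTheorems
import Cfsg.Prelude.Def_Amalgam

/-!
# Groups of characteristic `p`

Elementary lemmas: Thompson's `A × B` lemma, and inheritance of the condition
`C(O_p(G)) ≤ O_p(G)`.
-/

namespace CfsgLib.LocalEvenCharP

variable {G : Type*} [Group G] {p : ℕ} [Fact p.Prime]

theorem isPGroup_pCore (p : ℕ) (G : Type*) [Group G] [Finite G] : IsPGroup p (Cfsg.pCore p G) := by
  have key : ∀ s : Set (Subgroup G), s.Finite →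
      (∀ N ∈ s, N.Normal ∧ IsPGroup p N) → IsPGroup p ↥(sSup s) := by
    intro s hs
    induction s, hs using Set.Finite.induction_on with
    | empty => intro _; rw [sSup_empty]; exact IsPGroup.of_bot
    | insert _ _ ih =>
      intro h
      rw [sSup_insert]
      have h1 := h _ (Set.mem_insert _ _)
      haveI := h1.1
      exact h1.2.to_sup_of_normal_left (ih fun N hN => h N (Set.mem_insert_of_mem _ hN))
  exact key _ (Set.toFinite _) fun N hN => hN

theorem le_pCore {N : Subgroup G} (hn : N.Normal) (hp : IsPGroup p N) : N ≤ Cfsg.pCore p G :=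
  le_sSup ⟨hn, hp⟩

/-- `x` has order prime to `p`. -/
theorem eq_one_of_coprime_of_mem [Finite G] {R : Subgroup G} (hR : IsPGroup p R) {x : G}
    (hx : x ∈ R) (hc : (orderOf x).Coprime p) : x = 1 := by
  obtain ⟨k, hk⟩ := hR ⟨x, hx⟩
  have h : x ^ p ^ k = 1 := by simpa using congrArg Subtype.val hk
  have hd : orderOf x ∣ p ^ k := orderOf_dvd_of_pow_eq_one h
  exact orderOf_eq_one_iff.1 (Nat.eq_one_of_dvd_coprimes (hc.pow_right k) dvd_rfl hd)

/-- A subgroup of a finite group without nontrivial elements of order prime to `p` is a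
`p`-group. -/
theorem isPGroup_of_forall_coprime [Finite G] {R : Subgroup G}
    (h : ∀ x ∈ R, (orderOf x).Coprime p → x = 1) : IsPGroup p R := by
  intro x
  have hp : p.Prime := Fact.out
  obtain ⟨k, m, hm, hkm⟩ :=
    Nat.exists_eq_pow_mul_and_not_dvd (n := orderOf (x : G)) (orderOf_pos _).ne' p hp.ne_one
  refine ⟨k, Subtype.ext ?_⟩
  have ho : orderOf ((x : G) ^ p ^ k) = m := by
    rw [orderOf_pow' _ (pow_ne_zero _ hp.ne_zero), hkm,
      Nat.gcd_mul_right_left, Nat.mul_div_cancel_left _ (pow_pos hp.pos k)]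
  have := h _ (pow_mem x.2 _) (by rw [ho]; exact (hp.coprime_iff_not_dvd.2 hm).symm)
  simpa using this

/-- Normalizers grow in `p`-groups. -/
theorem exists_mem_normalizer_not_mem [Finite G] {P T : Subgroup G} (hT : IsPGroup p T)
    (hPT : P ≤ T) (hne : P ≠ T) :
    ∃ y ∈ T, y ∉ P ∧ y ∈ Subgroup.normalizer (P : Set G) := by
  haveI : Group.IsNilpotent T := hT.isNilpotent
  have hlt : P.subgroupOf T < ⊤ := by
    rw [lt_top_iff_ne_top, Ne, Subgroup.subgroupOf_eq_top]
    exact fun h => hne (le_antisymm hPT h)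
  obtain ⟨y, hy, hy'⟩ := SetLike.exists_of_lt
    (Group.normalizerCondition_of_isNilpotent (G := T) _ hlt)
  refine ⟨y, y.2, hy', ?_⟩
  rw [Subgroup.mem_normalizer_iff]
  intro k
  constructor
  · intro hk
    exact ((Subgroup.mem_normalizer_iff.1 hy) ⟨k, hPT hk⟩).1 hk
  · intro hk
    have hkT : k ∈ T := by
      have := mul_mem (mul_mem (inv_mem y.2) (hPT hk)) y.2
      simpa [mul_assoc] using this
    exact ((Subgroup.mem_normalizer_iff.1 hy) ⟨k, hkT⟩).2 hk

/-- If `c x c⁻¹ = y x` with `y` in a `p`-group and fixed by the `p'`-element `c`, then `y = 1`. -/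
theorem eq_one_of_conj_eq [Finite G] {R : Subgroup G} (hR : IsPGroup p R) {c x y : G}
    (hc : (orderOf c).Coprime p) (hy : y ∈ R) (hcy : c * y = y * c)
    (h : c * x * c⁻¹ = y * x) : y = 1 := by
  have hn : ∀ n : ℕ, c ^ n * x * (c ^ n)⁻¹ = y ^ n * x := by
    intro n
    induction n with
    | zero => simp
    | succ n ih =>
      calc c ^ (n + 1) * x * (c ^ (n + 1))⁻¹ = c * (c ^ n * x * (c ^ n)⁻¹) * c⁻¹ := by
              rw [pow_succ']; group
        _ = (c * y ^ n) * x * c⁻¹ := by rw [ih]; group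
        _ = y ^ n * (c * x * c⁻¹) := by
              have : c * y ^ n = y ^ n * c := (Commute.pow_right hcy n).eq
              rw [this]; group
        _ = y ^ (n + 1) * x := by rw [h, pow_succ]; group
  have h1 : y ^ orderOf c = 1 := by simpa using (hn (orderOf c)).symm
  have h2 : (orderOf y).Coprime p := hc.coprime_dvd_left (orderOf_dvd_of_pow_eq_one h1)
  exact eq_one_of_coprime_of_mem hR hy h2

/-- Thompson's `A × B` lemma, for a single `p'`-element `c`. -/
theorem commute_of_fixes_centralizer [Finite G] {P A : Subgroup G} (hP : IsPGroup p P)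
    (hA : IsPGroup p A) (hAP : A ≤ Subgroup.normalizer (P : Set G)) {c : G}
    (hc : (orderOf c).Coprime p) (hcP : c ∈ Subgroup.normalizer (P : Set G))
    (hcA : ∀ a ∈ A, c * a = a * c)
    (hfix : ∀ x ∈ P, (∀ a ∈ A, a * x = x * a) → c * x = x * c) :
    ∀ x ∈ P, c * x = x * c := by
  set D : Subgroup G := P ⊓ Subgroup.centralizer ({c} : Set G) with hD
  have hDc : ∀ d ∈ D, c * d = d * c := fun d hd =>
    (Subgroup.mem_centralizer_singleton_iff.1 hd.2).symm
  have hDmem : ∀ d ∈ P, c * d = d * c → d ∈ D := fun d hd hcd =>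
    ⟨hd, Subgroup.mem_centralizer_singleton_iff.2 hcd.symm⟩
  have hconjA : ∀ a ∈ A, ∀ d ∈ D, a * d * a⁻¹ ∈ D := by
    intro a ha d hd
    refine hDmem _ ((Subgroup.mem_normalizer_iff.1 (hAP ha) d).1 hd.1) ?_
    have h1 : Commute c a := hcA a ha
    exact ((h1.mul_right (hDc d hd)).mul_right h1.inv_right).eq
  have hAD : A ≤ Subgroup.normalizer (D : Set G) := by
    intro a ha
    rw [Subgroup.mem_normalizer_iff]
    intro d
    refine ⟨hconjA a ha d, fun h => ?_⟩
    have h' := hconjA a⁻¹ (inv_mem ha) _ h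
    simpa [mul_assoc] using h'
  suffices hPD : P ≤ D from fun x hx => hDc x (hPD hx)
  by_contra hne
  set H : Subgroup G := A ⊔ P with hH
  have hHp : IsPGroup p H := hA.to_sup_of_normal_right' hP hAP
  haveI : Group.IsNilpotent H := hHp.isNilpotent
  set K : Subgroup G := A ⊔ D with hK
  have hKH : K ≤ H := sup_le le_sup_left (inf_le_left.trans le_sup_right)
  have hinf : K ⊓ P ≤ D := by
    rintro x ⟨hxK, hxP⟩
    have h : x ∈ ((A ⊔ D : Subgroup G) : Set G) := hxK
    rw [Subgroup.coe_mul_of_left_le_normalizer_right A D hAD] at h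
    obtain ⟨a, ha, d, hd, rfl⟩ := h
    have haP : a ∈ P := by
      have := P.mul_mem hxP (P.inv_mem hd.1)
      simpa [mul_assoc] using this
    exact mul_mem (hDmem a haP (hcA a ha)) hd
  have hlt : K < H := by
    refine lt_of_le_of_ne hKH fun heq => hne fun x hx => ?_
    exact hinf ⟨heq ▸ (le_sup_right : P ≤ H) hx, hx⟩
  have hlt' : K.subgroupOf H < ⊤ := by
    rw [lt_top_iff_ne_top, Ne, Subgroup.subgroupOf_eq_top]
    exact fun h => hlt.not_ge h
  obtain ⟨y, hy, hy'⟩ :=
    SetLike.exists_of_lt (Group.normalizerCondition_of_isNilpotent (G := H) _ hlt')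
  have hyK : (y : G) ∈ Subgroup.normalizer (K : Set G) := by
    rw [Subgroup.mem_normalizer_iff]
    intro k
    constructor
    · intro hk
      exact ((Subgroup.mem_normalizer_iff.1 hy) ⟨k, hKH hk⟩).1 hk
    · intro hk
      have hkH : (y : G) * k * (y : G)⁻¹ ∈ H := hKH hk
      have hk' : k ∈ H := by
        have := mul_mem (mul_mem (inv_mem y.2) hkH) y.2
        simpa [mul_assoc] using this
      exact ((Subgroup.mem_normalizer_iff.1 hy) ⟨k, hk'⟩).2 hk
  obtain ⟨a₀, ha₀, x, hx, hax⟩ : ∃ a ∈ A, ∃ x ∈ P, a * x = (y : G) := by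
    have h : (y : G) ∈ ((A ⊔ P : Subgroup G) : Set G) := y.2
    rw [Subgroup.coe_mul_of_left_le_normalizer_right A P hAP] at h
    exact h
  have hxK : x ∈ Subgroup.normalizer (K : Set G) := by
    have h : x = a₀⁻¹ * (y : G) := by rw [← hax]; group
    rw [h]
    exact mul_mem (inv_mem (Subgroup.le_normalizer (le_sup_left (b := D) ha₀))) hyK
  have hxD : x ∉ D := by
    intro h
    refine hy' ?_
    rw [Subgroup.mem_subgroupOf, ← hax]
    exact mul_mem (le_sup_left (b := D) ha₀) (le_sup_right (a := A) h)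
  have hxnD : ∀ d ∈ D, x⁻¹ * d * x ∈ D := fun d hd => hinf
    ⟨(Subgroup.mem_normalizer_iff''.1 hxK d).1 (le_sup_right (a := A) hd),
      P.mul_mem (P.mul_mem (P.inv_mem hx) hd.1) hx⟩
  set z := c * x * c⁻¹ * x⁻¹ with hz
  have hzP : z ∈ P := mul_mem ((Subgroup.mem_normalizer_iff.1 hcP x).1 hx) (inv_mem hx)
  have hzD : ∀ d ∈ D, z * d * z⁻¹ = d := by
    intro d hd
    have h1 := hDc _ (hxnD d hd)
    calc z * d * z⁻¹ = c * x * (c⁻¹ * ((x⁻¹ * d * x) * c)) * x⁻¹ * c⁻¹ := by rw [hz]; group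
      _ = (c * d) * c⁻¹ := by rw [← h1]; group
      _ = d := by rw [hDc d hd]; group
  have hzA : ∀ a ∈ A, a * z = z * a := by
    intro a ha
    have hd : a * x * a⁻¹ * x⁻¹ ∈ D := by
      refine hinf ⟨?_, P.mul_mem ((Subgroup.mem_normalizer_iff.1 (hAP ha) x).1 hx) (P.inv_mem hx)⟩
      have h1 : x * a⁻¹ * x⁻¹ ∈ K :=
        (Subgroup.mem_normalizer_iff.1 hxK a⁻¹).1 (le_sup_left (b := D) (inv_mem ha))
      have h2 := mul_mem (le_sup_left (b := D) ha : a ∈ K) h1
      simpa [mul_assoc] using h2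
    obtain ⟨d, hdD, hd'⟩ : ∃ d ∈ D, a * x * a⁻¹ = d * x :=
      ⟨a * x * a⁻¹ * x⁻¹, hd, by group⟩
    have hca : a * c = c * a := (hcA a ha).symm
    have hca' : a * c⁻¹ = c⁻¹ * a := (Commute.inv_right hca).eq
    have hdc : c * d = d * c := hDc d hdD
    have key : a * z * a⁻¹ = z := by
      calc a * z * a⁻¹ = (a * c) * x * (a⁻¹ * (a * c⁻¹)) * (x⁻¹ * a⁻¹) := by rw [hz]; group
        _ = c * (a * x * a⁻¹) * c⁻¹ * (a * x * a⁻¹)⁻¹ := by rw [hca', hca]; group
        _ = (c * d) * x * c⁻¹ * (d * x)⁻¹ := by rw [hd']; group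
        _ = d * z * d⁻¹ := by rw [hdc, hz]; group
        _ = z := by
          have h := hzD d hdD
          rw [mul_inv_eq_iff_eq_mul] at h
          rw [mul_inv_eq_iff_eq_mul, h]
    exact mul_inv_eq_iff_eq_mul.1 key
  have hcz : c * z = z * c := hfix z hzP hzA
  have hz1 : z = 1 := eq_one_of_conj_eq hP hc hzP hcz (x := x) (by rw [hz]; group)
  refine hxD (hDmem x hx ?_)
  rw [hz, mul_inv_eq_one, mul_inv_eq_iff_eq_mul] at hz1
  exact hz1

/-- `C(O_p(G)) ≤ O_p(G)`. -/
abbrev IsCharP (p : ℕ) (G : Type*) [Group G] : Prop :=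
  Subgroup.centralizer (Cfsg.pCore p G : Set G) ≤ Cfsg.pCore p G

theorem IsCharP.eq_one [Finite G] (h : IsCharP p G) {c : G} (hc : (orderOf c).Coprime p)
    (hcent : ∀ x ∈ Cfsg.pCore p G, c * x = x * c) : c = 1 :=
  eq_one_of_coprime_of_mem (isPGroup_pCore p G)
    (h (Subgroup.mem_centralizer_iff.2 fun x hx => (hcent x hx).symm)) hc

theorem isCharP_of_forall [Finite G]
    (h : ∀ c : G, (orderOf c).Coprime p → (∀ x ∈ Cfsg.pCore p G, c * x = x * c) → c = 1) :
    IsCharP p G := by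
  refine le_pCore inferInstance ?_
  exact isPGroup_of_forall_coprime fun x hx hc =>
    h x hc fun y hy => (Subgroup.mem_centralizer_iff.1 hx y hy).symm

section Sub

variable {L D : Subgroup G}

theorem pCoreOf_le (p : ℕ) (L : Subgroup G) : Cfsg.pCoreOf p L ≤ L := Subgroup.map_subtype_le _

theorem isPGroup_pCoreOf [Finite G] (p : ℕ) (L : Subgroup G) :
    IsPGroup p (Cfsg.pCoreOf p L) :=
  (isPGroup_pCore p ↥L).map _

theorem le_normalizer_pCoreOf (p : ℕ) (L : Subgroup G) :
    L ≤ Subgroup.normalizer (Cfsg.pCoreOf p L : Set G) := by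
  intro l hl
  rw [Subgroup.mem_normalizer_iff]
  intro x
  constructor
  · rintro ⟨y, hy, rfl⟩
    exact ⟨⟨l, hl⟩ * y * ⟨l, hl⟩⁻¹, (Cfsg.pCore_normal p ↥L).conj_mem y hy ⟨l, hl⟩, rfl⟩
  · rintro ⟨y, hy, hxy⟩
    refine ⟨⟨l, hl⟩⁻¹ * y * ⟨l, hl⟩⁻¹⁻¹, (Cfsg.pCore_normal p ↥L).conj_mem y hy _, ?_⟩
    have : (y : G) = l * x * l⁻¹ := hxy
    simp [this, mul_assoc]

theorem le_pCoreOf (hDL : D ≤ L) (hn : L ≤ Subgroup.normalizer (D : Set G))
    (hp : IsPGroup p D) : D ≤ Cfsg.pCoreOf p L := by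
  have h1 : D.subgroupOf L ≤ Cfsg.pCore p ↥L :=
    le_pCore ((Subgroup.normal_subgroupOf_iff_le_normalizer hDL).2 hn)
      (hp.of_equiv (Subgroup.subgroupOfEquivOfLe hDL).symm)
  intro x hx
  exact ⟨⟨x, hDL hx⟩, h1 hx, rfl⟩

/-- A criterion for a subgroup to be of characteristic `p`, stated inside the ambient group. -/
theorem isCharP_subgroup [Finite G]
    (h : ∀ c ∈ L, (orderOf c).Coprime p → (∀ x ∈ Cfsg.pCoreOf p L, c * x = x * c) → c = 1) :
    IsCharP p ↥L := by
  refine isCharP_of_forall fun c hc hx => ?_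
  refine Subtype.ext (h c c.2 (by simpa using hc) ?_)
  rintro _ ⟨y, hy, rfl⟩
  exact congrArg Subtype.val (hx y hy)

theorem IsCharP.eq_one_subgroup [Finite G] (h : IsCharP p ↥L) {c : G} (hcL : c ∈ L)
    (hc : (orderOf c).Coprime p) (hcent : ∀ x ∈ Cfsg.pCoreOf p L, c * x = x * c) : c = 1 := by
  have := h.eq_one (c := ⟨c, hcL⟩) (by rwa [Subgroup.orderOf_mk])
    (fun x hx => Subtype.ext (hcent x ⟨x, hx, rfl⟩))
  exact congrArg Subtype.val this

theorem pCoreOf_top (p : ℕ) [Fact p.Prime] [Finite G] :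
    Cfsg.pCoreOf p (⊤ : Subgroup G) = Cfsg.pCore p G := by
  refine le_antisymm (le_pCore ?_ (isPGroup_pCoreOf p _)) ?_
  · exact Subgroup.normalizer_eq_top_iff.1 (top_le_iff.1 (le_normalizer_pCoreOf p ⊤))
  · exact le_pCoreOf le_top (by rw [Subgroup.normalizer_eq_top_iff.2 (Cfsg.pCore_normal p G)])
      (isPGroup_pCore p G)

/-- A subgroup of `K` normalized by `O_p(K)` inherits characteristic `p` from `K`. -/
theorem IsCharP.of_normalized [Finite G] {K : Subgroup G} (h : IsCharP p ↥K) (hLK : L ≤ K)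
    (hn : Cfsg.pCoreOf p K ≤ Subgroup.normalizer (L : Set G)) : IsCharP p ↥L := by
  refine isCharP_subgroup fun c hcL hc hcent => ?_
  set R := Cfsg.pCoreOf p K with hR
  have hD : R ⊓ L ≤ Cfsg.pCoreOf p L := by
    refine le_pCoreOf inf_le_right ?_ ((isPGroup_pCoreOf p K).to_le inf_le_left)
    intro l hl
    rw [Subgroup.mem_normalizer_iff]
    intro x
    exact and_congr ((Subgroup.mem_normalizer_iff.1 (le_normalizer_pCoreOf p K (hLK hl))) x)
      ((Subgroup.mem_normalizer_iff.1 (Subgroup.le_normalizer hl)) x)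
  refine h.eq_one_subgroup (hLK hcL) hc fun x hx => ?_
  have hy1 : c * x * c⁻¹ * x⁻¹ ∈ R :=
    mul_mem ((Subgroup.mem_normalizer_iff.1 (le_normalizer_pCoreOf p K (hLK hcL)) x).1 hx)
      (inv_mem hx)
  have hy2 : c * x * c⁻¹ * x⁻¹ ∈ L := by
    have := mul_mem hcL ((Subgroup.mem_normalizer_iff.1 (hn hx) c⁻¹).1 (inv_mem hcL))
    simpa [mul_assoc] using this
  have hy3 := eq_one_of_conj_eq (isPGroup_pCoreOf p K) hc hy1 (hcent _ (hD ⟨hy1, hy2⟩))
    (x := x) (by group)
  rwa [mul_inv_eq_one, mul_inv_eq_iff_eq_mul] at hy3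

theorem IsCharP.top [Finite G] (h : IsCharP p G) : IsCharP p ↥(⊤ : Subgroup G) := by
  refine isCharP_subgroup fun c _ hc hcent => h.eq_one hc ?_
  rwa [pCoreOf_top] at hcent

theorem IsCharP.of_isSubnormal [Finite G] (h : IsCharP p G) (hL : L.IsSubnormal) :
    IsCharP p ↥L := by
  induction hL with
  | top => exact h.top
  | step H K h_le _ hN ih =>
    exact ih.of_normalized h_le ((pCoreOf_le p K).trans
      ((Subgroup.normal_subgroupOf_iff_le_normalizer h_le).1 hN))

/-- If `Q` is normalized by a Sylow subgroup `T` and `C_T(Q) ≤ Q`, then `C(Q) ≤ Q`. -/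
theorem IsCharP.centralizer_le_of_sylow [Finite G] (h : IsCharP p G) (T : Sylow p G)
    {Q : Subgroup G} (hQT : Q ≤ (T : Subgroup G))
    (hQn : (T : Subgroup G) ≤ Subgroup.normalizer (Q : Set G))
    (hC : (T : Subgroup G) ⊓ Subgroup.centralizer (Q : Set G) ≤ Q) :
    Subgroup.centralizer (Q : Set G) ≤ Q := by
  set C := Subgroup.centralizer (Q : Set G) with hCdef
  have hR : Cfsg.pCore p G ≤ T := by
    have h1 := T.is_maximal' (T.isPGroup'.to_sup_of_normal_right (isPGroup_pCore p G)) le_sup_left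
    exact le_sup_right.trans h1.le
  have hCp : IsPGroup p C := isPGroup_of_forall_coprime fun c hcC hc => by
    have hcQ : ∀ q ∈ Q, c * q = q * c := fun q hq =>
      (Subgroup.mem_centralizer_iff.1 hcC q hq).symm
    refine h.eq_one hc ?_
    refine commute_of_fixes_centralizer (isPGroup_pCore p G) (T.isPGroup'.to_le hQT)
      (by rw [Subgroup.normalizer_eq_top_iff.2 (Cfsg.pCore_normal p G)]; exact le_top) hc
      (by rw [Subgroup.normalizer_eq_top_iff.2 (Cfsg.pCore_normal p G)]; trivial) hcQ ?_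
    intro x hx hxQ
    exact hcQ x (hC ⟨hR hx, Subgroup.mem_centralizer_iff.2 hxQ⟩)
  have hTC : (T : Subgroup G) ≤ Subgroup.normalizer (C : Set G) := by
    refine hQn.trans ?_
    rw [← Subgroup.normal_subgroupOf_iff_le_normalizer (Subgroup.centralizer_le_normalizer _)]
    exact Subgroup.normal_subgroupOf_centralizer_normalizer _
  have hsup : IsPGroup p ↥((T : Subgroup G) ⊔ C) := T.isPGroup'.to_sup_of_normal_right' hCp hTC
  have : (T : Subgroup G) ⊔ C = T := T.is_maximal' hsup le_sup_left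
  intro c hc
  exact hC ⟨this.le (le_sup_right (a := (T : Subgroup G)) hc), hc⟩

/-- `O_p` of a normalized subgroup lies in `O_p` of the bigger subgroup. -/
theorem pCoreOf_le_pCoreOf [Finite G] (hDL : D ≤ L) (hn : L ≤ Subgroup.normalizer (D : Set G)) :
    Cfsg.pCoreOf p D ≤ Cfsg.pCoreOf p L := by
  refine le_pCoreOf ((pCoreOf_le p D).trans hDL) ?_ (isPGroup_pCoreOf p D)
  intro l hl
  rw [Subgroup.mem_normalizer_iff]
  have hmem : ∀ a ∈ L, ∀ z ∈ Cfsg.pCoreOf p D, a * z * a⁻¹ ∈ Cfsg.pCoreOf p D := by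
    intro a ha
    have h1 : (Cfsg.pCoreOf p D).map (MulAut.conj a).toMonoidHom ≤ Cfsg.pCoreOf p D := by
      refine le_pCoreOf ?_ ?_ ((isPGroup_pCoreOf p D).map _)
      · rintro _ ⟨z, hz, rfl⟩
        exact (Subgroup.mem_normalizer_iff.1 (hn ha) z).1 (pCoreOf_le p D hz)
      · intro b hb
        rw [Subgroup.mem_normalizer_iff]
        have hb' : a⁻¹ * b * a ∈ D := (Subgroup.mem_normalizer_iff''.1 (hn ha) b).1 hb
        intro z
        have h2 := Subgroup.mem_normalizer_iff.1 (le_normalizer_pCoreOf p D hb') (a⁻¹ * z * a)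
        have e1 : ∀ y : G, y ∈ (Cfsg.pCoreOf p D).map (MulAut.conj a).toMonoidHom ↔
            a⁻¹ * y * a ∈ Cfsg.pCoreOf p D := fun y => by
          rw [Subgroup.mem_map_equiv]; rfl
        rw [e1, e1, h2]
        simp [mul_assoc]
    exact fun z hz => h1 ⟨z, hz, rfl⟩
  intro z
  refine ⟨hmem l hl z, fun h => ?_⟩
  simpa [mul_assoc] using hmem l⁻¹ (L.inv_mem hl) _ h

/-- Local subgroups of a group of characteristic `p`: if `N` is a subgroup of characteristic `p`
containing the `p`-group `B` and `C(B)`, and `M` contains and normalizes `C(B)` and has `B` in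
its `p`-core or in its centre, then `M` has characteristic `p`. -/
theorem IsCharP.of_centralizer_le [Finite G] {N B M : Subgroup G} (h : IsCharP p ↥N)
    (hB : IsPGroup p B) (hBN : B ≤ N) (hCN : Subgroup.centralizer (B : Set G) ≤ N)
    (hCM : Subgroup.centralizer (B : Set G) ≤ M)
    (hMn : M ≤ Subgroup.normalizer (Subgroup.centralizer (B : Set G) : Set G))
    (hBM : B ≤ Cfsg.pCoreOf p M ∨ M ≤ Subgroup.centralizer (B : Set G)) : IsCharP p ↥M := by
  refine isCharP_subgroup fun c hcM hc hcent => ?_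
  set C := Subgroup.centralizer (B : Set G) with hC
  have hcC : c ∈ C := hBM.elim
    (fun hb => Subgroup.mem_centralizer_iff.2 fun b hb' => (hcent b (hb hb')).symm) (fun hM => hM hcM)
  have hcB : ∀ b ∈ B, c * b = b * c := fun b hb => (Subgroup.mem_centralizer_iff.1 hcC b hb).symm
  set R := Cfsg.pCoreOf p N with hR
  have hE : R ⊓ C ≤ Cfsg.pCoreOf p M := by
    refine le_trans ?_ (pCoreOf_le_pCoreOf hCM hMn)
    refine le_pCoreOf inf_le_right ?_ ((isPGroup_pCoreOf p N).to_le inf_le_left)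
    intro l hl
    rw [Subgroup.mem_normalizer_iff]
    intro x
    exact and_congr ((Subgroup.mem_normalizer_iff.1 (le_normalizer_pCoreOf p N (hCN hl))) x)
      ((Subgroup.mem_normalizer_iff.1 (Subgroup.le_normalizer hl)) x)
  refine h.eq_one_subgroup (hCN hcC) hc ?_
  refine commute_of_fixes_centralizer (isPGroup_pCoreOf p N) hB
    (hBN.trans (le_normalizer_pCoreOf p N)) hc (le_normalizer_pCoreOf p N (hCN hcC)) hcB ?_
  exact fun x hx hxB => hcent x (hE ⟨hx, Subgroup.mem_centralizer_iff.2 hxB⟩)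

end Sub

end CfsgLib.LocalEvenCharP
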