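/-
Recognition of the natural module of SL₂ over a finite field: an irreducible nontrivial module in the
characteristic on which a Sylow subgroup acts quadratically, or which is no larger than the square of the
fixed point space of a Sylow subgroup, is the natural one.
-/
import Mathlib
import Cfsg.Agent.Classical.SLGen

set_option autoImplicit false
set_option linter.unusedSimpArgs false
set_option linter.unreachableTactic false
set_option linter.unusedTactic false
set_option linter.unnecessarySeqFocus false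

namespace CfsgLib.LocalEven.NaturalRecognition

open Matrix
open scoped MatrixGroups

variable {F : Type*} [Field F]

/-- The element `[[1, t], [0, 1]]`. -/
def up (t : F) : SL(2, F) := ⟨!![1, t; 0, 1], by simp [Matrix.det_fin_two]⟩

/-- The element `[[1, 0], [t, 1]]`. -/
def lo (t : F) : SL(2, F) := ⟨!![1, 0; t, 1], by simp [Matrix.det_fin_two]⟩

/-- The element `[[0, t], [-t⁻¹, 0]]`, as a product of transvections. -/
def wel (t : F) : SL(2, F) := up t * lo (-t⁻¹) * up t

theorem val_mul (A B : SL(2, F)) : (A * B).1 = A.1 * B.1 := rfl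

theorem val_one : (1 : SL(2, F)).1 = 1 := rfl

theorem up_coe (t : F) : (up t).1 = !![1, t; 0, 1] := rfl

theorem lo_coe (t : F) : (lo t).1 = !![1, 0; t, 1] := rfl

theorem wel_coe {t : F} (ht : t ≠ 0) : (wel t).1 = !![0, t; -t⁻¹, 0] := by
  simp only [wel, val_mul, up_coe, lo_coe]
  ext i j
  fin_cases i <;> fin_cases j <;> simp [Matrix.mul_apply, Fin.sum_univ_two, ht] <;> field_simp <;> ring

theorem up_add (s t : F) : up (s + t) = up s * up t := by
  apply Subtype.ext
  simp only [val_mul, up_coe]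
  ext i j
  fin_cases i <;> fin_cases j <;> simp [Matrix.mul_apply, Fin.sum_univ_two, add_comm]

theorem up_zero : up (0 : F) = 1 := by
  apply Subtype.ext
  simp [up_coe, Matrix.one_fin_two]

theorem lo_add (s t : F) : lo (s + t) = lo s * lo t := by
  apply Subtype.ext
  simp only [val_mul, lo_coe]
  ext i j
  fin_cases i <;> fin_cases j <;> simp [Matrix.mul_apply, Fin.sum_univ_two, add_comm]

theorem lo_zero : lo (0 : F) = 1 := by
  apply Subtype.ext
  simp [lo_coe, Matrix.one_fin_two]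

theorem up_neg (t : F) : (up t)⁻¹ = up (-t) :=
  inv_eq_of_mul_eq_one_right (by rw [← up_add, add_neg_cancel, up_zero])

theorem lo_neg (t : F) : (lo t)⁻¹ = lo (-t) :=
  inv_eq_of_mul_eq_one_right (by rw [← lo_add, add_neg_cancel, lo_zero])

theorem lo_mul_wel {s t : F} (ht : t ≠ 0) : lo s * wel t = wel t * up (-(t ^ 2 * s)) := by
  apply Subtype.ext
  simp only [val_mul, wel_coe ht, up_coe, lo_coe]
  ext i j
  fin_cases i <;> fin_cases j <;> simp [Matrix.mul_apply, Fin.sum_univ_two] <;> field_simp <;> ring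

theorem up_mul_wel {s t : F} (ht : t ≠ 0) : up s * wel t = wel t * lo (-(s / t ^ 2)) := by
  apply Subtype.ext
  simp only [val_mul, wel_coe ht, up_coe, lo_coe]
  ext i j
  fin_cases i <;> fin_cases j <;> simp [Matrix.mul_apply, Fin.sum_univ_two] <;> field_simp <;> ring

theorem wel_mul_wel_neg {t : F} (ht : t ≠ 0) : wel t * wel (-t) = 1 := by
  apply Subtype.ext
  simp only [val_mul, wel_coe ht, wel_coe (neg_ne_zero.2 ht), val_one]
  ext i j
  fin_cases i <;> fin_cases j <;> simp [Matrix.mul_apply, Fin.sum_univ_two] <;> field_simp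

theorem wel_conj {t : F} (ht : t ≠ 0) : wel 1 * wel (-t) * wel (-1) = wel (-t⁻¹) := by
  apply Subtype.ext
  simp only [val_mul, wel_coe (one_ne_zero (α := F)), wel_coe (neg_ne_zero.2 ht),
    wel_coe (neg_ne_zero.2 (one_ne_zero (α := F))), wel_coe (neg_ne_zero.2 (inv_ne_zero ht))]
  ext i j
  fin_cases i <;> fin_cases j <;> simp [Matrix.mul_apply, Fin.sum_univ_two] <;> field_simp

theorem wel_neg_one_mul {t : F} (ht : t ≠ 0) : wel (-1) * (wel t * wel (-1)) = wel (-t⁻¹) := by
  apply Subtype.ext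
  simp only [val_mul, wel_coe ht,
    wel_coe (neg_ne_zero.2 (one_ne_zero (α := F))), wel_coe (neg_ne_zero.2 (inv_ne_zero ht))]
  ext i j
  fin_cases i <;> fin_cases j <;> simp [Matrix.mul_apply, Fin.sum_univ_two] <;> field_simp

theorem hel_mul {s t : F} (hs : s ≠ 0) (ht : t ≠ 0) :
    (wel s * wel (-1)) * (wel t * wel (-1)) = wel (s * t) * wel (-1) := by
  apply Subtype.ext
  simp only [val_mul, wel_coe hs, wel_coe ht, wel_coe (mul_ne_zero hs ht),
    wel_coe (neg_ne_zero.2 (one_ne_zero (α := F)))]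
  ext i j
  fin_cases i <;> fin_cases j <;> simp [Matrix.mul_apply, Fin.sum_univ_two] <;> field_simp

theorem gen_induction (P : SL(2, F) → Prop) (h1 : P 1) (hmul : ∀ a b, P a → P b → P (a * b))
    (hu : ∀ t, P (up t)) (hl : ∀ t, P (lo t)) (g : SL(2, F)) : P g := by
  let H : Subgroup SL(2, F) :=
    { carrier := {x | P x ∧ P x⁻¹}
      one_mem' := ⟨h1, by rw [inv_one]; exact h1⟩
      mul_mem' := fun {a b} ha hb => ⟨hmul a b ha.1 hb.1, by rw [_root_.mul_inv_rev]; exact hmul _ _ hb.2 ha.2⟩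
      inv_mem' := fun {a} ha => ⟨ha.2, by rw [inv_inv]; exact ha.1⟩ }
  have hH : H = ⊤ := by
    refine Cfsg.Agent.Classical.sl_subgroup_eq_top_of_transvection_mem H fun i j hij c => ?_
    have hu' : up c ∈ H := ⟨hu c, by rw [up_neg]; exact hu _⟩
    have hl' : lo c ∈ H := ⟨hl c, by rw [lo_neg]; exact hl _⟩
    fin_cases i <;> fin_cases j
    · exact absurd rfl hij
    · convert hu' using 1
      apply Subtype.ext
      rw [SpecialLinearGroup.transvection_coe, up_coe]
      ext a b
      fin_cases a <;> fin_cases b <;> simp [Matrix.one_apply, Matrix.single_apply]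
    · convert hl' using 1
      apply Subtype.ext
      rw [SpecialLinearGroup.transvection_coe, lo_coe]
      ext a b
      fin_cases a <;> fin_cases b <;> simp [Matrix.one_apply, Matrix.single_apply]
    · exact absurd rfl hij
  exact (hH ▸ Subgroup.mem_top g : g ∈ H).1

section Module

variable {M : Type*} [AddCommGroup M] [DistribMulAction SL(2, F) M]

/-- The fixed points of the upper unitriangular group. -/
def fixUp (F M : Type*) [Field F] [AddCommGroup M] [DistribMulAction SL(2, F) M] : AddSubgroup M where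
  carrier := {m | ∀ t : F, up t • m = m}
  zero_mem' _ := smul_zero _
  add_mem' {a b} ha hb t := by rw [smul_add, ha t, hb t]
  neg_mem' {a} ha t := by rw [smul_neg, ha t]

/-- The fixed points of the lower unitriangular group. -/
def fixLo (F M : Type*) [Field F] [AddCommGroup M] [DistribMulAction SL(2, F) M] : AddSubgroup M where
  carrier := {m | ∀ t : F, lo t • m = m}
  zero_mem' _ := smul_zero _
  add_mem' {a b} ha hb t := by rw [smul_add, ha t, hb t]
  neg_mem' {a} ha t := by rw [smul_neg, ha t]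

/-- The elements of `fixLo` that `up` moves into `fixUp`. -/
def fixLoQuad (F M : Type*) [Field F] [AddCommGroup M] [DistribMulAction SL(2, F) M] : AddSubgroup M where
  carrier := {m | m ∈ fixLo F M ∧ ∀ t : F, up t • m - m ∈ fixUp F M}
  zero_mem' := ⟨zero_mem _, fun t => by rw [smul_zero, sub_self]; exact zero_mem _⟩
  add_mem' {a b} ha hb := ⟨add_mem ha.1 hb.1, fun t => by
    rw [smul_add, show up t • a + up t • b - (a + b) = (up t • a - a) + (up t • b - b) by abel]
    exact add_mem (ha.2 t) (hb.2 t)⟩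
  neg_mem' {a} ha := ⟨neg_mem ha.1, fun t => by
    rw [smul_neg, show -(up t • a) - -a = -(up t • a - a) by abel]
    exact neg_mem (ha.2 t)⟩

/-- The elements of `fixUp` that `lo` moves into `fixLo`. -/
def fixUpQuad (F M : Type*) [Field F] [AddCommGroup M] [DistribMulAction SL(2, F) M] : AddSubgroup M where
  carrier := {m | m ∈ fixUp F M ∧ ∀ t : F, lo t • m - m ∈ fixLo F M}
  zero_mem' := ⟨zero_mem _, fun t => by rw [smul_zero, sub_self]; exact zero_mem _⟩
  add_mem' {a b} ha hb := ⟨add_mem ha.1 hb.1, fun t => by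
    rw [smul_add, show lo t • a + lo t • b - (a + b) = (lo t • a - a) + (lo t • b - b) by abel]
    exact add_mem (ha.2 t) (hb.2 t)⟩
  neg_mem' {a} ha := ⟨neg_mem ha.1, fun t => by
    rw [smul_neg, show -(lo t • a) - -a = -(lo t • a - a) by abel]
    exact neg_mem (ha.2 t)⟩

theorem wel_smul_mem_fixLo {t : F} (ht : t ≠ 0) {m : M} (hm : m ∈ fixUp F M) :
    wel t • m ∈ fixLo F M := fun s => by
  rw [← mul_smul, lo_mul_wel ht, mul_smul, hm]

theorem wel_smul_mem_fixUp {t : F} (ht : t ≠ 0) {m : M} (hm : m ∈ fixLo F M) :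
    wel t • m ∈ fixUp F M := fun s => by
  rw [← mul_smul, up_mul_wel ht, mul_smul, hm]

theorem wel_smul_mem_fixUpQuad {t : F} (ht : t ≠ 0) {m : M} (hm : m ∈ fixLoQuad F M) :
    wel t • m ∈ fixUpQuad F M := ⟨wel_smul_mem_fixUp ht hm.1, fun s => by
  rw [← mul_smul, lo_mul_wel ht, mul_smul, ← smul_sub]
  exact wel_smul_mem_fixLo ht (hm.2 _)⟩

theorem wel_smul_mem_fixLoQuad {t : F} (ht : t ≠ 0) {m : M} (hm : m ∈ fixUpQuad F M) :
    wel t • m ∈ fixLoQuad F M := ⟨wel_smul_mem_fixLo ht hm.1, fun s => by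
  rw [← mul_smul, up_mul_wel ht, mul_smul, ← smul_sub]
  exact wel_smul_mem_fixUp ht (hm.2 _)⟩

theorem eq_of_wel_smul {t : F} (ht : t ≠ 0) (m : M) : wel t • wel (-t) • m = m := by
  rw [← mul_smul, wel_mul_wel_neg ht, one_smul]

theorem forall_smul_mem {W : AddSubgroup M} (hu : ∀ (t : F), ∀ m ∈ W, up t • m ∈ W)
    (hl : ∀ (t : F), ∀ m ∈ W, lo t • m ∈ W) (g : SL(2, F)) : ∀ m ∈ W, g • m ∈ W := by
  refine gen_induction (fun g => ∀ m ∈ W, g • m ∈ W) ?_ ?_ hu hl g
  · intro m hm; rwa [one_smul]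
  · intro a b ha hb m hm
    rw [mul_smul]
    exact ha _ (hb _ hm)

/-- In an irreducible nontrivial module nothing but zero is fixed by both unitriangular groups. -/
theorem fixUp_inf_fixLo (hirr : ∀ W : AddSubgroup M, (∀ g : SL(2, F), ∀ m ∈ W, g • m ∈ W) → W = ⊥ ∨ W = ⊤)
    (hnt : ∃ (g : SL(2, F)) (m : M), g • m ≠ m) {m : M} (hu : m ∈ fixUp F M) (hl : m ∈ fixLo F M) :
    m = 0 := by
  rcases hirr (fixUp F M ⊓ fixLo F M)
      (forall_smul_mem (fun t x hx => by rw [hx.1 t]; exact hx) (fun t x hx => by rw [hx.2 t]; exact hx))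
    with h | h
  · have : m ∈ fixUp F M ⊓ fixLo F M := ⟨hu, hl⟩
    rw [h] at this
    exact this
  · obtain ⟨g, x, hgx⟩ := hnt
    refine absurd ?_ hgx
    have hfix : ∀ y : M, y ∈ fixUp F M ⊓ fixLo F M := fun y => h ▸ AddSubgroup.mem_top y
    exact gen_induction (fun g => g • x = x) (one_smul _ _)
      (fun a b ha hb => by rw [mul_smul, hb, ha]) (fun t => (hfix x).1 t) (fun t => (hfix x).2 t) g

/-- The basic relation: on `fixLoQuad` a transvection differs from the identity by a Weyl element. -/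
theorem up_smul_eq (hirr : ∀ W : AddSubgroup M, (∀ g : SL(2, F), ∀ m ∈ W, g • m ∈ W) → W = ⊥ ∨ W = ⊤)
    (hnt : ∃ (g : SL(2, F)) (m : M), g • m ≠ m) {t : F} (ht : t ≠ 0) {m : M} (hm : m ∈ fixLoQuad F M) :
    up t • m = m + wel t • m := by
  obtain ⟨b, hb, hbm⟩ : ∃ b ∈ fixUp F M, up t • m = m + b := ⟨_, hm.2 t, by abel⟩
  have hx := wel_smul_mem_fixUpQuad ht hm
  obtain ⟨x, hxdef⟩ : ∃ x, wel t • m = x := ⟨_, rfl⟩
  rw [hxdef] at hx ⊢
  suffices b = x by rw [hbm, this]
  have h1 : x = up t • (m + lo (-t⁻¹) • b) := by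
    rw [← hxdef, wel, mul_smul, mul_smul, hbm, smul_add (lo (-t⁻¹)), hm.1]
  have h2 : x = m + lo (-t⁻¹) • b := by
    conv_lhs => rw [← hx.1 (-t), h1, ← mul_smul, ← up_add, neg_add_cancel, up_zero, one_smul]
  have h3 : b = lo t⁻¹ • x - m := by
    rw [h2, smul_add, hm.1, ← mul_smul, ← lo_add, add_neg_cancel, lo_zero, one_smul, add_sub_cancel_left]
  have h4 : b - x ∈ fixLo F M := by
    rw [h3, show lo t⁻¹ • x - m - x = (lo t⁻¹ • x - x) - m by abel]
    exact sub_mem (hx.2 _) hm.1
  exact sub_eq_zero.1 (fixUp_inf_fixLo hirr hnt (sub_mem hb hx.1) h4)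

theorem lo_smul_eq (hirr : ∀ W : AddSubgroup M, (∀ g : SL(2, F), ∀ m ∈ W, g • m ∈ W) → W = ⊥ ∨ W = ⊤)
    (hnt : ∃ (g : SL(2, F)) (m : M), g • m ≠ m) {t : F} (ht : t ≠ 0) {m : M} (hm : m ∈ fixUpQuad F M) :
    lo t • m = m + wel (-t⁻¹) • m := by
  have h1 : (1 : F) ≠ 0 := one_ne_zero
  have hx := wel_smul_mem_fixLoQuad (neg_ne_zero.2 h1) hm
  calc lo t • m = lo t • wel (1 : F) • wel (-1 : F) • m := by rw [eq_of_wel_smul h1]
    _ = wel (1 : F) • up (-t) • wel (-1 : F) • m := by
        rw [← mul_smul (lo t), lo_mul_wel h1, one_pow, one_mul, mul_smul]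
    _ = m + wel (1 : F) • wel (-t) • wel (-1 : F) • m := by
        rw [up_smul_eq hirr hnt (neg_ne_zero.2 ht) hx, smul_add, eq_of_wel_smul h1]
    _ = m + wel (-t⁻¹) • m := by rw [← mul_smul, ← mul_smul, wel_conj ht]

/-- A nontrivial finite `p`-module has, modulo an invariant subgroup, an element fixed by the unitriangular
group. -/
theorem exists_fixed_mod {p : ℕ} [hp : Fact p.Prime] [CharP F p] [Finite M] (hexp : ∀ m : M, p • m = 0)
    (A : AddSubgroup M) (hA : ∀ t : F, ∀ m ∈ A, up t • m ∈ A) (hne : A ≠ ⊤) :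
    ∃ m : M, m ∉ A ∧ ∀ t : F, up t • m - m ∈ A := by
  let act : Multiplicative F → (M ⧸ A →+ M ⧸ A) := fun t =>
    QuotientAddGroup.map A A (DistribSMul.toAddMonoidHom M (up (Multiplicative.toAdd t)))
      (fun m hm => hA _ m hm)
  have act_mk : ∀ t (m : M), act t (m : M ⧸ A) = QuotientAddGroup.mk (up (Multiplicative.toAdd t) • m) := fun _ _ => rfl
  let inst : MulAction (Multiplicative F) (M ⧸ A) :=
    { smul := fun t x => act t x
      one_smul := fun x => by
        induction x using QuotientAddGroup.induction_on with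
        | H m => show act 1 (m : M ⧸ A) = _; rw [act_mk, toAdd_one, up_zero, one_smul]
      mul_smul := fun s t x => by
        induction x using QuotientAddGroup.induction_on with
        | H m =>
          show act (s * t) (m : M ⧸ A) = act s (act t (m : M ⧸ A))
          rw [act_mk, act_mk, act_mk, toAdd_mul, up_add, mul_smul] }
  have hU : IsPGroup p (Multiplicative F) := fun t => ⟨1, by
    rw [pow_one]
    apply Multiplicative.toAdd.injective
    rw [toAdd_pow, toAdd_one, nsmul_eq_mul, CharP.cast_eq_zero, zero_mul]⟩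
  have hM : IsPGroup p (Multiplicative (M ⧸ A)) := fun x => ⟨1, by
    rw [pow_one]
    apply Multiplicative.toAdd.injective
    rw [toAdd_pow, toAdd_one]
    induction Multiplicative.toAdd x using QuotientAddGroup.induction_on with
    | H m => rw [← QuotientAddGroup.mk_nsmul, hexp, QuotientAddGroup.mk_zero]⟩
  have : Nontrivial (M ⧸ A) := QuotientAddGroup.nontrivial_iff.2 hne
  have hdvd : p ∣ Nat.card (M ⧸ A) := by
    obtain ⟨n, hn, hcard⟩ := hM.nontrivial_iff_card.1 (inferInstance : Nontrivial (Multiplicative (M ⧸ A)))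
    rw [show Nat.card (M ⧸ A) = Nat.card (Multiplicative (M ⧸ A)) from Nat.card_congr Multiplicative.ofAdd, hcard]
    exact dvd_pow_self p hn.ne'
  obtain ⟨x, hx, hx0⟩ := hU.exists_fixed_point_of_prime_dvd_card_of_fixed_point (M ⧸ A) hdvd
    (a := 0) (fun t => map_zero (act t))
  induction x using QuotientAddGroup.induction_on with
  | H m =>
    refine ⟨m, fun hm => hx0 ((QuotientAddGroup.eq_zero_iff m).2 hm).symm, fun t => ?_⟩
    have h := hx (Multiplicative.ofAdd t)
    change act (Multiplicative.ofAdd t) (m : M ⧸ A) = m at h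
    rw [act_mk, toAdd_ofAdd, QuotientAddGroup.eq_iff_sub_mem] at h
    exact h

/-- The recognition theorem. -/
theorem exists_equiv {p : ℕ} [hp : Fact p.Prime] [CharP F p] [Finite M] (hexp : ∀ m : M, p • m = 0)
    (hirr : ∀ W : AddSubgroup M, (∀ g : SL(2, F), ∀ m ∈ W, g • m ∈ W) → W = ⊥ ∨ W = ⊤)
    (hnt : ∃ (g : SL(2, F)) (m : M), g • m ≠ m)
    (hyp : (∀ (s t : F) (m : M), up s • (up t • m - m) = up t • m - m) ∨
      Nat.card M ≤ Nat.card (fixUp F M) ^ 2) :
    ∃ φ : M ≃+ (Fin 2 → F), ∀ (g : SL(2, F)) (m : M), φ (g • m) = g.1.mulVec (φ m) := by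
  have h1 : (1 : F) ≠ 0 := one_ne_zero
  have hm1 : (-1 : F) ≠ 0 := neg_ne_zero.2 h1
  have hMne : (⊥ : AddSubgroup M) ≠ ⊤ := by
    intro h
    obtain ⟨g, m, hgm⟩ := hnt
    have h0 : ∀ x : M, x = 0 := fun x => AddSubgroup.mem_bot.1 (h ▸ AddSubgroup.mem_top x)
    exact hgm ((h0 _).trans (h0 m).symm)
  have hQ : ∀ m ∈ fixLo F M, m ∈ fixLoQuad F M := by
    rcases hyp with hq | hc
    · exact fun m hm => ⟨hm, fun t s => hq s t m⟩
    let e : fixUp F M ≃ fixLo F M :=
      { toFun := fun x => ⟨wel (1 : F) • (x : M), wel_smul_mem_fixLo h1 x.2⟩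
        invFun := fun x => ⟨wel (-1 : F) • (x : M), wel_smul_mem_fixUp hm1 x.2⟩
        left_inv := fun x => Subtype.ext (by
          show wel (-1 : F) • wel (1 : F) • (x : M) = x
          have h := eq_of_wel_smul hm1 (x : M)
          rwa [neg_neg] at h)
        right_inv := fun x => Subtype.ext (eq_of_wel_smul h1 (x : M)) }
    have hinj : Function.Injective
        (fun x : fixUp F M × fixLo F M => (x.1 : M) + x.2) := by
      intro x y hxy
      simp only at hxy
      have h : (x.1 : M) - y.1 = y.2 - x.2 := by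
        rw [sub_eq_sub_iff_add_eq_add, hxy]; abel
      have h0 := fixUp_inf_fixLo hirr hnt (sub_mem x.1.2 y.1.2) (h ▸ sub_mem y.2.2 x.2.2)
      refine Prod.ext (Subtype.ext (sub_eq_zero.1 h0)) (Subtype.ext ?_)
      rw [h0] at h
      exact (sub_eq_zero.1 h.symm).symm
    have hsurj : Function.Surjective (fun x : fixUp F M × fixLo F M => (x.1 : M) + x.2) :=
      (hinj.bijective_of_nat_card_le (by rw [Nat.card_prod, ← Nat.card_congr e, ← sq]; exact hc)).2
    have hne : fixUp F M ≠ ⊤ := by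
      intro h
      obtain ⟨g, m, hgm⟩ := hnt
      have hu : ∀ x : M, x ∈ fixUp F M := fun x => h ▸ AddSubgroup.mem_top x
      have hl : ∀ x : M, x ∈ fixLo F M := fun x => by
        rw [← eq_of_wel_smul h1 x]; exact wel_smul_mem_fixLo h1 (hu _)
      have h0 : ∀ x : M, x = 0 := fun x => fixUp_inf_fixLo hirr ⟨g, m, hgm⟩ (hu x) (hl x)
      exact hgm ((h0 _).trans (h0 m).symm)
    obtain ⟨m, hm, hmt⟩ := exists_fixed_mod hexp (fixUp F M) (fun t x hx => by rw [hx t]; exact hx) hne
    obtain ⟨⟨c, c'⟩, hcc⟩ := hsurj m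
    have hc' : (c' : M) ∈ fixLoQuad F M := ⟨c'.2, fun t => by
      have := hmt t
      rw [← hcc] at this
      simp only [smul_add, c.2 t] at this
      rwa [show (c : M) + up t • (c' : M) - (c + c') = up t • (c' : M) - c' by abel] at this⟩
    have hinv : fixUpQuad F M ⊔ fixLoQuad F M = ⊤ := by
      refine (hirr _ (forall_smul_mem ?_ ?_)).resolve_left ?_
      · intro t x hx
        obtain ⟨a, ha, b, hb, rfl⟩ := AddSubgroup.mem_sup.1 hx
        rw [smul_add, ha.1 t]
        refine add_mem (AddSubgroup.mem_sup_left ha) ?_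
        rcases eq_or_ne t 0 with rfl | ht
        · rw [up_zero, one_smul]; exact AddSubgroup.mem_sup_right hb
        · rw [up_smul_eq hirr hnt ht hb]
          exact add_mem (AddSubgroup.mem_sup_right hb)
            (AddSubgroup.mem_sup_left (wel_smul_mem_fixUpQuad ht hb))
      · intro t x hx
        obtain ⟨a, ha, b, hb, rfl⟩ := AddSubgroup.mem_sup.1 hx
        rw [smul_add, hb.1 t]
        refine add_mem ?_ (AddSubgroup.mem_sup_right hb)
        rcases eq_or_ne t 0 with rfl | ht
        · rw [lo_zero, one_smul]; exact AddSubgroup.mem_sup_left ha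
        · rw [lo_smul_eq hirr hnt ht ha]
          exact add_mem (AddSubgroup.mem_sup_left ha)
            (AddSubgroup.mem_sup_right (wel_smul_mem_fixLoQuad (neg_ne_zero.2 (inv_ne_zero ht)) ha))
      · intro h
        have : (c' : M) ∈ (⊥ : AddSubgroup M) := h ▸ AddSubgroup.mem_sup_right hc'
        rw [AddSubgroup.mem_bot] at this
        refine hm ?_
        rw [← hcc]
        simpa [this] using c.2
    intro x hx
    obtain ⟨a, ha, b, hb, hab⟩ := AddSubgroup.mem_sup.1 (hinv ▸ AddSubgroup.mem_top x)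
    have ha0 : a = 0 := fixUp_inf_fixLo hirr hnt ha.1
      (by rw [eq_sub_of_add_eq hab]; exact sub_mem hx hb.1)
    rw [ha0, zero_add] at hab
    exact hab ▸ hb
  have hQ' : ∀ m ∈ fixUp F M, m ∈ fixUpQuad F M := fun m hm => by
    rw [← eq_of_wel_smul h1 m]
    exact wel_smul_mem_fixUpQuad h1 (hQ _ (wel_smul_mem_fixLo hm1 hm))
  obtain ⟨c0, hc0, hc0fix⟩ : ∃ c : M, c ≠ 0 ∧ c ∈ fixUp F M := by
    obtain ⟨c, hc, hct⟩ := exists_fixed_mod (F := F) hexp ⊥
      (fun t x hx => by rw [AddSubgroup.mem_bot] at hx ⊢; rw [hx, smul_zero]) hMne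
    exact ⟨c, fun h => hc (h ▸ zero_mem _), fun t => sub_eq_zero.1 (AddSubgroup.mem_bot.1 (hct t))⟩
  -- scalars
  obtain ⟨sc, hsc0, hsc⟩ : ∃ sc : F → M → M, (∀ c, sc 0 c = 0) ∧
      ∀ t, t ≠ 0 → ∀ c, sc t c = (wel t * wel (-1)) • c := by
    classical
    exact ⟨fun t c => if t = 0 then 0 else (wel t * wel (-1)) • c, fun c => if_pos rfl,
      fun t ht c => if_neg ht⟩
  have hscmem : ∀ (t : F), ∀ c ∈ fixUp F M, sc t c ∈ fixUp F M := fun t c hc => by
    rcases eq_or_ne t 0 with rfl | ht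
    · rw [hsc0]; exact zero_mem _
    · rw [hsc t ht, mul_smul]; exact wel_smul_mem_fixUp ht (wel_smul_mem_fixLo hm1 hc)
  have hup : ∀ (t : F), ∀ c ∈ fixUp F M, up t • wel (-1 : F) • c = wel (-1 : F) • c + sc t c := fun t c hc => by
    rcases eq_or_ne t 0 with rfl | ht
    · rw [up_zero, one_smul, hsc0, add_zero]
    · rw [up_smul_eq hirr hnt ht (hQ _ (wel_smul_mem_fixLo hm1 hc)), hsc t ht, mul_smul (wel t)]
  have hlo : ∀ (t : F), ∀ c ∈ fixUp F M, lo t • c = c + wel (-1 : F) • sc t c := fun t c hc => by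
    rcases eq_or_ne t 0 with rfl | ht
    · rw [lo_zero, one_smul, hsc0, smul_zero, add_zero]
    · rw [lo_smul_eq hirr hnt ht (hQ' _ hc), hsc t ht, ← mul_smul, wel_neg_one_mul ht]
  have hscmul : ∀ s t : F, sc s (sc t c0) = sc (s * t) c0 := fun s t => by
    rcases eq_or_ne s 0 with rfl | hs
    · rw [zero_mul, hsc0, hsc0]
    rcases eq_or_ne t 0 with rfl | ht
    · rw [mul_zero, hsc0, hsc s hs, smul_zero]
    rw [hsc s hs, hsc t ht, hsc (s * t) (mul_ne_zero hs ht), ← mul_smul, hel_mul hs ht]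
  have hscadd : ∀ s t : F, sc (s + t) c0 = sc s c0 + sc t c0 := fun s t => by
    have h := hup (s + t) c0 hc0fix
    rw [up_add, mul_smul, hup t c0 hc0fix, smul_add, hup s c0 hc0fix,
      hscmem t c0 hc0fix s, add_assoc] at h
    exact (add_left_cancel h).symm
  let k : F →+ M :=
    { toFun := fun a => sc a c0
      map_zero' := hsc0 c0
      map_add' := hscadd }
  have hk : ∀ a, k a ∈ fixUp F M := fun a => hscmem a c0 hc0fix
  have hkinj : ∀ a, k a = 0 → a = 0 := fun a ha => by
    by_contra hne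
    change sc a c0 = 0 at ha
    rw [hsc a hne] at ha
    exact hc0 ((smul_eq_zero_iff_eq _).1 ha)
  let χ : (Fin 2 → F) →+ M :=
    { toFun := fun v => k (v 0) + wel (-1 : F) • k (v 1)
      map_zero' := by simp
      map_add' := fun v w => by
        simp only [Pi.add_apply, map_add, smul_add]; abel }
  have hχ : ∀ a b, χ ![a, b] = k a + wel (-1 : F) • k b := fun a b => rfl
  have hkey : ∀ (g : SL(2, F)) (v : Fin 2 → F), χ (g.1.mulVec v) = g • χ v := by
    refine fun g => gen_induction (fun g => ∀ v, χ (g.1.mulVec v) = g • χ v) (fun v => by simp) ?_ ?_ ?_ g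
    · intro a b ha hb v
      rw [val_mul, ← Matrix.mulVec_mulVec, ha, hb, mul_smul]
    · intro t v
      have hv : (up t).1.mulVec v = ![v 0 + t * v 1, v 1] := by
        ext i; fin_cases i <;> simp [up_coe, Matrix.mulVec, dotProduct, Fin.sum_univ_two]
      rw [hv, hχ]
      show _ = up t • (k (v 0) + wel (-1 : F) • k (v 1))
      rw [smul_add, hk _ t, hup t _ (hk _), map_add]
      show _ = k (v 0) + (wel (-1 : F) • k (v 1) + sc t (sc (v 1) c0))
      rw [hscmul]
      show k (v 0) + k (t * v 1) + wel (-1 : F) • k (v 1) = _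
      show _ = k (v 0) + (wel (-1 : F) • k (v 1) + k (t * v 1))
      abel
    · intro t v
      have hv : (lo t).1.mulVec v = ![v 0, t * v 0 + v 1] := by
        ext i; fin_cases i <;> simp [lo_coe, Matrix.mulVec, dotProduct, Fin.sum_univ_two]
      rw [hv, hχ]
      show _ = lo t • (k (v 0) + wel (-1 : F) • k (v 1))
      rw [smul_add, hlo t _ (hk _), wel_smul_mem_fixLo hm1 (hk _) t, map_add, smul_add]
      show _ = k (v 0) + wel (-1 : F) • sc t (sc (v 0) c0) + wel (-1 : F) • k (v 1)
      rw [hscmul]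
      show _ = k (v 0) + wel (-1 : F) • k (t * v 0) + wel (-1 : F) • k (v 1)
      abel
  have hinj : Function.Injective χ := by
    refine (injective_iff_map_eq_zero χ).2 fun v hv => ?_
    change k (v 0) + wel (-1 : F) • k (v 1) = 0 at hv
    have h0 : k (v 0) = 0 := fixUp_inf_fixLo hirr hnt (hk _)
      (by rw [eq_neg_of_add_eq_zero_left hv]; exact neg_mem (wel_smul_mem_fixLo hm1 (hk _)))
    rw [h0, zero_add, smul_eq_zero_iff_eq] at hv
    ext i
    fin_cases i
    · exact hkinj _ h0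
    · exact hkinj _ hv
  have hsurj : Function.Surjective χ := by
    rcases hirr χ.range (fun g m ⟨v, hv⟩ => ⟨g.1.mulVec v, by rw [hkey, hv]⟩) with h | h
    · have hmem : χ ![1, 0] ∈ χ.range := ⟨_, rfl⟩
      rw [h, AddSubgroup.mem_bot, hχ, map_zero, smul_zero, add_zero] at hmem
      exact absurd (hkinj 1 hmem) h1
    · exact AddMonoidHom.range_eq_top.1 h
  refine ⟨(AddEquiv.ofBijective χ ⟨hinj, hsurj⟩).symm, fun g m => ?_⟩
  apply hinj
  rw [hkey]
  rw [← AddEquiv.ofBijective_apply χ ⟨hinj, hsurj⟩, AddEquiv.apply_symm_apply,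
    ← AddEquiv.ofBijective_apply χ ⟨hinj, hsurj⟩, AddEquiv.apply_symm_apply]

end Module

end CfsgLib.LocalEven.NaturalRecognition
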