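import Mathlib
import Cfsg.Prelude.Def_Solvable
import Cfsg.Prelude.Def_Transfer

/-!
Elementary facts on `pCore`, `pResidual` and on the condition "no nontrivial normal p-subgroup
above `C`" (element form of `O_p(G/C) = 1`), used by the p-reduced subgroup lemmas.
Names are kept in their own namespace `CfsgLib.PRed`.
-/

namespace CfsgLib.PRed

open Subgroup
open scoped commutatorElement

variable {G : Type*} [Group G] {p : ℕ}

/-- Element form of `O_p(G/C) = 1`. -/
def NoPAbove (p : ℕ) (C : Subgroup G) : Prop :=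
  ∀ D : Subgroup G, D.Normal → (∀ x ∈ D, ∃ k : ℕ, x ^ p ^ k ∈ C) → D ≤ C

theorem pow_pow_mem_iff_isPGroup {C D : Subgroup G} [C.Normal] :
    IsPGroup p ↥(D.map (QuotientGroup.mk' C)) ↔ ∀ x ∈ D, ∃ k : ℕ, x ^ p ^ k ∈ C := by
  constructor
  · intro h x hx
    obtain ⟨k, hk⟩ := h.exists_pow_pow_eq_one ⟨_, mem_map_of_mem _ hx⟩
    refine ⟨k, (QuotientGroup.eq_one_iff _).mp ?_⟩
    simpa [Subtype.ext_iff] using hk
  · intro h
    rw [isPGroup_iff_pow_pow_eq_one]
    rintro ⟨y, x, hx, rfl⟩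
    obtain ⟨k, hk⟩ := h x hx
    exact ⟨k, Subtype.ext (by simpa [← QuotientGroup.mk_pow] using hk)⟩

theorem pCore_normal : (Cfsg.pCore p G).Normal :=
  sSup_normal _ (fun _ hN => hN.1)

theorem le_pCore {N : Subgroup G} (hn : N.Normal) (hp : IsPGroup p N) : N ≤ Cfsg.pCore p G :=
  le_sSup ⟨hn, hp⟩

theorem noPAbove_iff {C : Subgroup G} [C.Normal] :
    Cfsg.pCore p (G ⧸ C) = ⊥ ↔ NoPAbove p C := by
  constructor
  · intro h D hD hDp
    have h1 : D.map (QuotientGroup.mk' C) ≤ Cfsg.pCore p (G ⧸ C) :=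
      le_pCore (hD.map _ (QuotientGroup.mk'_surjective C)) (pow_pow_mem_iff_isPGroup.mpr hDp)
    rw [h, le_bot_iff, Subgroup.map_eq_bot_iff, QuotientGroup.ker_mk'] at h1
    exact h1
  · intro h
    refine (sSup_eq_bot.mpr ?_)
    rintro N ⟨hN, hNp⟩
    have h0 := h (N.comap (QuotientGroup.mk' C)) (hN.comap _) (by
      rw [← pow_pow_mem_iff_isPGroup, map_comap_eq_self_of_surjective
        (QuotientGroup.mk'_surjective C)]
      exact hNp)
    rw [eq_bot_iff]
    intro y hy
    obtain ⟨x, rfl⟩ := QuotientGroup.mk'_surjective C y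
    exact Subgroup.mem_bot.mpr ((QuotientGroup.eq_one_iff x).mpr (h0 hy))

theorem pCore_isPGroup : IsPGroup p ↥(Cfsg.pCore p G) :=
  Sylow.sSup_of_normal _ (fun _ hN => hN.2) (fun _ hN => hN.1)

theorem pCore_le_sylow (T : Sylow p G) : Cfsg.pCore p G ≤ (T : Subgroup G) :=
  haveI := pCore_normal (p := p) (G := G)
  IsPGroup.le_sylow_of_normal pCore_isPGroup T

theorem pCore_map_le {G' : Type*} [Group G'] (f : G →* G') (hf : Function.Surjective f) :
    (Cfsg.pCore p G).map f ≤ Cfsg.pCore p G' :=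
  le_pCore ((pCore_normal).map f hf) (pCore_isPGroup.map f)

theorem pCore_characteristic : (Cfsg.pCore p G).Characteristic :=
  characteristic_iff_map_le.mpr fun e => pCore_map_le e.toMonoidHom e.surjective

/-- A normal `p`-subgroup is killed by any `NoPAbove` subgroup. -/
theorem NoPAbove.le_of_isPGroup {C D : Subgroup G} (h : NoPAbove p C) (hD : D.Normal)
    (hp : IsPGroup p D) : D ≤ C :=
  h D hD fun x hx => by
    obtain ⟨k, hk⟩ := hp.exists_pow_pow_eq_one ⟨x, hx⟩
    refine ⟨k, ?_⟩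
    have h1 : x ^ p ^ k = 1 := by simpa [Subtype.ext_iff] using hk
    rw [h1]
    exact C.one_mem

/-- If the order of `x` is prime to `p` and some `x^(p^k)` lies in `N`, then `x ∈ N`. -/
theorem mem_of_pow_pow_mem {N : Subgroup G} {x : G} (hx : (orderOf x).Coprime p) {k : ℕ}
    (h : x ^ p ^ k ∈ N) : x ∈ N := by
  rcases eq_or_ne (orderOf x) 0 with h0 | h0
  · rw [h0, Nat.coprime_zero_left] at hx
    subst hx
    simpa using h
  · obtain ⟨m, hm⟩ := exists_pow_eq_self_of_coprime (hx.symm.pow_left k)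
    rw [← hm]
    exact N.pow_mem h m

theorem mem_pResidual {x : G} (hx : (orderOf x).Coprime p) : x ∈ Cfsg.pResidual p G :=
  subset_closure hx

theorem pResidual_le {N : Subgroup G} (h : ∀ x : G, ∃ k : ℕ, x ^ p ^ k ∈ N) :
    Cfsg.pResidual p G ≤ N :=
  (closure_le N).mpr fun x hx => by
    obtain ⟨k, hk⟩ := h x
    exact mem_of_pow_pow_mem hx hk

theorem pResidual_le_of_isPGroup_quotient {N : Subgroup G} [N.Normal] (h : IsPGroup p (G ⧸ N)) :
    Cfsg.pResidual p G ≤ N :=
  pResidual_le fun x => by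
    obtain ⟨k, hk⟩ := h.exists_pow_pow_eq_one (x : G ⧸ N)
    exact ⟨k, (QuotientGroup.eq_one_iff _).mp (by simpa using hk)⟩

theorem pResidual_map_le {G' : Type*} [Group G'] (f : G →* G') :
    (Cfsg.pResidual p G).map f ≤ Cfsg.pResidual p G' := by
  rw [Cfsg.pResidual, MonoidHom.map_closure, closure_le]
  rintro _ ⟨x, hx, rfl⟩
  exact mem_pResidual (Nat.Coprime.coprime_dvd_left (orderOf_map_dvd f x) hx)

theorem pResidual_characteristic : (Cfsg.pResidual p G).Characteristic :=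
  characteristic_iff_map_le.mpr fun e => pResidual_map_le e.toMonoidHom

theorem pResidual_normal : (Cfsg.pResidual p G).Normal :=
  haveI := pResidual_characteristic (p := p) (G := G)
  inferInstance

theorem exists_pow_pow_mem_pResidual [Finite G] [hp : Fact p.Prime] (x : G) :
    ∃ k : ℕ, x ^ p ^ k ∈ Cfsg.pResidual p G := by
  have h0 : orderOf x ≠ 0 := (orderOf_pos x).ne'
  refine ⟨(orderOf x).factorization p, mem_pResidual ?_⟩
  rw [orderOf_pow_of_dvd (pow_ne_zero _ hp.out.ne_zero) (Nat.ordProj_dvd _ _)]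
  exact (Nat.coprime_ordCompl hp.out h0).symm

theorem isPGroup_quotient_pResidual [Finite G] [Fact p.Prime] [(Cfsg.pResidual p G).Normal] :
    IsPGroup p (G ⧸ Cfsg.pResidual p G) := by
  rw [isPGroup_iff_pow_pow_eq_one]
  intro y
  obtain ⟨x, rfl⟩ := QuotientGroup.mk_surjective y
  obtain ⟨k, hk⟩ := exists_pow_pow_mem_pResidual (p := p) x
  exact ⟨k, by rwa [← QuotientGroup.mk_pow, QuotientGroup.eq_one_iff]⟩

/-- A normal subgroup with `p`-quotient and a Sylow `p`-subgroup generate the group. -/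
theorem sup_sylow_eq_top [Finite G] [hp : Fact p.Prime] (T : Sylow p G) {N : Subgroup G}
    (h : Cfsg.pResidual p G ≤ N) : N ⊔ (T : Subgroup G) = ⊤ := by
  haveI := pResidual_normal (p := p) (G := G)
  obtain ⟨n, hn⟩ := IsPGroup.iff_card.mp (isPGroup_quotient_pResidual (p := p) (G := G))
  have h1 : (N ⊔ (T : Subgroup G)).index ∣ p ^ n := hn ▸ index_dvd_of_le (h.trans le_sup_left)
  have h2 : (N ⊔ (T : Subgroup G)).index ∣ (T : Subgroup G).index := index_dvd_of_le le_sup_right
  obtain ⟨i, -, hi⟩ := (Nat.dvd_prime_pow hp.out).mp h1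
  rw [← index_eq_one]
  rcases Nat.eq_zero_or_pos i with rfl | hi0
  · simpa using hi
  · refine absurd ((dvd_pow_self p hi0.ne').trans ?_) T.not_dvd_index
    rw [← hi]
    exact h2

/-- A subgroup of index prime to `p` in a group whose residual it contains is everything. -/
theorem sylow_sup_pResidual [Finite G] [Fact p.Prime] (T : Sylow p G) :
    (T : Subgroup G) ⊔ Cfsg.pResidual p G = ⊤ := by
  rw [sup_comm]
  exact sup_sylow_eq_top T le_rfl

/-- The subgroup form of the residual. -/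
theorem pResidual_map_subtype_eq (K : Subgroup G) :
    (Cfsg.pResidual p ↥K).map K.subtype =
      Subgroup.closure {g : G | g ∈ K ∧ (orderOf g).Coprime p} := by
  rw [Cfsg.pResidual, MonoidHom.map_closure]
  congr 1
  ext g
  constructor
  · rintro ⟨x, hx, rfl⟩
    exact ⟨x.2, by simpa using hx⟩
  · rintro ⟨hg, hx⟩
    exact ⟨⟨g, hg⟩, by simpa using hx, rfl⟩

theorem pCore_le_sylow_map {L : Subgroup G} (T : Sylow p G) (hTL : (T : Subgroup G) ≤ L) :
    (Cfsg.pCore p ↥L).map L.subtype ≤ (T : Subgroup G) := by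
  have h := pCore_le_sylow (T.subtype hTL)
  rw [Sylow.coe_subtype] at h
  exact (map_mono h).trans (by simp [subgroupOf_map_subtype])

/-- A subnormal `p`-subgroup lies in `O_p`. -/
theorem le_pCore_of_isSubnormal {P : Subgroup G} (hs : P.IsSubnormal) (hp : IsPGroup p P) :
    P ≤ Cfsg.pCore p G := by
  suffices ∀ K : Subgroup G, K.IsSubnormal → P ≤ K → (P.subgroupOf K) ≤ Cfsg.pCore p ↥K →
      P ≤ Cfsg.pCore p G from this P hs le_rfl (le_pCore (by simp) (hp.comap_subtype))
  intro K hK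
  induction hK with
  | top =>
    intro _ h x hx
    have := pCore_map_le (Subgroup.topEquiv : (⊤ : Subgroup G) ≃* G).toMonoidHom
      (MulEquiv.surjective _) ⟨⟨x, trivial⟩, h (x := ⟨x, trivial⟩) hx, rfl⟩
    exact this
  | step H K hle _ hN ih =>
    intro hPH h
    refine ih (hPH.trans hle) ?_
    haveI := pCore_characteristic (p := p) (G := ↥(H.subgroupOf K))
    haveI := hN
    let e := Subgroup.subgroupOfEquivOfLe hle
    intro x hx
    have hxH : (x : G) ∈ H := hPH hx
    have h2 := pCore_map_le e.symm.toMonoidHom e.symm.surjective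
      ⟨⟨x, hxH⟩, h (x := ⟨x, hxH⟩) hx, rfl⟩
    have h3 : ((Cfsg.pCore p ↥(H.subgroupOf K)).map (H.subgroupOf K).subtype) ≤ Cfsg.pCore p ↥K :=
      le_pCore (ConjAct.normal_of_characteristic_of_normal) (pCore_isPGroup.map _)
    refine h3 ⟨_, h2, ?_⟩
    exact Subtype.ext (by simp [e, Subgroup.subgroupOfEquivOfLe])

/-- A `p'`-element centralizing `⁅r, x⁆ ∈ R`, `R` a `p`-group, commutes with `r`. -/
theorem commute_of_coprime [Fact p.Prime] {R : Subgroup G} (hR : IsPGroup p R) {r x : G}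
    (hxp : (orderOf x).Coprime p) (hc : ⁅r, x⁆ ∈ R) (hcx : Commute ⁅r, x⁆ x) : Commute r x := by
  have e0 : r * x * r⁻¹ = ⁅r, x⁆ * x := by group
  have h1 : ⁅r, x⁆ ^ orderOf x = 1 := by
    have e1 : r * x ^ orderOf x * r⁻¹ = ⁅r, x⁆ ^ orderOf x * x ^ orderOf x := by
      rw [← conj_pow, e0, hcx.mul_pow]
    rw [pow_orderOf_eq_one, mul_one, mul_inv_cancel, mul_one] at e1
    exact e1.symm
  obtain ⟨k, hk⟩ := (IsPGroup.iff_orderOf.mp hR) ⟨⁅r, x⁆, hc⟩
  have h2 : orderOf ⁅r, x⁆ = p ^ k := by simpa using hk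
  have h3 : (orderOf ⁅r, x⁆).Coprime (orderOf x) := h2 ▸ hxp.symm.pow_left k
  exact commutatorElement_eq_one_iff_commute.mp
    (orderOf_eq_one_iff.mp (Nat.eq_one_of_dvd_coprimes h3 dvd_rfl (orderOf_dvd_of_pow_eq_one h1)))

theorem eq_one_of_coprime [Fact p.Prime] {R : Subgroup G} (hR : IsPGroup p R) {x : G}
    (hxp : (orderOf x).Coprime p) (hx : x ∈ R) : x = 1 := by
  obtain ⟨k, hk⟩ := (IsPGroup.iff_orderOf.mp hR) ⟨x, hx⟩
  have h2 : orderOf x = p ^ k := by simpa using hk
  exact orderOf_eq_one_iff.mp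
    (Nat.eq_one_of_dvd_coprimes (h2 ▸ hxp.symm.pow_left k : (orderOf x).Coprime (orderOf x))
      dvd_rfl dvd_rfl)

/-- If every `p'`-element of a finite group is trivial, it is a `p`-group. -/
theorem isPGroup_of_coprime [Finite G] [Fact p.Prime] (K : Subgroup G)
    (h : ∀ x ∈ K, (orderOf x).Coprime p → x = 1) : IsPGroup p K := by
  rw [isPGroup_iff_pow_pow_eq_one]
  intro x
  obtain ⟨k, hk⟩ := exists_pow_pow_mem_pResidual (p := p) x
  have hbot : Cfsg.pResidual p ↥K ≤ ⊥ := (closure_le _).mpr fun y hy =>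
    Subgroup.mem_bot.mpr (Subtype.ext (h y y.2 (by simpa using hy)))
  exact ⟨k, Subgroup.mem_bot.mp (hbot hk)⟩

/-- In a finite group one inclusion suffices to normalize. -/
theorem mem_normalizer_of_conj_mem [Finite G] {S : Subgroup G} {g : G}
    (h : ∀ x ∈ S, g * x * g⁻¹ ∈ S) : g ∈ normalizer (S : Set G) := by
  rw [mem_normalizer_iff_map_conj_eq]
  refine SetLike.coe_injective (Set.eq_of_subset_of_ncard_le ?_ ?_ (Set.toFinite _))
  · rintro _ ⟨x, hx, rfl⟩
    exact h x hx
  · exact (Set.ncard_image_of_injective _ (MulAut.conj g).injective).ge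

/-- A product in `D ⊔ C` for `D ≤ N(C)`. -/
theorem exists_mul_of_mem_sup {D C : Subgroup G} (h : D ≤ normalizer (C : Set G)) {x : G}
    (hx : x ∈ D ⊔ C) : ∃ d ∈ D, ∃ c ∈ C, d * c = x := by
  rw [← SetLike.mem_coe, coe_mul_of_left_le_normalizer_right D C h] at hx
  exact Set.mem_mul.mp hx

/-- `(d c)^n ∈ C` when `d^n ∈ C`, `c ∈ C` and `d` normalizes `C`. -/
theorem mul_pow_mem_of_normalizer {C : Subgroup G} {d c : G} (hd : d ∈ normalizer (C : Set G))
    (hc : c ∈ C) {n : ℕ} (h : d ^ n ∈ C) : (d * c) ^ n ∈ C := by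
  haveI : (C.subgroupOf (normalizer (C : Set G))).Normal := normal_in_normalizer
  let d' : normalizer (C : Set G) := ⟨d, hd⟩
  let c' : normalizer (C : Set G) := ⟨c, le_normalizer hc⟩
  have : (d' * c') ^ n ∈ C.subgroupOf (normalizer (C : Set G)) := by
    rw [← QuotientGroup.eq_one_iff, QuotientGroup.mk_pow, QuotientGroup.mk_mul,
      (QuotientGroup.eq_one_iff c').mpr (show c ∈ C from hc), mul_one, ← QuotientGroup.mk_pow,
      QuotientGroup.eq_one_iff]
    exact h
  exact this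

end CfsgLib.PRed
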