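import Mathlib
import Cfsg.Prelude.Def_LocalStructure
import Cfsg.Agent.Lib.LocalEven.PReducedBasic

/-!
p-reduced normal subgroups: existence of the largest one, the closure of a p-reduced normal
subgroup of a parabolic subgroup, and the relative versions inside a subgroup.
-/

namespace CfsgLib.PRed

open Subgroup

variable {G : Type*} [Group G] {p : ℕ}

theorem isPGroup_of_isElemAb {V : Subgroup G} (h : Cfsg.IsElementaryAbelian p V) :
    IsPGroup p ↥V :=
  isPGroup_iff_pow_pow_eq_one.mpr fun x =>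
    ⟨1, Subtype.ext (by simpa using h.2 x x.2)⟩

theorem le_centralizer_self {V : Subgroup G} (h : IsMulCommutative ↥V) :
    V ≤ centralizer (V : Set G) :=
  le_centralizer_iff_isMulCommutative.mpr h

theorem isElemAb_mono {V W : Subgroup G} (h : Cfsg.IsElementaryAbelian p V) (hW : W ≤ V) :
    Cfsg.IsElementaryAbelian p W :=
  ⟨le_centralizer_iff_isMulCommutative.mp
      ((hW.trans (le_centralizer_self h.1)).trans (centralizer_le (SetLike.coe_subset_coe.mpr hW))),
    fun a ha => h.2 a (hW ha)⟩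

theorem isElemAb_closure {s : Set G} (hc : ∀ a ∈ s, ∀ b ∈ s, a * b = b * a)
    (he : ∀ a ∈ s, a ^ p = 1) : Cfsg.IsElementaryAbelian p (Subgroup.closure s) := by
  have h1 : IsMulCommutative ↥(Subgroup.closure s) := Subgroup.isMulCommutative_closure hc
  refine ⟨h1, fun a ha => ?_⟩
  have hcc := le_centralizer_self h1
  induction ha using Subgroup.closure_induction with
  | mem x hx => exact he x hx
  | one => exact one_pow p
  | mul x y hx hy ihx ihy =>
    have hxy : Commute x y := (hcc hy x hx)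
    rw [hxy.mul_pow, ihx, ihy, one_mul]
  | inv x _ ihx => rw [inv_pow, ihx, inv_one]

theorem isPReducedNormal_iff {V : Subgroup G} :
    Cfsg.IsPReducedNormal p V ↔
      V.Normal ∧ Cfsg.IsElementaryAbelian p V ∧ NoPAbove p (centralizer (V : Set G)) := by
  constructor
  · rintro ⟨hV, he, hn, h⟩
    exact ⟨hV, he, noPAbove_iff.mp h⟩
  · rintro ⟨hV, he, h⟩
    haveI := hV
    haveI hn : (centralizer (V : Set G)).Normal := inferInstance
    exact ⟨hV, he, hn, noPAbove_iff.mpr h⟩

theorem isPReducedNormal_le_pCore {V : Subgroup G} (hV : Cfsg.IsPReducedNormal p V) :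
    V ≤ Cfsg.pCore p G :=
  le_pCore hV.1 (isPGroup_of_isElemAb hV.2.1)

theorem pCore_le_centralizer {V : Subgroup G} (hV : Cfsg.IsPReducedNormal p V) :
    Cfsg.pCore p G ≤ centralizer (V : Set G) :=
  (isPReducedNormal_iff.mp hV).2.2.le_of_isPGroup pCore_normal pCore_isPGroup

theorem isPReducedNormal_sSup (S : Set (Subgroup G)) (hS : ∀ V ∈ S, Cfsg.IsPReducedNormal p V) :
    Cfsg.IsPReducedNormal p (sSup S) := by
  rw [isPReducedNormal_iff]
  refine ⟨sSup_normal _ fun V hV => (hS V hV).1, ?_, ?_⟩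
  · have he : sSup S = Subgroup.closure (⋃ V ∈ S, (V : Set G)) := by
      refine le_antisymm (sSup_le fun V hV x hx =>
        subset_closure (Set.mem_biUnion hV hx)) ((closure_le _).mpr ?_)
      intro x hx
      obtain ⟨V, hV, hxV⟩ := Set.mem_iUnion₂.mp hx
      exact le_sSup hV hxV
    rw [he]
    refine isElemAb_closure ?_ ?_
    · intro a ha b hb
      obtain ⟨V, hV, haV⟩ := Set.mem_iUnion₂.mp ha
      obtain ⟨W, hW, hbW⟩ := Set.mem_iUnion₂.mp hb
      exact (pCore_le_centralizer (hS V hV) (isPReducedNormal_le_pCore (hS W hW) hbW)) a haV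
    · intro a ha
      obtain ⟨V, hV, haV⟩ := Set.mem_iUnion₂.mp ha
      exact (hS V hV).2.1.2 a haV
  · intro D hD hDp
    rw [Subgroup.le_centralizer_iff]
    refine sSup_le fun V hV => ?_
    rw [Subgroup.le_centralizer_iff]
    refine (isPReducedNormal_iff.mp (hS V hV)).2.2 D hD fun x hx => ?_
    obtain ⟨k, hk⟩ := hDp x hx
    exact ⟨k, centralizer_le (SetLike.coe_subset_coe.mpr (le_sSup hV)) hk⟩

theorem largestPReduced_spec :
    Cfsg.IsPReducedNormal p (Cfsg.largestPReduced p G) :=
  isPReducedNormal_sSup _ fun _ h => h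

theorem le_largestPReduced {V : Subgroup G} (h : Cfsg.IsPReducedNormal p V) :
    V ≤ Cfsg.largestPReduced p G :=
  le_sSup h

theorem eq_largestPReduced {Y : Subgroup G} (hY : Cfsg.IsPReducedNormal p Y)
    (hmax : ∀ V : Subgroup G, Cfsg.IsPReducedNormal p V → V ≤ Y) :
    Y = Cfsg.largestPReduced p G :=
  le_antisymm (le_largestPReduced hY) (hmax _ largestPReduced_spec)

/-! ### Relative versions inside a subgroup -/

/-- Relative form of `NoPAbove`: `O_p(L / C_L) = 1`. -/
def NoPIn (p : ℕ) (L C : Subgroup G) : Prop :=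
  ∀ D : Subgroup G, D ≤ L → L ≤ normalizer (D : Set G) →
    (∀ x ∈ D, ∃ k : ℕ, x ^ p ^ k ∈ C) → D ≤ C

theorem noPAbove_subgroupOf_iff {L C : Subgroup G} :
    NoPAbove p (C.subgroupOf L) ↔ NoPIn p L C := by
  constructor
  · intro h D hDL hLD hD x hx
    have h0 := h (D.subgroupOf L) (normal_subgroupOf_of_le_normalizer hLD) (fun y hy => by
      obtain ⟨k, hk⟩ := hD (y : G) hy
      exact ⟨k, by simpa [mem_subgroupOf] using hk⟩)
    exact h0 (x := ⟨x, hDL hx⟩) hx
  · intro h D hD hDp x hx
    have h0 := h (D.map L.subtype) (map_subtype_le D) (by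
        intro g hg
        rw [Subgroup.mem_normalizer_iff]
        intro y
        constructor
        · rintro ⟨z, hz, rfl⟩
          exact ⟨⟨g, hg⟩ * z * ⟨g, hg⟩⁻¹, hD.conj_mem z hz ⟨g, hg⟩, rfl⟩
        · rintro ⟨z, hz, he⟩
          refine ⟨⟨g, hg⟩⁻¹ * z * (⟨g, hg⟩⁻¹)⁻¹, hD.conj_mem z hz _, ?_⟩
          have he' : (z : G) = g * y * g⁻¹ := he
          simp [he', mul_assoc])
      (by
        rintro _ ⟨z, hz, rfl⟩
        obtain ⟨k, hk⟩ := hDp z hz
        exact ⟨k, by simpa [mem_subgroupOf] using hk⟩)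
    exact h0 ⟨x, hx, rfl⟩

theorem centralizer_subgroupOf {V L : Subgroup G} (hVL : V ≤ L) :
    centralizer ((V.subgroupOf L : Subgroup ↥L) : Set ↥L) =
      (centralizer (V : Set G)).subgroupOf L := by
  ext x
  simp only [mem_centralizer_iff, mem_subgroupOf, SetLike.mem_coe]
  constructor
  · intro h v hv
    exact congrArg Subtype.val (h ⟨v, hVL hv⟩ hv)
  · intro h v hv
    exact Subtype.ext (h v hv)

theorem isElemAb_subgroupOf_iff {V L : Subgroup G} (hVL : V ≤ L) :
    Cfsg.IsElementaryAbelian p (V.subgroupOf L) ↔ Cfsg.IsElementaryAbelian p V := by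
  constructor
  · rintro ⟨hc, he⟩
    refine ⟨le_centralizer_iff_isMulCommutative.mp fun a ha b hb => ?_, fun a ha => ?_⟩
    · exact congrArg Subtype.val
        (le_centralizer_self hc (show (⟨a, hVL ha⟩ : L) ∈ V.subgroupOf L from ha) ⟨b, hVL hb⟩ hb)
    · simpa [Subtype.ext_iff] using he ⟨a, hVL ha⟩ ha
  · rintro ⟨hc, he⟩
    refine ⟨le_centralizer_iff_isMulCommutative.mp fun a ha b hb => ?_, fun a ha => ?_⟩
    · exact Subtype.ext (le_centralizer_self hc ha b hb)
    · exact Subtype.ext (by simpa using he a ha)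

theorem isPReducedNormal_subgroupOf_iff {V L : Subgroup G} (hVL : V ≤ L) :
    Cfsg.IsPReducedNormal p (V.subgroupOf L) ↔
      L ≤ normalizer (V : Set G) ∧ Cfsg.IsElementaryAbelian p V ∧
        NoPIn p L (centralizer (V : Set G)) := by
  rw [isPReducedNormal_iff, isElemAb_subgroupOf_iff hVL, centralizer_subgroupOf hVL,
    noPAbove_subgroupOf_iff, normal_subgroupOf_iff_le_normalizer hVL]

theorem isPReducedNormal_of_subtype {L : Subgroup G} {X : Subgroup ↥L}
    (hX : Cfsg.IsPReducedNormal p X) :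
    L ≤ normalizer ((X.map L.subtype : Subgroup G) : Set G) ∧
      Cfsg.IsElementaryAbelian p (X.map L.subtype) ∧
        NoPIn p L (centralizer ((X.map L.subtype : Subgroup G) : Set G)) :=
  (isPReducedNormal_subgroupOf_iff (map_subtype_le X)).mp (by
    rwa [subgroupOf, comap_map_eq_self_of_injective L.subtype_injective])

theorem largestPReducedOf_le (L : Subgroup G) : Cfsg.largestPReducedOf p L ≤ L :=
  map_subtype_le _

theorem largestPReducedOf_spec (L : Subgroup G) :
    L ≤ normalizer (Cfsg.largestPReducedOf p L : Set G) ∧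
      Cfsg.IsElementaryAbelian p (Cfsg.largestPReducedOf p L) ∧
        NoPIn p L (centralizer (Cfsg.largestPReducedOf p L : Set G)) :=
  isPReducedNormal_of_subtype largestPReduced_spec

theorem le_largestPReducedOf {V L : Subgroup G} (hVL : V ≤ L)
    (h1 : L ≤ normalizer (V : Set G)) (h2 : Cfsg.IsElementaryAbelian p V)
    (h3 : NoPIn p L (centralizer (V : Set G))) : V ≤ Cfsg.largestPReducedOf p L := by
  have h := le_largestPReduced ((isPReducedNormal_subgroupOf_iff (p := p) hVL).mpr ⟨h1, h2, h3⟩)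
  have h' := map_mono (f := L.subtype) h
  rwa [map_subgroupOf_eq_of_le hVL] at h'

/-! ### Sylow subgroups and normal subgroups -/

/-- `T ∩ D` is a Sylow `p`-subgroup of the normal subgroup `D`. -/
theorem exists_sylow_inf_normal [Finite G] [hp : Fact p.Prime] (T : Sylow p G) (D : Subgroup G)
    [D.Normal] : ∃ P : Sylow p ↥D, (P : Subgroup ↥D) = (T : Subgroup G).subgroupOf D := by
  have h0 : (T : Subgroup G).relIndex D ∣ (T : Subgroup G).index := by
    have e1 := relIndex_mul_relIndex ((T : Subgroup G) ⊓ D) (T : Subgroup G)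
      ((T : Subgroup G) ⊔ D) inf_le_left le_sup_left
    have e2 := relIndex_mul_relIndex ((T : Subgroup G) ⊓ D) D
      ((T : Subgroup G) ⊔ D) inf_le_right le_sup_right
    rw [inf_relIndex_left] at e1
    rw [inf_relIndex_right, relIndex_sup_right, mul_comm] at e2
    have hne : D.relIndex (T : Subgroup G) ≠ 0 := Subgroup.FiniteIndex.index_ne_zero
    have : (T : Subgroup G).relIndex ((T : Subgroup G) ⊔ D) = (T : Subgroup G).relIndex D :=
      Nat.eq_of_mul_eq_mul_left (Nat.pos_of_ne_zero hne) (e1.trans e2.symm)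
    rw [← this]
    exact relIndex_dvd_index_of_le le_sup_left
  exact ⟨(T.2.comap_subtype (K := D)).toSylow fun hd => T.not_dvd_index (hd.trans h0),
    IsPGroup.toSylow_coe _ _⟩

/-- A normal subgroup is generated by its part in a Sylow subgroup and any subgroup `C` with
`p`-quotient. -/
theorem le_sup_sylow_inf [Finite G] [Fact p.Prime] (T : Sylow p G) (D : Subgroup G) [D.Normal]
    {C : Subgroup G} (hD : ∀ x ∈ D, ∃ k : ℕ, x ^ p ^ k ∈ C) :
    D ≤ C ⊔ ((T : Subgroup G) ⊓ D) := by
  obtain ⟨P, hP⟩ := exists_sylow_inf_normal T D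
  have h := sup_sylow_eq_top P (N := C.subgroupOf D) (pResidual_le fun x => by
    obtain ⟨k, hk⟩ := hD x x.2
    exact ⟨k, by simpa [mem_subgroupOf] using hk⟩)
  intro x hx
  have hx' : (⟨x, hx⟩ : D) ∈ C.subgroupOf D ⊔ (T : Subgroup G).subgroupOf D := by
    rw [← hP, h]; trivial
  have h2 := mem_map_of_mem D.subtype hx'
  rw [Subgroup.map_sup, subgroupOf_map_subtype, subgroupOf_map_subtype] at h2
  exact (show C ⊓ D ⊔ (T : Subgroup G) ⊓ D ⊓ D ≤ C ⊔ (T : Subgroup G) ⊓ D from
    sup_le_sup inf_le_left inf_le_left) (by simpa [inf_assoc] using h2)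

/-- The normal closure of a p-reduced normal subgroup of a subgroup `R` containing a Sylow
`p`-subgroup, when that subgroup commutes with `O_p(G)` and all its conjugates. -/
theorem isPReducedNormal_normalClosure [Finite G] [Fact p.Prime] (T : Sylow p G) {R : Subgroup G}
    (hTR : (T : Subgroup G) ≤ R) {X : Subgroup G}
    (hab : Cfsg.IsElementaryAbelian p (Subgroup.normalClosure (X : Set G)))
    (hX : NoPIn p R (centralizer (X : Set G))) :
    Cfsg.IsPReducedNormal p (Subgroup.normalClosure (X : Set G)) := by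
  rw [isPReducedNormal_iff]
  refine ⟨normalClosure_normal, hab, ?_⟩
  intro D hD hDp
  have hC : centralizer (Subgroup.normalClosure (X : Set G) : Set G) ≤ centralizer (X : Set G) :=
    centralizer_le subset_normalClosure
  have hDR : D ⊓ R ≤ centralizer (X : Set G) := by
    refine hX _ inf_le_right ?_ fun x hx => ?_
    · intro g hg
      rw [Subgroup.mem_normalizer_iff]
      intro y
      simp only [mem_inf]
      constructor
      · rintro ⟨h1, h2⟩
        exact ⟨hD.conj_mem y h1 g, mul_mem (mul_mem hg h2) (inv_mem hg)⟩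
      · rintro ⟨h1, h2⟩
        refine ⟨by simpa [mul_assoc] using hD.conj_mem _ h1 g⁻¹, ?_⟩
        simpa [mul_assoc] using mul_mem (mul_mem (inv_mem hg) h2) hg
    · obtain ⟨k, hk⟩ := hDp x hx.1
      exact ⟨k, hC hk⟩
  haveI := hD
  have hDX : D ≤ centralizer (X : Set G) :=
    (le_sup_sylow_inf T D hDp).trans
      (sup_le hC (fun x hx => hDR ⟨hx.2, hTR hx.1⟩))
  rw [Subgroup.le_centralizer_iff] at hDX ⊢
  exact normalClosure_le_normal hDX

/-- In characteristic `p` such closures are automatically elementary abelian. -/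
theorem isPReducedNormal_normalClosure_of_char [Finite G] [Fact p.Prime]
    (hchar : centralizer (Cfsg.pCore p G : Set G) ≤ Cfsg.pCore p G) (T : Sylow p G)
    {R : Subgroup G} (hTR : (T : Subgroup G) ≤ R) {X : Subgroup G}
    (hXe : Cfsg.IsElementaryAbelian p X) (hX : NoPIn p R (centralizer (X : Set G))) :
    Cfsg.IsPReducedNormal p (Subgroup.normalClosure (X : Set G)) := by
  haveI := pCore_normal (p := p) (G := G)
  refine isPReducedNormal_normalClosure T hTR ?_ hX
  have hQ : Cfsg.pCore p G ≤ centralizer (X : Set G) :=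
    hX _ ((pCore_le_sylow T).trans hTR) le_normalizer_of_normal fun x hx => by
      obtain ⟨k, hk⟩ := pCore_isPGroup.exists_pow_pow_eq_one ⟨x, hx⟩
      refine ⟨k, ?_⟩
      have : x ^ p ^ k = 1 := by simpa [Subtype.ext_iff] using hk
      rw [this]
      exact one_mem _
  have hsub : Group.conjugatesOfSet (X : Set G) ⊆
      (Cfsg.pCore p G ⊓ centralizer (Cfsg.pCore p G : Set G) : Subgroup G) := by
    intro y hy
    obtain ⟨x, hx, hc⟩ := Group.mem_conjugatesOfSet_iff.mp hy
    obtain ⟨g, rfl⟩ := isConj_iff.mp hc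
    have hxc : x ∈ centralizer (Cfsg.pCore p G : Set G) := Subgroup.le_centralizer_iff.mp hQ hx
    exact Subgroup.Normal.conj_mem (inferInstance : (Cfsg.pCore p G ⊓
      centralizer (Cfsg.pCore p G : Set G)).Normal) x ⟨hchar hxc, hxc⟩ g
  refine isElemAb_closure ?_ ?_
  · intro a ha b hb
    exact (hsub hb).2 a (hsub ha).1
  · intro a ha
    obtain ⟨x, hx, hc⟩ := Group.mem_conjugatesOfSet_iff.mp ha
    obtain ⟨g, rfl⟩ := isConj_iff.mp hc
    rw [conj_pow, hXe.2 x hx, mul_one, mul_inv_cancel]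

/-! ### `Ω₁` of the centre -/

theorem mem_omegaOne_inf_centralizer {T : Subgroup G} {x : G} :
    x ∈ Cfsg.omegaOne p (T ⊓ centralizer (T : Set G)) ↔
      x ∈ T ∧ x ∈ centralizer (T : Set G) ∧ x ^ p = 1 := by
  constructor
  · intro hx
    have hab : Cfsg.IsElementaryAbelian p (Cfsg.omegaOne p (T ⊓ centralizer (T : Set G))) :=
      isElemAb_closure (fun a ha b hb => hb.1.2 a ha.1.1) fun a ha => ha.2
    have hle : Cfsg.omegaOne p (T ⊓ centralizer (T : Set G)) ≤ T ⊓ centralizer (T : Set G) :=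
      (closure_le _).mpr fun a ha => ha.1
    exact ⟨(hle hx).1, (hle hx).2, hab.2 x hx⟩
  · rintro ⟨h1, h2, h3⟩
    exact subset_closure ⟨⟨h1, h2⟩, h3⟩

theorem isElemAb_omegaOne_inf_centralizer (T : Subgroup G) :
    Cfsg.IsElementaryAbelian p (Cfsg.omegaOne p (T ⊓ centralizer (T : Set G))) :=
  isElemAb_closure (fun a ha b hb => hb.1.2 a ha.1.1) fun a ha => ha.2

theorem noPIn_of_le_centralizer {L C : Subgroup G} (h : L ≤ C) : NoPIn p L C :=
  fun _ hD _ _ => hD.trans h

end CfsgLib.PRed
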