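import Mathlib
import Cfsg.Prelude.Def_LocalStructure
import Cfsg.Agent.Lib.LocalEven.PReducedBasic
import Cfsg.Agent.Lib.LocalEven.PReduced

/-!
p-closed and p-irreducible finite groups.
-/

namespace CfsgLib.PIrr

open Subgroup CfsgLib.PRed

variable {G : Type*} [Group G] {p : ℕ}

theorem isPClosed_congr [Finite G] [Fact p.Prime] {G' : Type*} [Group G'] (e : G ≃* G')
    (h : Cfsg.IsPClosed p G) : Cfsg.IsPClosed p G' := by
  intro P
  obtain ⟨Q, rfl⟩ := Sylow.mapSurjective_surjective (f := e.toMonoidHom) e.surjective p P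
  exact (h Q).map e.toMonoidHom e.surjective

/-- `p`-closed means a Sylow subgroup lies in `O_p`. -/
theorem isPClosed_iff [Finite G] [Fact p.Prime] (T : Sylow p G) :
    Cfsg.IsPClosed p G ↔ (T : Subgroup G) ≤ Cfsg.pCore p G := by
  constructor
  · exact fun h => le_pCore (h T) T.2
  · intro h P
    have hT : (P : Subgroup G) = Cfsg.pCore p G := by
      refine le_antisymm ?_ (pCore_le_sylow P)
      have hTQ : (T : Subgroup G) = Cfsg.pCore p G := le_antisymm h (pCore_le_sylow T)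
      refine le_of_eq (Subgroup.eq_of_le_of_card_ge (pCore_le_sylow P) ?_).symm
      rw [← hTQ, P.card_eq_multiplicity, T.card_eq_multiplicity]
    rw [hT]
    exact pCore_normal

theorem pCore_subgroupOf [Finite G] [Fact p.Prime] (N : Subgroup G) [N.Normal] :
    Cfsg.pCore p ↥N = (Cfsg.pCore p G).subgroupOf N := by
  haveI := pCore_normal (p := p) (G := G)
  refine le_antisymm ?_ (le_pCore inferInstance pCore_isPGroup.comap_subtype)
  intro x hx
  haveI := pCore_characteristic (p := p) (G := ↥N)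
  exact le_pCore (ConjAct.normal_of_characteristic_of_normal) (pCore_isPGroup.map N.subtype)
    (mem_map_of_mem _ hx)

/-- A normal subgroup is `p`-closed iff its part of a Sylow subgroup lies in `O_p`. -/
theorem isPClosed_normal_iff [Finite G] [Fact p.Prime] (T : Sylow p G) (N : Subgroup G)
    [N.Normal] : Cfsg.IsPClosed p ↥N ↔ (T : Subgroup G) ⊓ N ≤ Cfsg.pCore p G := by
  obtain ⟨P, hP⟩ := exists_sylow_inf_normal T N
  rw [isPClosed_iff P, hP, pCore_subgroupOf]
  constructor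
  · intro h x hx
    exact h (x := ⟨x, hx.2⟩) hx.1
  · intro h x hx
    exact h ⟨hx, x.2⟩

/-- A `p`-subgroup inside a normal `p`-closed subgroup lies in `O_p`. -/
theorem le_pCore_of_le_isPClosed [Finite G] [Fact p.Prime] {P N : Subgroup G} [N.Normal]
    (hN : Cfsg.IsPClosed p ↥N) (hP : IsPGroup p P) (hPN : P ≤ N) : P ≤ Cfsg.pCore p G := by
  obtain ⟨T, hT⟩ := hP.exists_le_sylow
  exact (le_inf hT hPN).trans ((isPClosed_normal_iff T N).mp hN)

theorem isPIrreducible_iff [Finite G] [Fact p.Prime] (T : Sylow p G) :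
    Cfsg.IsPIrreducible p G ↔ ¬ (T : Subgroup G) ≤ Cfsg.pCore p G ∧
      ∀ N : Subgroup G, N.Normal → ¬ (T : Subgroup G) ⊓ N ≤ Cfsg.pCore p G →
        Cfsg.pResidual p G ≤ N := by
  rw [Cfsg.IsPIrreducible, isPClosed_iff T]
  refine and_congr_right fun _ => forall_congr' fun N => forall_congr' fun hN => ?_
  haveI := hN
  rw [isPClosed_normal_iff T]

/-- `O^p ≤ N` as soon as `G = N T` for a `p`-subgroup `T`. -/
theorem pResidual_le_of_sup_eq_top {N T : Subgroup G} [N.Normal] (hT : IsPGroup p T)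
    (h : N ⊔ T = ⊤) : Cfsg.pResidual p G ≤ N := by
  refine pResidual_le fun x => ?_
  obtain ⟨n, hn, t, ht, rfl⟩ := Subgroup.mem_sup_of_normal_left.mp (h ▸ Subgroup.mem_top x)
  obtain ⟨k, hk⟩ := hT.exists_pow_pow_eq_one ⟨t, ht⟩
  refine ⟨k, ?_⟩
  have ht1 : t ^ p ^ k = 1 := by simpa [Subtype.ext_iff] using hk
  rw [← QuotientGroup.eq_one_iff, QuotientGroup.mk_pow, QuotientGroup.mk_mul,
    (QuotientGroup.eq_one_iff n).mpr hn, one_mul, ← QuotientGroup.mk_pow, ht1]
  rfl

/-- A normal subgroup absorbing `O^p` after adding a normal `p`-subgroup already contains it. -/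
theorem pResidual_le_of_le_sup {K N D : Subgroup G} [N.Normal] (hD : IsPGroup p D)
    (h : K ≤ N ⊔ D) {x : G} (hx : x ∈ K) (hxp : (orderOf x).Coprime p) : x ∈ N := by
  obtain ⟨n, hn, t, ht, rfl⟩ := Subgroup.mem_sup_of_normal_left.mp (h hx)
  obtain ⟨k, hk⟩ := hD.exists_pow_pow_eq_one ⟨t, ht⟩
  have ht1 : t ^ p ^ k = 1 := by simpa [Subtype.ext_iff] using hk
  refine mem_of_pow_pow_mem hxp (k := k) ?_
  rw [← QuotientGroup.eq_one_iff, QuotientGroup.mk_pow, QuotientGroup.mk_mul,
    (QuotientGroup.eq_one_iff n).mpr hn, one_mul, ← QuotientGroup.mk_pow, ht1]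
  rfl

theorem pResidual_le_of_pResidual_le_sup {N D : Subgroup G} [N.Normal] (hD : IsPGroup p D)
    (h : Cfsg.pResidual p G ≤ N ⊔ D) : Cfsg.pResidual p G ≤ N :=
  (closure_le N).mpr fun x hx => pResidual_le_of_le_sup hD h (mem_pResidual hx) hx

theorem map_pResidual [Finite G] [Fact p.Prime] {G' : Type*} [Group G'] (f : G →* G')
    (hf : Function.Surjective f) : (Cfsg.pResidual p G).map f = Cfsg.pResidual p G' := by
  refine le_antisymm (pResidual_map_le f) (pResidual_le fun y => ?_)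
  obtain ⟨x, rfl⟩ := hf y
  obtain ⟨k, hk⟩ := exists_pow_pow_mem_pResidual (p := p) x
  exact ⟨k, _, hk, map_pow f x _⟩

theorem comap_pCore_quotient {D : Subgroup G} [D.Normal] (hD : IsPGroup p D) :
    (Cfsg.pCore p (G ⧸ D)).comap (QuotientGroup.mk' D) = Cfsg.pCore p G := by
  haveI := pCore_normal (p := p) (G := G ⧸ D)
  refine le_antisymm (le_pCore inferInstance ?_) ?_
  · exact pCore_isPGroup.comap_of_ker_isPGroup _ (by rw [QuotientGroup.ker_mk']; exact hD)
  · exact map_le_iff_le_comap.mp (pCore_map_le _ (QuotientGroup.mk'_surjective D))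

theorem inf_sup_of_le {T N D : Subgroup G} [D.Normal] (hD : D ≤ T) :
    T ⊓ (N ⊔ D) = (T ⊓ N) ⊔ D := by
  refine le_antisymm ?_ (sup_le (inf_le_inf_left T le_sup_left) (le_inf hD le_sup_right))
  rintro x ⟨hxT, hx⟩
  obtain ⟨n, hn, d, hd, rfl⟩ := Subgroup.mem_sup_of_normal_right.mp hx
  exact mul_mem_sup ⟨by simpa using T.mul_mem hxT (T.inv_mem (hD hd)), hn⟩ hd

theorem commutator_top_le_iff {Q N : Subgroup G} [Q.Normal] :
    ⁅N, (⊤ : Subgroup G)⁆ ≤ Q ↔ N.map (QuotientGroup.mk' Q) ≤ center (G ⧸ Q) := by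
  rw [← commutator_top_right_eq_bot_iff_le_center,
    ← Subgroup.map_top_of_surjective _ (QuotientGroup.mk'_surjective Q), ← map_commutator,
    Subgroup.map_eq_bot_iff, QuotientGroup.ker_mk']

end CfsgLib.PIrr
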