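import Mathlib
import Cfsg.Prelude.Def_LocalStructure
import Cfsg.Agent.Lib.LocalEven.PReducedBasic
import Cfsg.Agent.Lib.LocalEven.PReduced

/-!
`Y_L` in a group of characteristic `p` and its relative forms for a subgroup containing a Sylow
`p`-subgroup: `Ω₁Z(T) ≤ Y_L ≤ Ω₁Z(O_p L)`, `T_L = C_T(Y_L)`, `L = N_L(T_L) C_L(Y_L)`,
`Y_L = Ω₁Z(T_L)`.
-/

namespace CfsgLib.PRed

open Subgroup
open scoped commutatorElement

variable {G : Type*} [Group G] {p : ℕ}

/-- `Ω₁(Z(T))` as a subgroup of the ambient group. -/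
def omegaZ (p : ℕ) (T : Subgroup G) : Subgroup G :=
  Cfsg.omegaOne p (T ⊓ centralizer (T : Set G))

theorem mem_omegaZ {T : Subgroup G} {x : G} :
    x ∈ omegaZ p T ↔ x ∈ T ∧ x ∈ centralizer (T : Set G) ∧ x ^ p = 1 :=
  mem_omegaOne_inf_centralizer

theorem omegaZ_le (T : Subgroup G) : omegaZ p T ≤ T := fun _ hx => (mem_omegaZ.mp hx).1

theorem omegaZ_le_centralizer (T : Subgroup G) : omegaZ p T ≤ centralizer (T : Set G) :=
  fun _ hx => (mem_omegaZ.mp hx).2.1

theorem omegaZ_map {L : Subgroup G} (S : Subgroup ↥L) :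
    (omegaZ p S).map L.subtype = omegaZ p (S.map L.subtype) := by
  ext x
  constructor
  · rintro ⟨y, hy, rfl⟩
    obtain ⟨h1, h2, h3⟩ := mem_omegaZ.mp hy
    refine mem_omegaZ.mpr ⟨mem_map_of_mem _ h1, ?_, by simpa using congrArg Subtype.val h3⟩
    rw [mem_centralizer_iff]
    rintro _ ⟨s, hs, rfl⟩
    exact congrArg Subtype.val (mem_centralizer_iff.mp h2 s hs)
  · intro hx
    obtain ⟨h1, h2, h3⟩ := mem_omegaZ.mp hx
    obtain ⟨y, hy, rfl⟩ := h1
    refine ⟨y, mem_omegaZ.mpr ⟨hy, ?_, Subtype.ext (by simpa using h3)⟩, rfl⟩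
    rw [mem_centralizer_iff]
    intro s hs
    exact Subtype.ext (mem_centralizer_iff.mp h2 _ (mem_map_of_mem L.subtype hs))

theorem omegaZ_mem_of_normalizer {S : Subgroup G} {g : G} (hg : g ∈ normalizer (S : Set G))
    {x : G} (hx : x ∈ omegaZ p S) : g * x * g⁻¹ ∈ omegaZ p S := by
  obtain ⟨h1, h2, h3⟩ := mem_omegaZ.mp hx
  refine mem_omegaZ.mpr ⟨(mem_normalizer_iff.mp hg x).mp h1, ?_, by
    rw [conj_pow, h3, mul_one, mul_inv_cancel]⟩
  rw [mem_centralizer_iff]
  intro s hs
  have hs' : g⁻¹ * s * g ∈ S := by simpa using (mem_normalizer_iff.mp (inv_mem hg) s).mp hs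
  have h := mem_centralizer_iff.mp h2 _ hs'
  calc s * (g * x * g⁻¹) = g * ((g⁻¹ * s * g) * x) * g⁻¹ := by group
    _ = g * x * g⁻¹ * s := by rw [h]; group

theorem normalizer_le_normalizer_omegaZ (S : Subgroup G) :
    normalizer (S : Set G) ≤ normalizer (omegaZ p S : Set G) := by
  intro g hg
  rw [mem_normalizer_iff]
  refine fun x => ⟨omegaZ_mem_of_normalizer hg, fun h => ?_⟩
  simpa [mul_assoc] using omegaZ_mem_of_normalizer (inv_mem hg) h

variable [Finite G] [Fact p.Prime]

theorem pCore_le_centralizer_of_char {Y : Subgroup G} (hY : Cfsg.IsPReducedNormal p Y) :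
    Y ≤ centralizer (Cfsg.pCore p G : Set G) :=
  Subgroup.le_centralizer_iff.mp (pCore_le_centralizer hY)

theorem largest_le_omegaZ_pCore :
    Cfsg.largestPReduced p G ≤ omegaZ p (Cfsg.pCore p G) := fun x hx =>
  mem_omegaZ.mpr ⟨isPReducedNormal_le_pCore largestPReduced_spec hx,
    pCore_le_centralizer_of_char largestPReduced_spec hx, largestPReduced_spec.2.1.2 x hx⟩

theorem omegaZ_sylow_le_largest (hchar : centralizer (Cfsg.pCore p G : Set G) ≤ Cfsg.pCore p G)
    (T : Sylow p G) : omegaZ p (T : Subgroup G) ≤ Cfsg.largestPReduced p G :=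
  subset_normalClosure.trans (le_largestPReduced (isPReducedNormal_normalClosure_of_char hchar T
    le_rfl (isElemAb_omegaOne_inf_centralizer _)
    (noPIn_of_le_centralizer (Subgroup.le_centralizer_iff.mp (omegaZ_le_centralizer _)))))

theorem pCore_le_sylow_inf_centralizer (T : Sylow p G) :
    Cfsg.pCore p G ≤ (T : Subgroup G) ⊓ centralizer (Cfsg.largestPReduced p G : Set G) :=
  le_inf (pCore_le_sylow T) (pCore_le_centralizer largestPReduced_spec)

/-- Frattini: `G = N(C_T(Y)) C(Y)`. -/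
theorem normalizer_sup_centralizer_eq_top (T : Sylow p G) {Y : Subgroup G} [Y.Normal] :
    normalizer (((T : Subgroup G) ⊓ centralizer (Y : Set G) : Subgroup G) : Set G) ⊔
      centralizer (Y : Set G) = ⊤ := by
  obtain ⟨P, hP⟩ := exists_sylow_inf_normal T (centralizer (Y : Set G))
  have h := Sylow.normalizer_sup_eq_top P
  rwa [hP, subgroupOf_map_subtype] at h

/-- `Y_G = Ω₁Z(C_T(Y_G))` in characteristic `p`. -/
theorem largest_eq_omegaZ (hchar : centralizer (Cfsg.pCore p G : Set G) ≤ Cfsg.pCore p G)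
    (T : Sylow p G) :
    Cfsg.largestPReduced p G =
      omegaZ p ((T : Subgroup G) ⊓ centralizer (Cfsg.largestPReduced p G : Set G)) := by
  haveI : (Cfsg.largestPReduced p G).Normal := largestPReduced_spec.1
  set Y := Cfsg.largestPReduced p G with hYdef
  set T₀ := (T : Subgroup G) ⊓ centralizer (Y : Set G) with hT₀
  have hYT₀ : Y ≤ omegaZ p T₀ := fun y hy => mem_omegaZ.mpr
    ⟨pCore_le_sylow_inf_centralizer T (isPReducedNormal_le_pCore largestPReduced_spec hy),
      Subgroup.le_centralizer_iff.mp (inf_le_right : T₀ ≤ centralizer (Y : Set G)) hy,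
      largestPReduced_spec.2.1.2 y hy⟩
  refine le_antisymm hYT₀ (subset_normalClosure.trans (le_largestPReduced ?_))
  have hTR : (T : Subgroup G) ≤ normalizer (T₀ : Set G) := by
    intro g hg
    rw [mem_normalizer_iff]
    intro y
    have hn : (centralizer (Y : Set G)).Normal := inferInstance
    constructor
    · rintro ⟨h1, h2⟩
      exact ⟨(T : Subgroup G).mul_mem ((T : Subgroup G).mul_mem hg h1) ((T : Subgroup G).inv_mem hg),
        hn.conj_mem y h2 g⟩
    · rintro ⟨h1, h2⟩
      refine ⟨?_, ?_⟩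
      · have := (T : Subgroup G).mul_mem ((T : Subgroup G).mul_mem ((T : Subgroup G).inv_mem hg) h1) hg
        rw [show g⁻¹ * (g * y * g⁻¹) * g = y by group] at this
        exact this
      · simpa [mul_assoc] using hn.conj_mem _ h2 g⁻¹
  refine isPReducedNormal_normalClosure_of_char hchar T hTR
    (isElemAb_omegaOne_inf_centralizer _) ?_
  intro D hDR hRD hD
  have hCX : centralizer (omegaZ p T₀ : Set G) ≤ centralizer (Y : Set G) :=
    centralizer_le (SetLike.coe_subset_coe.mpr hYT₀)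
  -- `D C(Y)` is normal with p-quotient over `C(Y)`
  haveI hCn : (centralizer (Y : Set G)).Normal := inferInstance
  have hDC : D ≤ centralizer (Y : Set G) := by
    have hn : (D.map (QuotientGroup.mk' (centralizer (Y : Set G)))).Normal := by
      refine ⟨fun a ha g => ?_⟩
      obtain ⟨g, rfl⟩ := QuotientGroup.mk'_surjective (centralizer (Y : Set G)) g
      have hg : g ∈ normalizer (T₀ : Set G) ⊔ centralizer (Y : Set G) := by
        rw [hT₀, normalizer_sup_centralizer_eq_top T]; trivial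
      obtain ⟨r, hr, c, hc, rfl⟩ := Subgroup.mem_sup_of_normal_right.mp hg
      obtain ⟨d, hd, rfl⟩ := ha
      refine ⟨r * d * r⁻¹, (mem_normalizer_iff.mp (hRD hr) d).mp hd, ?_⟩
      rw [map_mul _ r c, (QuotientGroup.eq_one_iff c).mpr hc |> fun h =>
        show (QuotientGroup.mk' (centralizer (Y : Set G))) c = 1 from h]
      simp
    have hp' : IsPGroup p ↥(D.map (QuotientGroup.mk' (centralizer (Y : Set G)))) :=
      pow_pow_mem_iff_isPGroup.mpr fun x hx => by
        obtain ⟨k, hk⟩ := hD x hx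
        exact ⟨k, hCX hk⟩
    have h1 := le_pCore hn hp'
    rw [noPAbove_iff.mpr (isPReducedNormal_iff.mp largestPReduced_spec).2.2, le_bot_iff,
      Subgroup.map_eq_bot_iff, QuotientGroup.ker_mk'] at h1
    exact h1
  intro d hd
  -- split d into its p-part, lying in T₀, and the rest
  obtain ⟨P, hP⟩ := exists_sylow_inf_normal T (centralizer (Y : Set G))
  obtain ⟨k, hk⟩ := hD d hd
  have hdC := hDC hd
  have hord : orderOf d ≠ 0 := (orderOf_pos d).ne'
  set e := (orderOf d).factorization p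
  set m := orderOf d / p ^ e
  have hm : (p ^ k).Coprime m := (Nat.coprime_ordCompl Fact.out hord).pow_left k
  have hde : d ^ m ∈ centralizer (omegaZ p T₀ : Set G) := by
    refine Subgroup.le_centralizer_iff.mp (omegaZ_le_centralizer T₀) ?_
    let z : centralizer (Y : Set G) := ⟨d ^ m, pow_mem hdC m⟩
    have hzP : Subgroup.zpowers z ≤ normalizer ((P : Subgroup (centralizer (Y : Set G))) : Set (centralizer (Y : Set G))) := by
      rw [Subgroup.zpowers_le, hP, mem_normalizer_iff]
      intro y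
      have h1 := mem_normalizer_iff.mp (pow_mem (hDR hd) m : d ^ m ∈ normalizer (T₀ : Set G)) y
      constructor
      · intro hy
        exact (h1.mp ⟨hy, y.2⟩).1
      · intro hy
        exact (h1.mpr ⟨hy, (z * y * z⁻¹).2⟩).1
    have hzp : IsPGroup p ↥(Subgroup.zpowers z) := by
      refine IsPGroup.of_card_dvd_pow (n := e) ?_
      rw [Nat.card_zpowers]
      refine orderOf_dvd_of_pow_eq_one (Subtype.ext ?_)
      have hme : m * p ^ e = orderOf d := Nat.div_mul_cancel (Nat.ordProj_dvd _ _)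
      simp [z, ← pow_mul, hme, pow_orderOf_eq_one]
    have hmax := P.is_maximal' (IsPGroup.to_sup_of_normal_right' hzp P.2 hzP) le_sup_right
    have hzmem : z ∈ (P : Subgroup (centralizer (Y : Set G))) :=
      hmax.le (Subgroup.mem_sup_left (Subgroup.mem_zpowers z))
    rw [hP] at hzmem
    exact ⟨hzmem, z.2⟩
  obtain ⟨u, v, huv⟩ : ∃ u v : ℤ, (p ^ k : ℕ) * u + m * v = 1 :=
    ⟨_, _, (Nat.gcd_eq_gcd_ab (p ^ k) m).symm.trans (by simp [hm.gcd_eq_one])⟩
  have : d = (d ^ p ^ k) ^ u * (d ^ m) ^ v := by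
    rw [← zpow_natCast, ← zpow_natCast d m, ← zpow_mul, ← zpow_mul, ← zpow_add, huv, zpow_one]
  rw [this]
  exact mul_mem (zpow_mem hk u) (zpow_mem hde v)

/-! ### Relative forms -/

omit [Finite G] [Fact p.Prime] in
theorem map_centralizer_subtype {L : Subgroup G} (X : Subgroup ↥L) :
    (centralizer (X : Set ↥L)).map L.subtype =
      L ⊓ centralizer ((X.map L.subtype : Subgroup G) : Set G) := by
  ext g
  simp only [mem_map, mem_inf, mem_centralizer_iff, SetLike.mem_coe]
  constructor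
  · rintro ⟨y, hy, rfl⟩
    refine ⟨y.2, ?_⟩
    rintro _ ⟨x, hx, rfl⟩
    exact congrArg Subtype.val (hy x hx)
  · rintro ⟨hg, h⟩
    exact ⟨⟨g, hg⟩, fun x hx => Subtype.ext (h _ ⟨x, hx, rfl⟩), rfl⟩

omit [Finite G] [Fact p.Prime] in
theorem map_sylow_subtype (T : Sylow p G) {L : Subgroup G} (hTL : (T : Subgroup G) ≤ L) :
    ((T.subtype hTL : Sylow p L) : Subgroup ↥L).map L.subtype = (T : Subgroup G) := by
  rw [Sylow.coe_subtype, subgroupOf_map_subtype]
  exact inf_eq_left.mpr hTL

omit [Finite G] [Fact p.Prime] in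
theorem map_inf_centralizer {L : Subgroup G} (S X : Subgroup ↥L) :
    (S ⊓ centralizer (X : Set ↥L)).map L.subtype =
      S.map L.subtype ⊓ centralizer ((X.map L.subtype : Subgroup G) : Set G) := by
  rw [Subgroup.map_inf _ _ _ L.subtype_injective, map_centralizer_subtype, ← inf_assoc,
    inf_eq_left.mpr (map_subtype_le S)]

/-- `Ω₁Z(T) ≤ Y_L` for `T ≤ L` of characteristic `p`. -/
theorem omegaZ_le_largestPReducedOf (T : Sylow p G) {L : Subgroup G} (hTL : (T : Subgroup G) ≤ L)
    (hL : centralizer (Cfsg.pCore p ↥L : Set ↥L) ≤ Cfsg.pCore p ↥L) :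
    omegaZ p (T : Subgroup G) ≤ Cfsg.largestPReducedOf p L := by
  have h := map_mono (f := L.subtype) (omegaZ_sylow_le_largest hL (T.subtype hTL))
  rwa [omegaZ_map, map_sylow_subtype] at h

theorem pCoreOf_le_sylow_inf_centralizer (T : Sylow p G) {L : Subgroup G}
    (hTL : (T : Subgroup G) ≤ L) :
    Cfsg.pCoreOf p L ≤
      (T : Subgroup G) ⊓ centralizer (Cfsg.largestPReducedOf p L : Set G) := by
  have h := map_mono (f := L.subtype) (pCore_le_sylow_inf_centralizer (T.subtype hTL))
  rwa [map_inf_centralizer, map_sylow_subtype] at h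

/-- `Y_L = Ω₁Z(C_T(Y_L))` for `T ≤ L` of characteristic `p`. -/
theorem largestPReducedOf_eq_omegaZ (T : Sylow p G) {L : Subgroup G}
    (hTL : (T : Subgroup G) ≤ L)
    (hL : centralizer (Cfsg.pCore p ↥L : Set ↥L) ≤ Cfsg.pCore p ↥L) :
    Cfsg.largestPReducedOf p L =
      omegaZ p ((T : Subgroup G) ⊓ centralizer (Cfsg.largestPReducedOf p L : Set G)) := by
  have h := congrArg (Subgroup.map L.subtype) (largest_eq_omegaZ hL (T.subtype hTL))
  rwa [omegaZ_map, map_inf_centralizer, map_sylow_subtype] at h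

/-- A Sylow subgroup of `G` inside `N(Y)` meets `C(Y)` in a Sylow subgroup of `C(Y)`. -/
theorem exists_sylow_centralizer (T : Sylow p G) {Y : Subgroup G}
    (hY : (T : Subgroup G) ≤ normalizer (Y : Set G)) :
    ∃ P : Sylow p ↥(centralizer (Y : Set G)),
      (P : Subgroup ↥(centralizer (Y : Set G))) =
        ((T : Subgroup G) ⊓ centralizer (Y : Set G)).subgroupOf (centralizer (Y : Set G)) := by
  obtain ⟨P, hP⟩ := exists_sylow_inf_normal (T.subtype hY)
    ((centralizer (Y : Set G)).subgroupOf (normalizer (Y : Set G)))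
  have hle := centralizer_le_normalizer (Y : Set G)
  let e := Subgroup.subgroupOfEquivOfLe hle
  refine ⟨P.mapSurjective (f := e.toMonoidHom) e.surjective, ?_⟩
  show (P : Subgroup _).map e.toMonoidHom = _
  rw [hP, Sylow.coe_subtype]
  ext x
  rw [show e.toMonoidHom = (e : _ →* _) from rfl, Subgroup.map_equiv_eq_comap_symm,
    Subgroup.mem_comap]
  simp [e, mem_subgroupOf, Subgroup.subgroupOfEquivOfLe]

omit [Finite G] [Fact p.Prime] in
theorem normalizer_le_normalizer_centralizer (Y : Subgroup G) :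
    normalizer (Y : Set G) ≤ normalizer (centralizer (Y : Set G) : Set G) :=
  (normal_subgroupOf_iff_le_normalizer (centralizer_le_normalizer _)).mp inferInstance

/-- Frattini inside a subgroup: `L ≤ N_L(C_T(Y)) C(Y)`. -/
theorem le_inf_normalizer_sup_centralizer (T : Sylow p G) {L Y : Subgroup G}
    (hTL : (T : Subgroup G) ≤ L) (hYL : Y ≤ L) (hLY : L ≤ normalizer (Y : Set G)) :
    L ≤ (L ⊓ normalizer (((T : Subgroup G) ⊓ centralizer (Y : Set G) : Subgroup G) : Set G)) ⊔
      centralizer (Y : Set G) := by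
  haveI : (Y.subgroupOf L).Normal := normal_subgroupOf_of_le_normalizer hLY
  have h := normalizer_sup_centralizer_eq_top (T.subtype hTL) (Y := Y.subgroupOf L)
  have h1 := congrArg (Subgroup.map L.subtype) h
  have hT : (((T.subtype hTL : Sylow p L) : Subgroup L) ⊓
      centralizer ((Y.subgroupOf L : Subgroup L) : Set L)).map L.subtype =
      (T : Subgroup G) ⊓ centralizer (Y : Set G) := by
    rw [map_inf_centralizer, map_sylow_subtype, map_subgroupOf_eq_of_le hYL]
  rw [Subgroup.map_sup, ← MonoidHom.range_eq_map, range_subtype, map_centralizer_subtype,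
    map_subgroupOf_eq_of_le hYL] at h1
  refine h1.ge.trans (sup_le_sup (le_inf (map_subtype_le _) ?_) inf_le_right)
  rw [← hT]
  exact le_normalizer_map _

omit [Fact p.Prime] in
/-- `O_p(A/C_A) = 1` depends only on `A C`. -/
theorem noPIn_of_sup_eq {A B C : Subgroup G} (hA : A ≤ normalizer (C : Set G))
    (hB : B ≤ normalizer (C : Set G)) (h : A ⊔ C = B ⊔ C) (hBC : NoPIn p B C) : NoPIn p A C := by
  intro D hDA hAD hD
  have hDC : A ⊔ C ≤ normalizer ((D ⊔ C : Subgroup G) : Set G) := by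
    refine sup_le (fun g hg => mem_normalizer_of_conj_mem fun x hx => ?_)
      (le_sup_right.trans le_normalizer)
    have hle : D ⊔ C ≤ (D ⊔ C).comap (MulAut.conj g).toMonoidHom :=
      sup_le (fun d hd => mem_sup_left ((mem_normalizer_iff.mp (hAD hg) d).mp hd))
        (fun c hc => mem_sup_right ((mem_normalizer_iff.mp (hA hg) c).mp hc))
    exact hle hx
  have hDle : (D ⊔ C) ⊓ B ≤ C := by
    refine hBC _ inf_le_right (fun g hg => mem_normalizer_of_conj_mem fun x hx => ⟨?_, ?_⟩) ?_
    · exact (mem_normalizer_iff.mp (hDC (h.ge (mem_sup_left hg))) x).mp hx.1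
    · exact B.mul_mem (B.mul_mem hg hx.2) (B.inv_mem hg)
    · intro x hx
      obtain ⟨d, hd, c, hc, rfl⟩ := exists_mul_of_mem_sup (hDA.trans hA) hx.1
      obtain ⟨k, hk⟩ := hD d hd
      exact ⟨k, mul_pow_mem_of_normalizer (hA (hDA hd)) hc hk⟩
  intro d hd
  obtain ⟨m, hm, c, hc, rfl⟩ := exists_mul_of_mem_sup hB (h.le (mem_sup_left (hDA hd)))
  have hmD : m ∈ D ⊔ C := by
    simpa using mul_mem (mem_sup_left hd : m * c ∈ D ⊔ C)
      (mem_sup_right (C.inv_mem hc) : c⁻¹ ∈ D ⊔ C)
  exact C.mul_mem (hDle ⟨hmD, hm⟩) hc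

theorem largestPReducedOf_le_sylow (T : Sylow p G) {L : Subgroup G}
    (hTL : (T : Subgroup G) ≤ L) :
    Cfsg.largestPReducedOf p L ≤
      (T : Subgroup G) ⊓ centralizer (Cfsg.largestPReducedOf p L : Set G) :=
  (map_mono (isPReducedNormal_le_pCore largestPReduced_spec)).trans
    (pCoreOf_le_sylow_inf_centralizer T hTL)

end CfsgLib.PRed
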