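import Mathlib
import Cfsg.Prelude.Def_LocalStructure
import Cfsg.Agent.Lib.LocalEven.PReducedBasic
import Cfsg.Agent.Lib.LocalEven.PReduced
import Cfsg.Agent.Lib.LocalEven.PReducedSub

/-!
Behaviour of p-reduced normal subgroups with respect to subnormal subgroups.
-/

namespace CfsgLib.PRed

open Subgroup
open scoped commutatorElement

variable {G : Type*} [Group G] {p : ℕ}

theorem normalizer_inf_le_normalizer_commutator (A B : Subgroup G) :
    normalizer (A : Set G) ⊓ normalizer (B : Set G) ≤
      normalizer ((⁅A, B⁆ : Subgroup G) : Set G) := by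
  rintro g ⟨hA, hB⟩
  replace hA : g ∈ normalizer (A : Set G) := hA
  replace hB : g ∈ normalizer (B : Set G) := hB
  rw [mem_normalizer_iff_map_conj_eq] at hA hB ⊢
  rw [map_commutator, hA, hB]

theorem le_normalizer_pResidual_map (K : Subgroup G) :
    K ≤ normalizer (((Cfsg.pResidual p ↥K).map K.subtype : Subgroup G) : Set G) := by
  haveI := pResidual_normal (p := p) (G := ↥K)
  rw [← normal_subgroupOf_iff_le_normalizer (map_subtype_le _), subgroupOf,
    comap_map_eq_self_of_injective K.subtype_injective]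
  infer_instance

theorem normalizer_inf_le_normalizer_inf (A B : Subgroup G) :
    normalizer (A : Set G) ⊓ normalizer (B : Set G) ≤
      normalizer ((A ⊓ B : Subgroup G) : Set G) := by
  rintro g ⟨hA, hB⟩
  rw [mem_normalizer_iff]
  intro x
  simp only [mem_inf, (mem_normalizer_iff.mp hA x), (mem_normalizer_iff.mp hB x)]

/-- Being `p`-reduced passes to subnormal subgroups. -/
theorem noPIn_of_isSubnormal [Finite G] [Fact p.Prime] {V L : Subgroup G}
    (hV : Cfsg.IsPReducedNormal p V) (hL : L.IsSubnormal) :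
    NoPIn p L (centralizer (V : Set G)) := by
  haveI := hV.1
  intro D hDL hLD hD
  have hDs : D.IsSubnormal := IsSubnormal.step D L hDL hL (normal_subgroupOf_of_le_normalizer hLD)
  have h := le_pCore_of_isSubnormal (hDs.quotient (K := centralizer (V : Set G)))
    (pow_pow_mem_iff_isPGroup (p := p).mpr hD)
  rw [noPAbove_iff.mpr (isPReducedNormal_iff.mp hV).2.2, le_bot_iff, Subgroup.map_eq_bot_iff,
    QuotientGroup.ker_mk'] at h
  exact h

/-- A `p'`-element of a subnormal subgroup `L` moves an abelian normal `p`-subgroup into `L`. -/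
theorem commutatorElement_mem_of_isSubnormal [Fact p.Prime] {V L : Subgroup G}
    (hVn : V.Normal) (hVe : Cfsg.IsElementaryAbelian p V) (hL : L.IsSubnormal) :
    ∀ x ∈ L, (orderOf x).Coprime p → ∀ v ∈ V, x * v * x⁻¹ * v⁻¹ ∈ L := by
  induction hL with
  | top => intros; trivial
  | step H K hle _ hN ih =>
    intro x hx hxp v hv
    have hcc := le_centralizer_self hVe.1
    set c := x * v * x⁻¹ * v⁻¹ with hc
    have hcK : c ∈ K := ih x (hle hx) hxp v hv
    have hcV : c ∈ V := V.mul_mem (hVn.conj_mem v hv x) (V.inv_mem hv)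
    have hHK : K ≤ normalizer (H : Set G) := (normal_subgroupOf_iff_le_normalizer hle).mp hN
    set l := x * c * x⁻¹ * c⁻¹ with hl
    have hlH : l ∈ H := by
      have h1 : c * x⁻¹ * c⁻¹ ∈ H := (mem_normalizer_iff.mp (hHK hcK) _).mp (H.inv_mem hx)
      have := H.mul_mem hx h1
      convert this using 1
      rw [hl]; group
    have hlV : l ∈ V := V.mul_mem (hVn.conj_mem c hcV x) (V.inv_mem hcV)
    have key : ∀ n : ℕ, x ^ n * v * (x ^ n)⁻¹ * (c ^ n * v)⁻¹ ∈ H := by
      intro n
      induction n with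
      | zero => simp
      | succ n ihn =>
        set m := x ^ n * v * (x ^ n)⁻¹ * (c ^ n * v)⁻¹ with hm
        have hmV : m ∈ V :=
          V.mul_mem (hVn.conj_mem v hv _) (V.inv_mem (V.mul_mem (V.pow_mem hcV n) hv))
        have h1 : x * m * x⁻¹ ∈ H := H.mul_mem (H.mul_mem hx ihn) (H.inv_mem hx)
        have hcom : Commute l c := hcc hcV l hlV
        have e1 : (x * c * x⁻¹) ^ n = l ^ n * c ^ n := by
          rw [← hcom.mul_pow, show l * c = x * c * x⁻¹ by rw [hl]; group]
        have e2 : x ^ (n + 1) * v * (x ^ (n + 1))⁻¹ * (c ^ (n + 1) * v)⁻¹ =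
            (x * m * x⁻¹) * l ^ n := by
          have e3 : x ^ (n + 1) * v * (x ^ (n + 1))⁻¹ =
              (x * m * x⁻¹) * (x * c * x⁻¹) ^ n * (x * v * x⁻¹) := by
            rw [pow_succ', conj_pow, hm]; group
          rw [e3, e1, show x * v * x⁻¹ = c * v by rw [hc]; group, pow_succ]
          group
        rw [e2]
        exact H.mul_mem h1 (H.pow_mem hlH n)
    have h2 := key (orderOf x)
    rw [pow_orderOf_eq_one] at h2
    have h3 : c ^ orderOf x ∈ H := by
      rw [one_mul, inv_one, mul_one, mul_inv_rev, mul_inv_cancel_left] at h2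
      exact inv_mem_iff.mp h2
    have h4 : (orderOf x).Coprime (orderOf c) :=
      hxp.coprime_dvd_right (orderOf_dvd_of_pow_eq_one (hVe.2 c hcV))
    obtain ⟨m, hm⟩ := exists_pow_eq_self_of_coprime h4
    rw [← hm]
    exact H.pow_mem h3 m

/-- `[V, O^p(L)] ≤ L`. -/
theorem commutator_pResidual_le [Fact p.Prime] {V L : Subgroup G}
    (hVn : V.Normal) (hVe : Cfsg.IsElementaryAbelian p V) (hL : L.IsSubnormal) :
    ⁅V, (Cfsg.pResidual p ↥L).map L.subtype⁆ ≤ L := by
  rw [commutator_comm, commutator_le]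
  intro x hx v hv
  rw [pResidual_map_subtype_eq] at hx
  induction hx using Subgroup.closure_induction generalizing v with
  | mem y hy => exact commutatorElement_mem_of_isSubnormal hVn hVe hL y hy.1 hy.2 v hv
  | one => simp
  | mul a b ha _ iha ihb =>
    have haL : a ∈ L := by
      have := (closure_le L).mpr (fun g hg => hg.1) ha
      exact this
    rw [commutatorElement_mul_left_eq_conj_mul]
    exact L.mul_mem (L.mul_mem (L.mul_mem haL (ihb v hv)) (L.inv_mem haL)) (iha v hv)
  | inv a ha iha =>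
    have haL : a ∈ L := (closure_le L).mpr (fun g hg => hg.1) ha
    rw [commutatorElement_inv_left, ← commutatorElement_inv]
    exact L.mul_mem (L.mul_mem (L.inv_mem haL) (L.inv_mem (iha v hv))) haL

/-- For `[V, O^p(L)] ≤ W ≤ V`: `C_L(W) = C_L(V)` and `W` is `p`-reduced for `L`. -/
theorem centralizer_eq_of_commutator_le [Finite G] [Fact p.Prime] {V L W : Subgroup G}
    (hV : Cfsg.IsPReducedNormal p V) (hL : L.IsSubnormal) (hLW : L ≤ normalizer (W : Set G))
    (hWV : W ≤ V) (hcW : ⁅V, (Cfsg.pResidual p ↥L).map L.subtype⁆ ≤ W) :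
    L ⊓ centralizer (W : Set G) = L ⊓ centralizer (V : Set G) ∧
      NoPIn p L (centralizer (W : Set G)) := by
  haveI := hV.1
  set O := (Cfsg.pResidual p ↥L).map L.subtype with hO
  have hOL : O ≤ L := map_subtype_le _
  have hCn : L ≤ normalizer (centralizer (V : Set G) : Set G) := le_normalizer_of_normal
  have hE : (L ⊓ centralizer (W : Set G)) ⊓ O ≤ centralizer (V : Set G) := by
    refine noPIn_of_isSubnormal hV hL _ (inf_le_left.trans inf_le_left) ?_ ?_
    · refine (le_inf ?_ (le_normalizer_pResidual_map L)).trans (normalizer_inf_le_normalizer_inf _ _)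
      exact (le_inf le_normalizer (hLW.trans (normalizer_le_normalizer_centralizer W))).trans
        (normalizer_inf_le_normalizer_inf _ _)
    · intro g hg
      have hmem : ∀ y ∈ (L ⊓ centralizer (W : Set G)) ⊓ O, (orderOf y).Coprime p →
          y ∈ centralizer (V : Set G) := by
        intro y hy hyp
        rw [mem_centralizer_iff]
        intro v hv
        have hvy : ⁅v, y⁆ ∈ W := hcW (commutator_mem_commutator hv hy.2)
        exact commute_of_coprime (isPGroup_of_isElemAb hV.2.1) hyp (hWV hvy)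
          (mem_centralizer_iff.mp hy.1.2 _ hvy)
      -- every element has its `p'`-part in `C(V)`
      let E : Subgroup G := (L ⊓ centralizer (W : Set G)) ⊓ O
      obtain ⟨j, hj⟩ := exists_pow_pow_mem_pResidual (p := p) (⟨g, hg⟩ : E)
      have hle : Cfsg.pResidual p ↥E ≤ (centralizer (V : Set G)).subgroupOf E :=
        (closure_le _).mpr fun y hy => hmem y y.2 (by simpa using hy)
      exact ⟨j, by simpa [mem_subgroupOf] using hle hj⟩
  have hC : L ⊓ centralizer (W : Set G) ≤ centralizer (V : Set G) := by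
    refine noPIn_of_isSubnormal hV hL _ inf_le_left
      ((le_inf le_normalizer (hLW.trans (normalizer_le_normalizer_centralizer W))).trans
        (normalizer_inf_le_normalizer_inf _ _)) fun g hg => ?_
    obtain ⟨k, hk⟩ := exists_pow_pow_mem_pResidual (p := p) (⟨g, hg.1⟩ : L)
    refine ⟨k, hE ⟨pow_mem hg _, ⟨_, hk, ?_⟩⟩⟩
    simp
  refine ⟨le_antisymm (le_inf inf_le_left hC)
    (le_inf inf_le_left (inf_le_right.trans (centralizer_le (SetLike.coe_subset_coe.mpr hWV)))), ?_⟩
  intro D hDL hLD hD
  refine (noPIn_of_isSubnormal hV hL D hDL hLD fun x hx => ?_).trans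
    (centralizer_le (SetLike.coe_subset_coe.mpr hWV))
  obtain ⟨k, hk⟩ := hD x hx
  exact ⟨k, hC ⟨pow_mem (hDL hx) _, hk⟩⟩

/-- A `p`-group normalizing a nontrivial `p`-subgroup fixes one of its nontrivial elements. -/
theorem exists_fixed_ne_one [Finite G] [Fact p.Prime] {P A : Subgroup G} (hP : IsPGroup p P)
    (hA : IsPGroup p A) (hPA : P ≤ normalizer (A : Set G)) (hne : A ≠ ⊥) :
    ∃ a ∈ A, a ≠ 1 ∧ a ∈ centralizer (P : Set G) := by
  letI : MulAction P A := MulAction.compHom A (inclusion hPA)
  have hdvd : p ∣ Nat.card A := by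
    obtain ⟨n, hn⟩ := IsPGroup.iff_card.mp hA
    rw [hn]
    refine dvd_pow_self p fun h0 => hne ?_
    subst h0
    exact eq_bot_of_card_eq A (by simpa using hn)
  obtain ⟨a, ha, hne1⟩ := hP.exists_fixed_point_of_prime_dvd_card_of_fixed_point A hdvd
    (a := (1 : A)) (fun g => smul_one (inclusion hPA g : normalizer (A : Set G)))
  refine ⟨a, a.2, fun h => hne1 (Subtype.ext h.symm), ?_⟩
  rw [mem_centralizer_iff]
  intro g hg
  have := congrArg Subtype.val (ha ⟨g, hg⟩)
  exact mul_inv_eq_iff_eq_mul.mp this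

/-- Descent: `C_L(Y_K) ≤ C(Y)` for `L` normal in `K` and a normal `p`-reduced subgroup `Y` of `L`
invariant under `K`. -/
theorem centralizer_largest_le_of_normal [Finite G] [Fact p.Prime] {K L Y : Subgroup G}
    (hLK : L ≤ K) (hKL : K ≤ normalizer (L : Set G)) (hYK : Y ≤ K)
    (hKY : K ≤ normalizer (Y : Set G)) (hYe : Cfsg.IsElementaryAbelian p Y)
    (hYr : NoPIn p L (centralizer (Y : Set G))) :
    L ⊓ centralizer (Cfsg.largestPReducedOf p K : Set G) ≤ centralizer (Y : Set G) := by
  suffices ∀ n, ∀ W : Subgroup G, Nat.card W = n → W ≤ Y → K ≤ normalizer (W : Set G) →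
      L ⊓ centralizer (W : Set G) ≤ centralizer (Y : Set G) →
      L ⊓ centralizer (Cfsg.largestPReducedOf p K : Set G) ≤ centralizer (Y : Set G) from
    this _ Y rfl le_rfl hKY inf_le_right
  intro n
  induction n using Nat.strong_induction_on with
  | _ n ih =>
  intro W hn hWY hKW hW
  have hWe := isElemAb_mono hYe hWY
  by_cases hr : NoPIn p K (centralizer (W : Set G))
  · refine (inf_le_inf_left L (centralizer_le (SetLike.coe_subset_coe.mpr ?_))).trans hW
    exact le_largestPReducedOf (hWY.trans hYK) hKW hWe hr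
  simp only [NoPIn, not_forall] at hr
  obtain ⟨D, hDK, hKD, hD, hDW⟩ := hr
  set W₁ := W ⊓ centralizer (D : Set G) with hW₁
  have hlt : Nat.card W₁ < n := by
    rw [← hn]
    refine lt_of_not_ge fun h => hDW ?_
    have heq : W₁ = W := Subgroup.eq_of_le_of_card_ge inf_le_left h
    rw [Subgroup.le_centralizer_iff, ← heq]
    exact inf_le_right
  refine ih _ hlt W₁ rfl (inf_le_left.trans hWY)
    ((le_inf hKW (hKD.trans (normalizer_le_normalizer_centralizer D))).trans
      (normalizer_inf_le_normalizer_inf _ _)) ?_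
  -- `C_L(W₁) ≤ C(Y)`: it has `p`-quotient over `C(Y)`
  have hDL : D ⊓ L ≤ centralizer (Y : Set G) := by
    refine hYr _ inf_le_right ((le_inf (hLK.trans hKD) le_normalizer).trans
      (normalizer_inf_le_normalizer_inf _ _)) fun g hg => ?_
    obtain ⟨k, hk⟩ := hD g hg.1
    exact ⟨k, hW ⟨pow_mem hg.2 _, hk⟩⟩
  have hWp := isPGroup_of_isElemAb hWe
  have hx : ∀ x ∈ L, x ∈ centralizer (W₁ : Set G) → (orderOf x).Coprime p →
      x ∈ centralizer (W : Set G) := by
    intro x hxL hx1 hxp
    have hcc := le_centralizer_self hWe.1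
    have hxW : x ∈ normalizer (W : Set G) := hKW (hLK hxL)
    let φ : W →* W :=
      { toFun := fun w => ⟨⁅x, (w : G)⁆, W.mul_mem ((mem_normalizer_iff.mp hxW w).mp w.2)
          (W.inv_mem w.2)⟩
        map_one' := Subtype.ext (by simp)
        map_mul' := fun a b => Subtype.ext (by
          simp only [Subgroup.coe_mul]
          rw [commutatorElement_mul_right_eq_mul_conj]
          have h1 : Commute (a : G) ⁅x, (b : G)⁆ :=
            hcc (W.mul_mem ((mem_normalizer_iff.mp hxW b).mp b.2) (W.inv_mem b.2)) a a.2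
          rw [mul_assoc ⁅x, (a : G)⁆, h1.eq]
          group) }
    obtain ⟨P, hP, hPD⟩ : ∃ P : Subgroup G, IsPGroup p P ∧ P ≤ D ∧
        ∀ y, y ∈ W → y ∈ centralizer (P : Set G) → y ∈ centralizer (D : Set G) := by
      haveI : (D.subgroupOf K).Normal := normal_subgroupOf_of_le_normalizer hKD
      obtain ⟨S⟩ : Nonempty (Sylow p D) := inferInstance
      refine ⟨(S : Subgroup D).map D.subtype, S.2.map _, map_subtype_le _, fun y hy hyP => ?_⟩
      have hle := sup_sylow_eq_top S (N := (centralizer (W : Set G)).subgroupOf D)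
        (pResidual_le fun g => by
          obtain ⟨k, hk⟩ := hD g g.2
          exact ⟨k, by simpa [mem_subgroupOf] using hk⟩)
      have h2 : ((centralizer (W : Set G)).subgroupOf D ⊔ (S : Subgroup D)).map D.subtype = D := by
        rw [hle, ← MonoidHom.range_eq_map, range_subtype]
      rw [Subgroup.map_sup] at h2
      have h3 : D ≤ centralizer ({y} : Set G) := by
        rw [← h2, sup_le_iff]
        refine ⟨?_, ?_⟩
        · rintro _ ⟨g, hg, rfl⟩
          exact mem_centralizer_singleton_iff.mpr (mem_centralizer_iff.mp hg y hy).symm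
        · intro g hg
          exact mem_centralizer_singleton_iff.mpr (mem_centralizer_iff.mp hyP g hg)
      exact mem_centralizer_iff.mpr fun g hg => mem_centralizer_singleton_iff.mp (h3 hg)
    by_contra hxc
    have hne : φ.range.map W.subtype ≠ ⊥ := by
      intro h0
      refine hxc (mem_centralizer_iff.mpr fun w hw => ?_)
      have h1 : ⁅x, w⁆ ∈ φ.range.map W.subtype := ⟨φ ⟨w, hw⟩, ⟨_, rfl⟩, rfl⟩
      rw [h0, Subgroup.mem_bot] at h1
      exact (commutatorElement_eq_one_iff_mul_comm.mp h1).symm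
    have hinv : P ≤ normalizer ((φ.range.map W.subtype : Subgroup G) : Set G) := by
      intro d hd
      refine mem_normalizer_of_conj_mem ?_
      rintro _ ⟨_, ⟨w, rfl⟩, rfl⟩
      have hdK : d ∈ K := hDK (hPD.1 hd)
      have hw' : d * (w : G) * d⁻¹ ∈ W := (mem_normalizer_iff.mp (hKW hdK) w).mp w.2
      refine ⟨φ ⟨_, hw'⟩, ⟨_, rfl⟩, ?_⟩
      show ⁅x, d * (w : G) * d⁻¹⁆ = d * ⁅x, (w : G)⁆ * d⁻¹
      have hdx : d * x * d⁻¹ * x⁻¹ ∈ centralizer (W : Set G) := by
        refine centralizer_le (SetLike.coe_subset_coe.mpr hWY) (hDL ⟨?_, ?_⟩)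
        · have h1 : x * d⁻¹ * x⁻¹ ∈ D :=
            (mem_normalizer_iff.mp (hKD (hLK hxL)) _).mp (D.inv_mem (hPD.1 hd))
          show d * x * d⁻¹ * x⁻¹ ∈ D
          rw [show d * x * d⁻¹ * x⁻¹ = d * (x * d⁻¹ * x⁻¹) by group]
          exact D.mul_mem (hPD.1 hd) h1
        · exact L.mul_mem ((mem_normalizer_iff.mp (hKL hdK) x).mp hxL) (L.inv_mem hxL)
      set a := d * x * d⁻¹ * x⁻¹ with ha
      have hax : x * (d * (w : G) * d⁻¹) * x⁻¹ ∈ W := (mem_normalizer_iff.mp hxW _).mp hw'
      have h2 : a * (x * (d * (w : G) * d⁻¹) * x⁻¹) * a⁻¹ = x * (d * (w : G) * d⁻¹) * x⁻¹ := by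
        rw [← mem_centralizer_iff.mp hdx _ hax]; group
      rw [conjugate_commutatorElement, commutatorElement_def, commutatorElement_def]
      calc x * (d * (w : G) * d⁻¹) * x⁻¹ * (d * (w : G) * d⁻¹)⁻¹
          = a * (x * (d * (w : G) * d⁻¹) * x⁻¹) * a⁻¹ * (d * (w : G) * d⁻¹)⁻¹ := by rw [h2]
        _ = _ := by rw [ha]; group
    obtain ⟨a, ha, ha1, haP⟩ :=
      exists_fixed_ne_one hP ((hWp.to_subgroup φ.range).map W.subtype) hinv hne
    obtain ⟨_, ⟨w, rfl⟩, rfl⟩ := ha
    have haW : (φ w : G) ∈ W := (φ w).2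
    have haW₁ : (φ w : G) ∈ W₁ := ⟨haW, hPD.2 _ haW haP⟩
    have hcm : Commute ⁅x, (w : G)⁆ x := mem_centralizer_iff.mp hx1 _ haW₁
    have hwx : Commute (w : G) x := by
      refine commute_of_coprime hWp hxp ?_ ?_
      · rw [← commutatorElement_inv]; exact W.inv_mem haW
      · rw [← commutatorElement_inv]; exact hcm.inv_left
    exact ha1 (commutatorElement_eq_one_iff_commute.mpr hwx.symm)
  refine hYr _ inf_le_left ((le_inf le_normalizer ((hLK.trans ?_).trans
    (normalizer_le_normalizer_centralizer _))).trans (normalizer_inf_le_normalizer_inf _ _))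
    fun g hg => ?_
  · exact (le_inf hKW (hKD.trans (normalizer_le_normalizer_centralizer D))).trans
      (normalizer_inf_le_normalizer_inf _ _)
  let E : Subgroup G := L ⊓ centralizer (W₁ : Set G)
  obtain ⟨k, hk⟩ := exists_pow_pow_mem_pResidual (p := p) (⟨g, hg⟩ : E)
  have hle : Cfsg.pResidual p ↥E ≤ (centralizer (W : Set G)).subgroupOf E :=
    (closure_le _).mpr fun y hy => hx y y.2.1 y.2.2 (by simpa using hy)
  exact ⟨k, hW ⟨pow_mem hg.1 _, by simpa [mem_subgroupOf] using hle hk⟩⟩

theorem normalizer_le_normalizer_largestPReducedOf [Finite G] [Fact p.Prime] (L : Subgroup G) :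
    normalizer (L : Set G) ≤ normalizer (Cfsg.largestPReducedOf p L : Set G) := by
  intro g hg
  refine mem_normalizer_of_conj_mem ?_
  suffices (Cfsg.largestPReducedOf p L).map (MulAut.conj g).toMonoidHom ≤
      Cfsg.largestPReducedOf p L from fun x hx => this ⟨x, hx, rfl⟩
  set Y := Cfsg.largestPReducedOf p L with hY
  set f : G →* G := (MulAut.conj g).toMonoidHom with hf
  have hfL : L.map f = L := mem_normalizer_iff_map_conj_eq.mp hg
  have hfi : Function.Injective f := (MulAut.conj g).injective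
  obtain ⟨h1, h2, h3⟩ := largestPReducedOf_spec (p := p) L
  have hC : (centralizer (Y : Set G)).map f = centralizer ((Y.map f : Subgroup G) : Set G) := by
    ext z
    simp only [mem_map, mem_centralizer_iff, SetLike.mem_coe]
    constructor
    · rintro ⟨w, hw, rfl⟩
      rintro _ ⟨y, hy, rfl⟩
      rw [← map_mul, ← map_mul, hw y hy]
    · intro h
      refine ⟨(MulAut.conj g).symm z, fun y hy => hfi ?_, (MulAut.conj g).apply_symm_apply z⟩
      have hz : f ((MulAut.conj g).symm z) = z := (MulAut.conj g).apply_symm_apply z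
      rw [map_mul, map_mul, hz]
      exact h _ ⟨y, hy, rfl⟩
  refine le_largestPReducedOf ((map_mono (largestPReducedOf_le L)).trans hfL.le) ?_ ?_ ?_
  · rw [← hfL]
    exact (map_mono h1).trans (le_normalizer_map f)
  · refine ⟨le_centralizer_iff_isMulCommutative.mp ?_, ?_⟩
    · rw [← hC]; exact map_mono (le_centralizer_self h2.1)
    · rintro _ ⟨y, hy, rfl⟩
      rw [← map_pow, h2.2 y hy, map_one]
  · intro D hDL hLD hD
    have hsur : Function.Surjective f := (MulAut.conj g).surjective
    rw [← hC, ← Subgroup.map_comap_eq_self_of_surjective hsur D]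
    refine map_mono (h3 _ ?_ ?_ ?_)
    · intro x hx
      have h' := hDL hx
      rw [← hfL] at h'
      exact (mem_map_iff_mem hfi).mp h'
    · exact (le_trans (fun x hx => Subgroup.mem_comap.mpr (hLD (hfL.le (mem_map_of_mem f hx)))) le_rfl :
        L ≤ (normalizer (D : Set G)).comap f).trans (le_normalizer_comap f)
    · intro x hx
      obtain ⟨k, hk⟩ := hD (f x) hx
      rw [← map_pow, ← hC] at hk
      exact ⟨k, (mem_map_iff_mem hfi).mp hk⟩

/-- `C_L(Y_G) ≤ C(Y_L)` for subnormal `L`. -/
theorem centralizer_largest_le_of_isSubnormal [Finite G] [Fact p.Prime] {L : Subgroup G}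
    (hL : L.IsSubnormal) :
    L ⊓ centralizer (Cfsg.largestPReduced p G : Set G) ≤
      centralizer (Cfsg.largestPReducedOf p L : Set G) := by
  induction hL with
  | top =>
    refine inf_le_right.trans (centralizer_le (SetLike.coe_subset_coe.mpr ?_))
    obtain ⟨h1, h2, h3⟩ := largestPReducedOf_spec (p := p) (⊤ : Subgroup G)
    refine le_largestPReduced (isPReducedNormal_iff.mpr
      ⟨normalizer_eq_top_iff.mp (top_le_iff.mp h1), h2, fun D hD hDp => ?_⟩)
    exact h3 D le_top (normalizer_eq_top_iff.mpr hD).ge hDp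
  | step H K hle _ hN ih =>
    have hKH : K ≤ normalizer (H : Set G) := (normal_subgroupOf_iff_le_normalizer hle).mp hN
    obtain ⟨_, h2, h3⟩ := largestPReducedOf_spec (p := p) H
    refine le_trans (le_inf inf_le_left ((inf_le_inf_right _ hle).trans ih))
      (centralizer_largest_le_of_normal hle hKH ((largestPReducedOf_le H).trans hle)
        (hKH.trans (normalizer_le_normalizer_largestPReducedOf H)) h2 h3)

end CfsgLib.PRed
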