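import Mathlib
import Cfsg.Prelude.Def_Solvable
import Cfsg.Prelude.Def_Transfer
import Cfsg.Agent.Lib.LocalEven.PReducedBasic
import Cfsg.Agent.Lib.LocalEven.PReduced
import Cfsg.Agent.Lib.LocalEven.PReducedSubnormal
import Cfsg.Agent.Lib.LocalEven.PIrreducible
import Cfsg.Agent.Lib.Structure.MinimalNormal
import Cfsg.Agent.Lib.Structure.IndexPowers

/-!
Joins of subnormal subgroups `A`, `B` of a finite group: a Sylow subgroup `T` meets `⟨A, B⟩` in
`⟨T ∩ A, T ∩ B⟩`, and `O^p⟨A, B⟩ = ⟨O^p A, O^p B⟩`.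
-/

namespace CfsgLib.SubJoin

open Subgroup CfsgLib.PRed
open scoped commutatorElement

universe u

variable {G : Type u} [Group G]

/-- `O^p(A)` inside `G`. -/
abbrev resOf (p : ℕ) (A : Subgroup G) : Subgroup G := (Cfsg.pResidual p ↥A).map A.subtype

theorem resOf_le (p : ℕ) (A : Subgroup G) : resOf p A ≤ A := map_subtype_le _

theorem mem_resOf {p : ℕ} {A : Subgroup G} {x : G} (hx : x ∈ A) (hxp : (orderOf x).Coprime p) :
    x ∈ resOf p A := by
  rw [resOf, pResidual_map_subtype_eq]
  exact subset_closure ⟨hx, hxp⟩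

theorem resOf_mono {p : ℕ} {A B : Subgroup G} (h : A ≤ B) : resOf p A ≤ resOf p B := by
  rw [resOf, resOf, pResidual_map_subtype_eq, pResidual_map_subtype_eq]
  exact closure_mono fun x hx => ⟨h hx.1, hx.2⟩

theorem resOf_resOf (p : ℕ) (A : Subgroup G) : resOf p (resOf p A) = resOf p A := by
  refine le_antisymm (resOf_le p _) ?_
  conv_lhs => rw [resOf, pResidual_map_subtype_eq]
  exact (closure_le _).mpr fun x hx => mem_resOf (mem_resOf hx.1 hx.2) hx.2

theorem resOf_top (p : ℕ) : resOf p (⊤ : Subgroup G) = Cfsg.pResidual p G := by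
  rw [resOf, pResidual_map_subtype_eq]
  simp [Cfsg.pResidual]

theorem isSubnormal_resOf {p : ℕ} {A : Subgroup G} (hA : A.IsSubnormal) :
    (resOf p A).IsSubnormal :=
  IsSubnormal.trans' (pResidual_normal (p := p) (G := ↥A)).isSubnormal hA

variable [Finite G]

theorem exists_sylow_subnormal {p : ℕ} [hp : Fact p.Prime] (T : Sylow p G) {A : Subgroup G}
    (hA : A.IsSubnormal) : ∃ P : Sylow p ↥A, (P : Subgroup ↥A) = (T : Subgroup G).subgroupOf A :=
  ⟨(T.2.comap_subtype (K := A)).toSylow fun hd => T.not_dvd_index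
      (hd.trans (IndexPowers.relIndex_dvd_index_of_isSubnormal hA _)), IsPGroup.toSylow_coe _ _⟩

/-- `A = (T ∩ A) O^p(A)`. -/
theorem le_inf_sup_resOf {p : ℕ} [hp : Fact p.Prime] (T : Sylow p G) {A : Subgroup G}
    (hA : A.IsSubnormal) : A ≤ ((T : Subgroup G) ⊓ A) ⊔ resOf p A := by
  obtain ⟨P, hP⟩ := exists_sylow_subnormal T hA
  have h := congrArg (Subgroup.map A.subtype) (sylow_sup_pResidual P)
  rw [Subgroup.map_sup, hP, subgroupOf_map_subtype, ← MonoidHom.range_eq_map, range_subtype] at h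
  exact h.ge

theorem map_inf_eq {p : ℕ} [Fact p.Prime] {G' : Type*} [Group G'] [Finite G'] {f : G →* G'}
    (hf : Function.Surjective f) (T : Sylow p G) {A : Subgroup G} (hA : A.IsSubnormal) :
    (T : Subgroup G).map f ⊓ A.map f = ((T : Subgroup G) ⊓ A).map f := by
  refine le_antisymm ?_ (Subgroup.map_inf_le _ _ f)
  obtain ⟨P, hP⟩ := exists_sylow_subnormal T hA
  let g : ↥A →* ↥(A.map f) := f.subgroupMap A
  have hg : Function.Surjective g := f.subgroupMap_surjective A
  let R := P.mapSurjective hg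
  have hmax := R.is_maximal'
    (IsPGroup.comap_subtype (K := A.map f) ((T.2.map f).to_le le_rfl)) (by
      rintro _ ⟨x, hx, rfl⟩
      rw [hP] at hx
      exact mem_map_of_mem f hx)
  rintro y ⟨hy1, hy2⟩
  obtain ⟨x, hx, hxy⟩ := hmax.le (show (⟨y, hy2⟩ : A.map f) ∈ _ from hy1)
  rw [hP] at hx
  exact ⟨x, ⟨hx, x.2⟩, congrArg Subtype.val hxy⟩

/-- `O^p` of a normal overgroup `K N` of a subnormal `K = O^p K` by a `p`-group is `K`. -/
theorem resOf_sup_le {p : ℕ} [Fact p.Prime] {K N : Subgroup G} [N.Normal] (hN : IsPGroup p N)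
    (hK : K.IsSubnormal) {x : G} (hx : x ∈ K ⊔ N) (hxp : (orderOf x).Coprime p) : x ∈ K := by
  have key : ∀ S : Subgroup G, S.IsSubnormal → K ≤ S → x ∈ S := by
    intro S hS
    induction hS with
    | top => intros; trivial
    | step U V hle hV hUn ih =>
      intro hKU
      have hxV : x ∈ V := ih (hKU.trans hle)
      obtain ⟨b, hb, q, hq, rfl⟩ := exists_mul_of_mem_sup le_normalizer_of_normal hx
      have hqV : q ∈ V := by simpa using V.mul_mem (V.inv_mem (hle (hKU hb))) hxV
      obtain ⟨k, hk⟩ := hN.exists_pow_pow_eq_one (⟨q, hq⟩ : N)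
      have hqk : q ^ p ^ k = 1 := by simpa [Subtype.ext_iff] using hk
      haveI := hUn
      have h1 : (⟨b * q, hxV⟩ : V) ^ p ^ k ∈ U.subgroupOf V := by
        rw [← QuotientGroup.eq_one_iff, QuotientGroup.mk_pow,
          show (⟨b * q, hxV⟩ : V) = ⟨b, hle (hKU hb)⟩ * ⟨q, hqV⟩ from rfl, QuotientGroup.mk_mul,
          (QuotientGroup.eq_one_iff (⟨b, hle (hKU hb)⟩ : V)).mpr (show b ∈ U from hKU hb),
          one_mul, ← QuotientGroup.mk_pow,
          show (⟨q, hqV⟩ : V) ^ p ^ k = 1 from Subtype.ext (by simpa using hqk)]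
        rfl
      exact mem_of_pow_pow_mem hxp (by simpa [mem_subgroupOf] using h1)
  exact key K hK le_rfl

/-- Transfer: a central `N` with `T = J N`, `J < T`, gives a `p`-quotient. -/
theorem pResidual_ne_top {p : ℕ} [hp : Fact p.Prime] (T : Sylow p G) {J N : Subgroup G}
    (hJT : J ≤ (T : Subgroup G)) (hNT : N ≤ (T : Subgroup G)) (hN : N ≤ center G)
    (hT : (T : Subgroup G) ≤ J ⊔ N) (hNJ : ¬ N ≤ J) : Cfsg.pResidual p G ≠ ⊤ := by
  obtain ⟨z, hzN, hzJ⟩ := SetLike.not_le_iff_exists.mp hNJ
  set J' := J.subgroupOf (T : Subgroup G) with hJ'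
  haveI hJn : J'.Normal := by
    refine normal_subgroupOf_of_le_normalizer (hT.trans (sup_le le_normalizer ?_))
    exact hN.trans ((center_le_centralizer _).trans (centralizer_le_normalizer _))
  haveI hQc : IsMulCommutative (↥(T : Subgroup G) ⧸ J') := by
    refine ⟨⟨fun a b => ?_⟩⟩
    have hrep : ∀ a : ↥(T : Subgroup G) ⧸ J', ∃ n : ↥(T : Subgroup G),
        (n : G) ∈ N ∧ (QuotientGroup.mk n : _ ⧸ J') = a := by
      intro a
      obtain ⟨t, rfl⟩ := QuotientGroup.mk_surjective a
      obtain ⟨j, hj, n, hn, he⟩ := exists_mul_of_mem_sup (D := J) (C := N)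
        (fun g _ => mem_normalizer_of_conj_mem fun x hx => by
          rwa [mem_center_iff.mp (hN hx) g, mul_inv_cancel_right]) (hT t.2)
      refine ⟨⟨n, hNT hn⟩, hn, QuotientGroup.eq.mpr ?_⟩
      show n⁻¹ * (t : G) ∈ J
      rw [← he, mem_center_iff.mp (hN hn) j]
      simpa using hj
    obtain ⟨m, hm, rfl⟩ := hrep a
    obtain ⟨n, hn, rfl⟩ := hrep b
    rw [← QuotientGroup.mk_mul, ← QuotientGroup.mk_mul]
    exact congrArg _ (Subtype.ext (mem_center_iff.mp (hN hn) m))
  open scoped IsMulCommutative in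
  let τ : G →* ↥(T : Subgroup G) ⧸ J' :=
    MonoidHom.transfer (H := (T : Subgroup G)) (QuotientGroup.mk' J')
  open scoped IsMulCommutative in
  intro htop
  have hle : Cfsg.pResidual p G ≤ τ.ker := by
    refine pResidual_le fun x => ?_
    obtain ⟨k, hk⟩ := (T.2.to_quotient J').exists_pow_pow_eq_one (τ x)
    exact ⟨k, by rw [MonoidHom.mem_ker, map_pow, hk]⟩
  rw [htop] at hle
  have hz : τ z = 1 := hle (Subgroup.mem_top z)
  have key : ∀ (k : ℕ) (g₀ : G), g₀⁻¹ * z ^ k * g₀ ∈ (T : Subgroup G) →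
      g₀⁻¹ * z ^ k * g₀ = z ^ k := fun k g₀ _ => by
    rw [mul_assoc, ← mem_center_iff.mp ((center G).pow_mem (hN hzN) k) g₀, inv_mul_cancel_left]
  rw [MonoidHom.transfer_eq_pow _ z key, QuotientGroup.mk'_apply, QuotientGroup.eq_one_iff] at hz
  have hz' : z ^ (T : Subgroup G).index ∈ J := hz
  obtain ⟨k, hk⟩ := T.2.exists_pow_pow_eq_one ⟨z, hNT hzN⟩
  have hzk : z ^ p ^ k = 1 := by simpa [Subtype.ext_iff] using hk
  obtain ⟨m, hm⟩ := exists_pow_eq_self_of_coprime (x := z) (n := (T : Subgroup G).index)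
    (((hp.out.coprime_iff_not_dvd.mpr T.not_dvd_index).symm.pow_right k).coprime_dvd_right
      (orderOf_dvd_of_pow_eq_one hzk))
  exact hzJ (hm ▸ J.pow_mem hz' m)

/-- The main induction, for a group generated by the two subnormal subgroups. -/
theorem main_top (n : ℕ) : ∀ (G : Type u) [Group G] [Finite G], Nat.card G ≤ n →
    ∀ A B : Subgroup G, A.IsSubnormal → B.IsSubnormal → A ⊔ B = ⊤ → ∀ p : ℕ, ∀ [Fact p.Prime],
      (∀ T : Sylow p G, (T : Subgroup G) = ((T : Subgroup G) ⊓ A) ⊔ ((T : Subgroup G) ⊓ B)) ∧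
        Cfsg.pResidual p G = resOf p A ⊔ resOf p B := by
  induction n with
  | zero => intro G _ _ hG; exact absurd hG (by have := Nat.card_pos (α := G); omega)
  | succ n ih =>
  intro G _ _ hG A B hA hB hAB
  rcases subsingleton_or_nontrivial G with hs | hs
  · intro p _
    exact ⟨fun T => Subsingleton.elim _ _, Subsingleton.elim _ _⟩
  obtain ⟨N, hN⟩ := CfsgLib.Structure.exists_isMinNormal (G := G)
  haveI := hN.normal
  set f := QuotientGroup.mk' N with hf
  have hs' : Function.Surjective f := QuotientGroup.mk'_surjective N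
  have hlt : Nat.card (G ⧸ N) < Nat.card G := by
    rw [Subgroup.card_eq_card_quotient_mul_card_subgroup N]
    exact lt_mul_of_one_lt_right Nat.card_pos ((one_lt_card_iff_ne_bot N).mpr hN.ne_bot)
  have hquot := ih (G ⧸ N) (by omega) (A.map f) (B.map f) (hA.map hs') (hB.map hs')
    (by rw [← Subgroup.map_sup, hAB, Subgroup.map_top_of_surjective f hs'])
  -- residual statement when `N` is a `p`-group
  have hR0 : ∀ p : ℕ, ∀ [Fact p.Prime], IsPGroup p N →
      Cfsg.pResidual p G ≤ resOf p A ⊔ resOf p B := by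
    intro p _ hNp
    have hKs : (resOf p A ⊔ resOf p B).IsSubnormal :=
      CfsgLib.Structure.isSubnormal_sup (isSubnormal_resOf hA) (isSubnormal_resOf hB)
    refine (closure_le _).mpr fun x hx => resOf_sup_le hNp hKs ?_ hx
    have hmem : f x ∈ (resOf p A ⊔ resOf p B).map f := by
      have hres : ∀ A : Subgroup G, resOf p (A.map f) = (resOf p A).map f := by
        intro A
        have h := congrArg (Subgroup.map (A.map f).subtype)
          (CfsgLib.PIrr.map_pResidual (p := p) (f.subgroupMap A) (f.subgroupMap_surjective A))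
        rw [resOf, resOf, ← h, map_map, map_map]
        rfl
      rw [Subgroup.map_sup, ← hres, ← hres, ← (hquot p).2, ← CfsgLib.PIrr.map_pResidual f hs']
      exact mem_map_of_mem f (mem_pResidual hx)
    rw [← Subgroup.mem_comap, Subgroup.comap_map_eq, QuotientGroup.ker_mk'] at hmem
    exact hmem
  have hP : ∀ p : ℕ, ∀ [Fact p.Prime], ∀ T : Sylow p G,
      (T : Subgroup G) = ((T : Subgroup G) ⊓ A) ⊔ ((T : Subgroup G) ⊓ B) := by
    intro p _ T
    set J := ((T : Subgroup G) ⊓ A) ⊔ ((T : Subgroup G) ⊓ B) with hJdef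
    have hJT : J ≤ (T : Subgroup G) := sup_le inf_le_left inf_le_left
    refine le_antisymm ?_ hJT
    have hTJN : (T : Subgroup G) ≤ J ⊔ ((T : Subgroup G) ⊓ N) := by
      intro t ht
      have h1 : f t ∈ J.map f := by
        rw [hJdef, Subgroup.map_sup, ← map_inf_eq hs' T hA, ← map_inf_eq hs' T hB]
        exact ((hquot p).1 (T.mapSurjective hs')).le (mem_map_of_mem f ht)
      obtain ⟨j, hj, hje⟩ := h1
      have h2 : j⁻¹ * t ∈ N := QuotientGroup.eq.mp hje
      simpa using mul_mem_sup hj (show j⁻¹ * t ∈ (T : Subgroup G) ⊓ N from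
        ⟨(T : Subgroup G).mul_mem ((T : Subgroup G).inv_mem (hJT hj)) ht, h2⟩)
    refine hTJN.trans (sup_le le_rfl ?_)
    by_cases hcen : N ≤ center G
    · by_contra hnot
      -- `N` is a central `p`-group
      haveI : IsMulCommutative ↥N := ⟨⟨fun a b => Subtype.ext (mem_center_iff.mp (hcen b.2) a)⟩⟩
      have hNp : IsPGroup p N := by
        obtain ⟨x, ⟨hxT, hxN⟩, hxJ⟩ := SetLike.not_le_iff_exists.mp hnot
        have hz : (Subgroup.zpowers x).Normal := ⟨fun y hy g => by
          have hyc : y ∈ center G := hcen (Subgroup.zpowers_le.mpr hxN hy)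
          rwa [mem_center_iff.mp hyc g, mul_inv_cancel_right]⟩
        rw [← hN.eq_of_le hz (Subgroup.zpowers_le.mpr hxN)
          (fun h => hxJ (by rw [Subgroup.zpowers_eq_bot] at h; rw [h]; exact J.one_mem))]
        exact T.2.to_le (Subgroup.zpowers_le.mpr hxT)
      have hK := hR0 p hNp
      set K := Cfsg.pResidual p G with hKdef
      haveI hKn : K.Normal := pResidual_normal
      have hNT : N ≤ (T : Subgroup G) := hNp.le_sylow_of_normal T
      rw [inf_eq_right.mpr hNT] at hnot hTJN
      by_cases hKtop : K = ⊤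
      · exact pResidual_ne_top T hJT hNT hcen hTJN hnot hKtop
      -- `K` is proper: induction inside `K`
      have hKlt : Nat.card ↥K ≤ n := by
        have : Nat.card ↥K < Nat.card G := lt_of_le_of_ne
          (Subgroup.card_le_card_group K) (fun h => hKtop (K.eq_top_of_card_eq h))
        omega
      have hAK : resOf p A ≤ K := by rw [hKdef, ← resOf_top]; exact resOf_mono le_top
      have hBK : resOf p B ≤ K := by rw [hKdef, ← resOf_top]; exact resOf_mono le_top
      obtain ⟨P, hP⟩ := exists_sylow_inf_normal T K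
      have hih := ((ih ↥K hKlt ((resOf p A).subgroupOf K) ((resOf p B).subgroupOf K)
        (isSubnormal_resOf hA).subgroupOf (isSubnormal_resOf hB).subgroupOf (by
          rw [← Subgroup.subgroupOf_sup hAK hBK, Subgroup.subgroupOf_eq_top]
          exact hK)) p).1 P
      have hTK : (T : Subgroup G) ⊓ K ≤ J := by
        have h := congrArg (Subgroup.map K.subtype) hih
        rw [Subgroup.map_sup, Subgroup.map_inf _ _ _ K.subtype_injective,
          Subgroup.map_inf _ _ _ K.subtype_injective, hP, subgroupOf_map_subtype,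
          map_subgroupOf_eq_of_le hAK, map_subgroupOf_eq_of_le hBK] at h
        refine h.le.trans (sup_le ?_ ?_)
        · exact (inf_le_inf inf_le_left (resOf_le p A)).trans le_sup_left
        · exact (inf_le_inf inf_le_left (resOf_le p B)).trans le_sup_right
      refine hnot (hNT.trans fun t ht => ?_)
      have htop : (⊤ : Subgroup G) ≤ K ⊔ J := by
        rw [← hAB]
        exact sup_le ((le_inf_sup_resOf T hA).trans (sup_le (le_sup_left.trans le_sup_right)
            (hAK.trans le_sup_left)))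
          ((le_inf_sup_resOf T hB).trans (sup_le (le_sup_right.trans le_sup_right)
            (hBK.trans le_sup_left)))
      obtain ⟨k, hk, j, hj, rfl⟩ := Subgroup.mem_sup_of_normal_left.mp (htop (Subgroup.mem_top t))
      refine J.mul_mem (hTK ⟨?_, hk⟩) hj
      have hkT := (T : Subgroup G).mul_mem ht ((T : Subgroup G).inv_mem (hJT hj))
      rwa [mul_inv_cancel_right] at hkT
    · -- `N = (N ∩ A)(N ∩ B)`
      have hnA : A ≤ normalizer (N : Set G) := le_normalizer_of_normal
      have hNA : N ≤ normalizer (A : Set G) := hN.le_normalizer_of_isSubnormal hA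
      have hNB : N ≤ normalizer (B : Set G) := hN.le_normalizer_of_isSubnormal hB
      set U := (N ⊓ A) ⊔ (N ⊓ B) with hU
      have hcA : ⁅N, A⁆ ≤ U := (le_inf (commutator_le_left N A)
        (le_normalizer_iff_commutator_le_right.mp hNA)).trans le_sup_left
      have hcB : ⁅N, B⁆ ≤ U := (le_inf (commutator_le_left N B)
        (le_normalizer_iff_commutator_le_right.mp hNB)).trans le_sup_right
      have hUN : U ≤ N := sup_le inf_le_left inf_le_left
      have hUn : U.Normal := by
        rw [← normalizer_eq_top_iff, eq_top_iff, ← hAB, sup_le_iff]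
        exact ⟨le_normalizer_iff_commutator_le_left.mpr ((commutator_mono hUN le_rfl).trans hcA),
          le_normalizer_iff_commutator_le_left.mpr ((commutator_mono hUN le_rfl).trans hcB)⟩
      have hUne : U ≠ ⊥ := fun hbot => hcen (by
        rw [hbot, le_bot_iff, commutator_eq_bot_iff_le_centralizer] at hcA hcB
        have h : A ⊔ B ≤ centralizer (N : Set G) :=
          sup_le (Subgroup.le_centralizer_iff.mp hcA) (Subgroup.le_centralizer_iff.mp hcB)
        rw [hAB] at h
        exact (Subgroup.le_centralizer_iff.mp h).trans fun g hg =>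
          mem_center_iff.mpr fun y => mem_centralizer_iff.mp hg y (Subgroup.mem_top y))
      have hUeq : U = N := hN.eq_of_le hUn hUN hUne
      obtain ⟨P, hP⟩ := exists_sylow_inf_normal T N
      have hsA : (A.subgroupOf N).Normal := normal_subgroupOf_of_le_normalizer hNA
      have hsB : (B.subgroupOf N).Normal := normal_subgroupOf_of_le_normalizer hNB
      haveI := hsA
      -- the image of `T ∩ N ∩ B` in `N/(N ∩ A)` is a Sylow subgroup
      have hmapB : (B.subgroupOf N).map (QuotientGroup.mk' (A.subgroupOf N)) = ⊤ := by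
        refine top_le_iff.mp fun q _ => ?_
        obtain ⟨x, rfl⟩ := QuotientGroup.mk'_surjective (A.subgroupOf N) q
        have hx : x ∈ A.subgroupOf N ⊔ B.subgroupOf N := by
          have hxU : (x : G) ∈ (A.subgroupOf N ⊔ B.subgroupOf N).map N.subtype := by
            rw [Subgroup.map_sup, subgroupOf_map_subtype, subgroupOf_map_subtype, inf_comm A,
              inf_comm B, ← hU, hUeq]
            exact x.2
          exact (mem_map_iff_mem N.subtype_injective).mp hxU
        obtain ⟨a, ha, b, hb, rfl⟩ := Subgroup.mem_sup_of_normal_left.mp hx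
        refine ⟨b, hb, ?_⟩
        rw [map_mul, show QuotientGroup.mk' (A.subgroupOf N) a = 1 from
          (QuotientGroup.eq_one_iff a).mpr ha, one_mul]
      have hmi := map_inf_eq (QuotientGroup.mk'_surjective (A.subgroupOf N)) P hsB.isSubnormal
      rw [hmapB, inf_top_eq] at hmi
      rintro t ⟨htT, htN⟩
      obtain ⟨y, ⟨hyP, hyB⟩, hye⟩ := hmi.le (mem_map_of_mem _ (show (⟨t, htN⟩ : N) ∈ (P : Subgroup ↥N) by
        rw [hP]; exact htT))
      have h2 : y⁻¹ * ⟨t, htN⟩ ∈ A.subgroupOf N := QuotientGroup.eq.mp hye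
      rw [hP] at hyP
      have hyT : (y : G) ∈ (T : Subgroup G) := hyP
      have h3 : t = (y : G) * ((y : G)⁻¹ * t) := by group
      rw [h3]
      exact J.mul_mem (mem_sup_right (show (y : G) ∈ (T : Subgroup G) ⊓ B from ⟨hyT, hyB⟩))
        (mem_sup_left (show (y : G)⁻¹ * t ∈ (T : Subgroup G) ⊓ A from
          ⟨(T : Subgroup G).mul_mem ((T : Subgroup G).inv_mem hyT) htT, h2⟩))
  intro p _
  refine ⟨fun T => hP p T, le_antisymm ?_ (sup_le ?_ ?_)⟩
  · refine (closure_le _).mpr fun x hx => ?_
    -- each primary part of `x` lies in the join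
    set C := (resOf p A ⊔ resOf p B).subgroupOf (Subgroup.zpowers x) with hC
    suffices hCi : C.index = 1 by
      have := (index_eq_one.mp hCi).ge (Subgroup.mem_top ⟨x, Subgroup.mem_zpowers x⟩)
      exact this
    by_contra hne
    obtain ⟨q, hq, hqd⟩ := Nat.exists_prime_and_dvd hne
    haveI := Fact.mk hq
    obtain ⟨S⟩ : Nonempty (Sylow q ↥(Subgroup.zpowers x)) := inferInstance
    refine S.not_dvd_index (hqd.trans (index_dvd_of_le ?_))
    intro y hy
    obtain ⟨T, hT⟩ := (S.2.map (Subgroup.zpowers x).subtype).exists_le_sylow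
    have hyT : (y : G) ∈ (T : Subgroup G) := hT ⟨y, hy, rfl⟩
    rw [hP q T] at hyT
    have hqx : q ∣ orderOf x := by
      rw [← Nat.card_zpowers]
      exact hqd.trans C.index_dvd_card
    have hqp : q.Coprime p := hx.coprime_dvd_left hqx
    have hcop : ∀ z ∈ (T : Subgroup G), (orderOf z).Coprime p := fun z hz => by
      obtain ⟨k, hk⟩ := T.2.exists_pow_pow_eq_one ⟨z, hz⟩
      exact (hqp.pow_left k).coprime_dvd_left
        (orderOf_dvd_of_pow_eq_one (by simpa [Subtype.ext_iff] using hk))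
    have hle : ((T : Subgroup G) ⊓ A) ⊔ ((T : Subgroup G) ⊓ B) ≤ resOf p A ⊔ resOf p B :=
      sup_le (fun z hz => mem_sup_left (mem_resOf hz.2 (hcop z hz.1)))
        (fun z hz => mem_sup_right (mem_resOf hz.2 (hcop z hz.1)))
    exact hle hyT
  · rw [← resOf_top]; exact resOf_mono le_top
  · rw [← resOf_top]; exact resOf_mono le_top

/-- `T ∩ ⟨A, B⟩ = ⟨T ∩ A, T ∩ B⟩` for subnormal `A`, `B`. -/
theorem inf_sup_eq {p : ℕ} [Fact p.Prime] (T : Sylow p G) {A B : Subgroup G}
    (hA : A.IsSubnormal) (hB : B.IsSubnormal) :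
    (T : Subgroup G) ⊓ (A ⊔ B) = ((T : Subgroup G) ⊓ A) ⊔ ((T : Subgroup G) ⊓ B) := by
  set L := A ⊔ B with hL
  obtain ⟨P, hP⟩ := exists_sylow_subnormal T
    (CfsgLib.Structure.isSubnormal_sup hA hB)
  have h := congrArg (Subgroup.map L.subtype) (((main_top _ ↥L le_rfl (A.subgroupOf L)
    (B.subgroupOf L) hA.subgroupOf hB.subgroupOf
    (by rw [← Subgroup.subgroupOf_sup le_sup_left le_sup_right, Subgroup.subgroupOf_self])) p).1 P)
  rw [Subgroup.map_sup, Subgroup.map_inf _ _ _ L.subtype_injective,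
    Subgroup.map_inf _ _ _ L.subtype_injective, hP, subgroupOf_map_subtype,
    map_subgroupOf_eq_of_le le_sup_left, map_subgroupOf_eq_of_le le_sup_right, inf_assoc,
    inf_assoc, inf_eq_right.mpr (le_sup_left : A ≤ L), inf_eq_right.mpr (le_sup_right : B ≤ L)] at h
  exact h

end CfsgLib.SubJoin
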