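import Cfsg.Agent.Lib.LocalEven.PReducedBasic
import Cfsg.Agent.Lib.Components.FStarSubnormal
import Cfsg.Agent.Lib.Coprime.Commutator

/-!
Action of a `p`-group on a group that equals its generalized Fitting subgroup and has trivial `O_p`.
-/

set_option autoImplicit false

open Cfsg
open scoped commutatorElement

namespace CfsgLib.FStarCop

variable {G : Type*} [Group G] [Finite G] {p : ℕ} [Fact p.Prime]

/-- `L` equals its generalized Fitting subgroup and has trivial `O_p`. -/
def Good (p : ℕ) (L : Subgroup G) : Prop :=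
  Cfsg.generalizedFittingSubgroup ↥L = ⊤ ∧ Cfsg.pCore p ↥L = ⊥

omit [Fact p.Prime] in
theorem fstar_inf_subnormal {S : Subgroup G} (hS : S.IsSubnormal) :
    (Cfsg.generalizedFittingSubgroup ↥S).map S.subtype = Cfsg.generalizedFittingSubgroup G ⊓ S := by
  induction hS with
  | top =>
    rw [inf_top_eq, ← CfsgLib.Components39.map_generalizedFitting_equiv (Subgroup.topEquiv (G := G))]
    rfl
  | step A B hle _ hN ih =>
    haveI := hN
    have h1 := CfsgLib.Components39.generalizedFitting_inf_normal (A.subgroupOf B)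
    have h2 := congrArg (Subgroup.map B.subtype) h1
    rw [Subgroup.map_inf _ _ _ B.subtype_injective, ih, Subgroup.subgroupOf_map_subtype,
      inf_eq_left.mpr hle, inf_assoc, inf_eq_right.mpr hle, Subgroup.map_map] at h2
    rw [h2, ← CfsgLib.Components39.map_generalizedFitting_equiv (Subgroup.subgroupOfEquivOfLe hle),
      Subgroup.map_map]
    rfl

theorem pCore_eq_bot_of_isSubnormal (hO : Cfsg.pCore p G = ⊥) {L : Subgroup G} (hL : L.IsSubnormal) :
    Cfsg.pCore p ↥L = ⊥ := by
  have h := CfsgLib.PRed.le_pCore_of_isSubnormal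
    ((CfsgLib.PRed.pCore_normal (p := p) (G := ↥L)).isSubnormal.trans' hL)
    (CfsgLib.PRed.pCore_isPGroup.map L.subtype)
  rwa [hO, le_bot_iff, Subgroup.map_eq_bot_iff_of_injective _ L.subtype_injective] at h

theorem good_of_isSubnormal (hO : Cfsg.pCore p G = ⊥) {L : Subgroup G} (hL : L.IsSubnormal)
    (hLF : L ≤ Cfsg.generalizedFittingSubgroup G) : Good p L := by
  refine ⟨Subgroup.map_injective L.subtype_injective ?_, pCore_eq_bot_of_isSubnormal hO hL⟩
  rw [fstar_inf_subnormal hL, inf_eq_right.mpr hLF, ← MonoidHom.range_eq_map, Subgroup.range_subtype]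

theorem good_fstar (hO : Cfsg.pCore p G = ⊥) : Good p (Cfsg.generalizedFittingSubgroup G) :=
  good_of_isSubnormal hO (CfsgLib.Components.generalizedFitting_normal (G := G)).isSubnormal le_rfl

theorem coprime_card_fitting (hO : Cfsg.pCore p G = ⊥) :
    (Nat.card (Cfsg.fittingSubgroup G)).Coprime p := by
  refine ((Fact.out : p.Prime).coprime_iff_not_dvd.mpr fun hd => ?_).symm
  obtain ⟨S⟩ : Nonempty (Sylow p (Cfsg.fittingSubgroup G)) := inferInstance
  haveI := CfsgLib.Fitting.fitting_isNilpotent (G := G)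
  haveI := CfsgLib.Fitting.fitting_normal (G := G)
  have hSn : (S : Subgroup (Cfsg.fittingSubgroup G)).Normal := inferInstance
  haveI := S.characteristic_of_normal hSn
  have hle := CfsgLib.PRed.le_pCore
    (inferInstance : ((S : Subgroup (Cfsg.fittingSubgroup G)).map (Cfsg.fittingSubgroup G).subtype).Normal)
    (S.2.map (Cfsg.fittingSubgroup G).subtype)
  rw [hO, le_bot_iff,
    Subgroup.map_eq_bot_iff_of_injective _ (Cfsg.fittingSubgroup G).subtype_injective] at hle
  exact S.ne_bot_of_dvd_card hd hle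

omit [Finite G] in
theorem normalizer_le_normalizer_char {L : Subgroup G} {C : Subgroup ↥L} (hC : C.Characteristic)
    {Y : Subgroup G} (hY : Y ≤ Subgroup.normalizer (L : Set G)) :
    Y ≤ Subgroup.normalizer ((C.map L.subtype : Subgroup G) : Set G) := by
  haveI := hC
  refine Subgroup.le_normalizer_iff.2 fun y hy x hx => ?_
  obtain ⟨c, hc, rfl⟩ := hx
  let e := L.normalizerMonoidHom ⟨y, hY hy⟩
  have hc' : e c ∈ C := by
    have := Subgroup.characteristic_iff_map_eq.mp hC e
    rw [← this]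
    exact ⟨c, hc, rfl⟩
  exact ⟨e c, hc', rfl⟩

theorem commutator_sup_centralizer {L Y : Subgroup G} (hgood : Good p L) (hY : IsPGroup p ↥Y)
    (hYL : Y ≤ Subgroup.normalizer (L : Set G)) :
    ⁅L, Y⁆ ⊔ (L ⊓ Subgroup.centralizer (Y : Set G)) = L := by
  obtain ⟨hF, hO⟩ := hgood
  have hle : ⁅L, Y⁆ ≤ L := CfsgLib.Coprime.commutator_le_of_normalizes hYL
  refine le_antisymm (sup_le hle inf_le_left) ?_
  set W := ⁅L, Y⁆ with hW
  have hWn : (W.subgroupOf L).Normal :=
    (Subgroup.normal_subgroupOf_iff_le_normalizer hle).mpr (Subgroup.normalizer_commutator_ge_left _ _)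
  suffices h : Cfsg.generalizedFittingSubgroup ↥L ≤ (W ⊔ (L ⊓ Subgroup.centralizer (Y : Set G))).subgroupOf L by
    intro x hx
    exact h (hF ▸ Subgroup.mem_top (⟨x, hx⟩ : L) : (⟨x, hx⟩ : L) ∈ _)
  refine sup_le (sSup_le fun K hK => ?_) ?_
  · refine Subgroup.map_le_iff_le_comap.mp ?_
    rcases CfsgLib.Components.le_or_commutator_eq_bot hK hWn.isSubnormal with h | h
    · exact le_sup_of_le_left ((Subgroup.map_mono h).trans (by
        rw [Subgroup.subgroupOf_map_subtype]; exact inf_le_left))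
    · refine le_sup_of_le_right (le_inf (Subgroup.map_subtype_le _) ?_)
      set K' := K.map L.subtype with hK'
      have hKW : ⁅K', W⁆ = ⊥ := by
        have := congrArg (Subgroup.map L.subtype) h
        rwa [Subgroup.map_commutator, Subgroup.map_bot, Subgroup.subgroupOf_map_subtype,
          inf_eq_left.mpr hle] at this
      have hKK : ⁅K', K'⁆ = K' := by
        rw [hK', ← Subgroup.map_commutator, CfsgLib.Components.component_commutator_self hK]
      have h2 : ⁅⁅K', Y⁆, K'⁆ = ⊥ := le_bot_iff.mp <| by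
        rw [← hKW, Subgroup.commutator_comm K' W]
        exact Subgroup.commutator_mono (Subgroup.commutator_mono (Subgroup.map_subtype_le _) le_rfl) le_rfl
      exact Subgroup.commutator_eq_bot_iff_le_centralizer.mp
        (CfsgLib.Components.commutator_eq_bot_of_perfect hKK h2)
  · refine Subgroup.map_le_iff_le_comap.mp ?_
    set U := (Cfsg.fittingSubgroup ↥L).map L.subtype with hU
    have hchar : (Cfsg.fittingSubgroup ↥L).Characteristic :=
      Subgroup.characteristic_iff_map_eq.mpr fun e => CfsgLib.Fitting.fitting_map_mulEquiv e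
    have hcop : (Nat.card Y).Coprime (Nat.card U) := by
      obtain ⟨n, hn⟩ := IsPGroup.iff_card.mp hY
      rw [hn, hU, Subgroup.card_map_of_injective L.subtype_injective]
      exact (coprime_card_fitting hO).symm.pow_left n
    haveI := hY.isNilpotent
    rw [← CfsgLib.Coprime.commutator_sup_centralizer Y U (normalizer_le_normalizer_char hchar hYL)
      hcop (Or.inl inferInstance)]
    exact sup_le_sup (Subgroup.commutator_mono (Subgroup.map_subtype_le _) le_rfl)
      (inf_le_inf_right _ (Subgroup.map_subtype_le _))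

theorem commutator_commutator_eq {L Y : Subgroup G} (hgood : Good p L) (hY : IsPGroup p ↥Y)
    (hYL : Y ≤ Subgroup.normalizer (L : Set G)) : ⁅⁅L, Y⁆, Y⁆ = ⁅L, Y⁆ := by
  refine le_antisymm (Subgroup.commutator_mono (CfsgLib.Coprime.commutator_le_of_normalizes hYL) le_rfl) ?_
  rw [Subgroup.commutator_le]
  intro k hk a ha
  rw [← commutator_sup_centralizer hgood hY hYL, sup_comm] at hk
  obtain ⟨c, hc, u, hu, rfl⟩ := CfsgLib.Coprime.exists_mul_of_mem_sup
    (inf_le_left.trans (Subgroup.normalizer_commutator_ge_left L Y)) hk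
  have hu' : c * u * c⁻¹ ∈ ⁅L, Y⁆ :=
    (Subgroup.mem_normalizer_iff.mp (Subgroup.normalizer_commutator_ge_left L Y hc.1) u).mp hu
  have hca : c * a = a * c := (Subgroup.mem_centralizer_iff.mp hc.2 a ha).symm
  have e : ⁅c * u, a⁆ = ⁅c * u * c⁻¹, a⁆ := by
    rw [commutatorElement_def, commutatorElement_def]
    have h1 : c⁻¹ * a = a * c⁻¹ := by
      rw [inv_mul_eq_iff_eq_mul, ← mul_assoc, hca, mul_inv_cancel_right]
    calc c * u * a * (c * u)⁻¹ * a⁻¹ = c * u * a * u⁻¹ * (c⁻¹ * a⁻¹) := by group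
      _ = c * u * a * u⁻¹ * (a⁻¹ * c⁻¹) := by
          rw [show c⁻¹ * a⁻¹ = (a * c)⁻¹ by group, ← hca, mul_inv_rev]
      _ = c * u * (c⁻¹ * a * c) * u⁻¹ * a⁻¹ * c⁻¹ := by rw [h1]; group
      _ = c * u * c⁻¹ * a * (c * u⁻¹) * (a⁻¹ * c⁻¹) := by group
      _ = c * u * c⁻¹ * a * (c * u⁻¹) * (c⁻¹ * a⁻¹) := by
          rw [show a⁻¹ * c⁻¹ = (c * a)⁻¹ by group, hca, mul_inv_rev]
      _ = c * u * c⁻¹ * a * (c * u * c⁻¹)⁻¹ * a⁻¹ := by group
  rw [e]
  exact Subgroup.commutator_mem_commutator hu' ha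

theorem commutator_eq_bot {L Y : Subgroup G} (hgood : Good p L) (hY : IsPGroup p ↥Y)
    (hYL : Y ≤ Subgroup.normalizer (L : Set G)) (h : ⁅⁅L, Y⁆, Y⁆ = ⊥) : ⁅L, Y⁆ = ⊥ := by
  rw [← commutator_commutator_eq hgood hY hYL, h]

/-- A `p`-subgroup centralizing `F*(G)` is trivial when `O_p(G) = 1`. -/
theorem eq_bot_of_centralizes_fstar (hO : Cfsg.pCore p G = ⊥) {Y : Subgroup G} (hY : IsPGroup p ↥Y)
    (h : ⁅Cfsg.generalizedFittingSubgroup G, Y⁆ = ⊥) : Y = ⊥ := by
  have hle : Y ≤ Cfsg.fittingSubgroup G :=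
    (Subgroup.le_centralizer_iff.mp (Subgroup.commutator_eq_bot_iff_le_centralizer.mp h)).trans
      CfsgLib.Components.centralizer_generalizedFitting_le_fitting
  obtain ⟨n, hn⟩ := IsPGroup.iff_card.mp hY
  exact Subgroup.card_eq_one.mp <| Nat.eq_one_of_dvd_coprimes
    ((coprime_card_fitting hO).symm.pow_left n) (hn ▸ dvd_rfl) (Subgroup.card_dvd_of_le hle)

omit [Finite G] in
theorem commutator_le_of_isSubnormal {L Y : Subgroup G} {K : Subgroup G} (hK : K.IsSubnormal)
    (hYK : Y ≤ K) (h : ⁅L, Y⁆ = L) : L ≤ K := by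
  induction hK with
  | top => exact le_top
  | step A B hle _ hN ih =>
    have hLB := ih (hYK.trans hle)
    rw [← h, Subgroup.commutator_le]
    intro l hl y hy
    have hn : l ∈ Subgroup.normalizer (A : Set G) :=
      (Subgroup.normal_subgroupOf_iff_le_normalizer hle).mp hN (hLB hl)
    exact A.mul_mem ((Subgroup.mem_normalizer_iff.mp hn y).mp (hYK hy)) (A.inv_mem (hYK hy))

end CfsgLib.FStarCop
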