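import Cfsg.Agent.Lib.LocalEven.GlaubermanWeakCore
import Cfsg.Agent.Lib.PLocal.Thompson
import Cfsg.Agent.Lib.PCore.Basic
import Cfsg.Agent.Lib.Techniques.FusionInduction

/-!
Glauberman's weak closure theorem for the normalizer of the (abelian) Thompson subgroup.
-/

set_option autoImplicit false
set_option linter.unusedSectionVars false

open Subgroup
open scoped IsMulCommutative

namespace CfsgLib.LocalEven.GlaubermanWeak

open CfsgLib.PLocal CfsgLib.Techniques CfsgLib.Techniques.Fusion

variable {G : Type*} [Group G]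

theorem relIndex_mul_card {H K : Subgroup G} (h : H ≤ K) :
    Nat.card H * H.relIndex K = Nat.card K := by
  rw [← relIndex_bot_left, relIndex_mul_relIndex _ _ _ bot_le h, relIndex_bot_left]

/-- The local form: if `x = z ^ q` lies in `O_p(G)`, `z ∈ Z(S)`, and `x` is centralized by
`N(J(S))`, then `x` is central. -/
theorem mem_center_of_local {G : Type*} [Group G] [Finite G] {p : ℕ} [Fact p.Prime] (S : Sylow p G)
    {x z : G} {q : ℕ} (hxO : x ∈ Cfsg.pCore p G) (hzS : z ∈ (S : Subgroup G))
    (hz : ∀ s ∈ (S : Subgroup G), s * z = z * s) (hzq : z ^ q = x)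
    (hq : q = p ∨ q = 1 ∧ (p ≠ 2 ∨ ¬ Cfsg.Involves (Equiv.Perm (Fin 4)) G))
    (hN : ∀ n ∈ normalizer (thompson 0 (S : Subgroup G) : Set G), n * x = x * n) :
    x ∈ center G := by
  induction hn : Nat.card G using Nat.strong_induction_on generalizing G with
  | _ n ih =>
  subst hn
  set O := Cfsg.pCore p G with hO
  have hOS : O ≤ (S : Subgroup G) := CfsgLib.PCore.pCore_le_sylow S
  have hxS : x ∈ (S : Subgroup G) := hzq ▸ pow_mem hzS q
  -- proper subgroups over `S` fix `x`
  have hind : ∀ H : Subgroup G, (S : Subgroup G) ≤ H → H ≠ ⊤ → ∀ h ∈ H, h * x = x * h := by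
    intro H hSH hH h hh
    have hinj := H.subtype_injective
    have key := ih (Nat.card H)
      (lt_of_le_of_ne (card_le_card_group H) fun e => hH (eq_top_of_card_eq _ e))
      (G := ↥H) (S.subtype hSH) (x := ⟨x, hSH hxS⟩) (z := ⟨z, hSH hzS⟩)
      ?_ ?_ ?_ ?_ ?_ ?_ rfl
    · exact congrArg Subtype.val (mem_center_iff.1 key ⟨h, hh⟩)
    · exact CfsgLib.PCore.comap_pCore_le H.subtype hinj hxO
    · exact hzS
    · exact fun s hs => Subtype.ext (hz s hs)
    · exact Subtype.ext hzq
    · rcases hq with hq | ⟨h1, h2⟩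
      · exact Or.inl hq
      · exact Or.inr ⟨h1, h2.imp_right fun h h' =>
          h (CfsgLib.LocalEven.Involved.involves_of_subgroup h')⟩
    · intro n hn
      refine Subtype.ext (hN n ?_)
      have h1 := le_normalizer_map H.subtype
        (H := thompson 0 ((S.subtype hSH : Sylow p ↥H) : Subgroup ↥H))
      rw [← thompson_map hinj, Sylow.coe_subtype, map_subgroupOf_eq_of_le hSH] at h1
      exact h1 ⟨n, hn, rfl⟩
  -- if a subgroup supplementing one that fixes `x` fixes `x`, then `x` is central
  have hcen : ∀ C N : Subgroup G, C ⊔ N = ⊤ → (∀ c ∈ C, c * x = x * c) →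
      (∀ n ∈ N, n * x = x * n) → x ∈ center G := by
    intro C N hCN hC hN'
    have h : C ⊔ N ≤ centralizer ({x} : Set G) := sup_le
      (fun c hc => mem_centralizer_singleton_iff.2 (hC c hc))
      (fun c hc => mem_centralizer_singleton_iff.2 (hN' c hc))
    rw [hCN] at h
    exact mem_center_iff.2 fun g => mem_centralizer_singleton_iff.1 (h (mem_top g))
  have hfrat : ∀ C : Subgroup G, C.Normal →
      C ⊔ normalizer ((((S : Subgroup G) ⊓ C : Subgroup G)) : Set G) = ⊤ := by
    intro C hC
    rw [eq_top_iff]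
    intro g _
    obtain ⟨m, hm, h⟩ := exists_conj_le_sylow_of (p := p) (X := C)
      (A := ((S : Subgroup G) ⊓ C).map (MulAut.conj g).toMonoidHom)
      (S := (S : Subgroup G) ⊓ C) (by
        rintro _ ⟨c, hc, rfl⟩
        exact hC.conj_mem c hc.2 g)
      (isPGroup_map_conj (S.2.to_le inf_le_left) g) inf_le_right (S.2.to_le inf_le_left)
      (not_dvd_relIndex_inf_normal S C)
    rw [← map_conj_mul] at h
    have h2 : m * g ∈ normalizer ((((S : Subgroup G) ⊓ C : Subgroup G)) : Set G) :=
      map_conj_eq_self_iff.1 (eq_of_le_of_card_ge h (card_map_conj _ _).ge)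
    simpa using mul_mem_sup (inv_mem hm) h2
  have hSnorm : ∀ C : Subgroup G, C.Normal →
      (S : Subgroup G) ≤ normalizer ((((S : Subgroup G) ⊓ C : Subgroup G)) : Set G) :=
    fun C hC s hs => mem_normalizer_inf (le_normalizer hs)
      (by rw [normalizer_eq_top]; exact mem_top s)
  have hOn : O.Normal := inferInstance
  -- `z` lies in `O`
  by_cases hC1 : normalizer ((((S : Subgroup G) ⊓ centralizer (O : Set G) : Subgroup G)) : Set G) = ⊤
  swap
  · exact hcen _ _ (hfrat _ inferInstance) (fun c hc => (mem_centralizer_iff.1 hc x hxO).symm)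
      (hind _ (hSnorm _ inferInstance) hC1)
  have hzO : z ∈ O :=
    CfsgLib.PCore.le_pCore (normalizer_eq_top_iff.1 hC1) (S.2.to_le inf_le_left)
      ⟨hzS, mem_centralizer_iff.2 fun o ho => hz o (hOS ho)⟩
  -- the normal closure of `z`
  set W := normalClosure ({z} : Set G) with hW
  have hWO : W ≤ O := normalClosure_le_normal (Set.singleton_subset_iff.2 hzO)
  have hWc : W ≤ centralizer (O : Set G) := normalClosure_le_normal
    (Set.singleton_subset_iff.2 (mem_centralizer_iff.2 fun o ho => hz o (hOS ho)))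
  have hzW : z ∈ W := subset_normalClosure rfl
  haveI : IsMulCommutative W := CfsgLib.PLocal.isMulCommutative_of_forall fun a ha b hb =>
    (mem_centralizer_iff.1 (hWc ha) b (hWO hb)).symm
  have hWp : IsPGroup p W := S.2.to_le (hWO.trans hOS)
  set CW := centralizer (W : Set G) with hCW
  have hOCW : O ≤ CW := fun o ho => mem_centralizer_iff.2 fun w hw =>
    (mem_centralizer_iff.1 (hWc hw) o ho).symm
  have hCWx : ∀ c ∈ CW, c * x = x * c := fun c hc =>
    (mem_centralizer_iff.1 hc x (hzq ▸ W.pow_mem hzW q)).symm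
  by_cases hall : ∀ A, IsMaxElemIn 0 (S : Subgroup G) A → A ≤ CW
  · -- the Thompson subgroup centralizes `W`
    refine hcen _ _ (hfrat CW inferInstance) hCWx fun n hn => hN n ?_
    have h1 := normalizer_le_normalizer_thompson 0 ((S : Subgroup G) ⊓ CW) hn
    rwa [thompson_eq_of_le inf_le_left
      (le_inf (thompson_le 0 _) (thompson_le_iff.2 hall))] at h1
  -- `O_p(G / C(W)) = 1`
  by_cases hOp : ∀ N : Subgroup (G ⧸ CW), N.Normal → IsPGroup p N → N = ⊥
  swap
  · push Not at hOp
    obtain ⟨N, hNn, hNp, hNne⟩ := hOp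
    set D := N.comap (QuotientGroup.mk' CW) with hD
    haveI : D.Normal := inferInstance
    have hCD : CW ≤ D := fun c hc => by
      rw [hD, mem_comap, show QuotientGroup.mk' CW c = 1 from (QuotientGroup.eq_one_iff c).2 hc]
      exact one_mem N
    set P := (S : Subgroup G) ⊓ D with hP
    -- `D = C(W) P`
    have hDP : D ≤ CW ⊔ P := by
      have hle : CW ⊔ P ≤ D := sup_le hCD inf_le_right
      obtain ⟨k, hk⟩ := IsPGroup.exists_card_eq hNp
      have h1 : CW.relIndex D = p ^ k := by
        nth_rw 1 [show CW = (⊥ : Subgroup (G ⧸ CW)).comap (QuotientGroup.mk' CW) by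
          rw [MonoidHom.comap_bot, QuotientGroup.ker_mk']]
        rw [relIndex_comap, hD, map_comap_eq_self_of_surjective (QuotientGroup.mk'_surjective CW),
          relIndex_bot_left, hk]
      have h2 : (CW ⊔ P).relIndex D ∣ p ^ k := h1 ▸ relIndex_dvd_of_le_left D le_sup_left
      have h3 : ¬ p ∣ (CW ⊔ P).relIndex D := fun h =>
        not_dvd_relIndex_inf_normal S D (h.trans (relIndex_dvd_of_le_left D le_sup_right))
      obtain ⟨i, -, hi⟩ := (Nat.dvd_prime_pow (Fact.out : p.Prime)).1 h2
      rw [← relIndex_eq_one, hi]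
      rcases Nat.eq_zero_or_pos i with rfl | hi0
      · rfl
      · exact absurd (hi ▸ dvd_pow_self p hi0.ne') h3
    by_cases hNP : normalizer (P : Set G) = ⊤
    · exfalso
      have hPO : P ≤ CW := (CfsgLib.PCore.le_pCore (normalizer_eq_top_iff.1 hNP)
        (S.2.to_le inf_le_left)).trans hOCW
      refine hNne ((Subgroup.eq_bot_iff_forall N).2 fun y hy => ?_)
      obtain ⟨g, rfl⟩ := QuotientGroup.mk'_surjective CW y
      exact (QuotientGroup.eq_one_iff g).2 ((hDP.trans (sup_le le_rfl hPO)) hy)
    · refine hcen CW (normalizer (P : Set G)) (top_le_iff.1 ?_) hCWx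
        (hind _ (hSnorm D inferInstance) hNP)
      rw [← hfrat D inferInstance]
      exact sup_le (hDP.trans (sup_le le_sup_left (le_normalizer.trans le_sup_right))) le_sup_right
  -- there is an offender
  push Not at hall
  obtain ⟨A, hA, hACW⟩ := hall
  have hoff : IsOff W (S : Subgroup G) A := by
    refine ⟨hA.1, hACW, ?_⟩
    set A₁ := A ⊓ CW with hA₁
    have hX : Nat.card (W ⊔ A₁ : Subgroup G) ≤ Nat.card A := by
      refine hA.2.2 _ (sup_le (hWO.trans hOS) (inf_le_left.trans hA.1)) ?_
      exact elemAb_sup (elemAb_zero_iff.2 inferInstance) (elemAb_of_le hA.2.1 inf_le_left)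
        fun w hw => mem_centralizer_iff.2 fun a ha => (mem_centralizer_iff.1 ha.2 w hw).symm
    have h1 : Nat.card (W ⊓ A₁ : Subgroup G) ≤ Nat.card (W ⊓ centralizer (A : Set G) : Subgroup G) :=
      card_le_of_le fun w hw => ⟨hw.1, mem_centralizer_iff.2 fun a ha =>
        elemAb_commute hA.2.1 ha hw.2.1⟩
    have h2 : Nat.card (W ⊔ A₁ : Subgroup G) * Nat.card (W ⊓ A₁ : Subgroup G) =
        Nat.card W * Nat.card A₁ := by
      rw [← relIndex_mul_card (le_sup_left : W ≤ W ⊔ A₁), relIndex_sup_left,
        ← inf_relIndex_right, mul_assoc, mul_comm ((W ⊓ A₁).relIndex A₁),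
        relIndex_mul_card inf_le_right]
    rw [← h2]
    exact Nat.mul_le_mul hX h1
  -- the normalizer of the minimal offenders fixes `x`
  have hJN : normalizer (minOffSup W (S : Subgroup G) : Set G) ≠ ⊤ := fun h =>
    not_minOffSup_le_centralizer hoff ((CfsgLib.PCore.le_pCore (normalizer_eq_top_iff.1 h)
      (S.2.to_le (minOffSup_le W _))).trans hOCW)
  rw [← hzq]
  refine pow_mem_center_of_normalizer W S hWp q ?_ ⟨z, hzW⟩ hz ?_
  · intro a haS haC hidx w
    obtain ⟨k, hk⟩ := S.2 ⟨a, haS⟩
    have hak : a ^ p ^ k = 1 := by simpa using congrArg Subtype.val hk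
    obtain ⟨R, -, -, hR, hRt⟩ := exists_transvection W hWp hak hidx
    have hp1 : ∀ w : ↥W, commHom W a w ^ p = 1 := fun w => Subtype.ext (by
      rw [SubmonoidClass.coe_pow, OneMemClass.coe_one]
      exact (hRt _ (by rw [commHom_coe]; exact hR _ w.2)).1)
    rcases hq with rfl | ⟨rfl, hq⟩
    · rw [map_pow, hp1, one_pow]
    · rcases eq_or_ne p 2 with rfl | hp
      · exfalso
        obtain ⟨i, -, hi⟩ := (Nat.dvd_prime_pow Nat.prime_two).1 (orderOf_dvd_of_pow_eq_one hak)
        exact (hq.resolve_left (not_not_intro rfl))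
          (involves_four_of_transvection W hWp hOp hi haC hidx)
      · have hodd := (Fact.out : p.Prime).odd_of_ne_two hp
        obtain ⟨m, hm⟩ := hodd
        have hsum : ∑ i ∈ Finset.range p, i = p * m := by
          have h := Finset.sum_range_id_mul_two p
          rw [show p - 1 = 2 * m by omega] at h
          exact Nat.eq_of_mul_eq_mul_right (by norm_num : 0 < 2) (by rw [h]; ring)
        rw [hsum, pow_mul, hp1, one_pow]
  · intro n hn
    rw [show ((⟨z, hzW⟩ : ↥W) : G) ^ q = x from hzq]
    exact hind _ (le_normalizer_minOffSup W _) hJN n hn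

/-- A central element of `P` belongs to `J(P)`. -/
theorem mem_thompson_of_centralizes [Finite G] {P : Subgroup G} {x : G} (hx : x ∈ P)
    (hc : ∀ s ∈ P, s * x = x * s) : x ∈ thompson 0 P := by
  obtain ⟨A, hA⟩ := exists_isMaxElemIn 0 P
  exact hA.le_thompson (hA.mem_of_centralizes hx (pow_zero x) fun a ha => hc a (hA.1 ha))

/-- Weak closure: if `x = z ^ q` with `z ∈ Z(S)` is centralized by `N(J(S))`, then `x` is the only
conjugate of itself in `S`. -/
theorem weakly_closed_of_normalizer_thompson [Finite G] {p : ℕ} [Fact p.Prime] (S : Sylow p G)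
    {x z : G} {q : ℕ} (hzS : z ∈ (S : Subgroup G))
    (hz : ∀ s ∈ (S : Subgroup G), s * z = z * s) (hzq : z ^ q = x)
    (hq : q = p ∨ q = 1 ∧ (p ≠ 2 ∨ ¬ Cfsg.Involves (Equiv.Perm (Fin 4)) G))
    (hN : ∀ n ∈ normalizer (thompson 0 (S : Subgroup G) : Set G), n * x = x * n) :
    ∀ g : G, g * x * g⁻¹ ∈ (S : Subgroup G) → g * x * g⁻¹ = x := by
  have hxS : x ∈ (S : Subgroup G) := hzq ▸ pow_mem hzS q
  have hxc : ∀ s ∈ (S : Subgroup G), s * x = x * s := fun s hs =>
    hzq ▸ (Commute.pow_right (hz s hs) q : Commute s (z ^ q))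
  let P : Subgroup G → G → Prop := fun D h => x ∈ D → h * x * h⁻¹ = x
  have hP : IsFusionClosed (S : Subgroup G) P :=
    { mono := fun hle h hx => h (hle hx)
      comp := fun {D h h'} _ _ h1 h2 hx => by
        have e1 := h1 hx
        have e2 := h2 ⟨x, hx, e1⟩
        calc h' * h * x * (h' * h)⁻¹ = h' * (h * x * h⁻¹) * h'⁻¹ := by group
          _ = x := by rw [e1, e2] }
  have hfam : ∀ k : ℕ, (∀ U, IsFN p (S : Subgroup G) U → x ∈ U →
      k < Nat.card ((S : Subgroup G) ⊓ normalizer (U : Set G) : Subgroup G) →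
      ∀ y ∈ normalizer (U : Set G), y * x = x * y) → HoldsAbove (S : Subgroup G) P k := by
    intro k hk
    refine holdsAbove_of_family S hP {U | IsFN p (S : Subgroup G) U} k (fun T hT _ => ?_) ?_
    · obtain ⟨g, hg⟩ := exists_isFN_conj S (S.2.to_le hT)
      exact ⟨_, hg, ⟨g, rfl⟩, hg⟩
    · intro U hU hkU _ y hy hxU
      exact mul_inv_eq_iff_eq_mul.2 (hk U hU hxU
        (lt_of_lt_of_le hkU (card_le_of_le (le_inf hU.1 le_normalizer))) y hy)
  have claim : ∀ (m : ℕ) (U : Subgroup G), Nat.card (S : Subgroup G) -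
      Nat.card ((S : Subgroup G) ⊓ normalizer (U : Set G) : Subgroup G) < m →
      IsFN p (S : Subgroup G) U → x ∈ U → ∀ y ∈ normalizer (U : Set G), y * x = x * y := by
    intro m
    induction m with
    | zero => intro U h; omega
    | succ m ih =>
    intro U hlt hU hxU
    set R := (S : Subgroup G) ⊓ normalizer (U : Set G) with hR
    set X := normalizer (U : Set G) with hX
    have hRX : R ≤ X := inf_le_right
    have hRp : IsPGroup p R := S.2.to_le inf_le_left
    have hzX : z ∈ X := centralizer_le_normalizer _ (mem_centralizer_iff.2 fun u hu => hz u (hU.1 hu))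
    -- what is needed in the local group
    have hNR : ∀ y ∈ X, y ∈ normalizer (thompson 0 R : Set G) → y * x = x * y := by
      intro y _ hy
      by_cases hRS : R = (S : Subgroup G)
      · exact hN y (hRS ▸ hy)
      set V := thompson 0 R with hV
      have hxV : x ∈ V := mem_thompson_of_centralizes ⟨hxS, le_normalizer hxU⟩
        fun s hs => hxc s hs.1
      have hVS : V ≤ (S : Subgroup G) := (thompson_le 0 R).trans inf_le_left
      obtain ⟨g₀, hU'⟩ := exists_isFN_conj S (S.2.to_le hVS)
      obtain ⟨h, hh, hh'⟩ := exists_conj_into S.2 hU' rfl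
      set R' := (S : Subgroup G) ⊓ normalizer (V : Set G) with hR'
      have h1 : Nat.card R < Nat.card R' :=
        lt_of_lt_of_le (card_lt_card_inf_normalizer (H := R) S.2 inf_le_left hRS)
          (card_le_of_le (inf_le_inf_left _ (normalizer_le_normalizer_thompson 0 R)))
      have habove : HoldsAbove (S : Subgroup G) P (Nat.card R) := by
        refine hfam _ fun U₂ hU₂ hxU₂ hlt₂ => ih U₂ ?_ hU₂ hxU₂
        have := card_le_of_le (inf_le_left : (S : Subgroup G) ⊓ normalizer (U₂ : Set G) ≤ S)
        omega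
      have hhx : h * x * h⁻¹ = x :=
        habove R' h h1 inf_le_left (hh'.trans inf_le_left) ⟨hxS, le_normalizer hxV⟩
      set V' := V.map (MulAut.conj g₀).toMonoidHom with hV'
      have hxV' : x ∈ V' := by
        rw [← hh, ← hhx]
        exact conj_mem_map_conj h hxV
      have hlocV' := ih V' (by
        have := card_le_of_le hh'
        rw [card_map_conj] at this
        have := card_le_of_le (inf_le_left : (S : Subgroup G) ⊓ normalizer (V' : Set G) ≤ S)
        omega) hU' hxV'
      have hy' : h * y * h⁻¹ ∈ normalizer (V' : Set G) := by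
        rw [← map_conj_eq_self_iff, map_conj_mul, map_conj_mul, ← hh, map_conj_inv_cancel,
          map_conj_eq_self_iff.2 hy]
      have h2 := hlocV' _ hy'
      have hcomm : h * x = x * h := mul_inv_eq_iff_eq_mul.1 hhx
      calc y * x = h⁻¹ * (h * y * h⁻¹) * (h * x) := by group
        _ = h⁻¹ * ((h * y * h⁻¹) * x) * h := by rw [hcomm]; group
        _ = h⁻¹ * (x * (h * y * h⁻¹)) * h := by rw [h2]
        _ = h⁻¹ * (x * h) * y := by group
        _ = x * y := by rw [← hcomm]; group
    have hcen : (⟨x, le_normalizer hxU⟩ : ↥X) ∈ center ↥X := by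
      let T : Sylow p ↥X :=
        (hRp.of_equiv (subgroupOfEquivOfLe hRX).symm).toSylow (P := R.subgroupOf X) hU.2
      have hT : (T : Subgroup ↥X) = R.subgroupOf X := rfl
      refine mem_center_of_local T (z := ⟨z, hzX⟩) (q := q) ?_ ?_ ?_ (Subtype.ext hzq) ?_ ?_
      · exact CfsgLib.PCore.le_pCore (N := U.subgroupOf X) inferInstance
          ((S.2.to_le hU.1).of_equiv (subgroupOfEquivOfLe le_normalizer).symm)
          (mem_subgroupOf.2 hxU)
      · exact mem_subgroupOf.2 ⟨hzS, hzX⟩
      · exact fun s hs => Subtype.ext (hz s (mem_subgroupOf.1 hs).1)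
      · rcases hq with hq | ⟨h1, h2⟩
        · exact Or.inl hq
        · exact Or.inr ⟨h1, h2.imp_right fun h h' =>
            h (CfsgLib.LocalEven.Involved.involves_of_subgroup h')⟩
      · intro y hy
        refine Subtype.ext (hNR y y.2 ?_)
        have h1 := le_normalizer_map X.subtype (H := thompson 0 (R.subgroupOf X))
        rw [← thompson_map X.subtype_injective, map_subgroupOf_eq_of_le hRX] at h1
        exact h1 ⟨y, hy, rfl⟩
    exact fun y hy => congrArg Subtype.val (mem_center_iff.1 hcen ⟨y, hy⟩)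
  intro g hg
  exact hfam 0 (fun U hU hxU _ => claim _ U (Nat.lt_succ_self _) hU hxU) (zpowers x) g
    Nat.card_pos (zpowers_le.2 hxS)
    (by rw [MonoidHom.map_zpowers, zpowers_le]; exact hg) (mem_zpowers x)

end CfsgLib.LocalEven.GlaubermanWeak
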