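import Mathlib.GroupTheory.Perm.Basic
import Mathlib.GroupTheory.SpecificGroups.Dihedral
import Mathlib.Data.Fintype.Perm
import Mathlib.GroupTheory.Index

/-!
The map from the symmetric group of degree four onto that of degree three, and the identification
of the latter with a dihedral group.
-/

set_option autoImplicit false

namespace CfsgLib.LocalEven.SFour

/-- The action on the three pairings: pairing `i` is `{0, i+1}` with its complement. -/
def pairFun (σ : Equiv.Perm (Fin 4)) (i : Fin 3) : Fin 3 :=
  let a : Fin 4 := σ 0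
  let c : Fin 4 := σ i.succ
  let j : ℕ := if a.val = 0 then c.val else if c.val = 0 then a.val else 6 - a.val - c.val
  ⟨(j - 1) % 3, Nat.mod_lt _ (by norm_num)⟩

theorem pairFun_mul : ∀ σ τ : Equiv.Perm (Fin 4), ∀ i, pairFun (σ * τ) i = pairFun σ (pairFun τ i) := by
  decide +kernel

theorem pairFun_one : ∀ i, pairFun 1 i = i := by
  decide +kernel

/-- The homomorphism to permutations of the pairings. -/
def toThree : Equiv.Perm (Fin 4) →* Equiv.Perm (Fin 3) where
  toFun σ :=
    { toFun := pairFun σ
      invFun := pairFun σ⁻¹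
      left_inv := fun i => by rw [← pairFun_mul, inv_mul_cancel, pairFun_one]
      right_inv := fun i => by rw [← pairFun_mul, mul_inv_cancel, pairFun_one] }
  map_one' := Equiv.ext pairFun_one
  map_mul' σ τ := Equiv.ext fun i => pairFun_mul σ τ i

theorem toThree_surjective : Function.Surjective toThree := by
  have h : ∀ π : Equiv.Perm (Fin 3), ∃ σ : Equiv.Perm (Fin 4), ∀ i, pairFun σ i = π i := by
    decide +kernel
  intro π
  obtain ⟨σ, hσ⟩ := h π
  exact ⟨σ, Equiv.ext hσ⟩

theorem card_ker_toThree : Nat.card toThree.ker = 4 := by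
  have h := Subgroup.index_ker toThree
  rw [MonoidHom.range_eq_top.2 toThree_surjective, Subgroup.card_top, Nat.card_eq_fintype_card,
    Fintype.card_perm, Fintype.card_fin] at h
  have h2 := toThree.ker.card_mul_index
  rw [h, Nat.card_eq_fintype_card (α := Equiv.Perm (Fin 4)), Fintype.card_perm,
    Fintype.card_fin] at h2
  have f3 : Nat.factorial 3 = 6 := rfl
  have f4 : Nat.factorial 4 = 24 := rfl
  rw [f3, f4] at h2
  omega

theorem centralizer_ker_le {σ : Equiv.Perm (Fin 4)}
    (h : ∀ τ ∈ toThree.ker, τ * σ = σ * τ) : σ ∈ toThree.ker := by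
  have key : ∀ σ : Equiv.Perm (Fin 4),
      (∀ τ : Equiv.Perm (Fin 4), (∀ i, pairFun τ i = i) → ∀ x, τ (σ x) = σ (τ x)) →
      ∀ i, pairFun σ i = i := by
    decide +kernel
  refine Equiv.ext (key σ fun τ hτ x => ?_)
  exact congrArg (fun e : Equiv.Perm (Fin 4) => e x) (h τ (Equiv.ext hτ))

/-- The action of the dihedral group of order six on three points. -/
def dihFun : DihedralGroup 3 → Fin 3 → Fin 3
  | DihedralGroup.r a, i => (show Fin 3 from a) + i
  | DihedralGroup.sr a, i => -((show Fin 3 from a) + i)

theorem dihFun_mul : ∀ g h : DihedralGroup 3, ∀ i, dihFun (g * h) i = dihFun g (dihFun h i) := by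
  decide +kernel

theorem dihFun_one : ∀ i, dihFun 1 i = i := by
  decide +kernel

/-- The homomorphism from the dihedral group of order six. -/
def dihToPerm : DihedralGroup 3 →* Equiv.Perm (Fin 3) where
  toFun g :=
    { toFun := dihFun g
      invFun := dihFun g⁻¹
      left_inv := fun i => by rw [← dihFun_mul, inv_mul_cancel, dihFun_one]
      right_inv := fun i => by rw [← dihFun_mul, mul_inv_cancel, dihFun_one] }
  map_one' := Equiv.ext dihFun_one
  map_mul' g h := Equiv.ext fun i => dihFun_mul g h i

theorem dihedralThree_mulEquiv : Nonempty (DihedralGroup 3 ≃* Equiv.Perm (Fin 3)) := by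
  have h : ∀ g : DihedralGroup 3, (∀ i, dihFun g i = i) → g = 1 := by decide +kernel
  have hinj : Function.Injective dihToPerm := by
    rw [injective_iff_map_eq_one]
    intro g hg
    exact h g fun i => congrArg (fun e : Equiv.Perm (Fin 3) => e i) hg
  refine ⟨MulEquiv.ofBijective dihToPerm ((Nat.bijective_iff_injective_and_card _).2 ⟨hinj, ?_⟩)⟩
  rw [DihedralGroup.nat_card, Nat.card_eq_fintype_card, Fintype.card_perm, Fintype.card_fin]
  rfl

end CfsgLib.LocalEven.SFour
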