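import Cfsg.Prelude.Def_LocalEven

/-!
The affine groups `Qd` over a field: coordinates, projection onto `SL₂`, translations, the largest normal
`p`-subgroup, and the natural module.
-/

set_option autoImplicit false

open Cfsg Matrix
open scoped MatrixGroups

namespace CfsgLib.LocalEven.Qd

variable {F : Type*} [Field F]

theorem row_of_mem {M : SL(3, F)} (hM : M ∈ qdOver F) :
    M.1 2 0 = 0 ∧ M.1 2 1 = 0 ∧ M.1 2 2 = 1 := by
  induction hM using Subgroup.closure_induction with
  | mem x hx => exact hx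
  | one => simp
  | mul a b _ _ ha hb =>
    simp [Matrix.SpecialLinearGroup.coe_mul, Matrix.mul_apply, Fin.sum_univ_three, ha.1, ha.2.1,
      ha.2.2, hb.1, hb.2.1, hb.2.2]
  | inv a _ ha =>
    have hkey : ∀ k, (a⁻¹).1 2 k = (1 : Matrix (Fin 3) (Fin 3) F) 2 k := by
      intro k
      have h : ((a * a⁻¹ : SL(3, F))).1 2 k = (1 : Matrix (Fin 3) (Fin 3) F) 2 k := by
        rw [mul_inv_cancel]; simp
      rw [Matrix.SpecialLinearGroup.coe_mul] at h
      simp only [Matrix.mul_apply, Fin.sum_univ_three, ha.1, ha.2.1, ha.2.2] at h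
      simpa using h
    exact ⟨by rw [hkey]; simp, by rw [hkey]; simp, by rw [hkey]; simp⟩

theorem mem_qdOver_iff {M : SL(3, F)} :
    M ∈ qdOver F ↔ M.1 2 0 = 0 ∧ M.1 2 1 = 0 ∧ M.1 2 2 = 1 :=
  ⟨row_of_mem, fun h => Subgroup.subset_closure h⟩

/-- The block map onto `SL₂`. -/
def block : ↥(qdOver F) →* SL(2, F) where
  toFun M := ⟨!![M.1.1 0 0, M.1.1 0 1; M.1.1 1 0, M.1.1 1 1], by
    have h := M.1.2
    obtain ⟨h0, h1, h2⟩ := row_of_mem M.2
    rw [Matrix.det_fin_three, h0, h1, h2] at h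
    rw [Matrix.det_fin_two_of]
    linear_combination h⟩
  map_one' := by
    ext i j
    fin_cases i <;> fin_cases j <;> simp
  map_mul' a b := by
    obtain ⟨h0, h1, h2⟩ := row_of_mem a.2
    obtain ⟨k0, k1, k2⟩ := row_of_mem b.2
    apply Subtype.ext
    show !![(a.1.1 * b.1.1) 0 0, (a.1.1 * b.1.1) 0 1; (a.1.1 * b.1.1) 1 0, (a.1.1 * b.1.1) 1 1] =
      !![a.1.1 0 0, a.1.1 0 1; a.1.1 1 0, a.1.1 1 1] *
        !![b.1.1 0 0, b.1.1 0 1; b.1.1 1 0, b.1.1 1 1]
    rw [Matrix.mul_fin_two]
    simp [Matrix.mul_apply, Fin.sum_univ_three, k0, k1]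

theorem block_val (M : ↥(qdOver F)) :
    (block M).1 = !![M.1.1 0 0, M.1.1 0 1; M.1.1 1 0, M.1.1 1 1] := rfl

/-- The translation part. -/
def shift (M : ↥(qdOver F)) : Fin 2 → F := ![M.1.1 0 2, M.1.1 1 2]

theorem shift_mul (a b : ↥(qdOver F)) :
    shift (a * b) = (block a).1 *ᵥ shift b + shift a := by
  obtain ⟨h0, h1, h2⟩ := row_of_mem a.2
  obtain ⟨k0, k1, k2⟩ := row_of_mem b.2
  funext i
  fin_cases i <;>
    simp [shift, block_val, Matrix.SpecialLinearGroup.coe_mul, Matrix.mul_apply, Matrix.mulVec,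
      dotProduct, Fin.sum_univ_three, k2] <;> ring

theorem ext_block_shift {a b : ↥(qdOver F)} (h : block a = block b) (h' : shift a = shift b) :
    a = b := by
  obtain ⟨h0, h1, h2⟩ := row_of_mem a.2
  obtain ⟨k0, k1, k2⟩ := row_of_mem b.2
  have e00 := congrFun (congrFun (congrArg Subtype.val h) 0) 0
  have e01 := congrFun (congrFun (congrArg Subtype.val h) 0) 1
  have e10 := congrFun (congrFun (congrArg Subtype.val h) 1) 0
  have e11 := congrFun (congrFun (congrArg Subtype.val h) 1) 1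
  have t0 := congrFun h' 0
  have t1 := congrFun h' 1
  simp [block_val, shift] at e00 e01 e10 e11 t0 t1
  apply Subtype.ext
  ext i j
  fin_cases i <;> fin_cases j <;>
    first
      | exact e00
      | exact e01
      | exact e10
      | exact e11
      | exact t0
      | exact t1
      | exact h0.trans k0.symm
      | exact h1.trans k1.symm
      | exact h2.trans k2.symm

/-- The element with given block and translation. -/
def mkQd (A : SL(2, F)) (t : Fin 2 → F) : ↥(qdOver F) :=
  ⟨⟨!![A.1 0 0, A.1 0 1, t 0; A.1 1 0, A.1 1 1, t 1; 0, 0, 1], by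
    have h := A.2
    rw [Matrix.det_fin_two] at h
    rw [Matrix.det_fin_three]
    simp
    linear_combination h⟩, Subgroup.subset_closure ⟨rfl, rfl, rfl⟩⟩

@[simp] theorem block_mkQd (A : SL(2, F)) (t : Fin 2 → F) : block (mkQd A t) = A := by
  ext i j
  fin_cases i <;> fin_cases j <;> simp [block_val, mkQd]

@[simp] theorem shift_mkQd (A : SL(2, F)) (t : Fin 2 → F) : shift (mkQd A t) = t := by
  funext i
  fin_cases i <;> simp [shift, mkQd]

theorem block_surjective : Function.Surjective (block (F := F)) :=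
  fun A => ⟨mkQd A 0, block_mkQd A 0⟩

/-- `Qd` is in bijection with `SL₂ × F²`. -/
def equivProd : ↥(qdOver F) ≃ SL(2, F) × (Fin 2 → F) where
  toFun M := (block M, shift M)
  invFun P := mkQd P.1 P.2
  left_inv M := ext_block_shift (block_mkQd _ _) (shift_mkQd _ _)
  right_inv P := by simp

/-- The affine action on the plane. -/
def affine : ↥(qdOver F) →* Equiv.Perm (Fin 2 → F) where
  toFun M :=
    { toFun := fun v => (block M).1 *ᵥ v + shift M
      invFun := fun v => (block M)⁻¹.1 *ᵥ (v - shift M)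
      left_inv := fun v => by
        dsimp only
        rw [add_sub_cancel_right, Matrix.mulVec_mulVec, ← Matrix.SpecialLinearGroup.coe_mul,
          inv_mul_cancel, Matrix.SpecialLinearGroup.coe_one, Matrix.one_mulVec]
      right_inv := fun v => by
        dsimp only
        rw [Matrix.mulVec_mulVec, ← Matrix.SpecialLinearGroup.coe_mul, mul_inv_cancel,
          Matrix.SpecialLinearGroup.coe_one, Matrix.one_mulVec, sub_add_cancel] }
  map_one' := by
    apply Equiv.ext
    intro v
    have h1 : shift (1 : ↥(qdOver F)) = 0 := by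
      funext i; fin_cases i <;> simp [shift]
    simp [h1]
  map_mul' a b := by
    apply Equiv.ext
    intro v
    show (block (a * b)).1 *ᵥ v + shift (a * b) =
      (block a).1 *ᵥ ((block b).1 *ᵥ v + shift b) + shift a
    rw [map_mul, Matrix.SpecialLinearGroup.coe_mul, shift_mul, Matrix.mulVec_add,
      Matrix.mulVec_mulVec, add_assoc]

theorem affine_injective : Function.Injective (affine (F := F)) := by
  rw [injective_iff_map_eq_one]
  intro M hM
  have hv : ∀ v, (block M).1 *ᵥ v + shift M = v := fun v => by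
    have := congrArg (fun e : Equiv.Perm (Fin 2 → F) => e v) hM
    exact this
  have hs : shift M = 0 := by simpa using hv 0
  refine ext_block_shift ?_ (hs.trans (by funext i; fin_cases i <;> simp [shift]))
  rw [map_one]
  apply Subtype.ext
  apply Matrix.ext_of_mulVec_single
  intro i
  rw [Matrix.SpecialLinearGroup.coe_one, Matrix.one_mulVec]
  have := hv (Pi.single i 1)
  rwa [hs, add_zero] at this

theorem mem_ker_block_iff {M : ↥(qdOver F)} :
    M ∈ (block (F := F)).ker ↔ M.1.1 0 0 = 1 ∧ M.1.1 0 1 = 0 ∧ M.1.1 1 0 = 0 ∧ M.1.1 1 1 = 1 := by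
  rw [MonoidHom.mem_ker]
  constructor
  · intro h
    have h' := congrArg Subtype.val h
    exact ⟨by simpa [block_val] using congrFun (congrFun h' 0) 0,
      by simpa [block_val] using congrFun (congrFun h' 0) 1,
      by simpa [block_val] using congrFun (congrFun h' 1) 0,
      by simpa [block_val] using congrFun (congrFun h' 1) 1⟩
  · rintro ⟨a, b, c, d⟩
    ext i j
    fin_cases i <;> fin_cases j <;> simp [block_val, a, b, c, d]

theorem shift_mul_ker {a b : ↥(qdOver F)} (ha : a ∈ (block (F := F)).ker) :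
    shift (a * b) = shift b + shift a := by
  rw [shift_mul, MonoidHom.mem_ker.1 ha]; simp

theorem shift_one : shift (1 : ↥(qdOver F)) = 0 := by
  funext i; fin_cases i <;> simp [shift]

theorem pow_eq_one_of_mem_ker {p : ℕ} [CharP F p] {a : ↥(qdOver F)}
    (ha : a ∈ (block (F := F)).ker) : a ^ p = 1 := by
  have key : ∀ k : ℕ, shift (a ^ k) = k • shift a := by
    intro k
    induction k with
    | zero => simp [shift_one]
    | succ k ih => rw [pow_succ, shift_mul_ker (Subgroup.pow_mem _ ha k), ih, succ_nsmul, add_comm]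
  refine ext_block_shift ?_ ?_
  · rw [map_pow, MonoidHom.mem_ker.1 ha, one_pow, map_one]
  · rw [key, shift_one]
    funext i
    simp

/-- A nontrivial subgroup of `SL₂` normalised by all of it fixes no nonzero vector. -/
theorem eq_bot_of_fixed {N : Subgroup SL(2, F)} (hN : N.Normal) {v : Fin 2 → F} (hv : v ≠ 0)
    (hfix : ∀ n ∈ N, n.1 *ᵥ v = v) : N = ⊥ := by
  have hmove : ∀ g : SL(2, F), ∀ n ∈ N, n.1 *ᵥ (g.1 *ᵥ v) = g.1 *ᵥ v := by
    intro g n hn
    have h1 := hfix _ (hN.conj_mem n hn g⁻¹)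
    calc n.1 *ᵥ (g.1 *ᵥ v) = (g * (g⁻¹ * n * g⁻¹⁻¹) : SL(2, F)).1 *ᵥ v := by
          rw [Matrix.mulVec_mulVec, ← Matrix.SpecialLinearGroup.coe_mul]; group
      _ = g.1 *ᵥ v := by rw [Matrix.SpecialLinearGroup.coe_mul, ← Matrix.mulVec_mulVec, h1]
  rw [Subgroup.eq_bot_iff_forall]
  intro n hn
  have hu := hmove ⟨!![1, 1; 0, 1], by simp⟩ n hn
  have hl := hmove ⟨!![1, 0; 1, 1], by simp⟩ n hn
  have h0 := hfix n hn
  simp [Matrix.mulVec, dotProduct, funext_iff, Fin.forall_fin_two] at hu hl h0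
  obtain ⟨a0, a1⟩ := h0
  obtain ⟨b0, b1⟩ := hu
  obtain ⟨c0, c1⟩ := hl
  have e00v : (n.1 0 0 - 1) * v 1 = 0 := by linear_combination b0 - a0
  have e10v : n.1 1 0 * v 1 = 0 := by linear_combination b1 - a1
  have e01v : n.1 0 1 * v 0 = 0 := by linear_combination c0 - a0
  have e11v : (n.1 1 1 - 1) * v 0 = 0 := by linear_combination c1 - a1
  have hdet := n.2
  rw [Matrix.det_fin_two] at hdet
  have hv' : v 0 ≠ 0 ∨ v 1 ≠ 0 := by
    by_contra hcon
    push_neg at hcon
    exact hv (funext fun i => by fin_cases i <;> simp [hcon.1, hcon.2])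
  have : n.1 0 0 = 1 ∧ n.1 0 1 = 0 ∧ n.1 1 0 = 0 ∧ n.1 1 1 = 1 := by
    rcases hv' with hv0 | hv1
    · have h01 : n.1 0 1 = 0 := by simpa [hv0] using e01v
      have h11 : n.1 1 1 = 1 := by simpa [hv0, sub_eq_zero] using e11v
      have h00 : n.1 0 0 = 1 := by
        rw [h01, h11] at hdet; linear_combination hdet
      refine ⟨h00, h01, ?_, h11⟩
      have : n.1 1 0 * v 0 = 0 := by linear_combination a1 - v 1 * h11
      simpa [hv0] using this
    · have h10 : n.1 1 0 = 0 := by simpa [hv1] using e10v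
      have h00 : n.1 0 0 = 1 := by simpa [hv1, sub_eq_zero] using e00v
      have h11 : n.1 1 1 = 1 := by
        rw [h00, h10] at hdet; linear_combination hdet
      refine ⟨h00, ?_, h10, h11⟩
      have : n.1 0 1 * v 1 = 0 := by linear_combination a0 - v 0 * h00
      simpa [hv1] using this
  obtain ⟨x, y, z, w⟩ := this
  ext i j
  fin_cases i <;> fin_cases j <;> simp [x, y, z, w]

variable [Fintype F] {p : ℕ} [Fact p.Prime] [CharP F p]

theorem isPGroup_ker_block : IsPGroup p (block (F := F)).ker := fun g =>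
  ⟨1, by apply Subtype.ext; simpa using pow_eq_one_of_mem_ker (p := p) g.2⟩

theorem pGroup_normal_sl2_eq_bot {N : Subgroup SL(2, F)} (hN : N.Normal) (hp : IsPGroup p N) :
    N = ⊥ := by
  obtain ⟨n, hn, hF⟩ := FiniteField.card F p
  have hdvd : p ∣ Nat.card (Fin 2 → F) := by
    rw [Nat.card_eq_fintype_card, Fintype.card_pi, Fin.prod_univ_two, hF]
    exact Dvd.dvd.mul_right (dvd_pow_self p n.ne_zero) _
  let A : MulAction ↥N (Fin 2 → F) :=
    { smul := fun g v => g.1.1 *ᵥ v
      one_smul := fun v => by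
        show (1 : Matrix (Fin 2) (Fin 2) F) *ᵥ v = v
        simp
      mul_smul := fun a b v => by
        show (a.1.1 * b.1.1) *ᵥ v = a.1.1 *ᵥ (b.1.1 *ᵥ v)
        rw [Matrix.mulVec_mulVec] }
  have h0 : (0 : Fin 2 → F) ∈ @MulAction.fixedPoints ↥N (Fin 2 → F) _ A :=
    fun g => Matrix.mulVec_zero g.1.1
  obtain ⟨v, hv, hv0⟩ := @IsPGroup.exists_fixed_point_of_prime_dvd_card_of_fixed_point p ↥N _ hp _
    (Fin 2 → F) A _ hdvd 0 h0
  exact eq_bot_of_fixed hN (Ne.symm hv0) fun g hg => hv ⟨g, hg⟩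

theorem pCore_sl2_eq_bot : pCore p SL(2, F) = ⊥ :=
  le_antisymm (sSup_le fun _ hN => (pGroup_normal_sl2_eq_bot hN.1 hN.2).le) bot_le

theorem pCore_qdOver : pCore p ↥(qdOver F) = (block (F := F)).ker := by
  refine le_antisymm (sSup_le ?_) (le_sSup ⟨inferInstance, isPGroup_ker_block⟩)
  rintro N ⟨hN, hp⟩
  rw [← Subgroup.map_eq_bot_iff]
  exact pGroup_normal_sl2_eq_bot (hN.map _ block_surjective) (hp.map _)

end CfsgLib.LocalEven.Qd
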