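import Cfsg.Agent.Lib.LocalEven.OffenderSquareComponents
import Cfsg.Agent.Lib.PLocal.OffenderSquare
import Cfsg.Agent.Lib.Components.FStar
import Cfsg.Agent.Lib.LocalEven.InvolvesFour

/-!
The offender bound for a group with good components, and its dual form: `|A| ^ 2 ≤ |V : C_V(A)|` and
`|A| ^ 2 ≤ |[V, A]|`.
-/

set_option autoImplicit false
set_option linter.style.haveILetI false
set_option linter.unusedSectionVars false

namespace CfsgLib.LocalEven.OffenderSquare

open Subgroup
open scoped commutatorElement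
open CfsgLib.PLocal (elemAb_commute elemAb_isPGroup elemAb_of_le)

universe u

variable {L : Type u} [Group L] [Finite L]

theorem Good.map {H : Type*} [Group H] [Finite H] {D : Subgroup H} (h : Good D) {L' : Type*} [Group L']
    [Finite L'] (f : H →* L') (hf : Function.Injective f) : Good (D.map f) := by
  have e : D ≃* ↥(D.map f) := D.equivMapOfInjective f hf
  refine ⟨CfsgLib.Components.isQuasisimple_of_mulEquiv h.qs e, ?_, h.big.of_equiv
    (QuotientGroup.congr (center D) (center ↥(D.map f)) e ?_)⟩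
  · rw [← Nat.card_congr (Subgroup.centerCongr e).toEquiv]
    exact h.odd
  · exact le_antisymm (CfsgLib.Components.map_center_le_center_of_surjective e.toMonoidHom e.surjective)
      fun z hz => ⟨e.symm z, CfsgLib.Components.map_center_le_center_of_surjective e.symm.toMonoidHom
        e.symm.surjective ⟨z, hz, rfl⟩, e.apply_symm_apply z⟩

/-- The centre of a component has odd order when `O₂ = 1`. -/
theorem odd_card_center {H : Type*} [Group H] [Finite H] (hO : Cfsg.pCore 2 H = ⊥) {D : Subgroup H}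
    (hD : Cfsg.IsComponent D) : Odd (Nat.card (center D)) := by
  haveI : Fact (Nat.Prime 2) := ⟨Nat.prime_two⟩
  rw [← Nat.not_even_iff_odd, even_iff_two_dvd]
  intro h2
  obtain ⟨⟨z, hz⟩, hzo⟩ := exists_prime_orderOf_dvd_card' (G := center D) 2 h2
  rw [Subgroup.orderOf_mk] at hzo
  haveI : (zpowers z).Normal := by
    constructor
    intro n hn g
    have : n ∈ center D := (zpowers_le.2 hz) hn
    rw [mem_center_iff.1 this g, mul_inv_cancel_right]
    exact hn
  have hsn : ((zpowers z).map D.subtype).IsSubnormal :=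
    (Subgroup.Normal.isSubnormal inferInstance).trans' hD.1
  have hp : IsPGroup 2 ((zpowers z).map D.subtype) :=
    (IsPGroup.of_card (n := 1) (by rw [Nat.card_zpowers, hzo, pow_one])).map _
  have h := CfsgLib.Fitting.subnormal_pGroup_le_pCore hsn hp
  rw [hO, le_bot_iff, map_eq_bot_iff_of_injective _ (subtype_injective D), zpowers_eq_bot] at h
  rw [h, orderOf_one] at hzo
  norm_num at hzo

/-- `|A| ^ 2 ≤ |V : C_V(A)|`. -/
theorem card_sq_le_relIndex {S : Subgroup L} (hS : ¬ Cfsg.Involves (Equiv.Perm (Fin 3)) S)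
    (hO : Cfsg.pCore 2 S = ⊥) (hgood : ∀ D : Subgroup S, Cfsg.IsComponent D → Good D)
    (V : Subgroup L) (hV : Cfsg.IsElementaryAbelian 2 V) (hSV : S ≤ normalizer (V : Set L))
    (hf : S ⊓ centralizer (V : Set L) = ⊥) (A : Subgroup L) (hA : Cfsg.IsElementaryAbelian 2 A)
    (hAS : A ≤ S) : Nat.card A ^ 2 ≤ (V ⊓ centralizer (A : Set L)).relIndex V := by
  haveI : Fact (Nat.Prime 2) := ⟨Nat.prime_two⟩
  haveI := CfsgLib.Fitting.fitting_normal (G := S)
  set F := (Cfsg.fittingSubgroup S).map S.subtype with hF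
  have hFS : F ≤ S := map_subtype_le _
  have hFodd : (Nat.card F).Coprime 2 := by
    rw [hF, Nat.card_congr ((Cfsg.fittingSubgroup S).equivMapOfInjective _
      (subtype_injective S)).toEquiv.symm]
    obtain ⟨P⟩ := (inferInstance : Nonempty (Sylow 2 (Cfsg.fittingSubgroup S)))
    have hP := CfsgLib.Fitting.sylow_fitting_eq_pCore P
    rw [hO, map_eq_bot_iff_of_injective _ (subtype_injective _)] at hP
    refine ((Nat.Prime.coprime_iff_not_dvd Nat.prime_two).2 fun h2 => ?_).symm
    have := P.not_dvd_index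
    rw [hP, index_bot] at this
    exact this h2
  have hFn : S ≤ normalizer (F : Set L) := by
    intro s hs
    rw [mem_normalizer_iff_map_conj_eq]
    refine eq_of_le_of_card_ge ?_
      (Nat.card_congr (F.equivMapOfInjective _ (MulAut.conj s).injective).toEquiv).le
    rintro _ ⟨_, ⟨k, hk, rfl⟩, rfl⟩
    exact ⟨⟨s, hs⟩ * k * (⟨s, hs⟩ : S)⁻¹, Normal.conj_mem inferInstance k hk _, rfl⟩
  set A₀ := A ⊓ centralizer (F : Set L) with hA₀
  obtain ⟨A₁, -, hA₁A, h01, hsup⟩ :=
    exists_complement_ge hA (X := A₀) inf_le_left bot_le (inf_bot_eq _)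
  -- the bound for `A₀`, which centralizes `F`
  have h0 : Nat.card A₀ ^ 2 ≤ (V ⊓ centralizer (A₀ : Set L)).relIndex V := by
    refine card_sq_le_of_family hS V hV hSV hf
      {D | ∃ K : Subgroup S, Cfsg.IsComponent K ∧ D = K.map S.subtype} ?_ ?_ ?_ _ A₀ rfl
      (elemAb_of_le hA inf_le_left) (inf_le_left.trans hAS) ?_
    · rintro _ ⟨K, hK, rfl⟩
      exact (hgood K hK).map _ (subtype_injective S)
    · rintro _ ⟨K, -, rfl⟩
      exact map_subtype_le K
    · rintro _ ⟨K, hK, rfl⟩ b hb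
      by_cases hne : K.map (MulAut.conj (⟨b, hb⟩ : S)).toMonoidHom = K
      · left
        rw [mem_normalizer_iff_map_conj_eq, Subgroup.map_map]
        conv_rhs => rw [← hne, Subgroup.map_map]
        rfl
      · right
        have h := CfsgLib.Components.commutator_components_eq_bot
          (CfsgLib.Components.isComponent_conj _ hK) hK hne
        rintro _ ⟨d, hd, rfl⟩ _ ⟨e, he, rfl⟩
        exact congrArg Subtype.val (CfsgLib.Components.commute_of_commutator_eq_bot h
          (mem_map_of_mem (MulAut.conj (⟨b, hb⟩ : S)).toMonoidHom hd) he)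
    · intro b hb hbK
      have hbS : b ∈ S := hAS (mem_inf.1 hb).1
      have hbc : (⟨b, hbS⟩ : S) ∈ centralizer (Cfsg.generalizedFittingSubgroup S : Set S) := by
        have h : Cfsg.generalizedFittingSubgroup S ≤ centralizer ({⟨b, hbS⟩} : Set S) := by
          refine sup_le (sSup_le fun K hK d hd => mem_centralizer_singleton_iff.2 ?_)
            fun d hd => mem_centralizer_singleton_iff.2 ?_
          · exact Subtype.ext (mem_centralizer_iff.1 (hbK _ ⟨K, hK, rfl⟩) _ ⟨d, hd, rfl⟩)
          · exact Subtype.ext (mem_centralizer_iff.1 (mem_inf.1 hb).2 _ ⟨d, hd, rfl⟩)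
        exact mem_centralizer_iff.2 fun d hd => mem_centralizer_singleton_iff.1 (h hd)
      have hbF : b ∈ F := ⟨_, CfsgLib.Components.centralizer_generalizedFitting_le_fitting hbc, rfl⟩
      rw [← orderOf_eq_one_iff]
      exact Nat.eq_one_of_dvd_coprimes hFodd (orderOf_dvd_natCard F hbF)
        (orderOf_dvd_of_pow_eq_one (hA.2 b (mem_inf.1 hb).1))
  -- the bound for a complement, faithful on `F`
  set W := V ⊓ centralizer (A₀ : Set L) with hW
  have hA₁W : A₁ ≤ normalizer (W : Set L) := fun b hb => inf_normalizer_le_normalizer_inf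
    ⟨hSV (hAS (hA₁A hb)), CfsgLib.Components.normalizer_le_normalizer_centralizer _
      (centralizer_le_normalizer _ (mem_centralizer_iff.2 fun c hc =>
        elemAb_commute hA (mem_inf.1 hc).1 (hA₁A hb)))⟩
  have hFc : F ≤ centralizer (A₀ : Set L) := le_centralizer_iff.1 inf_le_right
  have hFW : F ≤ normalizer (W : Set L) := fun f hf => inf_normalizer_le_normalizer_inf
    ⟨hSV (hFS hf), CfsgLib.Components.normalizer_le_normalizer_centralizer _
      (centralizer_le_normalizer _ (hFc hf))⟩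
  have hFf : F ⊓ centralizer (W : Set L) = ⊥ := by
    rw [eq_bot_iff]
    intro f hf'
    obtain ⟨hfF, hfW⟩ := mem_inf.1 hf'
    have hfV : f ∈ centralizer (V : Set L) := CfsgLib.Components.mem_centralizer_of_AxB (p := 2)
      (elemAb_isPGroup hV) (elemAb_isPGroup (elemAb_of_le hA inf_le_left))
      (inf_le_left.trans (hAS.trans hSV)) (hSV (hFS hfF)) (hFc hfF)
      (hFodd.coprime_dvd_left (orderOf_dvd_natCard F hfF))
      fun r hr hrA => (mem_centralizer_iff.1 hfW r (mem_inf.2 ⟨hr, hrA⟩)).symm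
    exact hf ▸ mem_inf.2 ⟨hFS hfF, hfV⟩
  have hA₁f : A₁ ⊓ centralizer (F : Set L) = ⊥ := le_bot_iff.1 fun b hb =>
    h01 ▸ mem_inf.2 ⟨mem_inf.2 ⟨hA₁A (mem_inf.1 hb).1, (mem_inf.1 hb).2⟩, (mem_inf.1 hb).1⟩
  have h1 := CfsgLib.PLocal.card_sq_le_relIndex_fixed_in hS W F hFS (elemAb_of_le hV inf_le_left)
    hFW hFodd hFf _ A₁ rfl (elemAb_of_le hA hA₁A) (hA₁A.trans hAS) hA₁W
    (hA₁A.trans (hAS.trans hFn)) hA₁f
  have hWA : W ⊓ centralizer (A₁ : Set L) = V ⊓ centralizer (A : Set L) := by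
    refine le_antisymm (fun w hw => ?_) (le_inf (inf_le_inf_left _ (centralizer_le inf_le_left))
      (inf_le_right.trans (centralizer_le hA₁A)))
    obtain ⟨⟨hwV, hw2⟩, hw3⟩ := hw
    refine mem_inf.2 ⟨hwV, ?_⟩
    have : A₀ ⊔ A₁ ≤ centralizer ({w} : Set L) := sup_le
      (fun t ht => mem_centralizer_singleton_iff.2 (mem_centralizer_iff.1 hw2 t ht))
      (fun t ht => mem_centralizer_singleton_iff.2 (mem_centralizer_iff.1 hw3 t ht))
    rw [hsup] at this
    exact mem_centralizer_iff.2 fun t ht => mem_centralizer_singleton_iff.1 (this ht)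
  rw [hWA] at h1
  have hcard : Nat.card A ≤ Nat.card A₁ * Nat.card A₀ := by
    have hn : A₀ ≤ normalizer (A₁ : Set L) := fun b hb => centralizer_le_normalizer _
      (mem_centralizer_iff.2 fun c hc => elemAb_commute hA (hA₁A hc) (mem_inf.1 hb).1)
    have h := CfsgLib.Structure.card_sup_dvd_mul hn
    rw [sup_comm, hsup] at h
    exact Nat.le_of_dvd (mul_pos Nat.card_pos Nat.card_pos) h
  rw [← relIndex_mul_relIndex (V ⊓ centralizer (A : Set L)) W V (hWA ▸ inf_le_left) inf_le_left]
  calc Nat.card A ^ 2 ≤ (Nat.card A₁ * Nat.card A₀) ^ 2 := Nat.pow_le_pow_left hcard 2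
    _ = Nat.card A₁ ^ 2 * Nat.card A₀ ^ 2 := mul_pow _ _ _
    _ ≤ _ := Nat.mul_le_mul h1 h0

section Dual

/-- The action of the normalizer of `V` on the character group of `V`. -/
noncomputable def dualAct (V S : Subgroup L) (hSV : S ≤ normalizer (V : Set L)) :
    S →* MulAut (V →* ℂˣ) where
  toFun s :=
    { toFun := fun f => f.comp (V.normalizerMonoidHom (inclusion hSV s⁻¹)).toMonoidHom
      invFun := fun f => f.comp (V.normalizerMonoidHom (inclusion hSV s)).toMonoidHom
      left_inv := fun f => by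
        ext v
        show ((f ((V.normalizerMonoidHom (inclusion hSV s⁻¹))
          (V.normalizerMonoidHom (inclusion hSV s) v))) : ℂ) = f v
        rw [← MulAut.mul_apply, ← map_mul, ← map_mul, inv_mul_cancel, map_one, map_one,
          MulAut.one_apply]
      right_inv := fun f => by
        ext v
        show ((f ((V.normalizerMonoidHom (inclusion hSV s))
          (V.normalizerMonoidHom (inclusion hSV s⁻¹) v))) : ℂ) = f v
        rw [← MulAut.mul_apply, ← map_mul, ← map_mul, mul_inv_cancel, map_one, map_one,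
          MulAut.one_apply]
      map_mul' := fun f g => rfl }
  map_one' := by
    refine MulEquiv.ext fun f => MonoidHom.ext fun v => ?_
    show f (V.normalizerMonoidHom (inclusion hSV 1⁻¹) v) = f v
    rw [inv_one, map_one, map_one, MulAut.one_apply]
  map_mul' s t := by
    refine MulEquiv.ext fun f => MonoidHom.ext fun v => ?_
    show f (V.normalizerMonoidHom (inclusion hSV (s * t)⁻¹) v) =
      f (V.normalizerMonoidHom (inclusion hSV t⁻¹) (V.normalizerMonoidHom (inclusion hSV s⁻¹) v))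
    rw [mul_inv_rev, map_mul, map_mul, MulAut.mul_apply]

/-- `|A| ^ 2 ≤ |[V, A]|`. -/
theorem card_sq_le_commutator {S : Subgroup L} (hS : ¬ Cfsg.Involves (Equiv.Perm (Fin 3)) S)
    (hO : Cfsg.pCore 2 S = ⊥) (hgood : ∀ D : Subgroup S, Cfsg.IsComponent D → Good D)
    (V : Subgroup L) (hV : Cfsg.IsElementaryAbelian 2 V) (hSV : S ≤ normalizer (V : Set L))
    (hf : S ⊓ centralizer (V : Set L) = ⊥) (A : Subgroup L) (hA : Cfsg.IsElementaryAbelian 2 A)
    (hAS : A ≤ S) : Nat.card A ^ 2 ≤ Nat.card ↥⁅V, A⁆ := by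
  letI : CommGroup V :=
    { (inferInstance : Group V) with mul_comm := fun a b => Subtype.ext (elemAb_commute hV a.2 b.2) }
  haveI : Finite (V →* ℂˣ) := Finite.of_equiv V
    (CommGroup.monoidHom_mulEquiv_of_hasEnoughRootsOfUnity V ℂ).some.symm.toEquiv
  set φ := dualAct V S hSV
  let X := (V →* ℂˣ) ⋊[φ] S
  haveI : Finite X := Finite.of_equiv _ (SemidirectProduct.equivProd : X ≃ _).symm
  set V' := (SemidirectProduct.inl : (V →* ℂˣ) →* X).range with hV'
  set inr : S →* X := SemidirectProduct.inr with hinr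
  have hinj : Function.Injective inr := SemidirectProduct.inr_injective
  set S' := inr.range with hS'
  set e : S ≃* S' := MonoidHom.ofInjective hinj
  set A' := (A.subgroupOf S).map inr with hA'
  have hV'e : Cfsg.IsElementaryAbelian 2 V' := by
    refine ⟨CfsgLib.PLocal.isMulCommutative_of_forall ?_, ?_⟩
    · rintro _ ⟨f, rfl⟩ _ ⟨g, rfl⟩
      rw [← map_mul, mul_comm f g, map_mul]
    · rintro _ ⟨f, rfl⟩
      rw [← map_pow, show f ^ 2 = 1 from MonoidHom.ext fun v => ?_, map_one]
      rw [MonoidHom.pow_apply, ← map_pow, show v ^ 2 = 1 from Subtype.ext (hV.2 v v.2), map_one,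
        MonoidHom.one_apply]
  have hconj : ∀ (s : S) (f : V →* ℂˣ),
      inr s * SemidirectProduct.inl f * (inr s)⁻¹ = SemidirectProduct.inl (φ s f) := fun s f => by
    rw [hinr, ← map_inv, ← SemidirectProduct.inl_aut]
  have hS'V : S' ≤ normalizer (V' : Set X) := by
    rintro _ ⟨s, rfl⟩
    rw [mem_normalizer_iff_map_conj_eq]
    refine eq_of_le_of_card_ge ?_
      (Nat.card_congr (V'.equivMapOfInjective _ (MulAut.conj (inr s)).injective).toEquiv).le
    rintro _ ⟨_, ⟨f, rfl⟩, rfl⟩
    exact ⟨φ s f, (hconj s f).symm⟩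
  have hf' : S' ⊓ centralizer (V' : Set X) = ⊥ := by
    rw [eq_bot_iff]
    intro w hw
    obtain ⟨⟨s, rfl⟩, hs⟩ := mem_inf.1 hw
    suffices hs1 : (s : L) ∈ centralizer (V : Set L) by
      have : s = 1 := Subtype.ext (mem_bot.1 (hf ▸ mem_inf.2 ⟨s.2, hs1⟩))
      rw [this, map_one]; exact one_mem _
    refine mem_centralizer_iff.2 fun v hv => ?_
    have hfix : ∀ f : V →* ℂˣ, f (V.normalizerMonoidHom (inclusion hSV s⁻¹) ⟨v, hv⟩) = f ⟨v, hv⟩ := by
      intro f
      have h : SemidirectProduct.inl (φ s f) = (SemidirectProduct.inl f : X) := by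
        rw [← hconj, ← mem_centralizer_iff.1 hs _ ⟨f, rfl⟩, mul_inv_cancel_right]
      exact DFunLike.congr_fun (SemidirectProduct.inl_injective h) ⟨v, hv⟩
    have := congrArg Subtype.val ((CommGroup.forall_apply_eq_apply_iff V (M := ℂ)).1 hfix)
    change (s : L)⁻¹ * v * (s : L)⁻¹⁻¹ = v at this
    rw [inv_inv, mul_assoc, inv_mul_eq_iff_eq_mul] at this
    exact this
  have hS'3 : ¬ Cfsg.Involves (Equiv.Perm (Fin 3)) S' := fun h =>
    hS (CfsgLib.LocalEven.Involved.involves_of_surjective e.toMonoidHom e.surjective h)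
  have hO' : Cfsg.pCore 2 S' = ⊥ := by
    rw [← CfsgLib.Fitting.pCore_map_mulEquiv 2 e, hO, Subgroup.map_bot]
  have hgood' : ∀ D : Subgroup S', Cfsg.IsComponent D → Good D := fun D hD => by
    have h := (hgood _ (CfsgLib.Components.isComponent_map_equiv e.symm hD)).map e.toMonoidHom
      e.injective
    rwa [Subgroup.map_map, show e.toMonoidHom.comp e.symm.toMonoidHom = MonoidHom.id S' from
      MonoidHom.ext fun x => e.apply_symm_apply x, Subgroup.map_id] at h
  have hA'e : Cfsg.IsElementaryAbelian 2 A' := by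
    refine ⟨CfsgLib.PLocal.isMulCommutative_of_forall ?_, ?_⟩
    · rintro _ ⟨a, ha, rfl⟩ _ ⟨b, hb, rfl⟩
      rw [← map_mul, ← map_mul]
      exact congrArg inr (Subtype.ext (elemAb_commute hA ha hb))
    · rintro _ ⟨a, ha, rfl⟩
      rw [← map_pow, show a ^ 2 = 1 from Subtype.ext (hA.2 _ ha), map_one]
  have h := card_sq_le_relIndex hS'3 hO' hgood' V' hV'e hS'V hf' A' hA'e
    (by rintro _ ⟨a, -, rfl⟩; exact ⟨a, rfl⟩)
  have hcA : Nat.card A' = Nat.card A := by
    rw [hA', card_map_of_injective hinj, Nat.card_congr (subgroupOfEquivOfLe hAS).toEquiv]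
  have hTV : ⁅V, A⁆ ≤ V := by
    rw [commutator_le]
    intro v hv a ha
    rw [commutatorElement_def, mul_assoc, mul_assoc, ← mul_assoc a]
    exact mul_mem hv ((mem_normalizer_iff.1 (hSV (hAS ha)) _).1 (inv_mem hv))
  set T := ⁅V, A⁆.subgroupOf V
  set res : (V →* ℂˣ) →* (T →* ℂˣ) :=
    { toFun := fun f => f.comp T.subtype, map_one' := rfl, map_mul' := fun f g => rfl }
  have hker : res.ker.map (SemidirectProduct.inl : (V →* ℂˣ) →* X) ≤
      V' ⊓ centralizer (A' : Set X) := by
    rintro _ ⟨f, hfT, rfl⟩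
    refine mem_inf.2 ⟨⟨f, rfl⟩, mem_centralizer_iff.2 ?_⟩
    rintro _ ⟨a, ha, rfl⟩
    rw [← mul_inv_eq_iff_eq_mul, hconj]
    congr 1
    refine MonoidHom.ext fun v => ?_
    have hd : (⁅(v : L)⁻¹, (a : L)⁻¹⁆) ∈ ⁅V, A⁆ :=
      commutator_mem_commutator (inv_mem v.2) (inv_mem ha)
    have h1 : f ⟨⁅(v : L)⁻¹, (a : L)⁻¹⁆, hTV hd⟩ = 1 :=
      DFunLike.congr_fun (MonoidHom.mem_ker.1 hfT) ⟨⟨_, hTV hd⟩, mem_subgroupOf.2 hd⟩
    show f (V.normalizerMonoidHom (inclusion hSV a⁻¹) v) = f v
    have e1 : V.normalizerMonoidHom (inclusion hSV a⁻¹) v = v * ⟨⁅(v : L)⁻¹, (a : L)⁻¹⁆, hTV hd⟩ := by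
      apply Subtype.ext
      show (a : L)⁻¹ * v * (a : L)⁻¹⁻¹ = v * ⁅(v : L)⁻¹, (a : L)⁻¹⁆
      rw [commutatorElement_def]; group
    rw [e1, map_mul, h1, mul_one]
  have hVi : (res.ker.map (SemidirectProduct.inl : (V →* ℂˣ) →* X)).relIndex V' ≤
      Nat.card (T →* ℂˣ) := by
    rw [hV', MonoidHom.range_eq_map,
      relIndex_map_map_of_injective _ _ SemidirectProduct.inl_injective, relIndex_top_right,
      index_ker]
    exact Nat.card_le_card_of_injective Subtype.val Subtype.val_injective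
  haveI : Finite (T →* ℂˣ) := Finite.of_equiv T
    (CommGroup.monoidHom_mulEquiv_of_hasEnoughRootsOfUnity T ℂ).some.symm.toEquiv
  calc Nat.card A ^ 2 = Nat.card A' ^ 2 := by rw [hcA]
    _ ≤ (V' ⊓ centralizer (A' : Set X)).relIndex V' := h
    _ ≤ (res.ker.map (SemidirectProduct.inl : (V →* ℂˣ) →* X)).relIndex V' := Nat.le_of_dvd
        (Nat.pos_of_ne_zero index_ne_zero_of_finite) (relIndex_dvd_of_le_left V' hker)
    _ ≤ Nat.card (T →* ℂˣ) := hVi
    _ = Nat.card T :=
        Nat.card_congr (CommGroup.monoidHom_mulEquiv_of_hasEnoughRootsOfUnity T ℂ).some.toEquiv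
    _ = Nat.card ↥⁅V, A⁆ := Nat.card_congr (subgroupOfEquivOfLe hTV).toEquiv

end Dual

end CfsgLib.LocalEven.OffenderSquare
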