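import Cfsg.Agent.Lib.LocalEven.OffenderSquareQuasisimple
import Cfsg.Agent.Lib.AutPSL.BalanceField
import Cfsg.Agent.Lib.AutPSL.OutPSL
import Cfsg.Agent.Lib.ClassicalGroups.SmallIso
import Cfsg.Agent.Lib.SpecLin.SLTwoClassSize
import Cfsg.Agent.S0813

/-!
`PSL₂(3^f)`, `f ≥ 3` odd: elementary abelian groups of at least four automorphisms have order four and
invert elements of large primitive order.
-/

set_option autoImplicit false
set_option linter.style.haveILetI false

namespace CfsgLib.LocalEven.OffenderSquare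

open Matrix CfsgLib.AutPSL
open CfsgLib.PLocal (elemAb_commute elemAb_isPGroup elemAb_of_le)

theorem nine_pow_mod_eight (n : ℕ) : 3 ^ (2 * n + 1) % 8 = 3 := by
  rw [pow_succ, pow_mul, Nat.mul_mod, Nat.pow_mod]
  norm_num

theorem seven_le_of_square {r e : ℕ} (hr : r.Prime) (hr2 : r ≠ 2) (hr3 : r ≠ 3)
    (hsq : ∃ x : ZMod r, x ^ 2 = 3) (he : r ∣ 2 ^ e - 1) (he0 : 0 < e) : 7 ≤ e := by
  obtain ⟨x, hx⟩ := hsq
  by_contra h
  have hlist : r = 5 ∨ r = 7 ∨ r = 31 := by
    have h1 : 2 ^ e - 1 ∣ 3 * 3 * 5 * 7 * 31 := by interval_cases e <;> norm_num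
    have := he.trans h1
    simp only [hr.dvd_mul, Nat.prime_dvd_prime_iff_eq hr (show Nat.Prime 3 by norm_num),
      Nat.prime_dvd_prime_iff_eq hr (show Nat.Prime 5 by norm_num),
      Nat.prime_dvd_prime_iff_eq hr (show Nat.Prime 7 by norm_num),
      Nat.prime_dvd_prime_iff_eq hr (show Nat.Prime 31 by norm_num)] at this
    omega
  rcases hlist with rfl | rfl | rfl <;> revert x hx <;> decide

variable {F : Type*} [Field F] [Fintype F]
set_option linter.unusedSectionVars false

theorem exists_order_four_aut (h3 : (3 : F) = 0) :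
    ∃ c : MulAut (PSLG 2 F), c ^ 2 ≠ 1 ∧ c ^ 4 = 1 := by
  have h2 : (2 : F) ≠ 0 := fun h => one_ne_zero (α := F) (by linear_combination h3 - h)
  have hd : (!![1, 1; -1, 1] : Matrix (Fin 2) (Fin 2) F).det ≠ 0 := by
    simp only [det_fin_two_of]; norm_num; exact h2
  set g : GL (Fin 2) F := GeneralLinearGroup.mkOfDetNeZero _ hd
  have hg : (g : Matrix (Fin 2) (Fin 2) F) = !![1, 1; -1, 1] := rfl
  have hsq : ((g ^ 2 : GL (Fin 2) F) : Matrix (Fin 2) (Fin 2) F) = !![0, 2; -2, 0] := by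
    rw [Units.val_pow_eq_pow_val, hg, pow_two, mul_fin_two]
    norm_num
  refine ⟨conjAut g, fun h => ?_, ?_⟩
  · rw [← map_pow, conjAut_eq_one_iff le_rfl] at h
    obtain ⟨u, hu⟩ := h
    have := congrArg (fun M : GL (Fin 2) F => (M : Matrix (Fin 2) (Fin 2) F) 0 1) hu
    simp only [hsq] at this
    exact h2 (by simpa using this)
  · rw [← map_pow]
    refine (conjAut_eq_one_iff le_rfl).2 ?_
    refine ⟨Units.mk0 (-4) (neg_ne_zero.2 (by
      rw [show (4 : F) = 2 * 2 by norm_num]; exact mul_ne_zero h2 h2)), Units.ext ?_⟩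
    rw [show g ^ 4 = g ^ 2 * g ^ 2 from pow_add g 2 2, Units.val_mul, hsq, mul_fin_two]
    ext i j
    fin_cases i <;> fin_cases j <;> simp <;> norm_num

/-- An involution of `PSL₂(F)`, `q ≡ 3 (mod 4)`, inverts an element of every odd prime order dividing
`(q - 1) / 2`. -/
theorem exists_inverted_of_involution (hneg : ∀ x : F, x * x ≠ -1) {z : PSLG 2 F} (hz1 : z ≠ 1)
    (hz2 : z * z = 1) {r : ℕ} (hr : r.Prime) (hr2 : r ≠ 2) {a : Fˣ} (ha : orderOf a = r) :
    ∃ x : PSLG 2 F, orderOf x = r ∧ z * x * z⁻¹ = x⁻¹ := by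
  obtain ⟨s, rfl⟩ := QuotientGroup.mk_surjective z
  rw [← QuotientGroup.mk_mul, QuotientGroup.eq_one_iff, center_iff_scalar_two] at hz2
  have hs : (s : Matrix (Fin 2) (Fin 2) F) * (s : Matrix (Fin 2) (Fin 2) F) = -1 := by
    rcases hz2 with h | h
    swap
    · exact h
    exfalso
    apply hz1
    rw [QuotientGroup.eq_one_iff, center_iff_scalar_two]
    have hd := s.2
    rw [det_fin_two] at hd
    have h01 := congrFun (congrFun h 0) 1
    have h10 := congrFun (congrFun h 1) 0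
    have h00 := congrFun (congrFun h 0) 0
    simp [Matrix.mul_apply, Fin.sum_univ_two] at h01 h10 h00
    set p := (s : Matrix (Fin 2) (Fin 2) F) 0 0
    set q := (s : Matrix (Fin 2) (Fin 2) F) 0 1
    set u := (s : Matrix (Fin 2) (Fin 2) F) 1 0
    set v := (s : Matrix (Fin 2) (Fin 2) F) 1 1
    have ht : p * (p + v) = 2 := by linear_combination h00 + hd
    have htn : p + v ≠ 0 := by
      intro h0
      rw [h0, mul_zero] at ht
      exact hneg 1 (by linear_combination (-1 : F) * ht)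
    have hq0 : q = 0 := by
      have : q * (p + v) = 0 := by linear_combination h01
      exact (mul_eq_zero.1 this).resolve_right htn
    have hu0 : u = 0 := by
      have : u * (p + v) = 0 := by linear_combination h10
      exact (mul_eq_zero.1 this).resolve_right htn
    have hp : p = 1 ∨ p = -1 := by
      refine sq_eq_one_iff.1 ?_
      linear_combination h00 - hq0 * u
    have hv : v = p := by
      have h1 : p * v = 1 := by linear_combination hd + hq0 * u
      rcases hp with h | h <;> rw [h] at h1 ⊢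
      · linear_combination h1
      · linear_combination (-1 : F) * h1
    rcases hp with h | h
    · left; ext i j; fin_cases i <;> fin_cases j
      · exact h
      · exact hq0
      · exact hu0
      · exact hv.trans h
    · right; ext i j; fin_cases i <;> fin_cases j
      · simpa using h
      · simpa using hq0
      · simpa using hu0
      · simpa using hv.trans h
  have h00 := congrFun (congrFun hs 0) 0
  have h10' := congrFun (congrFun hs 1) 0
  simp [Matrix.mul_apply, Fin.sum_univ_two] at h00 h10'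
  set M := (s : Matrix (Fin 2) (Fin 2) F) with hM
  have hne : M 1 0 ≠ 0 := fun h => hneg (M 0 0) (by rw [h, mul_zero, add_zero] at h00; exact h00)
  have hd : (!![1, M 0 0; 0, M 1 0] : Matrix (Fin 2) (Fin 2) F).det ≠ 0 := by
    simp [det_fin_two_of, hne]
  set g : GL (Fin 2) F := GeneralLinearGroup.mkOfDetNeZero _ hd
  have hg : (g : Matrix (Fin 2) (Fin 2) F) = !![1, M 0 0; 0, M 1 0] := rfl
  set w : SLG 2 F := ⟨!![0, -1; 1, 0], by simp [det_fin_two_of]⟩
  set T : SLG 2 F := ⟨!![(a : F), 0; 0, ((a⁻¹ : Fˣ) : F)], by simp [det_fin_two_of]⟩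
  have hsg : Matrix.SpecialLinearGroup.toGL s = g * Matrix.SpecialLinearGroup.toGL w * g⁻¹ := by
    rw [eq_mul_inv_iff_mul_eq]
    apply Units.ext
    show M * (g : Matrix (Fin 2) (Fin 2) F) = (g : Matrix (Fin 2) (Fin 2) F) * !![0, -1; 1, 0]
    rw [hg, M.eta_fin_two, mul_fin_two, mul_fin_two]
    simp only [cons_val', cons_val_zero, cons_val_one, of_apply, cons_val_fin_one]
    ext i j
    fin_cases i <;> fin_cases j <;> simp
    · linear_combination h00
    · linear_combination h10'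
  have hw : MulAut.conj (QuotientGroup.mk w : PSLG 2 F) (QuotientGroup.mk T) =
      (QuotientGroup.mk T : PSLG 2 F)⁻¹ := by
    rw [MulAut.conj_apply, ← QuotientGroup.mk_inv, ← QuotientGroup.mk_mul, ← QuotientGroup.mk_mul,
      ← QuotientGroup.mk_inv]
    congr 1
    apply Subtype.ext
    rw [sl_coe_mul, sl_coe_mul, sl_coe_inv, sl_coe_inv]
    show !![0, -1; 1, 0] * !![(a : F), 0; 0, ((a⁻¹ : Fˣ) : F)] * adjugate !![0, -1; 1, 0] =
      adjugate !![(a : F), 0; 0, ((a⁻¹ : Fˣ) : F)]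
    rw [adjugate_fin_two_of, adjugate_fin_two_of, mul_fin_two, mul_fin_two]
    simp
  have hT : orderOf (QuotientGroup.mk T : PSLG 2 F) = r := by
    haveI : Fact r.Prime := ⟨hr⟩
    have hp : ∀ k : ℕ, ((T ^ k : SLG 2 F) : Matrix (Fin 2) (Fin 2) F) =
        !![(a : F) ^ k, 0; 0, ((a⁻¹ : Fˣ) : F) ^ k] := by
      intro k
      induction k with
      | zero => simp [one_fin_two]
      | succ k ih => rw [pow_succ, sl_coe_mul, ih]; simp [T, pow_succ]
    refine orderOf_eq_prime ?_ ?_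
    · rw [← QuotientGroup.mk_pow, QuotientGroup.eq_one_iff, center_iff_scalar_two, hp,
        ← Units.val_pow_eq_pow_val, ← Units.val_pow_eq_pow_val, inv_pow, ← ha, pow_orderOf_eq_one]
      left
      simp [one_fin_two]
    · rw [Ne, QuotientGroup.eq_one_iff, center_iff_scalar_two]
      intro h
      have h2 : a ^ 2 = 1 := by
        apply Units.ext
        rw [Units.val_pow_eq_pow_val, Units.val_one, sq_eq_one_iff]
        rcases h with h | h
        · exact Or.inl (by simpa [T] using congrFun (congrFun h 0) 0)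
        · exact Or.inr (by simpa [T] using congrFun (congrFun h 0) 0)
      have := orderOf_dvd_of_pow_eq_one h2
      rw [ha] at this
      exact hr2 ((Nat.prime_dvd_prime_iff_eq hr Nat.prime_two).1 this)
  refine ⟨conjAut g (QuotientGroup.mk T), by rw [MulEquiv.orderOf_eq, hT], ?_⟩
  rw [← MulAut.conj_apply, ← conjAut_toGL, hsg, map_mul, map_mul, map_inv, conjAut_toGL]
  show conjAut g (MulAut.conj (QuotientGroup.mk w) ((conjAut g)⁻¹ (conjAut g (QuotientGroup.mk T)))) = _
  rw [MulAut.inv_apply_self, hw, map_inv]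

/-- The `PSL₂(3^f)` case. -/
theorem bigInverted_psl {n : ℕ} (hn : 1 ≤ n) (hF : Fintype.card F = 3 ^ (2 * n + 1)) :
    BigInverted (PSLG 2 F) := by
  intro B hB h4
  haveI : Fact (Nat.Prime 2) := ⟨Nat.prime_two⟩
  haveI : Fact (Nat.Prime 3) := ⟨Nat.prime_three⟩
  haveI : CharP F 3 := charP_of_card_eq_prime_pow hF
  have h3F : (3 : F) = 0 := by exact_mod_cast CharP.cast_eq_zero F 3
  have h27 : 27 ≤ 3 ^ (2 * n + 1) := le_of_eq_of_le (show 27 = 3 ^ 3 from rfl)
    (Nat.pow_le_pow_right (by norm_num) (by omega))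
  have h8 := nine_pow_mod_eight n
  set q := 3 ^ (2 * n + 1) with hq
  have haut : Nat.card (MulAut (PSLG 2 F)) = (2 * n + 1) * (q * (q ^ 2 - 1)) := by
    rw [Cfsg.Agent.S0813.result 3 (2 * n + 1) (by omega) hF 2 le_rfl (fun _ => by omega),
      if_pos rfl, one_mul, card_pgl_eq_card_sl (by norm_num), CfsgLib.SpecLin.SLTwo.card_sl_two, hF]
  obtain ⟨t, ht⟩ : ∃ t, q ^ 2 - 1 = 8 * (2 * t + 1) := by
    obtain ⟨k, hk⟩ : ∃ k, q = 8 * k + 3 := ⟨q / 8, by omega⟩
    refine ⟨4 * k * k + 3 * k, ?_⟩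
    rw [hk]
    ring_nf
    omega
  have hqodd : Odd q := Odd.pow (by decide)
  have hcardB : ∃ k, Nat.card B = 2 ^ k := (elemAb_isPGroup hB).exists_card_eq
  obtain ⟨k, hk⟩ := hcardB
  have hk3 : k ≤ 3 := by
    have h1 : 2 ^ k ∣ 8 := by
      have := hk ▸ haut ▸ B.card_subgroup_dvd_card
      rw [ht, show (2 * n + 1) * (q * (8 * (2 * t + 1))) =
        8 * ((2 * n + 1) * q * (2 * t + 1)) by ring] at this
      refine Nat.Coprime.dvd_of_dvd_mul_right ((Nat.coprime_two_left.2 ?_).pow_left k) this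
      exact ((odd_two_mul_add_one n).mul hqodd).mul (odd_two_mul_add_one t)
    by_contra hk3
    have := (pow_dvd_pow 2 (show 4 ≤ k by omega)).trans h1
    omega
  have hk2 : k = 2 := by
    by_contra hk2
    have hk3' : k = 3 := by
      have : 2 ≤ k := by
        by_contra h
        rw [hk] at h4
        interval_cases k <;> norm_num at h4
      omega
    subst hk3'
    obtain ⟨c, hc2, hc4⟩ := exists_order_four_aut h3F
    obtain ⟨i, -, hi⟩ := (Nat.dvd_prime_pow Nat.prime_two).1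
      (orderOf_dvd_of_pow_eq_one (show c ^ 2 ^ 2 = 1 from hc4))
    obtain ⟨P, hP⟩ := (IsPGroup.of_card (p := 2) (n := i) (G := Subgroup.zpowers c)
      (by rw [Nat.card_zpowers, hi])).exists_le_sylow
    haveI : Finite (MulAut (PSLG 2 F)) :=
      Finite.of_injective (fun β => (β : PSLG 2 F → PSLG 2 F)) DFunLike.coe_injective
    obtain ⟨Q, hQ⟩ := (elemAb_isPGroup hB).exists_le_sylow
    have hQB : B = Q := by
      refine Subgroup.eq_of_le_of_card_ge hQ ?_
      obtain ⟨j, hj⟩ := Q.2.exists_card_eq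
      have hd := hj ▸ haut ▸ (Q : Subgroup (MulAut (PSLG 2 F))).card_subgroup_dvd_card
      rw [ht, show (2 * n + 1) * (q * (8 * (2 * t + 1))) =
        8 * ((2 * n + 1) * q * (2 * t + 1)) by ring] at hd
      rw [hk, hj]
      exact Nat.le_of_dvd (by norm_num) (Nat.Coprime.dvd_of_dvd_mul_right
        ((Nat.coprime_two_left.2 (((odd_two_mul_add_one n).mul hqodd).mul
          (odd_two_mul_add_one t))).pow_left j) hd)
    obtain ⟨g, hg⟩ := MulAction.exists_smul_eq (MulAut (PSLG 2 F)) P Q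
    have hcB : g * c * g⁻¹ ∈ B := by
      rw [hQB, ← hg]
      exact ⟨c, hP (Subgroup.mem_zpowers c), rfl⟩
    have h := hB.2 _ hcB
    rw [conj_pow, conj_eq_one_iff] at h
    exact hc2 h
  subst hk2
  set I := (MulAut.conj : PSLG 2 F →* MulAut (PSLG 2 F)).range
  haveI hIn : I.Normal := by
    constructor
    rintro _ ⟨x, rfl⟩ β
    exact ⟨β x, (CfsgLib.AutBalance.conj_map β x).symm⟩
  have hpsl : 2 * Nat.card (PSLG 2 F) = q * (q ^ 2 - 1) := by
    have := CfsgLib.ClassicalGroups.card_psl_two_gcd (K := F)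
    rwa [hF, Nat.gcd_eq_left ((Nat.modEq_iff_dvd' (by omega)).1
      (show 1 % 2 = q % 2 by rw [Nat.odd_iff.1 hqodd]))] at this
  have hidx : I.index = 2 * (2 * n + 1) := by
    have h := I.card_mul_index
    rw [haut, ← hpsl,
      ← Nat.card_congr (MonoidHom.ofInjective (CfsgLib.AutPSL.pslConj_injective (F := F) le_rfl)).toEquiv,
      show (2 * n + 1) * (2 * Nat.card (PSLG 2 F)) = Nat.card (PSLG 2 F) * (2 * (2 * n + 1)) by ring] at h
    exact Nat.eq_of_mul_eq_mul_left Nat.card_pos h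
  have hne : B ⊓ I ≠ ⊥ := by
    intro h0
    have h1 : Nat.card B ∣ I.index := by
      rw [← Subgroup.relIndex_bot_left B, ← h0, Subgroup.inf_relIndex_left]
      exact Subgroup.relIndex_dvd_index_of_normal I B
    rw [hk, hidx, show 2 ^ 2 = 2 * 2 from rfl] at h1
    have := (Nat.mul_dvd_mul_iff_left two_pos).1 h1
    omega
  obtain ⟨⟨β, hβ⟩, hβ1⟩ := Subgroup.ne_bot_iff_exists_ne_one.1 hne
  obtain ⟨z, rfl⟩ := hβ.2
  have hz1 : z ≠ 1 := fun h => hβ1 (Subtype.ext (show MulAut.conj z = 1 by rw [h, map_one]))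
  have hz2 : z * z = 1 := CfsgLib.AutPSL.pslConj_injective le_rfl (by
    rw [map_mul, map_one, ← pow_two]; exact hB.2 _ hβ.1)
  obtain ⟨m, hm⟩ : ∃ m, q - 1 = 2 * m := ⟨(q - 1) / 2, by omega⟩
  obtain ⟨r, hr, hrm⟩ := Nat.exists_prime_and_dvd (show m ≠ 1 by omega)
  haveI : Fact r.Prime := ⟨hr⟩
  have hmodd : Odd m := Nat.odd_iff.2 (by omega)
  have hr2 : r ≠ 2 := fun h => (Nat.not_even_iff_odd.2 hmodd) (even_iff_two_dvd.2 (h ▸ hrm))
  have hrq : r ∣ q - 1 := hm ▸ hrm.mul_left 2
  have hr3 : r ≠ 3 := by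
    rintro rfl
    have : 3 ∣ q := dvd_pow_self 3 (by omega)
    omega
  have hsq : ∃ x : ZMod r, x ^ 2 = 3 := by
    refine ⟨3 ^ (n + 1), ?_⟩
    have h1 : ((q : ℕ) : ZMod r) = 1 := by
      rw [← Nat.cast_one, ZMod.natCast_eq_natCast_iff']
      exact (Nat.ModEq.symm ((Nat.modEq_iff_dvd' (by omega)).2 hrq))
    rw [← pow_mul, show (n + 1) * 2 = 2 * n + 1 + 1 by ring, pow_succ]
    rw [hq] at h1; push_cast at h1
    rw [h1, one_mul]
  obtain ⟨a, ha⟩ := exists_prime_orderOf_dvd_card' (G := Fˣ) r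
    (by rwa [Nat.card_units, Nat.card_eq_fintype_card, hF])
  have hneg : ∀ x : F, x * x ≠ -1 := fun x h =>
    (show ¬ IsSquare (-1 : F) by rw [FiniteField.isSquare_neg_one_iff, hF, not_not]; omega)
      ⟨x, h.symm⟩
  obtain ⟨x, hx, hinv⟩ := exists_inverted_of_involution hneg hz1 hz2 hr hr2 ha
  refine ⟨_, hβ.1, x, r, 2, orderOf (2 : ZMod r), hr, hr2, hx, hinv, hk.le, ?_, ?_⟩
  · have hu : IsUnit (2 : ZMod r) := by
      rw [show (2 : ZMod r) = ((2 : ℕ) : ZMod r) by norm_num, ZMod.isUnit_iff_coprime]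
      exact (Nat.coprime_primes Nat.prime_two hr).2 (Ne.symm hr2)
    have h0 : 0 < orderOf (2 : ZMod r) := by
      obtain ⟨u, hu'⟩ := hu
      rw [← hu', orderOf_units]
      exact orderOf_pos u
    have := seven_le_of_square hr hr2 hr3 hsq ?_ h0
    · omega
    rw [← ZMod.natCast_eq_zero_iff, Nat.cast_sub Nat.one_le_two_pow, Nat.cast_pow]
    push_cast
    rw [pow_orderOf_eq_one, sub_self]
  · intro j hj
    rw [← ZMod.natCast_eq_zero_iff, Nat.cast_sub Nat.one_le_two_pow, Nat.cast_pow] at hj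
    push_cast at hj
    exact orderOf_dvd_of_pow_eq_one (sub_eq_zero.1 hj)

end CfsgLib.LocalEven.OffenderSquare
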