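import Cfsg.Prelude.Def_Transfer
import Cfsg.Prelude.Def_Solvable

/-!
Lower bounds for `|V : C_V(a)|` in a faithful `p`-module from elements of large primitive order.
-/

set_option autoImplicit false

open Cfsg

namespace CfsgLib.LocalEven.FaithfulModule

variable {G : Type*} [Group G] [Finite G] {p : ℕ} [Fact p.Prime]

/-- Lift an element of prime power order through a surjection to one of prime power order. -/
theorem exists_lift_prime_pow {K D : Type*} [Group K] [Finite K] [Group D] (π : K →* D)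
    (hπ : Function.Surjective π) {q : ℕ} (hq : q.Prime) {d : D} {j : ℕ} (hd : orderOf d = q ^ j) :
    ∃ a : K, π a = d ∧ ∃ i : ℕ, orderOf a = q ^ i := by
  obtain ⟨a₀, ha₀⟩ := hπ d
  obtain ⟨v, m, hm, hv⟩ := Nat.exists_eq_pow_mul_and_not_dvd (orderOf_pos a₀).ne' q hq.ne_one
  have hco : Nat.Coprime (q ^ v) m := Nat.Coprime.pow_left v ((hq.coprime_iff_not_dvd).2 hm)
  have hjv : j ≤ v := by
    have h1 : q ^ j ∣ q ^ v * m := by
      rw [← hd, ← hv, ← ha₀]; exact orderOf_map_dvd π a₀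
    have h2 : Nat.Coprime (q ^ j) m := Nat.Coprime.pow_left j ((hq.coprime_iff_not_dvd).2 hm)
    exact (Nat.pow_dvd_pow_iff_le_right hq.one_lt).1 (h2.dvd_of_dvd_mul_right h1)
  obtain ⟨e, he1, he0⟩ := Nat.chineseRemainder hco 1 0
  refine ⟨a₀ ^ e, ?_, ?_⟩
  · rw [map_pow, ha₀]
    have : e ≡ 1 [MOD orderOf d] := Nat.ModEq.of_dvd (by rw [hd]; exact pow_dvd_pow q hjv) he1
    calc d ^ e = d ^ 1 := pow_eq_pow_iff_modEq.2 this
      _ = d := pow_one d
  · have h1 : (a₀ ^ e) ^ (q ^ v) = 1 := by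
      rw [← pow_mul, ← orderOf_dvd_iff_pow_eq_one, hv, mul_comm e]
      exact mul_dvd_mul_left _ ((Nat.modEq_zero_iff_dvd).1 he0)
    obtain ⟨i, -, hi⟩ := (Nat.dvd_prime_pow hq).1 (orderOf_dvd_of_pow_eq_one h1)
    exact ⟨i, hi⟩

/-- The congruence for a faithful element of prime power order. -/
theorem dvd_pow_sub_one {V : Subgroup G} (hVp : IsPGroup p V) {h : G}
    (hn : h ∈ Subgroup.normalizer (V : Set G)) {r k : ℕ} (hr : r.Prime) (hrp : r ≠ p)
    (hh : orderOf h = r ^ (k + 1)) (hne : h ^ (r ^ k) ∉ Subgroup.centralizer (V : Set G)) :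
    ∃ m : ℕ, 0 < m ∧ (V ⊓ Subgroup.centralizer ({h ^ (r ^ k)} : Set G)).relIndex V = p ^ m ∧
      r ^ (k + 1) ∣ p ^ m - 1 := by
  classical
  set h' := h ^ (r ^ k) with hh'
  set W := V ⊓ Subgroup.centralizer ({h'} : Set G) with hW
  have hWV : W ≤ V := inf_le_left
  have hcard : Nat.card W * W.relIndex V = Nat.card V := by
    have := Subgroup.relIndex_mul_relIndex (⊥ : Subgroup G) W V bot_le hWV
    simpa [Subgroup.relIndex_bot_left] using this
  obtain ⟨a, ha⟩ := IsPGroup.iff_card.1 hVp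
  obtain ⟨m, -, hm⟩ := (Nat.dvd_prime_pow (Fact.out : p.Prime)).1
    (ha ▸ Dvd.intro_left _ hcard : W.relIndex V ∣ p ^ a)
  have hm0 : 0 < m := by
    rcases Nat.eq_zero_or_pos m with rfl | h0
    · exfalso
      rw [pow_zero, Subgroup.relIndex_eq_one] at hm
      refine hne (Subgroup.mem_centralizer_iff.2 fun v hv => ?_)
      exact (Subgroup.mem_centralizer_singleton_iff.1 (hm hv).2)
    · exact h0
  refine ⟨m, hm0, hm, ?_⟩
  -- a free action on the moved elements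
  set X := Subgroup.zpowers h with hX
  let Ω := {v : G // v ∈ V ∧ v ∉ Subgroup.centralizer ({h'} : Set G)}
  have hconj : ∀ g ∈ X, ∀ v : Ω, g * v.1 * g⁻¹ ∈ V ∧
      g * v.1 * g⁻¹ ∉ Subgroup.centralizer ({h'} : Set G) := by
    rintro g ⟨i, rfl⟩ v
    refine ⟨(Subgroup.mem_normalizer_iff.1 (Subgroup.zpow_mem _ hn i) _).1 v.2.1, fun hc => v.2.2 ?_⟩
    rw [Subgroup.mem_centralizer_singleton_iff] at hc ⊢
    have hcomm : Commute (h ^ i) h' := ((Commute.refl h).zpow_left i).pow_right _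
    calc v.1 * h' = (h ^ i)⁻¹ * ((h ^ i * v.1 * (h ^ i)⁻¹) * (h ^ i * h' * (h ^ i)⁻¹)) * h ^ i := by
          group
      _ = (h ^ i)⁻¹ * ((h ^ i * v.1 * (h ^ i)⁻¹) * h') * h ^ i := by
          rw [hcomm.eq]; group
      _ = (h ^ i)⁻¹ * (h' * (h ^ i * v.1 * (h ^ i)⁻¹)) * h ^ i := by rw [hc]
      _ = (h ^ i)⁻¹ * ((h ^ i * h' * (h ^ i)⁻¹) * (h ^ i * v.1 * (h ^ i)⁻¹)) * h ^ i := by
          rw [hcomm.eq]; group
      _ = h' * v.1 := by group
  let A : MulAction ↥X Ω :=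
    { smul := fun g v => ⟨g.1 * v.1 * g.1⁻¹, hconj g.1 g.2 v⟩
      one_smul := fun v => Subtype.ext (by show (1 : G) * v.1 * (1 : G)⁻¹ = v.1; simp)
      mul_smul := fun g g' v => Subtype.ext (by
        show (g.1 * g'.1) * v.1 * (g.1 * g'.1)⁻¹ = g.1 * (g'.1 * v.1 * g'.1⁻¹) * g.1⁻¹; group) }
  have hfree : ∀ v : Ω, MulAction.stabilizer ↥X v = ⊥ := by
    intro v
    rw [Subgroup.eq_bot_iff_forall]
    rintro ⟨g, i, rfl⟩ hg
    have hg' : h ^ i * v.1 * (h ^ i)⁻¹ = v.1 := congrArg Subtype.val hg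
    by_contra hne1
    have hne1' : ¬ ((r ^ (k + 1) : ℕ) : ℤ) ∣ i := by
      intro hd
      apply hne1
      apply Subtype.ext
      show h ^ i = 1
      rw [← hh] at hd
      exact orderOf_dvd_iff_zpow_eq_one.1 hd
    obtain ⟨e, hek, he⟩ : ∃ e ≤ k, Int.gcd i (r ^ (k + 1) : ℕ) = r ^ e := by
      have hd : Int.gcd i (r ^ (k + 1) : ℕ) ∣ r ^ (k + 1) := by
        exact_mod_cast Int.gcd_dvd_right i ((r ^ (k + 1) : ℕ) : ℤ)
      obtain ⟨e, he1, he⟩ := (Nat.dvd_prime_pow hr).1 hd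
      refine ⟨e, ?_, he⟩
      by_contra hlt
      apply hne1'
      have h2 := Int.gcd_dvd_left i ((r ^ (k + 1) : ℕ) : ℤ)
      rwa [he, show e = k + 1 by omega] at h2
    have hmem : h ^ ((r ^ e : ℕ) : ℤ) ∈ Subgroup.zpowers (h ^ i) := by
      rw [← he, Int.gcd_eq_gcd_ab, zpow_add, zpow_mul h ((r ^ (k + 1) : ℕ) : ℤ),
        zpow_natCast h (r ^ (k + 1)), ← hh, pow_orderOf_eq_one, one_zpow, mul_one, zpow_mul]
      exact Subgroup.zpow_mem _ (Subgroup.mem_zpowers _) _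
    have hfix : h ^ ((r ^ e : ℕ) : ℤ) ∈ Subgroup.centralizer ({v.1} : Set G) := by
      refine (Subgroup.zpowers_le.2 ?_) hmem
      rw [Subgroup.mem_centralizer_singleton_iff]
      exact mul_inv_eq_iff_eq_mul.1 hg'
    apply v.2.2
    have h2 : h' ∈ Subgroup.centralizer ({v.1} : Set G) := by
      have h3 := Subgroup.pow_mem _ hfix (r ^ (k - e))
      rwa [zpow_natCast, ← pow_mul, ← pow_add, show e + (k - e) = k by omega] at h3
    rw [Subgroup.mem_centralizer_singleton_iff] at h2 ⊢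
    exact h2.symm
  have hΩdvd : r ^ (k + 1) ∣ Nat.card Ω := by
    have : Fintype (Quotient (MulAction.orbitRel ↥X Ω)) := Fintype.ofFinite _
    rw [Nat.card_congr (MulAction.selfEquivSigmaOrbitsQuotientStabilizer ↥X Ω), Nat.card_sigma]
    refine Finset.dvd_sum fun ω _ => ?_
    rw [hfree, ← Subgroup.index_eq_card, Subgroup.index_bot, Nat.card_zpowers, hh]
  have hΩ : Nat.card Ω + Nat.card W = Nat.card V := by
    have e1 : Nat.card Ω = ((V : Set G) \ (W : Set G)).ncard := by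
      rw [← Nat.card_coe_set_eq]
      refine Nat.card_congr (Equiv.subtypeEquivRight fun v => ?_)
      simp [hW]
    have eW : Nat.card W = (W : Set G).ncard := Nat.card_coe_set_eq _
    have eV : Nat.card V = (V : Set G).ncard := Nat.card_coe_set_eq _
    rw [e1, eW, eV]
    exact Set.ncard_sdiff_add_ncard_of_subset hWV (Set.toFinite _)
  rw [hm] at hcard
  have hmul : Nat.card Ω = Nat.card W * (p ^ m - 1) := by
    rw [Nat.mul_sub, mul_one, hcard]; omega
  obtain ⟨b, hb⟩ := IsPGroup.iff_card.1 (hVp.to_le hWV)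
  rw [hmul, hb] at hΩdvd
  refine (Nat.Coprime.pow _ _ ?_).dvd_of_dvd_mul_left hΩdvd
  exact (Nat.coprime_primes hr (Fact.out : p.Prime)).2 hrp

/-- If `x ∈ H` centralises `W ≤ V` and its order is divisible by a large primitive prime power, then
`|V : W|` is large. -/
theorem bound_of_fixed {V H W : Subgroup G} (hVp : IsPGroup p V)
    (hHV : H ≤ Subgroup.normalizer (V : Set G))
    (hf : H ⊓ Subgroup.centralizer (V : Set G) = ⊥) (hWV : W ≤ V) {x : G} (hxH : x ∈ H)
    (hWx : W ≤ Subgroup.centralizer ({x} : Set G)) {r k N : ℕ} (hr : r.Prime) (hrp : r ≠ p)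
    (hx : r ^ (k + 1) ∣ orderOf x) (hN : ∀ m : ℕ, r ^ (k + 1) ∣ p ^ m - 1 → N ∣ m) :
    p ^ N ≤ W.relIndex V := by
  set h := x ^ (orderOf x / r ^ (k + 1)) with hhdef
  have hh : orderOf h = r ^ (k + 1) := orderOf_pow_orderOf_div (orderOf_pos x).ne' hx
  have hhH : h ∈ H := H.pow_mem hxH _
  have hne : h ^ (r ^ k) ∉ Subgroup.centralizer (V : Set G) := by
    intro hc
    have h1 : h ^ (r ^ k) ∈ H ⊓ Subgroup.centralizer (V : Set G) := ⟨H.pow_mem hhH _, hc⟩
    rw [hf, Subgroup.mem_bot] at h1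
    have h2 := orderOf_dvd_of_pow_eq_one h1
    rw [hh, Nat.pow_dvd_pow_iff_le_right hr.one_lt] at h2
    omega
  obtain ⟨m, hm0, hm, hdvd⟩ := dvd_pow_sub_one hVp (hHV hhH) hr hrp hh hne
  have hle : W ≤ V ⊓ Subgroup.centralizer ({h ^ (r ^ k)} : Set G) := by
    intro w hw
    refine ⟨hWV hw, Subgroup.mem_centralizer_singleton_iff.2 ?_⟩
    have h1 : Commute w x := Subgroup.mem_centralizer_singleton_iff.1 (hWx hw)
    rw [hhdef]
    exact ((h1.pow_right _).pow_right _)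
  have hfinV : Finite V := inferInstance
  calc p ^ N ≤ p ^ m := Nat.pow_le_pow_right (Fact.out : p.Prime).pos
        (Nat.le_of_dvd hm0 (hN m hdvd))
    _ = (V ⊓ Subgroup.centralizer ({h ^ (r ^ k)} : Set G)).relIndex V := hm.symm
    _ ≤ W.relIndex V := by
      refine Nat.le_of_dvd (Nat.pos_of_ne_zero ?_) (Subgroup.relIndex_dvd_of_le_left V hle)
      exact Subgroup.index_ne_zero_of_finite

/-- The product of two conjugates of `a` has large order: `|V : C_V(a)|` is large. -/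
theorem sq_bound {V H : Subgroup G} (hVp : IsPGroup p V)
    (hHV : H ≤ Subgroup.normalizer (V : Set G))
    (hf : H ⊓ Subgroup.centralizer (V : Set G) = ⊥) {K : Type*} [Group K] (π : ↥H →* K) (a g : ↥H)
    {r k N : ℕ} (hr : r.Prime) (hrp : r ≠ p)
    (hR : r ^ (k + 1) ∣ orderOf (π (a * (g * a * g⁻¹))))
    (hN : ∀ m : ℕ, r ^ (k + 1) ∣ p ^ m - 1 → N ∣ m) :
    p ^ N ≤ ((V ⊓ Subgroup.centralizer ({(a : G)} : Set G)).relIndex V) ^ 2 := by
  set Ca := V ⊓ Subgroup.centralizer ({(a : G)} : Set G) with hCa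
  set Cb := V ⊓ Subgroup.centralizer ({((g * a * g⁻¹ : ↥H) : G)} : Set G) with hCb
  have hmap : Cb = Ca.map (MulAut.conj (g : G)).toMonoidHom := by
    have hg := hHV g.2
    ext v
    rw [Subgroup.mem_map]
    constructor
    · rintro ⟨hv, hvc⟩
      refine ⟨(g : G)⁻¹ * v * g, ⟨(Subgroup.mem_normalizer_iff''.1 hg v).1 hv, ?_⟩,
        by simp [mul_assoc]⟩
      refine Subgroup.mem_centralizer_singleton_iff.2 ?_
      have h1 : v * ((g : G) * a * (g : G)⁻¹) = ((g : G) * a * (g : G)⁻¹) * v := by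
        simpa using Subgroup.mem_centralizer_singleton_iff.1 hvc
      calc (g : G)⁻¹ * v * g * a = (g : G)⁻¹ * (v * ((g : G) * a * (g : G)⁻¹)) * g := by group
        _ = (g : G)⁻¹ * (((g : G) * a * (g : G)⁻¹) * v) * g := by rw [h1]
        _ = (a : G) * ((g : G)⁻¹ * v * g) := by group
    · rintro ⟨w, ⟨hw, hwc⟩, rfl⟩
      refine ⟨(Subgroup.mem_normalizer_iff.1 hg w).1 hw, Subgroup.mem_centralizer_singleton_iff.2 ?_⟩
      have h1 := Subgroup.mem_centralizer_singleton_iff.1 hwc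
      show (g : G) * w * (g : G)⁻¹ * ((g : G) * a * (g : G)⁻¹) = _
      calc (g : G) * w * (g : G)⁻¹ * ((g : G) * a * (g : G)⁻¹)
          = (g : G) * (w * a) * (g : G)⁻¹ := by group
        _ = (g : G) * ((a : G) * w) * (g : G)⁻¹ := by rw [h1]
        _ = ((g : G) * a * (g : G)⁻¹) * ((g : G) * w * (g : G)⁻¹) := by group
  have hidx : Cb.relIndex V = Ca.relIndex V := by
    conv_lhs => rw [hmap, ← map_eq_self V (hHV g.2)]
    exact Subgroup.relIndex_map_map_of_injective _ _ (MulAut.conj (g : G)).injective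
  have hb := bound_of_fixed (W := Ca ⊓ Cb) hVp hHV hf (inf_le_left.trans inf_le_left)
    (a * (g * a * g⁻¹) : ↥H).2 ?_ hr hrp ?_ hN
  · calc p ^ N ≤ (Ca ⊓ Cb).relIndex V := hb
      _ ≤ Ca.relIndex V * Cb.relIndex V := Subgroup.relIndex_inf_le
      _ = _ := by rw [hidx, pow_two]
  · intro w hw
    rw [Subgroup.mem_centralizer_singleton_iff, Subgroup.coe_mul]
    exact Commute.mul_right (Subgroup.mem_centralizer_singleton_iff.1 hw.1.2)
      (Subgroup.mem_centralizer_singleton_iff.1 hw.2.2)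
  · rw [Subgroup.orderOf_coe]
    exact hR.trans (orderOf_map_dvd π _)
where
  map_eq_self (V : Subgroup G) {g : G} (hg : g ∈ Subgroup.normalizer (V : Set G)) :
      V.map (MulAut.conj g).toMonoidHom = V := by
    ext x
    rw [Subgroup.mem_map]
    constructor
    · rintro ⟨y, hy, rfl⟩
      exact (Subgroup.mem_normalizer_iff.1 hg y).1 hy
    · intro hx
      exact ⟨g⁻¹ * x * g, (Subgroup.mem_normalizer_iff''.1 hg x).1 hx, by simp [mul_assoc]⟩

end CfsgLib.LocalEven.FaithfulModule
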