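import Cfsg.Agent.Lib.LocalEven.SLTwoProduct
import Cfsg.Agent.Lib.PCore.Basic
import Mathlib.LinearAlgebra.Matrix.ProjectiveSpecialLinearGroup

/-!
The bounds on faithful modules for groups with quotient `PSL₂(q)` modulo the `p'`-core.
-/

set_option autoImplicit false

open Cfsg
open scoped MatrixGroups

namespace CfsgLib.LocalEven.PSLTwoModule

variable {G : Type*} [Group G] [Finite G] {p : ℕ} [Fact p.Prime] {V H : Subgroup G}
variable {F : Type*} [Field F] [Fintype F]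

theorem charP_of_card {n : ℕ} (hF : Fintype.card F = p ^ n) : CharP F p := by
  obtain ⟨q, hq⟩ := CharP.exists F
  obtain ⟨m, hqp, hm⟩ := FiniteField.card F q
  have h : q ∣ p ^ n := by rw [← hF, hm]; exact dvd_pow_self q m.ne_zero
  rw [← (Nat.prime_dvd_prime_iff_eq hqp Fact.out).1 (hqp.dvd_of_dvd_pow h)]
  exact hq

theorem isPGroup_of_isElementaryAbelian (hV : IsElementaryAbelian p V) : IsPGroup p V :=
  fun v => ⟨1, Subtype.ext (by simpa using hV.2 v.1 v.2)⟩

theorem eq_one_of_mem_pPrimeCore {K : Type*} [Group K] [Finite K] {x : K} {i : ℕ}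
    (hx : x ∈ pPrimeCore p K) (hi : orderOf x = p ^ i) : x = 1 := by
  rw [← orderOf_eq_one_iff]
  exact Nat.eq_one_of_dvd_coprimes ((CfsgLib.PCore.pPrimeCore_coprime (p := p) (G := K)).pow_right i)
    (Subgroup.orderOf_dvd_natCard _ hx) hi.dvd

theorem two_le_exponent {K : Subgroup G} {n : ℕ} (hF : Fintype.card F = p ^ n)
    (π : ↥K →* Matrix.ProjectiveSpecialLinearGroup (Fin 2) F) (hker : π.ker = pPrimeCore p ↥K)
    {A : Subgroup G} (hAK : A ≤ K) (hAp : IsPGroup p A) (hA : p ^ 2 ≤ Nat.card A) : 2 ≤ n := by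
  have : CharP F p := charP_of_card hF
  have hinj : Function.Injective (π.comp (Subgroup.inclusion hAK)) := by
    rw [injective_iff_map_eq_one]
    intro a ha
    obtain ⟨i, hi⟩ := (IsPGroup.iff_orderOf.1 hAp) a
    have h1 : Subgroup.inclusion hAK a ∈ pPrimeCore p ↥K := hker ▸ MonoidHom.mem_ker.2 ha
    have h2 := eq_one_of_mem_pPrimeCore h1
      (by rw [← hi]; exact orderOf_injective _ (Subgroup.inclusion_injective hAK) a)
    exact Subgroup.inclusion_injective hAK (h2.trans (map_one _).symm)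
  have h1 : Nat.card A ∣ Nat.card SL(2, F) :=
    (Subgroup.card_dvd_of_injective _ hinj).trans
      (Subgroup.card_quotient_dvd_card _)
  obtain ⟨a, ha⟩ := IsPGroup.iff_card.1 hAp
  have h2 : p ^ a ∣ p ^ n := by
    rw [ha] at h1
    have := (Nat.Prime.pow_dvd_iff_le_factorization Fact.out Nat.card_pos.ne').1 h1
    rw [← hF, ← CfsgLib.ClassicalGroups.factorization_card_sl_two (F := F) (p := p)]
    exact pow_dvd_pow p this
  have h3 := (Nat.pow_dvd_pow_iff_le_right (Fact.out : p.Prime).one_lt).1 h2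
  rw [ha] at hA
  have h4 := (Nat.pow_le_pow_iff_right (Fact.out : p.Prime).one_lt).1 hA
  omega

/-- `|V : C_V(s)|² ≥ q²` for a `p`-element outside the kernel. -/
theorem idx_sq_bound (hV : IsElementaryAbelian p V) (hHV : H ≤ Subgroup.normalizer (V : Set G))
    (hf : H ⊓ Subgroup.centralizer (V : Set G) = ⊥) {n : ℕ} (hF : Fintype.card F = p ^ n)
    (hn : 2 ≤ n) {K : Type*} [Group K] (ρ : SL(2, F) →* K) (hρ : Function.Surjective ρ)
    (hρk : ρ.ker ≤ Subgroup.center SL(2, F)) (π : ↥H →* K) (hπ : Function.Surjective π) (s : ↥H)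
    (hs : π s ≠ 1) {i : ℕ} (hsi : orderOf s = p ^ i) :
    (p ^ n) ^ 2 ≤ ((V ⊓ Subgroup.centralizer ({(s : G)} : Set G)).relIndex V) ^ 2 := by
  have : CharP F p := charP_of_card hF
  obtain ⟨r, k, hr, hrp, hr2, ⟨N, hN⟩, hm⟩ := SLTwoProduct.exists_prime_power (F := F) (p := p) hF hn
  obtain ⟨i', -, hi'⟩ := (Nat.dvd_prime_pow (Fact.out : p.Prime)).1 (hsi ▸ orderOf_map_dvd π s)
  obtain ⟨g, hg⟩ := SLTwoProduct.exists_product_central (p := p) ρ hρ hρk hr hr2 hN hs hi'
  obtain ⟨g', rfl⟩ := hπ g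
  rw [← pow_mul, mul_comm]
  refine FaithfulModule.sq_bound (isPGroup_of_isElementaryAbelian hV) hHV hf π s g' hr hrp ?_ hm
  rwa [map_mul, map_mul, map_mul, map_inv]

/-- The three bounds for a group whose quotient modulo the `p'`-core is `PSL₂(q)`. -/
theorem psl_bounds (hV : IsElementaryAbelian p V) (hHV : H ≤ Subgroup.normalizer (V : Set G))
    (hf : H ⊓ Subgroup.centralizer (V : Set G) = ⊥) {n : ℕ} (hF : Fintype.card F = p ^ n)
    (hiso : Nonempty (↥H ⧸ pPrimeCore p ↥H ≃* Matrix.ProjectiveSpecialLinearGroup (Fin 2) F))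
    (S : Sylow p ↥H) (T : Subgroup G) (hT : T = ((S : Subgroup ↥H).map H.subtype)) (A : Subgroup G)
    (hA : A ≤ T) (hAp : Nat.card A = p ^ 2) :
    (p ^ n) ^ 2 ≤ Nat.card V ∧
      p ^ n ≤ (V ⊓ Subgroup.centralizer (A : Set G)).relIndex V ∧
      ∀ s ∈ T, s ≠ 1 → (p ^ n) ^ 2 ≤ ((V ⊓ Subgroup.centralizer ({s} : Set G)).relIndex V) ^ 3 := by
  obtain ⟨e⟩ := hiso
  set π : ↥H →* Matrix.ProjectiveSpecialLinearGroup (Fin 2) F :=
    e.toMonoidHom.comp (QuotientGroup.mk' (pPrimeCore p ↥H)) with hπ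
  have hker : π.ker = pPrimeCore p ↥H := by
    rw [hπ, ← MonoidHom.comap_ker, (MonoidHom.ker_eq_bot_iff _).2 e.injective, MonoidHom.comap_bot,
      QuotientGroup.ker_mk']
  have hπs : Function.Surjective π := e.surjective.comp (QuotientGroup.mk'_surjective _)
  have hTH : T ≤ H := by rw [hT]; exact Subgroup.map_subtype_le _
  have hTp : IsPGroup p T := by rw [hT]; exact S.2.map _
  have hn := two_le_exponent hF π hker (hA.trans hTH) (hTp.to_le hA) hAp.ge
  have key : ∀ s ∈ T, s ≠ 1 →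
      (p ^ n) ^ 2 ≤ ((V ⊓ Subgroup.centralizer ({s} : Set G)).relIndex V) ^ 2 := by
    intro s hs hs1
    obtain ⟨i, hi⟩ := (IsPGroup.iff_orderOf.1 hTp) ⟨s, hs⟩
    rw [Subgroup.orderOf_mk] at hi
    refine idx_sq_bound hV hHV hf hF hn (QuotientGroup.mk' (Subgroup.center SL(2, F)))
      (QuotientGroup.mk'_surjective _) (QuotientGroup.ker_mk' _).le π hπs ⟨s, hTH hs⟩ ?_
      (by rw [Subgroup.orderOf_mk]; exact hi)
    intro h
    have h1 : (⟨s, hTH hs⟩ : ↥H) ∈ pPrimeCore p ↥H := hker ▸ MonoidHom.mem_ker.2 h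
    exact hs1 (congrArg Subtype.val
      (eq_one_of_mem_pPrimeCore h1 (by rw [Subgroup.orderOf_mk]; exact hi)))
  have hlin : ∀ s ∈ T, s ≠ 1 → p ^ n ≤ (V ⊓ Subgroup.centralizer ({s} : Set G)).relIndex V :=
    fun s hs hs1 => (Nat.pow_le_pow_iff_left two_ne_zero).1 (key s hs hs1)
  have hne : A ≠ ⊥ := by
    intro h
    rw [h, Subgroup.card_bot] at hAp
    exact absurd hAp.symm (Nat.one_lt_pow two_ne_zero (Fact.out : p.Prime).one_lt).ne'
  obtain ⟨⟨a, haA⟩, ha⟩ := Subgroup.ne_bot_iff_exists_ne_one.1 hne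
  have ha1 : a ≠ 1 := fun h => ha (Subtype.ext h)
  refine ⟨?_, ?_, fun s hs hs1 => (key s hs hs1).trans (Nat.pow_le_pow_right ?_ (by norm_num))⟩
  · -- the order of `V`
    have h1 := key a (hA haA) ha1
    obtain ⟨r, k, hr, hrp, hr2, ⟨N, hN⟩, hm⟩ :=
      @SLTwoProduct.exists_prime_power F _ _ p _ (charP_of_card hF) n hF hn
    have hPSL : r ^ (k + 1) ∣ orderOf (QuotientGroup.mk' (Subgroup.center SL(2, F)) N) := by
      have h2 : N ^ (orderOf (QuotientGroup.mk' (Subgroup.center SL(2, F)) N) * 2) = 1 := by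
        rw [pow_mul]
        refine SLTwoProduct.center_sq ((QuotientGroup.eq_one_iff _).1 ?_)
        rw [← QuotientGroup.mk'_apply, map_pow, pow_orderOf_eq_one]
      have h3 := orderOf_dvd_of_pow_eq_one h2
      rw [hN] at h3
      exact (Nat.Coprime.pow_left _ ((Nat.coprime_primes hr Nat.prime_two).2 hr2)).dvd_of_dvd_mul_right h3
    obtain ⟨x, hx⟩ := hπs (QuotientGroup.mk' (Subgroup.center SL(2, F)) N)
    have hb := FaithfulModule.bound_of_fixed (W := (⊥ : Subgroup G))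
      (isPGroup_of_isElementaryAbelian hV) hHV hf bot_le x.2 bot_le hr hrp
      (by rw [Subgroup.orderOf_coe]; exact (hx ▸ hPSL).trans (orderOf_map_dvd π x)) hm
    rw [Subgroup.relIndex_bot_left] at hb
    rwa [← pow_mul, mul_comm]
  · refine (hlin a (hA haA) ha1).trans (Nat.le_of_dvd (Nat.pos_of_ne_zero Subgroup.index_ne_zero_of_finite) ?_)
    exact Subgroup.relIndex_dvd_of_le_left V
      (inf_le_inf_left _ (Subgroup.centralizer_le (Set.singleton_subset_iff.2 haA)))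
  · exact Nat.pos_of_ne_zero Subgroup.index_ne_zero_of_finite

end CfsgLib.LocalEven.PSLTwoModule
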