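import Cfsg.Agent.Lib.LocalEven.OffenderSquareQuasisimple
import Cfsg.Agent.Lib.LocalEven.SzModule

/-!
`Sz(q)`: elementary abelian groups of inner automorphisms have order at most `q` and their involutions
invert elements of order a primitive prime divisor of `q⁴ - 1`.
-/

set_option autoImplicit false
set_option linter.style.haveILetI false

namespace CfsgLib.LocalEven.OffenderSquare

open Cfsg.Lie CfsgLib.SuzukiGroup
open CfsgLib.PLocal (elemAb_commute elemAb_isPGroup)

variable {F : Type*} [Field F] [Fintype F]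

/-- An elementary abelian 2-subgroup of `Sz(q)` has order at most `q`. -/
theorem card_elemAb_sz_le [CharP F 2] {m : ℕ} (P : Params F (2 ^ (m + 1)))
    {E : Subgroup ↥(Sz F (2 ^ (m + 1)))} (hE : Cfsg.IsElementaryAbelian 2 E) :
    Nat.card E ≤ Fintype.card F := by
  haveI : Fact (Nat.Prime 2) := ⟨Nat.prime_two⟩
  obtain ⟨Q, hQ⟩ := (elemAb_isPGroup hE).exists_le_sylow
  obtain ⟨k, hk⟩ := MulAction.exists_smul_eq ↥(Sz F (2 ^ (m + 1))) Q (sylowTwo P)
  have key : ∀ e : E, ∃ b : F, k * (e : ↥(Sz F (2 ^ (m + 1)))) * k⁻¹ = uEl P 0 b := by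
    intro e
    have hmem : k * (e : ↥(Sz F (2 ^ (m + 1)))) * k⁻¹ ∈ unip P := by
      rw [← coe_sylowTwo P, ← hk]
      exact ⟨e, hQ e.2, rfl⟩
    by_cases h1 : k * (e : ↥(Sz F (2 ^ (m + 1)))) * k⁻¹ = 1
    · exact ⟨0, by rw [h1, uEl_zero]⟩
    rcases unip_cases P hmem h1 with ⟨-, b, -, h⟩ | ⟨h4, -⟩
    · exact ⟨b, h⟩
    · exfalso
      have h2 : (k * (e : ↥(Sz F (2 ^ (m + 1)))) * k⁻¹) ^ 2 = 1 := by
        rw [conj_pow, hE.2 e e.2, mul_one, mul_inv_cancel]
      have := orderOf_dvd_of_pow_eq_one h2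
      rw [h4] at this
      norm_num at this
  choose f hf using key
  rw [← Nat.card_eq_fintype_card]
  refine Nat.card_le_card_of_injective f fun a b h => ?_
  have := (hf a).trans ((congrArg (uEl P 0) h).trans (hf b).symm)
  exact Subtype.ext (mul_left_cancel (mul_right_cancel this))

/-- The Suzuki case, given that involutory automorphisms are inner. -/
theorem bigInverted_sz {m : ℕ} (hm : 1 ≤ m) (hF : Fintype.card F = 2 ^ (2 * m + 1))
    (hinner : ∀ β : MulAut ↥(Sz F (2 ^ (m + 1))), β ^ 2 = 1 →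
      β ∈ (MulAut.conj : ↥(Sz F (2 ^ (m + 1))) →* _).range) :
    BigInverted ↥(Sz F (2 ^ (m + 1))) := by
  intro B hB h4
  obtain ⟨hchar, ⟨P⟩⟩ := exists_params hF
  haveI := hchar
  have hq : 2 < Fintype.card F := by
    rw [hF]
    exact lt_of_lt_of_le (show 2 < 2 ^ 3 by norm_num) (Nat.pow_le_pow_right two_pos (by omega))
  have hinj : Function.Injective (MulAut.conj : ↥(Sz F (2 ^ (m + 1))) →* _) := by
    haveI := CfsgLib.SuzukiGroup.isSimple P hq
    refine (injective_iff_map_eq_one _).2 fun x hx => ?_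
    rcases (Subgroup.center ↥(Sz F (2 ^ (m + 1)))).normal_of_characteristic.eq_bot_or_eq_top with h | h
    · refine Subgroup.mem_bot.1 (h ▸ Subgroup.mem_center_iff.2 fun y => ?_)
      have := DFunLike.congr_fun hx y
      simp only [MulAut.conj_apply, MulAut.one_apply, mul_inv_eq_iff_eq_mul] at this
      exact this.symm
    · exfalso
      have hc := commutator_eq_top P hq
      have hb : commutator ↥(Sz F (2 ^ (m + 1))) = ⊥ := by
        rw [commutator_def, Subgroup.commutator_eq_bot_iff_le_centralizer]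
        intro y _
        rw [Subgroup.mem_centralizer_iff]
        intro z _
        exact Subgroup.mem_center_iff.1 (h ▸ Subgroup.mem_top y) z
      exact (top_ne_bot : (⊤ : Subgroup ↥(Sz F (2 ^ (m + 1)))) ≠ ⊥) (hc.symm.trans hb)
  set E := B.comap (MulAut.conj : ↥(Sz F (2 ^ (m + 1))) →* _)
  have hEB : E.map (MulAut.conj : ↥(Sz F (2 ^ (m + 1))) →* _) = B :=
    Subgroup.map_comap_eq_self fun β hβ => hinner β (hB.2 β hβ)
  have hcard : Nat.card E = Nat.card B := by
    conv_rhs => rw [← hEB]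
    exact Nat.card_congr (E.equivMapOfInjective _ hinj).toEquiv
  have hEel : Cfsg.IsElementaryAbelian 2 E := by
    refine ⟨CfsgLib.PLocal.isMulCommutative_of_forall fun a ha b hb => hinj ?_,
      fun a ha => hinj ?_⟩
    · rw [map_mul, map_mul]; exact elemAb_commute hB ha hb
    · rw [map_pow, map_one]; exact hB.2 _ ha
  have hBF : Nat.card B ≤ 2 ^ (2 * m + 1) := hF ▸ hcard ▸ card_elemAb_sz_le P hEel
  obtain ⟨z, hz, hz1⟩ : ∃ z ∈ E, z ≠ 1 := by
    by_contra! h
    have : E = ⊥ := (Subgroup.eq_bot_iff_forall _).2 h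
    rw [this, Subgroup.card_bot] at hcard
    omega
  obtain ⟨r, hr, hr2, hrd, hrk⟩ := SzModule.exists_prime hF hm
  haveI : Fact (Nat.Prime 2) := ⟨Nat.prime_two⟩
  have hzo : orderOf z = 2 := orderOf_eq_prime (hEel.2 z hz) hz1
  obtain ⟨g, hg⟩ := SzModule.exists_product hF hm P hr hr2 hrd hzo
  refine ⟨MulAut.conj z, hz, z * (g * z * g⁻¹), r, 2 * m + 1, 4 * (2 * m + 1), hr, hr2, hg, ?_, hBF,
    by omega, fun k hk => hrk k (by simpa using hk)⟩
  have hzz : z * z = 1 := by rw [← pow_two]; exact hEel.2 z hz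
  have hzi : z⁻¹ = z := inv_eq_of_mul_eq_one_left hzz
  rw [MulAut.conj_apply, mul_inv_rev, mul_inv_rev, mul_inv_rev, inv_inv, hzi]
  calc z * (z * (g * z * g⁻¹)) * z = z * z * (g * (z * g⁻¹)) * z := by group
    _ = g * (z * g⁻¹) * z := by rw [hzz, one_mul]

end CfsgLib.LocalEven.OffenderSquare
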