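import Cfsg.Agent.Lib.LocalEven.PReducedBasic
import Cfsg.Prelude.Def_LocalStructure
import Mathlib.GroupTheory.Frattini

/-!
Groups generated by the conjugates of a subgroup lying in a unique maximal subgroup.
-/

set_option autoImplicit false

open Cfsg
open scoped Pointwise commutatorElement

namespace CfsgLib.YMin

variable {L : Type*} [Group L] [Finite L] {L₀ Y : Subgroup L}

omit [Finite L] in
theorem not_normal (hmin : Cfsg.IsMinimalOver Y) {N : Subgroup L} (hN : N.Normal) (hY : Y ≤ N) :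
    N = ⊤ :=
  top_le_iff.mp (hmin.1 ▸ Subgroup.normalClosure_le_normal hY)

theorem le_of_ne_top (hL₀ : IsCoatom L₀) (hY : Y ≤ L₀) (hmin : Cfsg.IsMinimalOver Y) {X : Subgroup L}
    (hYX : Y ≤ X) (hX : X ≠ ⊤) : X ≤ L₀ := by
  obtain ⟨M, hM, hXM⟩ := (eq_top_or_exists_le_coatom X).resolve_left hX
  obtain ⟨M₀, -, huniq⟩ := hmin.2
  rwa [huniq L₀ ⟨hL₀, hY⟩, ← huniq M ⟨hM, hYX.trans hXM⟩]

theorem normalizer_eq (hL₀ : IsCoatom L₀) (hY : Y ≤ L₀) (hmin : Cfsg.IsMinimalOver Y) :
    Subgroup.normalizer (L₀ : Set L) = L₀ := by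
  refine (hL₀.le_iff.mp Subgroup.le_normalizer).resolve_left fun h => ?_
  exact hL₀.1 (not_normal hmin (Subgroup.normalizer_eq_top_iff.mp h) hY)

theorem sup_conj_eq_top (hL₀ : IsCoatom L₀) (hY : Y ≤ L₀) (hmin : Cfsg.IsMinimalOver Y) {g : L}
    (hg : g ∉ L₀) : Y ⊔ Y.map (MulAut.conj g).toMonoidHom = ⊤ := by
  by_contra hne
  have hle := le_of_ne_top hL₀ hY hmin le_sup_left hne
  have hYg : Y.map (MulAut.conj g).toMonoidHom ≤ L₀ := le_sup_right.trans hle
  -- the preimage of `L₀` under conjugation by `g` is `L₀`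
  have hcomap : L₀.comap (MulAut.conj g).toMonoidHom ≤ L₀ :=
    le_of_ne_top hL₀ hY hmin (Subgroup.map_le_iff_le_comap.mp hYg) fun h => hL₀.1 (top_le_iff.mp fun x _ => by
      obtain ⟨y, rfl⟩ := (MulAut.conj g).surjective x
      exact (h ▸ Subgroup.mem_top y : y ∈ L₀.comap (MulAut.conj g).toMonoidHom))
  refine hg (normalizer_eq hL₀ hY hmin ▸ ?_)
  have hgi : g⁻¹ ∈ Subgroup.normalizer (L₀ : Set L) := by
    refine Subgroup.mem_normalizer_iff_map_conj_eq.mpr ?_
    refine Subgroup.eq_of_le_of_card_ge ?_ (le_of_eq ?_)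
    · rintro _ ⟨x, hx, rfl⟩
      refine hcomap ?_
      simpa [mul_assoc] using hx
    · exact (Subgroup.card_map_of_injective (MulEquiv.injective _)).symm
  simpa using inv_mem hgi

theorem inf_conj_eq_of_comm (hL₀ : IsCoatom L₀) (hY : Y ≤ L₀) (hmin : Cfsg.IsMinimalOver Y)
    (hc : IsMulCommutative Y) {g : L} (hg : g ∉ L₀) :
    Y ⊓ Y.map (MulAut.conj g).toMonoidHom = Y ⊓ Subgroup.center L := by
  refine le_antisymm ?_ ?_
  · intro y hy
    refine ⟨hy.1, ?_⟩
    have h1 : Y ≤ Subgroup.centralizer {y} := fun z hz => by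
      rw [Subgroup.mem_centralizer_singleton_iff]
      exact congrArg Subtype.val (hc.is_comm.comm ⟨z, hz⟩ ⟨y, hy.1⟩)
    have h2 : Y.map (MulAut.conj g).toMonoidHom ≤ Subgroup.centralizer {y} := by
      obtain ⟨w, hw, hwy⟩ := hy.2
      rintro _ ⟨z, hz, rfl⟩
      rw [Subgroup.mem_centralizer_singleton_iff, ← hwy, ← map_mul, ← map_mul]
      exact congrArg _ (congrArg Subtype.val (hc.is_comm.comm ⟨z, hz⟩ ⟨w, hw⟩))
    refine Subgroup.mem_center_iff.mpr fun z => ?_
    have h3 := (sup_le h1 h2) (sup_conj_eq_top hL₀ hY hmin hg ▸ Subgroup.mem_top z)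
    rwa [Subgroup.mem_centralizer_singleton_iff] at h3
  · intro y hy
    refine ⟨hy.1, y, hy.1, ?_⟩
    show g * y * g⁻¹ = y
    rw [Subgroup.mem_center_iff.mp hy.2 g, mul_inv_cancel_right]

section Sylow

variable {p : ℕ} [Fact p.Prime]

theorem normalizer_sylow_le (hL₀ : IsCoatom L₀) (hmin : Cfsg.IsMinimalOver Y) {T : Sylow p ↥L₀}
    (hYT : Y ≤ (T : Subgroup ↥L₀).map L₀.subtype) :
    Subgroup.normalizer (((T : Subgroup ↥L₀).map L₀.subtype : Subgroup L) : Set L) ≤ L₀ := by
  refine le_of_ne_top hL₀ (hYT.trans (Subgroup.map_subtype_le _)) hmin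
    (hYT.trans Subgroup.le_normalizer) fun h => hL₀.1 ?_
  exact top_le_iff.mp ((not_normal hmin (Subgroup.normalizer_eq_top_iff.mp h) hYT).ge.trans
    (Subgroup.map_subtype_le _))

theorem exists_sylow_eq (hL₀ : IsCoatom L₀) (hmin : Cfsg.IsMinimalOver Y) {T : Sylow p ↥L₀}
    (hYT : Y ≤ (T : Subgroup ↥L₀).map L₀.subtype) :
    ∃ P : Sylow p L, (P : Subgroup L) = (T : Subgroup ↥L₀).map L₀.subtype := by
  set U := (T : Subgroup ↥L₀).map L₀.subtype with hU
  obtain ⟨P, hP⟩ := (T.2.map L₀.subtype).exists_le_sylow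
  refine ⟨P, le_antisymm ?_ hP⟩
  by_contra hne
  have hlt : U.subgroupOf (P : Subgroup L) < ⊤ := by
    rw [lt_top_iff_ne_top, Ne, Subgroup.subgroupOf_eq_top]; exact hne
  have : Group.IsNilpotent (P : Subgroup L) := P.2.isNilpotent
  obtain ⟨⟨g, hgP⟩, hg, hgU⟩ :=
    SetLike.exists_of_lt (Group.normalizerCondition_of_isNilpotent _ hlt)
  have hgN : g ∈ Subgroup.normalizer (U : Set L) :=
    CfsgLib.PRed.mem_normalizer_of_conj_mem fun y hy =>
      (Subgroup.mem_normalizer_iff.mp hg ⟨y, hP hy⟩).mp hy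
  have hgL₀ : g ∈ L₀ := normalizer_sylow_le hL₀ hmin hYT hgN
  have hmax := T.3 (Q := (P : Subgroup L).subgroupOf L₀) P.2.comap_subtype
    fun x hx => hP ⟨x, hx, rfl⟩
  exact hgU ⟨⟨g, hgL₀⟩, hmax.le (Subgroup.mem_subgroupOf.mpr hgP), rfl⟩

theorem pCore_le (hL₀ : IsCoatom L₀) (hmin : Cfsg.IsMinimalOver Y) {T : Sylow p ↥L₀}
    (hYT : Y ≤ (T : Subgroup ↥L₀).map L₀.subtype) : Cfsg.pCore p L ≤ L₀ := by
  obtain ⟨P, hP⟩ := exists_sylow_eq hL₀ hmin hYT
  exact (CfsgLib.PRed.pCore_le_sylow P).trans (hP ▸ Subgroup.map_subtype_le _)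

/-- A normal subgroup inside `L₀` has a normal Sylow subgroup lying in `O_p(L)`. -/
theorem sylow_le_pCore (hL₀ : IsCoatom L₀) (hmin : Cfsg.IsMinimalOver Y) {T : Sylow p ↥L₀}
    (hYT : Y ≤ (T : Subgroup ↥L₀).map L₀.subtype) {N : Subgroup L} [N.Normal] (hN : N ≤ L₀)
    (S : Sylow p ↥N) : (S : Subgroup ↥N).Normal ∧ (S : Subgroup ↥N).map N.subtype ≤ Cfsg.pCore p L := by
  obtain ⟨P, hP⟩ := exists_sylow_eq hL₀ hmin hYT
  -- a Sylow subgroup of `N` normalized by `P`
  obtain ⟨S₁, hS₁⟩ : ∃ S₁ : Sylow p ↥N,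
      (P : Subgroup L) ≤ Subgroup.normalizer (((S₁ : Subgroup ↥N).map N.subtype : Subgroup L) : Set L) := by
    obtain ⟨S₁, hS₁⟩ := (P.2.comap_subtype (K := N)).exists_le_sylow
    refine ⟨S₁, fun g hg => CfsgLib.PRed.mem_normalizer_of_conj_mem fun y hy => ?_⟩
    obtain ⟨Q, hQ⟩ := (S₁.2.map N.subtype).exists_le_sylow
    obtain ⟨x, hx⟩ := MulAction.exists_smul_eq L P Q
    have hle : Nat.card (S₁ : Subgroup ↥N) ≤ Nat.card ((P : Subgroup L).subgroupOf N) := by
      rw [← Subgroup.card_map_of_injective (f := N.subtype) Subtype.val_injective (K := (S₁ : Subgroup ↥N))]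
      rw [← Subgroup.card_map_of_injective (f := N.subtype) Subtype.val_injective
        (K := (P : Subgroup L).subgroupOf N)]
      refine (Subgroup.card_le_of_le ?_).trans_eq (Subgroup.card_map_of_injective (f := (MulAut.conj x).toMonoidHom) (MulAut.conj x).injective)
      rintro _ ⟨z, hz, rfl⟩
      have hzQ : (z : L) ∈ (Q : Subgroup L) := hQ ⟨z, hz, rfl⟩
      rw [← hx, Sylow.coe_subgroup_smul] at hzQ
      obtain ⟨w, hw, hwz⟩ := hzQ
      have hwz' : x * w * x⁻¹ = (z : L) := hwz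
      have hwN : w ∈ N := by
        have := (inferInstance : N.Normal).conj_mem _ z.2 x⁻¹
        rw [← hwz'] at this
        simpa [mul_assoc] using this
      exact ⟨w, ⟨⟨w, hwN⟩, hw, rfl⟩, hwz⟩
    have heq := Subgroup.eq_of_le_of_card_ge hS₁ hle
    obtain ⟨z, hz, rfl⟩ := hy
    refine ⟨⟨g * z * g⁻¹, (inferInstance : N.Normal).conj_mem _ z.2 g⟩, ?_, rfl⟩
    rw [← heq] at hz ⊢
    exact P.mul_mem (P.mul_mem hg hz) (P.inv_mem hg)
  have htop : Subgroup.normalizer (((S₁ : Subgroup ↥N).map N.subtype : Subgroup L) : Set L) = ⊤ := by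
    by_contra hne
    have hle := le_of_ne_top hL₀ (hYT.trans (Subgroup.map_subtype_le _)) hmin
      ((hP ▸ hYT).trans hS₁) hne
    exact hL₀.1 (top_le_iff.mp ((Sylow.normalizer_sup_eq_top S₁).ge.trans (sup_le hle hN)))
  have hn : ((S₁ : Subgroup ↥N).map N.subtype).Normal := Subgroup.normalizer_eq_top_iff.mp htop
  have hn1 : (S₁ : Subgroup ↥N).Normal := by
    rw [← Subgroup.comap_map_eq_self_of_injective N.subtype_injective (S₁ : Subgroup ↥N)]
    exact hn.subgroupOf N
  letI := Sylow.unique_of_normal S₁ hn1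
  obtain rfl := Subsingleton.elim S S₁
  exact ⟨hn1, CfsgLib.PRed.le_pCore hn (S.2.map N.subtype)⟩

theorem map_normalCore_eq_frattini (hL₀ : IsCoatom L₀) (hmin : Cfsg.IsMinimalOver Y) {T : Sylow p ↥L₀}
    (hYT : Y ≤ (T : Subgroup ↥L₀).map L₀.subtype) [(Cfsg.pCore p L).Normal] :
    L₀.normalCore.map (QuotientGroup.mk' (Cfsg.pCore p L)) = frattini (L ⧸ Cfsg.pCore p L) := by
  set O := Cfsg.pCore p L
  set π := QuotientGroup.mk' O with hπ
  have hπs : Function.Surjective π := QuotientGroup.mk'_surjective O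
  have hO : O ≤ L₀ := pCore_le hL₀ hmin hYT
  refine le_antisymm ?_ ?_
  · simp only [frattini, Order.radical, le_iInf_iff]
    intro X hX
    rw [Subgroup.map_le_iff_le_comap]
    by_contra hD
    have hXc : IsCoatom (X.comap π) := Subgroup.isCoatom_comap_of_surjective hπs hX
    have hsup : L₀.normalCore ⊔ X.comap π = ⊤ := hXc.2 _ (right_lt_sup.mpr hD)
    obtain ⟨S⟩ : Nonempty (Sylow p ↥L₀.normalCore) := inferInstance
    have hSX : (S : Subgroup ↥L₀.normalCore) ≤ (X.comap π).subgroupOf L₀.normalCore := by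
      intro s hs
      have h1 : (s : L) ∈ O := (sylow_le_pCore hL₀ hmin hYT L₀.normalCore_le S).2 ⟨s, hs, rfl⟩
      show π (s : L) ∈ X
      rw [hπ, QuotientGroup.mk'_apply, (QuotientGroup.eq_one_iff _).mpr h1]
      exact X.one_mem
    have hnd : ¬ p ∣ (X.comap π).index := by
      intro hd
      have h2 : (X.comap π).relIndex L₀.normalCore = (X.comap π).index := by
        have a := Subgroup.relIndex_sup_right (H := X.comap π) (K := L₀.normalCore)
        rw [sup_comm, hsup, Subgroup.relIndex_top_right, ← Subgroup.inf_relIndex_right] at a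
        have b := Subgroup.relIndex_mul_index (H := L₀.normalCore ⊓ X.comap π) (K := X.comap π) inf_le_right
        have c := Subgroup.relIndex_mul_index (H := L₀.normalCore ⊓ X.comap π) (K := L₀.normalCore) inf_le_left
        rw [← a] at b
        rw [Subgroup.inf_relIndex_left] at c
        exact mul_right_cancel₀ (b := L₀.normalCore.index) Subgroup.index_ne_zero_of_finite
          (c.trans (by rw [← b, mul_comm]))
      exact S.not_dvd_index ((h2.symm ▸ hd).trans (Subgroup.index_dvd_of_le hSX))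
    obtain ⟨Q⟩ : Nonempty (Sylow p ↥(X.comap π)) := inferInstance
    have hQcard : IsPGroup p ↥((Q : Subgroup ↥(X.comap π)).map (X.comap π).subtype) := Q.2.map _
    have hQind : ¬ p ∣ ((Q : Subgroup ↥(X.comap π)).map (X.comap π).subtype).index := by
      rw [Subgroup.index_map_subtype]
      exact fun hd => ((Fact.out : p.Prime).dvd_mul.mp hd).elim Q.not_dvd_index hnd
    obtain ⟨P, hP⟩ := exists_sylow_eq hL₀ hmin hYT
    obtain ⟨g, hg⟩ := MulAction.exists_smul_eq L P (hQcard.toSylow hQind)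
    have hPg : ∀ y ∈ (P : Subgroup L), g * y * g⁻¹ ∈ X.comap π := by
      intro y hy
      have : g * y * g⁻¹ ∈ ((hQcard.toSylow hQind : Sylow p L) : Subgroup L) := by
        rw [← hg, Sylow.coe_subgroup_smul]
        exact ⟨y, hy, rfl⟩
      exact Subgroup.map_subtype_le _ this
    have hle : (X.comap π).comap (MulAut.conj g).toMonoidHom ≤ L₀ :=
      le_of_ne_top hL₀ (hYT.trans (Subgroup.map_subtype_le _)) hmin
        (fun y hy => hPg y (hP ▸ hYT hy))
        fun h => hXc.1 (top_le_iff.mp fun x _ => by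
          obtain ⟨y, rfl⟩ := (MulAut.conj g).surjective x
          exact (h ▸ Subgroup.mem_top y : y ∈ (X.comap π).comap (MulAut.conj g).toMonoidHom))
    have hcoat : IsCoatom ((X.comap π).comap (MulAut.conj g).toMonoidHom) :=
      Subgroup.isCoatom_comap_of_surjective (MulAut.conj g).surjective hXc
    have heq := (hcoat.le_iff.mp hle).resolve_left hL₀.1
    refine hD fun d hd => ?_
    have h3 : (MulAut.conj g⁻¹) d ∈ L₀ :=
      L₀.normalCore_le (L₀.normalCore_normal.conj_mem d hd g⁻¹ |> fun h => by simpa using h)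
    rw [heq] at h3
    simpa [mul_assoc] using h3
  · rw [← Subgroup.map_comap_eq_self_of_surjective hπs (frattini (L ⧸ O))]
    refine Subgroup.map_mono ?_
    haveI : ((frattini (L ⧸ O)).comap π).Normal :=
      (inferInstance : (frattini (L ⧸ O)).Normal).comap π
    refine Subgroup.normal_le_normalCore.mpr ?_
    intro x hx
    have hL₀' : IsCoatom (L₀.map π) := by
      refine ⟨fun h => hL₀.1 ?_, fun X hX => ?_⟩
      · rw [← Subgroup.comap_map_eq_self (f := π) (H := L₀) (by rw [hπ, QuotientGroup.ker_mk']; exact hO), h,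
          Subgroup.comap_top]
      · have h1 : L₀ ≤ X.comap π := Subgroup.map_le_iff_le_comap.mp hX.le
        rcases hL₀.le_iff.mp h1 with h | h
        · rw [← Subgroup.map_comap_eq_self_of_surjective hπs X, h, Subgroup.map_top_of_surjective π hπs]
        · exact absurd (h ▸ Subgroup.map_comap_eq_self_of_surjective hπs X : L₀.map π = X) hX.ne
    have h2 := frattini_le_coatom hL₀' hx
    rw [← Subgroup.comap_map_eq_self (f := π) (H := L₀) (by rw [hπ, QuotientGroup.ker_mk']; exact hO)]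
    exact h2

end Sylow

end CfsgLib.YMin
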