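import Cfsg.Agent.Lib.LocalEven.PReducedBasic
import Cfsg.Agent.Lib.LocalEven.YMinimal
import Cfsg.Prelude.Def_LocalStructure
import Cfsg.Prelude.Def_Amalgam

/-!
The L-Lemma for minimal parabolic-type groups.
-/

set_option autoImplicit false

open Cfsg

namespace CfsgLib.LLemma

variable {H : Type*} [Group H] {p : ℕ}

/-- Conjugate of a subgroup. -/
abbrev cg (X : Subgroup H) (x : H) : Subgroup H := X.map (MulAut.conj x).toMonoidHom

theorem mem_cg {X : Subgroup H} {x y : H} : y ∈ cg X x ↔ x⁻¹ * y * x ∈ X := by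
  constructor
  · rintro ⟨z, hz, rfl⟩
    simpa [mul_assoc] using hz
  · intro h
    exact ⟨_, h, by simp [mul_assoc]⟩

theorem cg_cg (X : Subgroup H) (x y : H) : cg (cg X x) y = cg X (y * x) := by
  ext z
  simp only [mem_cg, mul_inv_rev, mul_assoc]

theorem cg_one (X : Subgroup H) : cg X 1 = X := by
  ext z
  simp [mem_cg]

theorem cg_le_iff {X Z : Subgroup H} {x : H} : cg X x ≤ Z ↔ X ≤ cg Z x⁻¹ := by
  constructor
  · intro h z hz
    have := h (⟨z, hz, rfl⟩ : (MulAut.conj x) z ∈ cg X x)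
    rw [mem_cg]
    simpa using this
  · rintro h _ ⟨z, hz, rfl⟩
    simpa using mem_cg.mp (h hz)

theorem cg_eq_of_mem {X : Subgroup H} {x : H} (hx : x ∈ X) : cg X x = X := by
  ext z
  rw [mem_cg]
  constructor
  · intro h
    have := X.mul_mem (X.mul_mem hx h) (X.inv_mem hx)
    simpa [mul_assoc] using this
  · exact fun h => X.mul_mem (X.mul_mem (X.inv_mem hx) h) hx

theorem card_cg (X : Subgroup H) (x : H) : Nat.card (cg X x) = Nat.card X :=
  Subgroup.card_map_of_injective (MulAut.conj x).injective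

theorem pCoreOf_le (X : Subgroup H) : Cfsg.pCoreOf p X ≤ X := Subgroup.map_subtype_le _

variable [Finite H] [Fact p.Prime]

theorem pCoreOf_isPGroup (X : Subgroup H) : IsPGroup p ↥(Cfsg.pCoreOf p X) :=
  CfsgLib.PRed.pCore_isPGroup.map _

theorem le_normalizer_pCoreOf (X : Subgroup H) :
    X ≤ Subgroup.normalizer ((Cfsg.pCoreOf p X : Subgroup H) : Set H) := by
  refine Subgroup.le_normalizer_iff.2 fun x hx _ hy => ?_
  obtain ⟨y, hy, rfl⟩ := hy
  exact ⟨⟨x, hx⟩ * y * (⟨x, hx⟩ : X)⁻¹, (CfsgLib.PRed.pCore_normal (p := p)).conj_mem y hy _, rfl⟩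

theorem le_pCoreOf {X N : Subgroup H} (hN : N ≤ X) (hn : X ≤ Subgroup.normalizer (N : Set H))
    (hp : IsPGroup p ↥N) : N ≤ Cfsg.pCoreOf p X := by
  intro x hx
  exact ⟨⟨x, hN hx⟩, CfsgLib.PRed.le_pCore ((Subgroup.normal_subgroupOf_iff_le_normalizer hN).mpr hn)
    hp.comap_subtype hx, rfl⟩

theorem pCoreOf_le_of_maximal {X P : Subgroup H} (hP : P ≤ X) (hPp : IsPGroup p ↥P)
    (hmax : ∀ P' : Subgroup H, P' ≤ X → IsPGroup p ↥P' → P ≤ P' → P' = P) :
    Cfsg.pCoreOf p X ≤ P := by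
  have hn : P ≤ Subgroup.normalizer ((Cfsg.pCoreOf p X : Subgroup H) : Set H) :=
    hP.trans (le_normalizer_pCoreOf X)
  have h := hmax (P ⊔ Cfsg.pCoreOf p X) (sup_le hP (pCoreOf_le X))
    (hPp.to_sup_of_normal_right' (pCoreOf_isPGroup X) hn) le_sup_left
  exact le_sup_right.trans h.le

theorem pCoreOf_cg (X : Subgroup H) (x : H) : Cfsg.pCoreOf p (cg X x) = cg (Cfsg.pCoreOf p X) x := by
  have key : ∀ (X : Subgroup H) (x : H), cg (Cfsg.pCoreOf p X) x ≤ Cfsg.pCoreOf p (cg X x) := by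
    intro X x
    refine le_pCoreOf (Subgroup.map_mono (pCoreOf_le X)) ?_ ((pCoreOf_isPGroup X).map _)
    rw [cg, cg, ← Subgroup.map_normalizer_eq_of_bijective (Cfsg.pCoreOf p X)
      (f := (MulAut.conj x).toMonoidHom) (MulAut.conj x).bijective]
    exact Subgroup.map_mono (le_normalizer_pCoreOf X)
  refine le_antisymm ?_ (key X x)
  have h := key (cg X x) x⁻¹
  rw [cg_cg, inv_mul_cancel, cg_one] at h
  rwa [cg_le_iff, inv_inv] at h

omit [Finite H] in
/-- A p-subgroup properly inside another one is properly inside its normalizer there. -/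
theorem exists_normalizer_gt [Finite H] {P R : Subgroup H} (hR : IsPGroup p ↥R) (h : P < R) :
    ∃ y ∈ R, y ∈ Subgroup.normalizer (P : Set H) ∧ y ∉ P := by
  have hlt : P.subgroupOf R < ⊤ := by
    rw [lt_top_iff_ne_top, Ne, Subgroup.subgroupOf_eq_top]
    exact h.not_ge
  haveI := hR.isNilpotent
  obtain ⟨⟨y, hyR⟩, hy, hyP⟩ :=
    SetLike.exists_of_lt (Group.normalizerCondition_of_isNilpotent _ hlt)
  exact ⟨y, hyR, CfsgLib.PRed.mem_normalizer_of_conj_mem fun z hz =>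
    (Subgroup.mem_normalizer_iff.mp hy ⟨z, h.le hz⟩).mp hz, hyP⟩

/-- `Y` has the Sylow subgroup `P` and `M` as the only maximal subgroup over `P`; `M` is
self-normalizing in `Y`. -/
structure Good (p : ℕ) (Y M P : Subgroup H) : Prop where
  lt : M < Y
  le : P ≤ M
  isP : IsPGroup p ↥P
  max : ∀ P' : Subgroup H, P' ≤ Y → IsPGroup p ↥P' → P ≤ P' → P' = P
  uniq : ∀ X : Subgroup H, P ≤ X → X < Y → X ≤ M
  selfN : ∀ x ∈ Y, cg M x = M → x ∈ M

/-- The conclusion of the L-Lemma inside `Y`. -/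
def Concl (p : ℕ) (Y M A : Subgroup H) : Prop :=
  ∃ L : Subgroup H, L ≤ Y ∧ A ⊔ Cfsg.pCoreOf p Y ≤ L ∧ ∃ L₀ : Subgroup H,
    A ⊔ Cfsg.pCoreOf p L ≤ L₀ ∧ L₀ < L ∧
    (∀ X : Subgroup H, A ⊔ Cfsg.pCoreOf p L ≤ X → X < L → X ≤ L₀) ∧
    (∃ g ∈ Y, L₀ = L ⊓ cg M g) ∧
    ∀ x ∈ L, x ∉ L₀ → (A ⊔ cg A x) ⊔ Cfsg.pCoreOf p L = L

theorem main : ∀ (n : ℕ) (Y M P A : Subgroup H), Nat.card Y ≤ n → Good p Y M P → A ≤ P →
    ¬ A ≤ Cfsg.pCoreOf p Y → Concl p Y M A := by
  intro n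
  induction n with
  | zero =>
    intro Y M P A hc
    exact absurd hc (Nat.card_pos (α := Y)).ne'.bot_lt.not_ge
  | succ n ih =>
    intro Y M P₀ A hc hG hAP hA
    set O := Cfsg.pCoreOf p Y with hO
    have hP₀Y : P₀ ≤ Y := hG.le.trans hG.lt.le
    have hOP : O ≤ P₀ := pCoreOf_le_of_maximal hP₀Y hG.isP hG.max
    have hAY : A ≤ Y := hAP.trans hP₀Y
    by_cases hX : ∀ X : Subgroup H, A ⊔ O ≤ X → X < Y → X ≤ M
    · refine ⟨Y, le_rfl, sup_le hAY (pCoreOf_le Y), M, sup_le (hAP.trans hG.le) (hOP.trans hG.le),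
        hG.lt, hX, ⟨1, Y.one_mem, by rw [cg_one, inf_eq_right.mpr hG.lt.le]⟩, fun x hxY hxM => ?_⟩
      have hle : (A ⊔ cg A x) ⊔ O ≤ Y :=
        sup_le (sup_le hAY ((Subgroup.map_mono hAY).trans (cg_eq_of_mem hxY).le)) (pCoreOf_le Y)
      by_contra hne
      have h1 := hX _ (sup_le (le_sup_of_le_left le_sup_left) le_sup_right) (lt_of_le_of_ne hle hne)
      have h2 : A ≤ cg M x⁻¹ := cg_le_iff.mp (le_sup_right.trans (le_sup_left.trans h1))
      have hOn : O ≤ cg M x⁻¹ := fun z hz => by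
        rw [mem_cg, inv_inv]
        exact (le_sup_right.trans h1) (((Subgroup.mem_normalizer_iff.mp (le_normalizer_pCoreOf Y hxY)) z).mp hz)
      have hMY : cg M x⁻¹ ≤ Y := (Subgroup.map_mono hG.lt.le).trans (cg_eq_of_mem (Y.inv_mem hxY)).le
      have hne' : cg M x⁻¹ ≠ Y := fun h => hG.lt.ne <| Subgroup.eq_of_le_of_card_ge hG.lt.le
        (le_of_eq (by rw [← h, card_cg]))
      have h3 := Subgroup.eq_of_le_of_card_ge (hX _ (sup_le h2 hOn) (lt_of_le_of_ne hMY hne'))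
        (card_cg M x⁻¹).ge
      have h4 := M.inv_mem (hG.selfN x⁻¹ (Y.inv_mem hxY) h3)
      rw [inv_inv] at h4
      exact hxM h4
    push Not at hX
    obtain ⟨X₁, hAX₁, hX₁Y, hX₁M⟩ := hX
    -- a largest `p`-subgroup of `M` over `A O` in a proper subgroup not in `M`
    obtain ⟨P, hP⟩ := ({P : Subgroup H | A ⊔ O ≤ P ∧ P ≤ M ∧ IsPGroup p ↥P ∧
        ∃ X : Subgroup H, P ≤ X ∧ X < Y ∧ ¬ X ≤ M}).toFinite.exists_maximal
      ⟨A ⊔ O, le_rfl, (sup_le hAP hOP).trans hG.le, hG.isP.to_le (sup_le hAP hOP), X₁, hAX₁, hX₁Y, hX₁M⟩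
    obtain ⟨hAOP, hPM, hPp, X₀, hPX₀, hX₀Y, hX₀M⟩ := hP.prop
    have hbig : ∀ P' : Subgroup H, P ≤ P' → P' ≤ M → IsPGroup p ↥P' → P' ≠ P →
        ∀ X : Subgroup H, P' ≤ X → X < Y → X ≤ M := by
      intro P' h1 h2 h3 h4 X h5 h6
      by_contra h7
      exact h4 (le_antisymm (hP.le_of_ge ⟨hAOP.trans h1, h2, h3, X, h5, h6, h7⟩ h1) h1)
    -- `P` is not a Sylow subgroup of `M`
    obtain ⟨R, hR⟩ := (hPp.comap_subtype (K := M)).exists_le_sylow
    have hPR : P ≤ (R : Subgroup ↥M).map M.subtype := fun x hx => ⟨⟨x, hPM hx⟩, hR hx, rfl⟩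
    set R' := (R : Subgroup ↥M).map M.subtype with hR'
    have hPneR : P ≠ R' := by
      intro heq
      have hP₀sub : IsPGroup p ↥(P₀.subgroupOf M) := hG.isP.comap_subtype
      obtain ⟨R₀, hR₀⟩ := hP₀sub.exists_le_sylow
      have hR₀eq : (R₀ : Subgroup ↥M).map M.subtype = P₀ :=
        hG.max _ ((Subgroup.map_subtype_le _).trans hG.lt.le) (R₀.2.map _)
          (fun x hx => ⟨⟨x, hG.le hx⟩, hR₀ hx, rfl⟩)
      obtain ⟨m, hm⟩ := MulAction.exists_smul_eq ↥M R R₀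
      have hPm : cg P (m : H) = P₀ := by
        rw [← hR₀eq, ← hm, heq, hR', Sylow.coe_subgroup_smul]
        ext z
        constructor
        · rintro ⟨_, ⟨r, hr, rfl⟩, rfl⟩
          exact ⟨_, ⟨r, hr, rfl⟩, rfl⟩
        · rintro ⟨_, ⟨r, hr, rfl⟩, rfl⟩
          exact ⟨(r : H), ⟨r, hr, rfl⟩, rfl⟩
      have hmY : (m : H) ∈ Y := hG.lt.le m.2
      have h1 : cg X₀ (m : H) < Y := by
        refine lt_of_le_of_ne ((Subgroup.map_mono hX₀Y.le).trans (cg_eq_of_mem hmY).le) fun h => hX₀Y.ne ?_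
        exact Subgroup.eq_of_le_of_card_ge hX₀Y.le (le_of_eq (by rw [← h, card_cg]))
      have h2 := cg_le_iff.mp (hG.uniq _ (hPm ▸ Subgroup.map_mono hPX₀) h1)
      exact hX₀M (h2.trans (cg_eq_of_mem (M.inv_mem m.2)).le)
    obtain ⟨y, hyR, hyN, hyP⟩ := exists_normalizer_gt (R.2.map M.subtype) (lt_of_le_of_ne hPR hPneR)
    have hyM : y ∈ M := Subgroup.map_subtype_le _ hyR
    set P' := P ⊔ Subgroup.zpowers y with hP'
    have hP'R : P' ≤ R' := sup_le hPR (Subgroup.zpowers_le.mpr hyR)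
    have hP'ne : P' ≠ P := fun h => hyP (h ▸ Subgroup.mem_sup_right (Subgroup.mem_zpowers y))
    have hbig' : ∀ X : Subgroup H, P ≤ X → y ∈ X → X < Y → X ≤ M := fun X h1 h2 h3 =>
      hbig P' le_sup_left (hP'R.trans (Subgroup.map_subtype_le _)) ((R.2.map _).to_le hP'R) hP'ne X
        (sup_le h1 (Subgroup.zpowers_le.mpr h2)) h3
    have hPY : P ≤ Y := hPM.trans hG.lt.le
    have hyY : y ∈ Y := hG.lt.le hyM
    have hNP : Subgroup.normalizer (P : Set H) ⊓ Y ≤ M := by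
      refine hbig' _ (le_inf Subgroup.le_normalizer hPY) ⟨hyN, hyY⟩ (lt_of_le_of_ne inf_le_right fun h => hA ?_)
      exact (le_sup_left.trans hAOP).trans (le_pCoreOf hPY (h.ge.trans inf_le_left) hPp)
    -- a smallest subgroup over `P` outside `M`
    obtain ⟨X, hX⟩ := ({X : Subgroup H | P ≤ X ∧ X < Y ∧ ¬ X ≤ M}).toFinite.exists_minimal
      ⟨X₀, hPX₀, hX₀Y, hX₀M⟩
    obtain ⟨hPX, hXY, hXM⟩ := hX.prop
    have hmaxX : ∀ Q : Subgroup H, Q ≤ X → IsPGroup p ↥Q → P ≤ Q → Q = P := by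
      intro Q hQX hQp hPQ
      by_contra hne
      obtain ⟨z, hzQ, hzN, hzP⟩ := exists_normalizer_gt hQp (lt_of_le_of_ne hPQ (Ne.symm hne))
      have hzM : z ∈ M := hNP ⟨hzN, hXY.le (hQX hzQ)⟩
      have hle : P ⊔ Subgroup.zpowers z ≤ Q := sup_le hPQ (Subgroup.zpowers_le.mpr hzQ)
      exact hXM (hbig _ le_sup_left (sup_le hPM (Subgroup.zpowers_le.mpr hzM)) (hQp.to_le hle)
        (fun h => hzP (h ▸ Subgroup.mem_sup_right (Subgroup.mem_zpowers z))) X (hle.trans hQX) hXY)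
    have hgood : Good p X (X ⊓ M) P := by
      refine ⟨lt_of_le_of_ne inf_le_left fun h => hXM (h.ge.trans inf_le_right), le_inf hPX hPM, hPp,
        hmaxX, fun Z hPZ hZX => le_inf hZX.le ?_, fun x hxX hx => ?_⟩
      · by_contra hZM
        exact hZX.not_ge (hX.le_of_le ⟨hPZ, hZX.trans hXY, hZM⟩ hZX.le)
      · refine ⟨hxX, ?_⟩
        set D := X ⊓ M with hD
        obtain ⟨S, hS⟩ := (hPp.comap_subtype (K := D)).exists_le_sylow
        have hSP : (S : Subgroup ↥D).map D.subtype = P :=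
          hmaxX _ ((Subgroup.map_subtype_le _).trans inf_le_left) (S.2.map _)
            (fun z hz => ⟨⟨z, ⟨hPX hz, hPM hz⟩⟩, hS hz, rfl⟩)
        have hxP : cg P x ≤ D := (Subgroup.map_mono (le_inf hPX hPM)).trans hx.le
        obtain ⟨S', hS'⟩ := ((hPp.map (MulAut.conj x).toMonoidHom).comap_subtype (K := D)).exists_le_sylow
        obtain ⟨d, hd⟩ := MulAction.exists_smul_eq ↥D S S'
        have h1 : cg P x ≤ cg P (d : H) := by
          intro z hz
          have hz' : (⟨z, hxP hz⟩ : ↥D) ∈ (S' : Subgroup ↥D) := hS' hz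
          rw [← hd, Sylow.coe_subgroup_smul] at hz'
          obtain ⟨s, hs, hsz⟩ := hz'
          exact ⟨(s : H), hSP ▸ ⟨s, hs, rfl⟩, congrArg Subtype.val hsz⟩
        rw [cg_le_iff, cg_cg] at h1
        have hn : x⁻¹ * (d : H) ∈ Subgroup.normalizer (P : Set H) :=
          inv_mem (CfsgLib.PRed.mem_normalizer_of_conj_mem (g := (x⁻¹ * (d : H))⁻¹) fun z hz => by
            have := mem_cg.mp (h1 hz)
            simpa [mul_assoc] using this) |> fun h => by simpa using h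
        have h3 : x⁻¹ * (d : H) ∈ M := hNP ⟨hn, Y.mul_mem (Y.inv_mem (hXY.le hxX)) (hXY.le d.2.1)⟩
        have h4 := M.mul_mem d.2.2 (M.inv_mem h3)
        simpa [mul_assoc] using h4
    set Q := Cfsg.pCoreOf p X with hQ
    have hQP : Q ≤ P := pCoreOf_le_of_maximal hPX hPp hmaxX
    have hOQ : O ≤ Q := le_pCoreOf ((le_sup_right.trans hAOP).trans hPX)
      (hXY.le.trans (le_normalizer_pCoreOf Y)) (pCoreOf_isPGroup Y)
    by_cases hB : ∃ h ∈ Y, cg A h ≤ P ∧ ¬ cg A h ≤ Q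
    · obtain ⟨h, hhY, hhP, hhQ⟩ := hB
      have hlt : Nat.card X < Nat.card Y := lt_of_not_ge fun hge =>
        hXY.ne (Subgroup.eq_of_le_of_card_ge hXY.le hge)
      obtain ⟨L, hLX, hAL, L₀, hAL₀, hL₀L, hmaxL, ⟨g, hgX, hgL⟩, hgen⟩ :=
        ih X (X ⊓ M) P (cg A h) (by omega) hgood hhP hhQ
      set k := h⁻¹ with hk
      have hAk : cg (cg A h) k = A := by rw [cg_cg, hk, inv_mul_cancel, cg_one]
      have hkY : k ∈ Y := Y.inv_mem hhY
      have hcore : Cfsg.pCoreOf p (cg L k) = cg (Cfsg.pCoreOf p L) k := pCoreOf_cg L k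
      refine ⟨cg L k, (Subgroup.map_mono (hLX.trans hXY.le)).trans (cg_eq_of_mem hkY).le, sup_le ?_ ?_,
        cg L₀ k, ?_, ?_, ?_, ⟨k * g, Y.mul_mem hkY (hXY.le hgX), ?_⟩, ?_⟩
      · exact hAk ▸ Subgroup.map_mono (le_sup_left.trans hAL)
      · intro z hz
        rw [mem_cg]
        refine (le_sup_right.trans hAL) (hOQ ?_)
        simpa using (Subgroup.mem_normalizer_iff.mp (le_normalizer_pCoreOf Y (Y.inv_mem hkY)) z).mp hz
      · rw [hcore, ← hAk, cg, cg, ← Subgroup.map_sup]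
        exact Subgroup.map_mono hAL₀
      · exact lt_of_le_of_ne (Subgroup.map_mono hL₀L.le) fun he => hL₀L.ne (Subgroup.map_injective (f := (MulAut.conj k).toMonoidHom) (MulAut.conj k).injective he)
      · intro Z hZ hZL
        have h1 : cg A h ⊔ Cfsg.pCoreOf p L ≤ cg Z k⁻¹ := by
          rw [sup_le_iff, ← cg_le_iff, ← cg_le_iff, ← hcore, hAk]
          exact ⟨le_sup_left.trans hZ, le_sup_right.trans hZ⟩
        have h2 : cg Z k⁻¹ < L := by
          refine lt_of_le_of_ne (cg_le_iff.mpr (by rw [inv_inv]; exact hZL.le)) fun he => hZL.ne ?_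
          rw [← he, cg_cg, mul_inv_cancel, cg_one]
        have h3 := hmaxL _ h1 h2
        rw [cg_le_iff, inv_inv] at h3
        exact h3
      · have hgX' : cg X g = X := cg_eq_of_mem hgX
        rw [hgL, cg, cg, cg, cg, Subgroup.map_inf _ _ _ (MulAut.conj k).injective,
          Subgroup.map_inf _ _ _ (MulAut.conj g).injective, Subgroup.map_inf _ _ _ (MulAut.conj k).injective]
        change cg L k ⊓ (cg (cg X g) k ⊓ cg (cg M g) k) = cg L k ⊓ cg M (k * g)
        rw [cg_cg M, ← inf_assoc, hgX', inf_eq_left.mpr (Subgroup.map_mono hLX : cg L k ≤ cg X k)]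
      · intro x hx hx'
        rw [mem_cg] at hx hx'
        have h1 := congrArg (fun S => cg S k) (hgen _ hx hx')
        simp only [cg, Subgroup.map_sup] at h1
        change (cg (cg A h) k ⊔ cg (cg (cg A h) (k⁻¹ * x * k)) k) ⊔ cg (Cfsg.pCoreOf p L) k = cg L k at h1
        rw [hAk, ← hcore, cg_cg, cg_cg, show k * (k⁻¹ * x * k) * h = x by rw [hk]; group] at h1
        exact h1
    · push Not at hB
      exfalso
      set W : Subgroup H := ⨆ h : {h : H // h ∈ Y ∧ cg A h ≤ P}, cg A (h : H) with hW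
      have hWQ : W ≤ Q := iSup_le fun h => hB h h.2.1 h.2.2
      have hAW : A ≤ W := by
        refine le_trans (cg_one A).ge (le_iSup (fun h : {h : H // h ∈ Y ∧ cg A h ≤ P} => cg A (h : H))
          ⟨1, Y.one_mem, ?_⟩)
        rw [cg_one]
        exact le_sup_left.trans hAOP
      have hnorm : ∀ z ∈ Y, (∀ h ∈ Y, cg A h ≤ P → cg A (z * h) ≤ P) →
          z ∈ Subgroup.normalizer (W : Set H) := by
        intro z hz hzP
        refine CfsgLib.PRed.mem_normalizer_of_conj_mem fun w hw => ?_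
        have hle : cg W z ≤ W := by
          rw [hW, cg, Subgroup.map_iSup]
          refine iSup_le fun h => ?_
          exact (cg_cg A h z).le.trans (le_iSup (fun h : {h : H // h ∈ Y ∧ cg A h ≤ P} => cg A (h : H))
            ⟨z * h, Y.mul_mem hz h.2.1, hzP h h.2.1 h.2.2⟩)
        exact hle ⟨w, hw, rfl⟩
      have hXW : X ≤ Subgroup.normalizer (W : Set H) := fun x hx => by
        refine hnorm x (hXY.le hx) fun h hh hhP => ?_
        rw [← cg_cg]
        refine ((Subgroup.map_mono (hB h hh hhP)).trans ?_).trans hQP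
        rintro _ ⟨w, hw, rfl⟩
        exact (Subgroup.mem_normalizer_iff.mp (le_normalizer_pCoreOf X hx) w).mp hw
      have hyW : y ∈ Subgroup.normalizer (W : Set H) := by
        refine hnorm y hyY fun h hh hhP => ?_
        rw [← cg_cg]
        refine (Subgroup.map_mono hhP).trans ?_
        rintro _ ⟨w, hw, rfl⟩
        exact (Subgroup.mem_normalizer_iff.mp hyN w).mp hw
      refine hXM ((le_inf hXW hXY.le).trans (hbig' _ (hPX.trans (le_inf hXW hXY.le)) ⟨hyW, hyY⟩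
        (lt_of_le_of_ne inf_le_right fun he => hA ?_)))
      exact hAW.trans (le_pCoreOf ((hWQ.trans hQP).trans hPY) (he.ge.trans inf_le_left)
        ((hPp.to_le hQP).to_le hWQ))

end CfsgLib.LLemma
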