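import Cfsg.Prelude.Def_Amalgam

/-!
Coset graph basics (helper60): adjacency, action, stabilizers, connectedness, faithfulness.
-/

set_option autoImplicit false

open Cfsg

namespace CfsgLib.LocalEven

variable {X : Type*} [Group X] {M₁ M₂ : Subgroup X}

theorem cg_adj_iff {a b : CosetVertex M₁ M₂} :
    (cosetGraph M₁ M₂).Adj a b ↔ ∃ x : X,
      (a = Sum.inl (x : X ⧸ M₁) ∧ b = Sum.inr (x : X ⧸ M₂)) ∨
      (a = Sum.inr (x : X ⧸ M₂) ∧ b = Sum.inl (x : X ⧸ M₁)) := by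
  constructor
  · intro h
    obtain ⟨-, h | h⟩ := h
    · obtain ⟨x, h1, h2⟩ := h
      exact ⟨x, Or.inl ⟨h1, h2⟩⟩
    · obtain ⟨x, h1, h2⟩ := h
      exact ⟨x, Or.inr ⟨h2, h1⟩⟩
  · rintro ⟨x, ⟨h1, h2⟩ | ⟨h1, h2⟩⟩
    · subst h1 h2
      exact ⟨Sum.inl_ne_inr, Or.inl ⟨x, rfl, rfl⟩⟩
    · subst h1 h2
      exact ⟨Sum.inr_ne_inl, Or.inr ⟨x, rfl, rfl⟩⟩

theorem cg_smul_inl (g x : X) :
    g • (Sum.inl (x : X ⧸ M₁) : CosetVertex M₁ M₂) = Sum.inl ((g * x : X) : X ⧸ M₁) := rfl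

theorem cg_smul_inr (g x : X) :
    g • (Sum.inr (x : X ⧸ M₂) : CosetVertex M₁ M₂) = Sum.inr ((g * x : X) : X ⧸ M₂) := rfl

theorem cg_adj_smul (g : X) {a b : CosetVertex M₁ M₂} (h : (cosetGraph M₁ M₂).Adj a b) :
    (cosetGraph M₁ M₂).Adj (g • a) (g • b) := by
  rw [cg_adj_iff] at h ⊢
  obtain ⟨x, ⟨h1, h2⟩ | ⟨h1, h2⟩⟩ := h
  · exact ⟨g * x, Or.inl ⟨by rw [h1]; exact cg_smul_inl g x, by rw [h2]; exact cg_smul_inr g x⟩⟩
  · exact ⟨g * x, Or.inr ⟨by rw [h1]; exact cg_smul_inr g x, by rw [h2]; exact cg_smul_inl g x⟩⟩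

theorem cg_conj_apply (x g : X) : (MulAut.conj x).toMonoidHom g = x * g * x⁻¹ := rfl

theorem cg_stab_inl (x : X) :
    MulAction.stabilizer X (Sum.inl (x : X ⧸ M₁) : CosetVertex M₁ M₂) =
      M₁.map (MulAut.conj x).toMonoidHom := by
  ext g
  rw [MulAction.mem_stabilizer_iff, cg_smul_inl, Sum.inl.injEq, QuotientGroup.eq, Subgroup.mem_map]
  constructor
  · intro h
    refine ⟨x⁻¹ * g * x, ?_, ?_⟩
    · have h' := M₁.inv_mem h
      simpa [mul_assoc] using h'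
    · rw [cg_conj_apply]; group
  · rintro ⟨m, hm, rfl⟩
    rw [cg_conj_apply]
    have h : (x * m * x⁻¹ * x)⁻¹ * x = m⁻¹ := by group
    rw [h]; exact M₁.inv_mem hm

theorem cg_stab_inr (x : X) :
    MulAction.stabilizer X (Sum.inr (x : X ⧸ M₂) : CosetVertex M₁ M₂) =
      M₂.map (MulAut.conj x).toMonoidHom := by
  ext g
  rw [MulAction.mem_stabilizer_iff, cg_smul_inr, Sum.inr.injEq, QuotientGroup.eq, Subgroup.mem_map]
  constructor
  · intro h
    refine ⟨x⁻¹ * g * x, ?_, ?_⟩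
    · have h' := M₂.inv_mem h
      simpa [mul_assoc] using h'
    · rw [cg_conj_apply]; group
  · rintro ⟨m, hm, rfl⟩
    rw [cg_conj_apply]
    have h : (x * m * x⁻¹ * x)⁻¹ * x = m⁻¹ := by group
    rw [h]; exact M₂.inv_mem hm

theorem cg_edgeStab_inl_inr (x : X) :
    edgeStabilizer (Sum.inl (x : X ⧸ M₁) : CosetVertex M₁ M₂) (Sum.inr (x : X ⧸ M₂)) =
      (M₁ ⊓ M₂).map (MulAut.conj x).toMonoidHom := by
  rw [edgeStabilizer, cg_stab_inl, cg_stab_inr, Subgroup.map_inf _ _ _ (MulAut.conj x).injective]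

theorem cg_edgeStab_comm (δ μ : CosetVertex M₁ M₂) : edgeStabilizer δ μ = edgeStabilizer μ δ :=
  inf_comm _ _

/-- The stabilizer of a vertex is transitive on its neighbours. -/
theorem cg_neighbours_transitive (δ μ μ' : CosetVertex M₁ M₂) (hμ : (cosetGraph M₁ M₂).Adj δ μ)
    (hμ' : (cosetGraph M₁ M₂).Adj δ μ') : ∃ g ∈ MulAction.stabilizer X δ, g • μ = μ' := by
  rw [cg_adj_iff] at hμ hμ'
  obtain ⟨x, ⟨h1, h2⟩ | ⟨h1, h2⟩⟩ := hμ <;> obtain ⟨y, ⟨h3, h4⟩ | ⟨h3, h4⟩⟩ := hμ'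
  · refine ⟨y * x⁻¹, ?_, ?_⟩
    · rw [MulAction.mem_stabilizer_iff]
      conv_lhs => rw [h1]
      conv_rhs => rw [h3]
      rw [cg_smul_inl]; congr 2; group
    · rw [h2, h4, cg_smul_inr]; congr 2; group
  · rw [h1] at h3; exact absurd h3 Sum.inl_ne_inr
  · rw [h1] at h3; exact absurd h3 Sum.inr_ne_inl
  · refine ⟨y * x⁻¹, ?_, ?_⟩
    · rw [MulAction.mem_stabilizer_iff]
      conv_lhs => rw [h1]
      conv_rhs => rw [h3]
      rw [cg_smul_inr]; congr 2; group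
    · rw [h2, h4, cg_smul_inl]; congr 2; group

theorem cg_reachable_inl (hgen : M₁ ⊔ M₂ = ⊤) (x : X) :
    (cosetGraph M₁ M₂).Reachable (Sum.inl ((1 : X) : X ⧸ M₁)) (Sum.inl (x : X ⧸ M₁)) := by
  have step : ∀ y m : X, (cosetGraph M₁ M₂).Reachable (Sum.inl ((1 : X) : X ⧸ M₁))
      (Sum.inl (y : X ⧸ M₁)) → m ∈ (M₁ : Set X) ∪ (M₂ : Set X) →
      (cosetGraph M₁ M₂).Reachable (Sum.inl ((1 : X) : X ⧸ M₁))
        (Sum.inl ((y * m : X) : X ⧸ M₁)) := by
    intro y m hy hm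
    rcases hm with hm | hm
    · have e : ((y * m : X) : X ⧸ M₁) = (y : X ⧸ M₁) := by
        rw [QuotientGroup.eq]
        have : (y * m)⁻¹ * y = m⁻¹ := by group
        rw [this]; exact M₁.inv_mem hm
      rw [e]; exact hy
    · have e : ((y * m : X) : X ⧸ M₂) = (y : X ⧸ M₂) := by
        rw [QuotientGroup.eq]
        have : (y * m)⁻¹ * y = m⁻¹ := by group
        rw [this]; exact M₂.inv_mem hm
      have a1 : (cosetGraph M₁ M₂).Adj (Sum.inl (y : X ⧸ M₁)) (Sum.inr (y : X ⧸ M₂)) :=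
        cg_adj_iff.2 ⟨y, Or.inl ⟨rfl, rfl⟩⟩
      have a2 : (cosetGraph M₁ M₂).Adj (Sum.inr (y : X ⧸ M₂))
          (Sum.inl ((y * m : X) : X ⧸ M₁)) :=
        cg_adj_iff.2 ⟨y * m, Or.inr ⟨by rw [e], rfl⟩⟩
      exact (hy.trans a1.reachable).trans a2.reachable
  have hx : x ∈ Subgroup.closure ((M₁ : Set X) ∪ (M₂ : Set X)) := by
    rw [Subgroup.closure_union, Subgroup.closure_eq, Subgroup.closure_eq, hgen]; trivial
  induction hx using Subgroup.closure_induction_right with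
  | one => exact SimpleGraph.Reachable.refl _
  | mul_right y _ m hm ih => exact step y m ih hm
  | mul_inv_cancel y _ m hm ih =>
    refine step y m⁻¹ ih ?_
    rcases hm with hm | hm
    · exact Or.inl (M₁.inv_mem hm)
    · exact Or.inr (M₂.inv_mem hm)

theorem cg_connected (hgen : M₁ ⊔ M₂ = ⊤) : (cosetGraph M₁ M₂).Connected := by
  have key : ∀ v : CosetVertex M₁ M₂,
      (cosetGraph M₁ M₂).Reachable (Sum.inl ((1 : X) : X ⧸ M₁)) v := by
    rintro (q | q)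
    · induction q using QuotientGroup.induction_on with
      | H x => exact cg_reachable_inl hgen x
    · induction q using QuotientGroup.induction_on with
      | H x =>
        exact (cg_reachable_inl hgen x).trans
          (SimpleGraph.Adj.reachable (cg_adj_iff.2 ⟨x, Or.inl ⟨rfl, rfl⟩⟩))
  have : Nonempty (CosetVertex M₁ M₂) := ⟨Sum.inl ((1 : X) : X ⧸ M₁)⟩
  exact ⟨fun u v => (key u).symm.trans (key v)⟩

theorem cg_fix_all_eq_one (h : ∀ N : Subgroup X, N ≤ M₁ ⊓ M₂ → N.Normal → N = ⊥) {g : X}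
    (hg : ∀ v : CosetVertex M₁ M₂, g • v = v) : g = 1 := by
  have hN : (MulAction.toPermHom X (CosetVertex M₁ M₂)).ker = ⊥ := by
    refine h _ ?_ inferInstance
    intro n hn
    have hn' : ∀ v : CosetVertex M₁ M₂, n • v = v := fun v => by
      have := DFunLike.congr_fun (MonoidHom.mem_ker.1 hn) v
      simpa using this
    constructor
    · have := hn' (Sum.inl ((1 : X) : X ⧸ M₁))
      rw [cg_smul_inl, Sum.inl.injEq, QuotientGroup.eq] at this
      simpa using this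
    · have := hn' (Sum.inr ((1 : X) : X ⧸ M₂))
      rw [cg_smul_inr, Sum.inr.injEq, QuotientGroup.eq] at this
      simpa using this
  have : g ∈ (MulAction.toPermHom X (CosetVertex M₁ M₂)).ker := by
    rw [MonoidHom.mem_ker]
    ext v
    simpa using hg v
  rw [hN] at this
  exact this

theorem cg_faithful (h : ∀ N : Subgroup X, N ≤ M₁ ⊓ M₂ → N.Normal → N = ⊥) :
    Function.Injective (MulAction.toPermHom X (CosetVertex M₁ M₂)) := by
  rw [← MonoidHom.ker_eq_bot_iff, Subgroup.eq_bot_iff_forall]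
  intro g hg
  refine cg_fix_all_eq_one h fun v => ?_
  have := DFunLike.congr_fun (MonoidHom.mem_ker.1 hg) v
  simpa using this

/-- A subgroup of an edge stabilizer normalised by groups transitive on both neighbourhoods is trivial. -/
theorem cg_normalizer_transitive_trivial (hgen : M₁ ⊔ M₂ = ⊤)
    (hfaith : ∀ N : Subgroup X, N ≤ M₁ ⊓ M₂ → N.Normal → N = ⊥)
    (δ μ : CosetVertex M₁ M₂) (hμ : (cosetGraph M₁ M₂).Adj δ μ) (T : Subgroup X)
    (hT : T ≤ edgeStabilizer δ μ)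
    (hδ : ∀ ν ν' : CosetVertex M₁ M₂, (cosetGraph M₁ M₂).Adj δ ν → (cosetGraph M₁ M₂).Adj δ ν' →
      ∃ g ∈ Subgroup.normalizer (T : Set X) ⊓ MulAction.stabilizer X δ, g • ν = ν')
    (hμ' : ∀ ν ν' : CosetVertex M₁ M₂, (cosetGraph M₁ M₂).Adj μ ν → (cosetGraph M₁ M₂).Adj μ ν' →
      ∃ g ∈ Subgroup.normalizer (T : Set X) ⊓ MulAction.stabilizer X μ, g • ν = ν') : T = ⊥ := by
  have key : ∀ u v : CosetVertex M₁ M₂, (cosetGraph M₁ M₂).Walk u v →
      (∃ y ∈ Subgroup.normalizer (T : Set X), u = y • δ ∨ u = y • μ) →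
      ∃ y ∈ Subgroup.normalizer (T : Set X), v = y • δ ∨ v = y • μ := by
    intro u v w
    induction w with
    | nil => exact id
    | @cons a b c hab w ih =>
      rintro ⟨y, hy, rfl | rfl⟩
      · have h1 : (cosetGraph M₁ M₂).Adj δ (y⁻¹ • b) := by
          simpa using cg_adj_smul y⁻¹ hab
        obtain ⟨g, hg, hgb⟩ := hδ μ (y⁻¹ • b) hμ h1
        refine ih ⟨y * g, mul_mem hy hg.1, Or.inr ?_⟩
        rw [mul_smul, hgb]; simp
      · have h1 : (cosetGraph M₁ M₂).Adj μ (y⁻¹ • b) := by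
          simpa using cg_adj_smul y⁻¹ hab
        obtain ⟨g, hg, hgb⟩ := hμ' δ (y⁻¹ • b) hμ.symm h1
        refine ih ⟨y * g, mul_mem hy hg.1, Or.inl ?_⟩
        rw [mul_smul, hgb]; simp
  rw [Subgroup.eq_bot_iff_forall]
  intro t ht
  refine cg_fix_all_eq_one hfaith fun v => ?_
  obtain ⟨w⟩ := (cg_connected hgen).preconnected δ v
  obtain ⟨y, hy, hv⟩ := key δ v w ⟨1, one_mem _, Or.inl (one_smul X δ).symm⟩
  have hconj : y⁻¹ * t * y ∈ T := (Subgroup.mem_normalizer_iff''.1 hy t).1 ht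
  rcases hv with rfl | rfl
  · calc t • y • δ = y • (y⁻¹ * t * y) • δ := by simp [mul_smul]
      _ = y • δ := by rw [MulAction.mem_stabilizer_iff.1 (hT hconj).1]
  · calc t • y • μ = y • (y⁻¹ * t * y) • μ := by simp [mul_smul]
      _ = y • μ := by rw [MulAction.mem_stabilizer_iff.1 (hT hconj).2]

end CfsgLib.LocalEven
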