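import Mathlib
import Cfsg.Prelude.Def_SubgroupEmbedding
import Cfsg.Agent.Lib.Involutions.BrauerSuzuki
import Cfsg.Agent.Lib.RankOneInvol.OddGroup
import Cfsg.Agent.Lib.PLocal.Constraint
import Cfsg.Agent.S3020

/-!
An extremely closed abelian 2-subgroup `H` of a finite group `G` satisfies `G = N(H) O(G)`.

For a conjugate `y` of an element of order at most 2 of `H` there is exactly one such element `h`
of `H` with `h * y` of odd order.  The elements of `G` whose conjugation preserves this projection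
form a subgroup which contains `H` and the odd cores of the centralisers of the involutions of
`H`, hence the normal closure of `H`; so the involutions of `H` are isolated there and Glauberman's
Z*-theorem applies.
-/

set_option autoImplicit false

namespace CfsgLib.LocalEven.ExtremelyClosed

universe u

variable {G : Type u} [Group G] {H : Subgroup G}

/-- The subgroup generated by `H` and one conjugate. -/
def pair (H : Subgroup G) (g : G) : Subgroup G := H ⊔ H.map (MulAut.conj g).toMonoidHom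

theorem conj_mem_pair (g : G) {x : G} (hx : x ∈ H) : g * x * g⁻¹ ∈ pair H g :=
  Subgroup.mem_sup_right ⟨x, hx, rfl⟩

theorem map_pair {L : Type u} [Group L] (f : G →* L) (g : G) :
    (pair H g).map f = pair (H.map f) (f g) := by
  rw [pair, pair, Subgroup.map_sup, Subgroup.map_map, Subgroup.map_map]
  congr 2
  ext x
  simp [map_mul, map_inv]

variable [Finite G]

/-- A normal complement of `H` in the pair subgroup, of odd order. -/
theorem exists_odd_complement (hH2 : IsPGroup 2 H) (hab : IsMulCommutative H)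
    (hcl : Cfsg.IsExtremelyClosed H) (g : G) :
    ∃ R : Subgroup G, R ≤ pair H g ∧ pair H g ≤ Subgroup.normalizer (R : Set G) ∧
      Odd (Nat.card R) ∧ H ⊓ R = ⊥ ∧ H ⊔ R = pair H g := by
  obtain ⟨h1, h2⟩ := Cfsg.Agent.S3020.result H hH2 hab hcl g (pair H g) rfl
  refine ⟨_, Subgroup.map_subtype_le _, ?_, ?_, h2, h1⟩
  · refine (Subgroup.normal_subgroupOf_iff_le_normalizer (Subgroup.map_subtype_le _)).1 ?_
    rw [Subgroup.subgroupOf, Subgroup.comap_map_eq_self_of_injective (pair H g).subtype_injective]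
    exact Cfsg.pPrimeCore_normal 2 _
  · rw [Subgroup.card_subtype]
    exact Nat.coprime_two_right.1 CfsgLib.PCore.pPrimeCore_coprime

/-- An element of odd order lying in a coset of a normal subgroup `R` of the group `K`
represented by a 2-element lies in `R`. -/
theorem eq_one_of_odd_mul {R : Subgroup G} (hR : Odd (Nat.card R)) (hdis : H ⊓ R = ⊥)
    (hnorm : H ≤ Subgroup.normalizer (R : Set G)) (hH2 : IsPGroup 2 H) {h r : G} (hh : h ∈ H)
    (hr : r ∈ R) (ho : Odd (orderOf (h * r))) : h = 1 := by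
  have key : ∀ n : ℕ, ∃ r' ∈ R, (h * r) ^ n = h ^ n * r' := by
    intro n
    induction n with
    | zero => exact ⟨1, R.one_mem, by simp⟩
    | succ n ih =>
      obtain ⟨r', hr', e⟩ := ih
      refine ⟨(h⁻¹ * r' * h) * r, R.mul_mem ?_ hr, ?_⟩
      · exact ((Subgroup.mem_normalizer_iff'').1 (hnorm hh) r').1 hr'
      · rw [pow_succ, e, pow_succ]; group
  obtain ⟨r', hr', e⟩ := key (orderOf (h * r))
  rw [pow_orderOf_eq_one] at e
  have h1 : h ^ orderOf (h * r) ∈ H ⊓ R :=
    ⟨H.pow_mem hh _, by rw [eq_inv_of_mul_eq_one_left e.symm]; exact R.inv_mem hr'⟩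
  rw [hdis, Subgroup.mem_bot] at h1
  obtain ⟨k, hk⟩ := hH2 ⟨h, hh⟩
  have hk' : h ^ 2 ^ k = 1 := congrArg Subtype.val hk
  exact orderOf_eq_one_iff.1 (Nat.eq_one_of_dvd_coprimes
    ((Nat.coprime_two_right.2 ho).symm.pow_left k).symm (orderOf_dvd_of_pow_eq_one h1)
    (orderOf_dvd_of_pow_eq_one hk'))

/-- In a pair subgroup two elements of `H` multiplying `y` to elements of odd order agree. -/
theorem proj_unique (hH2 : IsPGroup 2 H) (hab : IsMulCommutative H)
    (hcl : Cfsg.IsExtremelyClosed H) {g y h₁ h₂ : G} (hy : y ∈ pair H g) (h₁m : h₁ ∈ H)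
    (h₂m : h₂ ∈ H) (o₁ : Odd (orderOf (h₁ * y))) (o₂ : Odd (orderOf (h₂ * y))) : h₁ = h₂ := by
  obtain ⟨R, hRK, hKR, hR, hdis, hsup⟩ := exists_odd_complement hH2 hab hcl g
  have hHR : H ≤ Subgroup.normalizer (R : Set G) := (hsup ▸ le_sup_left).trans hKR
  rw [← hsup, ← SetLike.mem_coe, Subgroup.coe_mul_of_left_le_normalizer_right H R hHR] at hy
  obtain ⟨h, hh, r, hr, rfl⟩ := Set.mem_mul.1 hy
  rw [← mul_assoc] at o₁ o₂
  have e₁ := eq_one_of_odd_mul hR hdis hHR hH2 (H.mul_mem h₁m hh) hr o₁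
  have e₂ := eq_one_of_odd_mul hR hdis hHR hH2 (H.mul_mem h₂m hh) hr o₂
  exact mul_right_cancel (e₁.trans e₂.symm)

/-- A conjugate `y` of an element of order at most 2 of `H` has a projection. -/
theorem proj_exists (hH2 : IsPGroup 2 H) (hab : IsMulCommutative H)
    (hcl : Cfsg.IsExtremelyClosed H) {g y : G} (hy : y ∈ pair H g) (hy2 : y * y = 1) :
    ∃ h ∈ H, h * h = 1 ∧ Odd (orderOf (h * y)) := by
  obtain ⟨R, hRK, hKR, hR, hdis, hsup⟩ := exists_odd_complement hH2 hab hcl g
  have hHR : H ≤ Subgroup.normalizer (R : Set G) := (hsup ▸ le_sup_left).trans hKR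
  rw [← hsup, ← SetLike.mem_coe, Subgroup.coe_mul_of_left_le_normalizer_right H R hHR] at hy
  obtain ⟨h, hh, r, hr, rfl⟩ := Set.mem_mul.1 hy
  have h2 : h * h = 1 := by
    have hr' : h⁻¹ * r * h ∈ R := ((Subgroup.mem_normalizer_iff'').1 (hHR hh) r).1 hr
    have e : h * h * ((h⁻¹ * r * h) * r) = 1 := by rw [← hy2]; group
    have h1 : h * h ∈ H ⊓ R := ⟨H.mul_mem hh hh, by
      rw [eq_inv_of_mul_eq_one_left e]; exact R.inv_mem (R.mul_mem hr' hr)⟩
    rwa [hdis, Subgroup.mem_bot] at h1
  refine ⟨h, hh, h2, ?_⟩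
  rw [← mul_assoc, h2, one_mul]
  exact CfsgLib.RankOneInvol.odd_orderOf_of_mem hR hr

/-- `y` is conjugate to an element of order at most 2 of `H`. -/
def IsConjInvol (H : Subgroup G) (y : G) : Prop :=
  ∃ g x : G, x ∈ H ∧ x * x = 1 ∧ y = g * x * g⁻¹

omit [Finite G] in
theorem IsConjInvol.conj {y : G} (hy : IsConjInvol H y) (c : G) :
    IsConjInvol H (c * y * c⁻¹) := by
  obtain ⟨g, x, hx, hx2, rfl⟩ := hy
  exact ⟨c * g, x, hx, hx2, by group⟩

omit [Finite G] in
theorem IsConjInvol.sq {y : G} (hy : IsConjInvol H y) : y * y = 1 := by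
  obtain ⟨g, x, hx, hx2, rfl⟩ := hy
  calc g * x * g⁻¹ * (g * x * g⁻¹) = g * (x * x) * g⁻¹ := by group
    _ = 1 := by rw [hx2]; group

omit [Finite G] in
theorem IsConjInvol.mem_pair {y : G} (hy : IsConjInvol H y) : ∃ g, y ∈ pair H g := by
  obtain ⟨g, x, hx, hx2, rfl⟩ := hy
  exact ⟨g, conj_mem_pair g hx⟩

/-- The elements whose conjugation preserves projections. -/
def preserving (H : Subgroup G) : Subgroup G where
  carrier := {c | ∀ y h : G, IsConjInvol H y → h ∈ H → h * h = 1 → Odd (orderOf (h * y)) →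
    Odd (orderOf (h * (c * y * c⁻¹)))}
  mul_mem' {a b} ha hb y h hy hh h2 ho := by
    have := ha _ h (hy.conj b) hh h2 (hb y h hy hh h2 ho)
    rwa [show a * b * y * (a * b)⁻¹ = a * (b * y * b⁻¹) * a⁻¹ by group]
  one_mem' y h hy hh h2 ho := by simpa using ho
  inv_mem' {a} ha := by
    have hpow : ∀ n : ℕ, ∀ y h : G, IsConjInvol H y → h ∈ H → h * h = 1 → Odd (orderOf (h * y)) →
        Odd (orderOf (h * (a ^ n * y * (a ^ n)⁻¹))) := by
      intro n
      induction n with
      | zero => intro y h hy hh h2 ho; simpa using ho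
      | succ n ih =>
        intro y h hy hh h2 ho
        have := ha _ h (hy.conj (a ^ n)) hh h2 (ih y h hy hh h2 ho)
        rwa [show a ^ (n + 1) * y * (a ^ (n + 1))⁻¹ = a * (a ^ n * y * (a ^ n)⁻¹) * a⁻¹ by
          rw [pow_succ']; group]
    have e : a⁻¹ = a ^ (orderOf a - 1) := by
      apply inv_eq_of_mul_eq_one_right
      rw [← pow_succ', Nat.sub_add_cancel (orderOf_pos a), pow_orderOf_eq_one]
    intro y h hy hh h2 ho
    rw [e]
    exact hpow _ y h hy hh h2 ho

theorem le_preserving (hab : IsMulCommutative H) : H ≤ preserving H := by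
  intro c hc y h hy hh h2 ho
  have hcomm : c * h = h * c := congrArg Subtype.val (hab.is_comm.comm ⟨c, hc⟩ ⟨h, hh⟩)
  have : h * (c * y * c⁻¹) = c * (h * y) * c⁻¹ := by rw [← mul_assoc, ← mul_assoc, ← hcomm]; group
  rw [this]
  exact CfsgLib.RankOneInvol.odd_orderOf_conj ho c

omit [Finite G] in
theorem odd_orderOf_mul_of_coset {C : Type u} [Group C] [Finite C] (N : Subgroup C) [N.Normal]
    (hN : Odd (Nat.card N)) {a b : C} (ha : Odd (orderOf a)) (hab : a⁻¹ * b ∈ N) :
    Odd (orderOf b) := by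
  have e : QuotientGroup.mk' N b = QuotientGroup.mk' N a :=
    ((QuotientGroup.eq).2 hab).symm
  have h1 : QuotientGroup.mk' N (b ^ orderOf a) = 1 := by
    rw [map_pow, e, ← map_pow, pow_orderOf_eq_one, map_one]
  have h2 : b ^ orderOf a ∈ N := (QuotientGroup.eq_one_iff _).1 h1
  have h3 : b ^ (orderOf a * Nat.card N) = 1 := by
    rw [pow_mul]
    exact orderOf_dvd_iff_pow_eq_one.1 (Subgroup.orderOf_dvd_natCard N h2)
  exact (ha.mul hN).of_dvd_nat (orderOf_dvd_of_pow_eq_one h3)

/-- Elements of the odd core of the centraliser of an involution of `H` preserve projections. -/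
theorem core_centralizer_le_preserving (hH2 : IsPGroup 2 H) (hab : IsMulCommutative H)
    (hcl : Cfsg.IsExtremelyClosed H) {a : G} (ha : a ∈ H) (ha2 : a * a = 1) :
    (Cfsg.pPrimeCore 2 ↥(Subgroup.centralizer ({a} : Set G))).map
      (Subgroup.centralizer ({a} : Set G)).subtype ≤ preserving H := by
  set C := Subgroup.centralizer ({a} : Set G) with hC
  rintro _ ⟨c, hc, rfl⟩ y h hy hh h2 ho
  change Odd (orderOf (h * ((c : G) * y * (c : G)⁻¹)))
  have hca : (c : G) * a = a * (c : G) := Subgroup.mem_centralizer_singleton_iff.1 c.2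
  obtain ⟨g, hyK⟩ := hy.mem_pair
  obtain ⟨g', hy'K⟩ := (hy.conj (c : G)).mem_pair
  obtain ⟨h', hh', h'2, ho'⟩ := proj_exists hH2 hab hcl hy'K (hy.conj (c : G)).sq
  suffices h = h' by rw [this]; exact ho'
  have hay' : a * ((c : G) * y * (c : G)⁻¹) = (c : G) * (a * y) * (c : G)⁻¹ := by
    rw [← mul_assoc, ← mul_assoc, ← mul_assoc, hca]
  by_cases hodd : Odd (orderOf (a * y))
  · have e1 : h = a := proj_unique hH2 hab hcl hyK hh ha ho hodd
    have e2 : h' = a := proj_unique hH2 hab hcl hy'K hh' ha ho' (by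
      rw [hay']; exact CfsgLib.RankOneInvol.odd_orderOf_conj hodd _)
    rw [e1, e2]
  · obtain ⟨m, hm⟩ : 2 ∣ orderOf (a * y) := (Nat.not_odd_iff_even.1 hodd).two_dvd
    have hm0 : 0 < m := by have := orderOf_pos (a * y); omega
    set w := (a * y) ^ m with hw
    have hw2 : w * w = 1 := by
      rw [hw, ← pow_add, show m + m = 2 * m by ring, ← hm, pow_orderOf_eq_one]
    have hw1 : w ≠ 1 := fun hh1 => by
      have := Nat.le_of_dvd hm0 (orderOf_dvd_of_pow_eq_one hh1)
      omega
    have hinv : (a * y)⁻¹ = a * (a * y) * a⁻¹ := by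
      rw [mul_inv_rev, inv_eq_of_mul_eq_one_right ha2, inv_eq_of_mul_eq_one_right hy.sq,
        ← mul_assoc, ha2, one_mul]
    have hwa : w ∈ C := by
      rw [hC, Subgroup.mem_centralizer_singleton_iff]
      have : w⁻¹ = a * w * a⁻¹ := by rw [hw, ← inv_pow, hinv, conj_pow]
      rw [inv_eq_of_mul_eq_one_right hw2] at this
      calc w * a = a * w * a⁻¹ * a := by rw [← this]
        _ = a * w := by group
    -- the projection of `w` is `a * h`, and the same holds for its conjugate
    have key : ∀ (g₀ z k : G), z ∈ pair H g₀ → k ∈ H → k * k = 1 → Odd (orderOf (k * z)) →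
        (a * z) ^ m * ((a * z) ^ m) = 1 → (a * z) ^ m ≠ 1 →
        Odd (orderOf ((a * k) * (a * z) ^ m)) := by
      intro g₀ z k hz hk hk2 hkz hz2 hz1
      obtain ⟨R, hRK, hKR, hR, hdis, hsup⟩ := exists_odd_complement hH2 hab hcl g₀
      have hHR : H ≤ Subgroup.normalizer (R : Set G) := (hsup ▸ le_sup_left).trans hKR
      rw [← hsup, ← SetLike.mem_coe, Subgroup.coe_mul_of_left_le_normalizer_right H R hHR] at hz
      obtain ⟨k₀, hk₀, r, hr, rfl⟩ := Set.mem_mul.1 hz
      have e0 : k = k₀ := by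
        rw [← mul_assoc] at hkz
        have := eq_one_of_odd_mul hR hdis hHR hH2 (H.mul_mem hk hk₀) hr hkz
        calc k = k * (k * k₀) := by rw [this, mul_one]
          _ = k₀ := by rw [← mul_assoc, hk2, one_mul]
      subst e0
      have hpow : ∀ n : ℕ, ∃ r' ∈ R, (a * (k * r)) ^ n = (a * k) ^ n * r' := by
        intro n
        induction n with
        | zero => exact ⟨1, R.one_mem, by simp⟩
        | succ n ih =>
          obtain ⟨r', hr', e⟩ := ih
          refine ⟨((a * k)⁻¹ * r' * (a * k)) * r, R.mul_mem ?_ hr, ?_⟩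
          · exact ((Subgroup.mem_normalizer_iff'').1 (hHR (H.mul_mem ha hk)) r').1 hr'
          · rw [pow_succ, e, pow_succ]; group
      obtain ⟨r', hr', e⟩ := hpow m
      have hcm : Commute a k := congrArg Subtype.val (hab.is_comm.comm ⟨a, ha⟩ ⟨k, hk⟩)
      have hak2 : (a * k) * (a * k) = 1 := by
        rw [hcm.symm.mul_mul_mul_comm, ha2, hk2, one_mul]
      rcases Nat.even_or_odd m with ⟨j, hj⟩ | ⟨j, hj⟩
      · have hpw : (a * k) ^ m = 1 := by
          rw [hj, ← two_mul, pow_mul, pow_two, hak2, one_pow]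
        rw [hpw, one_mul] at e
        rw [e] at hz2 hz1
        exact absurd (CfsgLib.RankOneInvol.eq_one_of_mem_of_sq hR hr' hz2) hz1
      · have hpw : (a * k) ^ m = a * k := by
          rw [hj, pow_succ, pow_mul, pow_two, hak2, one_pow, one_mul]
        rw [e, hpw, ← mul_assoc, hak2, one_mul]
        exact CfsgLib.RankOneInvol.odd_orderOf_of_mem hR hr'
    have hw' : (a * ((c : G) * y * (c : G)⁻¹)) ^ m = (c : G) * w * (c : G)⁻¹ := by
      rw [hay', conj_pow]
    have o1 : Odd (orderOf ((a * h) * w)) := key g y h hyK hh h2 ho hw2 hw1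
    have o2 : Odd (orderOf ((a * h') * ((c : G) * w * (c : G)⁻¹))) := by
      rw [← hw']
      refine key g' _ h' hy'K hh' h'2 ho' ?_ ?_
      · rw [hw']
        calc (c : G) * w * (c : G)⁻¹ * ((c : G) * w * (c : G)⁻¹)
            = (c : G) * (w * w) * (c : G)⁻¹ := by group
          _ = 1 := by rw [hw2]; group
      · rw [hw']
        exact fun hh1 => hw1 (conj_eq_one_iff.1 hh1)
    -- compare modulo the odd core of `C`
    have hahC : a * h ∈ C := by
      rw [hC, Subgroup.mem_centralizer_singleton_iff]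
      exact congrArg Subtype.val (hab.is_comm.comm ⟨a * h, H.mul_mem ha hh⟩ ⟨a, ha⟩)
    have o3 : Odd (orderOf ((a * h) * ((c : G) * w * (c : G)⁻¹))) := by
      haveI : (Cfsg.pPrimeCore 2 ↥C).Normal := Cfsg.pPrimeCore_normal 2 _
      have hmem : ((⟨a * h, hahC⟩ : C) * ⟨w, hwa⟩)⁻¹ *
          ((⟨a * h, hahC⟩ : C) * (c * ⟨w, hwa⟩ * c⁻¹)) ∈ Cfsg.pPrimeCore 2 ↥C := by
        have e : ((⟨a * h, hahC⟩ : C) * ⟨w, hwa⟩)⁻¹ * ((⟨a * h, hahC⟩ : C) * (c * ⟨w, hwa⟩ * c⁻¹)) =
            ((⟨w, hwa⟩ : C)⁻¹ * c * ⟨w, hwa⟩) * c⁻¹ := by group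
        rw [e]
        refine mul_mem ?_ (inv_mem hc)
        simpa using (inferInstance : (Cfsg.pPrimeCore 2 ↥C).Normal).conj_mem c hc (⟨w, hwa⟩ : C)⁻¹
      have := odd_orderOf_mul_of_coset (Cfsg.pPrimeCore 2 ↥C)
        (Nat.coprime_two_right.1 CfsgLib.PCore.pPrimeCore_coprime)
        (by rw [← Subgroup.orderOf_coe]; exact o1) hmem
      rw [← Subgroup.orderOf_coe] at this
      exact this
    obtain ⟨g'', hw''⟩ : ∃ g'', (c : G) * w * (c : G)⁻¹ ∈ pair H g'' :=
      ⟨g', by
        rw [← hw']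
        exact pow_mem (mul_mem (Subgroup.mem_sup_left ha) hy'K) m⟩
    exact mul_left_cancel (proj_unique hH2 hab hcl hw'' (H.mul_mem ha hh) (H.mul_mem ha hh') o3 o2)

/-- An element of `K` normalising `H` modulo an odd subgroup `O` lies in `H ⊔ O`. -/
theorem mem_sup_of_conj (hH2 : IsPGroup 2 H) {K O : Subgroup G} (hHK : H ≤ K)
    (hsn : K ⊓ Subgroup.normalizer (H : Set G) ≤ H) (hO : (Nat.card O).Coprime 2)
    (hKO : K ≤ Subgroup.normalizer (O : Set G)) {k : G} (hk : k ∈ K)
    (hconj : ∀ y ∈ H, ∃ y' ∈ H, y'⁻¹ * (k * y * k⁻¹) ∈ O) : k ∈ H ⊔ O := by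
  haveI : (O.subgroupOf K).Normal := Subgroup.normal_subgroupOf_of_le_normalizer hKO
  have hO' : (Nat.card ↥(O.subgroupOf K)).Coprime 2 := by
    refine Nat.Coprime.coprime_dvd_left ?_ hO
    rw [← Subgroup.card_subtype K, Subgroup.subgroupOf_map_subtype]
    exact Subgroup.card_dvd_of_le inf_le_left
  have hP : IsPGroup 2 ↥(H.subgroupOf K) := hH2.comap_subtype
  obtain ⟨n, hn, hnk⟩ := CfsgLib.PLocal.exists_mul_mem_normalizer hO' hP (x := (⟨k, hk⟩ : K))
    (fun y hy => by
      obtain ⟨y', hy', hd⟩ := hconj (y : G) (Subgroup.mem_subgroupOf.1 hy)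
      exact ⟨⟨y', hHK hy'⟩, hy', (QuotientGroup.eq).2 hd⟩)
  have h1 : ((n : G) * k) ∈ H := hsn ⟨mul_mem n.2 hk, by
    refine Subgroup.mem_normalizer_iff.2 ?_
    intro z
    constructor
    · intro hz
      exact (Subgroup.mem_normalizer_iff.1 hnk ⟨z, hHK hz⟩).1 hz
    · intro hz
      have hzK : z ∈ K := by
        have h := hHK hz
        have hnk' : (n : G) * k ∈ K := mul_mem n.2 hk
        simpa [mul_assoc] using mul_mem (mul_mem (inv_mem hnk') h) hnk'
      exact (Subgroup.mem_normalizer_iff.1 hnk ⟨z, hzK⟩).2 hz⟩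
  have h2 : k = (n : G)⁻¹ * ((n : G) * k) := by group
  rw [h2]
  exact mul_mem (Subgroup.mem_sup_right (inv_mem hn)) (Subgroup.mem_sup_left h1)

theorem map_extremelyClosed {L : Type u} [Group L] (f : G →* L) (hf : Function.Surjective f)
    (hcl : Cfsg.IsExtremelyClosed H)
    (hker : ∀ g k, k ∈ pair H g → f k ∈ Subgroup.normalizer ((H.map f : Subgroup L) : Set L) →
      f k ∈ H.map f) :
    Cfsg.IsExtremelyClosed (H.map f) := by
  intro l
  obtain ⟨g, rfl⟩ := hf l
  refine le_antisymm ?_ (le_inf le_sup_left Subgroup.le_normalizer)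
  rintro x ⟨hx, hxN⟩
  change x ∈ pair (H.map f) (f g) at hx
  rw [← map_pair] at hx
  obtain ⟨k, hk, rfl⟩ := hx
  exact hker g k hk hxN

theorem subgroupOf_extremelyClosed (hcl : Cfsg.IsExtremelyClosed H) {L : Subgroup G}
    (hHL : H ≤ L) : Cfsg.IsExtremelyClosed (H.subgroupOf L) := by
  intro l
  refine le_antisymm ?_ (le_inf le_sup_left Subgroup.le_normalizer)
  rintro x ⟨hx, hxN⟩
  have hmap : (H.subgroupOf L).map L.subtype = H := Subgroup.map_subgroupOf_eq_of_le hHL
  have h1 : (x : G) ∈ pair H (l : G) := by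
    have : (pair (H.subgroupOf L) l).map L.subtype = pair H (l : G) := by
      rw [map_pair, hmap]; rfl
    rw [← this]
    exact ⟨x, hx, rfl⟩
  have h2 : (x : G) ∈ Subgroup.normalizer (H : Set G) := by
    have := Subgroup.le_normalizer_map L.subtype ⟨x, hxN, rfl⟩
    rwa [hmap] at this
  have h3 : (x : G) ∈ pair H (l : G) ⊓ Subgroup.normalizer (H : Set G) := ⟨h1, h2⟩
  rw [show pair H (l : G) ⊓ Subgroup.normalizer (H : Set G) = H from hcl (l : G)] at h3
  exact h3

/-- The quotient step by a normal subgroup of `G` inside `H` centralised by the normal closure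
of `H`. -/
theorem normalizer_eq_top_of_quotient (hH2 : IsPGroup 2 H) (hO : Cfsg.pPrimeCore 2 G = ⊥)
    (Z : Subgroup G) [Z.Normal] (hZH : Z ≤ H)
    (hcent : Subgroup.normalClosure (H : Set G) ≤ Subgroup.centralizer (Z : Set G))
    (hq : Subgroup.normalizer ((H.map (QuotientGroup.mk' Z) : Subgroup (G ⧸ Z)) : Set (G ⧸ Z)) ⊔
      Cfsg.pPrimeCore 2 (G ⧸ Z) = ⊤) :
    Subgroup.normalizer (H : Set G) = ⊤ := by
  set f := QuotientGroup.mk' Z with hf
  have hfs := QuotientGroup.mk'_surjective Z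
  have hpre : (H.map f).comap f = H := by
    rw [QuotientGroup.comap_map_mk', sup_eq_right.2 hZH]
  haveI := Cfsg.pPrimeCore_normal 2 (G ⧸ Z)
  set L := (Cfsg.pPrimeCore 2 (G ⧸ Z)).comap f with hL
  have hNL : Subgroup.normalizer (H : Set G) ⊔ L = ⊤ := by
    have h1 := congrArg (Subgroup.comap f) hq
    rw [← Subgroup.comap_sup_eq f _ _ hfs, Subgroup.comap_top] at h1
    rw [← h1, Subgroup.comap_normalizer_eq_of_surjective _ hfs, hpre]
  haveI : L.Normal := inferInstanceAs ((Cfsg.pPrimeCore 2 (G ⧸ Z)).comap f).Normal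
  haveI : (Subgroup.centralizer (Z : Set G)).Normal := Subgroup.normal_centralizer
  set D := L ⊓ Subgroup.centralizer (Z : Set G) with hD
  haveI : D.Normal := inferInstance
  have hZL : Z ≤ L := fun z hz => by
    rw [hL, Subgroup.mem_comap, show f z = 1 from (QuotientGroup.eq_one_iff z).2 hz]
    exact one_mem _
  have hZc : Z ≤ Subgroup.centralizer (Z : Set G) :=
    hZH.trans (le_trans Subgroup.subset_normalClosure hcent)
  have hZD : Z ≤ D := le_inf hZL hZc
  have hDZ : D ≤ Z := by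
    set Z' := Z.subgroupOf D with hZ'
    have hidx : (Z.relIndex D).Coprime 2 := by
      have h1 : Z.relIndex D ∣ Z.relIndex L := by
        exact Dvd.intro _ (Subgroup.relIndex_mul_relIndex Z D L hZD inf_le_left)
      refine Nat.Coprime.coprime_dvd_left h1 ?_
      have h2 : Z.relIndex L = Nat.card (Cfsg.pPrimeCore 2 (G ⧸ Z)) := by
        have e1 := Subgroup.card_mul_index (Z.subgroupOf L)
        have e2 := CfsgLib.PCore.card_comap_mk' Z (Cfsg.pPrimeCore 2 (G ⧸ Z))
        rw [Nat.card_congr (Subgroup.subgroupOfEquivOfLe hZL).toEquiv] at e1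
        rw [← hf, ← hL, ← e1] at e2
        exact mul_left_cancel₀ Nat.card_pos.ne' e2
      rw [h2]
      exact CfsgLib.PCore.pPrimeCore_coprime
    have hcard : (Nat.card Z').Coprime Z'.index := by
      obtain ⟨k, hk⟩ := (hH2.to_le hZH).exists_card_eq
      rw [Nat.card_congr (Subgroup.subgroupOfEquivOfLe hZD).toEquiv, hk]
      exact hidx.symm.pow_left k
    obtain ⟨C, hC⟩ := Subgroup.exists_right_complement'_of_coprime hcard
    have hcomm : ∀ z : D, z ∈ Z' → ∀ d : D, z * d = d * z := fun z hz d =>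
      Subtype.ext (Subgroup.mem_centralizer_iff.1 d.2.2 _ hz)
    have hCn : C.Normal := ⟨fun c hc d => by
      obtain ⟨⟨⟨z, hz⟩, ⟨c', hc'⟩⟩, e, -⟩ := hC.existsUnique d
      simp only at e
      rw [← e]
      have : z * c' * c * (z * c')⁻¹ = c' * c * c'⁻¹ := by
        calc z * c' * c * (z * c')⁻¹ = z * (c' * c * c'⁻¹) * z⁻¹ := by group
          _ = c' * c * c'⁻¹ := by rw [hcomm z hz, mul_inv_cancel_right]
      rw [this]
      exact mul_mem (mul_mem hc' hc) (inv_mem hc')⟩
    have hCcard : (Nat.card C).Coprime 2 := by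
      rw [← hC.symm.index_eq_card]; exact hidx
    have hC1 : C = ⊥ := le_bot_iff.1
      ((CfsgLib.PCore.le_pPrimeCore hCn hCcard).trans
        (CfsgLib.PCore.pPrimeCore_eq_bot_of_normal D hO).le)
    intro d hd
    obtain ⟨⟨⟨z, hz⟩, ⟨c', hc'⟩⟩, e, -⟩ := hC.existsUnique (⟨d, hd⟩ : D)
    rw [hC1, SetLike.mem_coe, Subgroup.mem_bot] at hc'
    simp only [hc', mul_one] at e
    rw [show d = (z : G) from (congrArg Subtype.val e).symm]
    exact hz
  have hLN : L ≤ Subgroup.normalizer (H : Set G) := by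
    intro l hl
    refine Subgroup.mem_normalizer_fintype fun h hh => ?_
    have hM : Subgroup.normalClosure (H : Set G) ≤ Subgroup.centralizer (Z : Set G) := hcent
    have hhM : h ∈ Subgroup.normalClosure (H : Set G) := Subgroup.subset_normalClosure hh
    have h1 : l * h * l⁻¹ * h⁻¹ ∈ D := by
      refine ⟨?_, hM (mul_mem (Subgroup.normalClosure_normal.conj_mem h hhM l) (inv_mem hhM))⟩
      rw [show l * h * l⁻¹ * h⁻¹ = l * (h * l⁻¹ * h⁻¹) by group]
      exact mul_mem hl ((inferInstance : L.Normal).conj_mem _ (inv_mem hl) h)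
    have := H.mul_mem (hZH (hDZ h1)) hh
    rwa [inv_mul_cancel_right] at this
  exact top_le_iff.1 (hNL ▸ sup_le le_rfl hLN)

/-- The main step: with trivial odd core and no involution of `H` central, the normal closure of
`H` centralises the involutions of `H`, which form a normal subset. -/
theorem normalClosure_commute (hH2 : IsPGroup 2 H) (hab : IsMulCommutative H)
    (hcl : Cfsg.IsExtremelyClosed H) (hO : Cfsg.pPrimeCore 2 G = ⊥)
    (hloc : ∀ a ∈ H, a * a = 1 → a ≠ 1 →
      Subgroup.normalizer ((H.subgroupOf (Subgroup.centralizer ({a} : Set G))) :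
          Set ↥(Subgroup.centralizer ({a} : Set G))) ⊔
        Cfsg.pPrimeCore 2 ↥(Subgroup.centralizer ({a} : Set G)) = ⊤)
    {a : G} (ha : a ∈ H) (ha2 : a * a = 1) :
    (∀ m ∈ Subgroup.normalClosure (H : Set G), m * a = a * m) ∧ ∀ g : G, g * a * g⁻¹ ∈ H := by
  have hHle := le_preserving (H := H) hab
  have hpair : ∀ g, pair H g ≤ preserving H := by
    intro g
    obtain ⟨R, hRK, hKR, hR, hdis, hsup⟩ := exists_odd_complement hH2 hab hcl g
    rw [← hsup]
    refine sup_le hHle ?_
    by_cases htwo : ∃ x ∈ H, x * x = 1 ∧ x ≠ 1 ∧ ∃ y ∈ H, y * y = 1 ∧ y ≠ 1 ∧ x ≠ y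
    · obtain ⟨x, hx, hx2, hx1, y, hy, hy2, hy1, hxy⟩ := htwo
      have hcm : x * y = y * x := congrArg Subtype.val (hab.is_comm.comm ⟨x, hx⟩ ⟨y, hy⟩)
      have hxy2 : x * y * (x * y) = 1 := by
        calc x * y * (x * y) = x * y * (y * x) := by rw [hcm]
          _ = x * (y * y) * x := by group
          _ = 1 := by rw [hy2, mul_one, hx2]
      have hxy1 : x * y ≠ 1 := fun e => hxy (by
        calc x = x * (y * y) := by rw [hy2, mul_one]
          _ = (x * y) * y := by group
          _ = y := by rw [e, one_mul])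
      have hn : ∀ z ∈ H, z * z = 1 → ∀ w ∈ R, z * w * z ∈ R := fun z hz hz2 w hw => by
        have := (Subgroup.mem_normalizer_iff.1 (hKR (hsup ▸ Subgroup.mem_sup_left hz)) w).1 hw
        rwa [inv_eq_of_mul_eq_one_right hz2] at this
      have hfix : ∀ z ∈ H, z * z = 1 → z ≠ 1 → ∀ w ∈ R, z * w * z = w → w ∈ preserving H := by
        intro z hz hz2 hz1 w hw hzw
        set C := Subgroup.centralizer ({z} : Set G) with hC
        have hHC : H ≤ C := fun v hv => Subgroup.mem_centralizer_singleton_iff.2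
          (congrArg Subtype.val (hab.is_comm.comm ⟨v, hv⟩ ⟨z, hz⟩))
        have hwC : w ∈ C := Subgroup.mem_centralizer_singleton_iff.2 (by
          calc w * z = z * w * z * z := by rw [hzw]
            _ = z * w * (z * z) := by group
            _ = z * w := by rw [hz2, mul_one])
        haveI := Cfsg.pPrimeCore_normal 2 ↥C
        set O := (Cfsg.pPrimeCore 2 ↥C).map C.subtype with hO'
        have hCO : C ≤ Subgroup.normalizer (O : Set G) := by
          refine (Subgroup.normal_subgroupOf_iff_le_normalizer (Subgroup.map_subtype_le _)).1 ?_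
          rw [Subgroup.subgroupOf, Subgroup.comap_map_eq_self_of_injective C.subtype_injective]
          exact Cfsg.pPrimeCore_normal 2 _
        have hmem : w ∈ H ⊔ O := by
          refine mem_sup_of_conj hH2 (K := pair H g ⊓ C) (le_inf le_sup_left hHC) ?_ ?_
            (inf_le_right.trans hCO) ⟨hRK hw, hwC⟩ ?_
          · rintro v ⟨⟨hv, -⟩, hvN⟩
            exact (hcl g).le ⟨hv, hvN⟩
          · rw [hO', Subgroup.card_subtype]; exact CfsgLib.PCore.pPrimeCore_coprime
          · intro v hv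
            have hwtop : (⟨w, hwC⟩ : C) ∈ Subgroup.normalizer ((H.subgroupOf C) : Set ↥C) ⊔
                Cfsg.pPrimeCore 2 ↥C := by rw [hloc z hz hz2 hz1]; trivial
            rw [← SetLike.mem_coe, Subgroup.mul_normal] at hwtop
            obtain ⟨n, hn', o, ho, hno⟩ := Set.mem_mul.1 hwtop
            have hv' := (Subgroup.mem_normalizer_iff.1 hn' ⟨v, hHC hv⟩).1 hv
            refine ⟨_, hv', ?_⟩
            refine ⟨(n * ⟨v, hHC hv⟩ * n⁻¹)⁻¹ * ((n * o) * ⟨v, hHC hv⟩ * (n * o)⁻¹), ?_, ?_⟩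
            · have e : (n * ⟨v, hHC hv⟩ * n⁻¹)⁻¹ * ((n * o) * ⟨v, hHC hv⟩ * (n * o)⁻¹) =
                  n * ((⟨v, hHC hv⟩ : C)⁻¹ * o * ⟨v, hHC hv⟩ * o⁻¹) * n⁻¹ := by group
              rw [e]
              refine (inferInstance : (Cfsg.pPrimeCore 2 ↥C).Normal).conj_mem _ (mul_mem ?_ (inv_mem ho)) n
              simpa using (inferInstance : (Cfsg.pPrimeCore 2 ↥C).Normal).conj_mem o ho
                (⟨v, hHC hv⟩ : C)⁻¹
            · rw [show n * o = (⟨w, hwC⟩ : C) from hno]
              rfl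
        exact sup_le hHle (core_centralizer_le_preserving hH2 hab hcl hz hz2) hmem
      exact CfsgLib.RankOneInvol.le_of_fourGroup_fixed hR hx2 hy2 hcm (hn x hx hx2) (hn y hy hy2)
        (hfix x hx hx2 hx1) (hfix y hy hy2 hy1) (hfix _ (H.mul_mem hx hy) hxy2 hxy1)
    · push Not at htwo
      intro c _ y h hy hh h2 ho
      obtain ⟨g', hy'K⟩ := (hy.conj c).mem_pair
      obtain ⟨h', hh', h'2, ho'⟩ := proj_exists hH2 hab hcl hy'K (hy.conj c).sq
      suffices h = h' by rw [this]; exact ho'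
      by_cases h1 : h = 1
      · subst h1
        rw [one_mul] at ho
        have y1 : y = 1 := CfsgLib.RankOneInvol.eq_one_of_sq_of_odd ho hy.sq
        subst y1
        rw [mul_one, mul_inv_cancel, mul_one] at ho'
        exact (CfsgLib.RankOneInvol.eq_one_of_sq_of_odd ho' h'2).symm
      · by_contra hne
        have h'1 : h' = 1 := by
          by_contra h'1
          exact hne (htwo h hh h2 h1 h' hh' h'2 h'1)
        subst h'1
        rw [one_mul] at ho'
        have y1 := CfsgLib.RankOneInvol.eq_one_of_sq_of_odd ho' (hy.conj c).sq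
        rw [conj_eq_one_iff] at y1
        subst y1
        rw [mul_one] at ho
        exact h1 (CfsgLib.RankOneInvol.eq_one_of_sq_of_odd ho h2)
  have hM : Subgroup.normalClosure (H : Set G) ≤ preserving H := by
    rw [Subgroup.normalClosure, Subgroup.closure_le]
    intro z hz
    obtain ⟨x, hx, hxz⟩ := Group.mem_conjugatesOfSet_iff.1 hz
    obtain ⟨g, rfl⟩ := isConj_iff.1 hxz
    exact hpair g (conj_mem_pair g hx)
  have hone : Odd (orderOf (a * a)) := by rw [ha2, orderOf_one]; exact odd_one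
  have hproj : ∀ m ∈ Subgroup.normalClosure (H : Set G), Odd (orderOf (a * (m * a * m⁻¹))) :=
    fun m hm => hM hm a a ⟨1, a, ha, ha2, by group⟩ ha ha2 hone
  set M := Subgroup.normalClosure (H : Set G) with hMdef
  have haM : a ∈ M := Subgroup.subset_normalClosure ha
  have comm : ∀ m ∈ M, m * a = a * m := by
    intro m hm
    rcases eq_or_ne a 1 with rfl | ha1
    · simp
    have hord : orderOf (⟨a, haM⟩ : M) = 2 := by
      rw [← Subgroup.orderOf_coe]
      exact orderOf_eq_prime (by rw [pow_two]; exact ha2) ha1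
    have hiso : Cfsg.IsIsolatedInvolution (⟨a, haM⟩ : M) := by
      refine ⟨hord, fun x hx => Subtype.ext ?_⟩
      have h1 := hproj (x : G) x.2
      have hx' : Commute a ((x : G) * a * (x : G)⁻¹) := congrArg Subtype.val hx
      have h2 : a * ((x : G) * a * (x : G)⁻¹) * (a * ((x : G) * a * (x : G)⁻¹)) = 1 := by
        rw [hx'.symm.mul_mul_mul_comm, ha2, one_mul]
        calc (x : G) * a * (x : G)⁻¹ * ((x : G) * a * (x : G)⁻¹) = (x : G) * (a * a) * (x : G)⁻¹ := by
              group
          _ = 1 := by rw [ha2]; group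
      have h3 := CfsgLib.RankOneInvol.eq_one_of_sq_of_odd h1 h2
      exact (eq_inv_of_mul_eq_one_right h3).trans (inv_eq_of_mul_eq_one_right ha2)
    haveI : M.Normal := Subgroup.normalClosure_normal
    have h1 := CfsgLib.Involutions.zstar _ _ hiso ⟨m, hm⟩
    rw [CfsgLib.PCore.pPrimeCore_eq_bot_of_normal M hO, Subgroup.mem_bot] at h1
    have h2 : m * a * m⁻¹ * a⁻¹ = 1 := congrArg Subtype.val h1
    rw [mul_inv_eq_one, mul_inv_eq_iff_eq_mul] at h2
    exact h2
  refine ⟨comm, fun g => ?_⟩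
  have hgy : g * a * g⁻¹ ∈ pair H g := conj_mem_pair g ha
  have hy2 : (g * a * g⁻¹) * (g * a * g⁻¹) = 1 := IsConjInvol.sq ⟨g, a, ha, ha2, rfl⟩
  obtain ⟨h, hh, h2, ho⟩ := proj_exists hH2 hab hcl hgy hy2
  have hhM : h ∈ M := Subgroup.subset_normalClosure hh
  have hc : Commute h (g * a * g⁻¹) := by
    have e := comm _ (Subgroup.normalClosure_normal.conj_mem h hhM g⁻¹)
    rw [inv_inv] at e
    show h * (g * a * g⁻¹) = g * a * g⁻¹ * h
    calc h * (g * a * g⁻¹) = g * (g⁻¹ * h * g * a) * g⁻¹ := by group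
      _ = g * (a * (g⁻¹ * h * g)) * g⁻¹ := by rw [e]
      _ = g * a * g⁻¹ * h := by group
  have h3 : h * (g * a * g⁻¹) * (h * (g * a * g⁻¹)) = 1 := by
    rw [hc.symm.mul_mul_mul_comm, h2, hy2, one_mul]
  have h4 := CfsgLib.RankOneInvol.eq_one_of_sq_of_odd ho h3
  rw [eq_inv_of_mul_eq_one_right h4]
  exact inv_mem hh

/-- `G = N(H) O(G)` for an extremely closed abelian 2-subgroup `H`. -/
theorem factorization : ∀ (G : Type u) [Group G] [Finite G] (H : Subgroup G), IsPGroup 2 H →
    IsMulCommutative H → Cfsg.IsExtremelyClosed H →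
    Subgroup.normalizer (H : Set G) ⊔ Cfsg.pPrimeCore 2 G = ⊤ := by
  suffices h : ∀ (n : ℕ) (G : Type u) [Group G] [Finite G], Nat.card G = n → ∀ H : Subgroup G,
      IsPGroup 2 H → IsMulCommutative H → Cfsg.IsExtremelyClosed H →
      Subgroup.normalizer (H : Set G) ⊔ Cfsg.pPrimeCore 2 G = ⊤ from
    fun G _ _ H h1 h2 h3 => h _ G rfl H h1 h2 h3
  intro n
  induction n using Nat.strong_induction_on with
  | _ n ih =>
    intro G _ _ hn H hH2 hab hcl
    haveI := Cfsg.pPrimeCore_normal 2 G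
    by_cases hO : Cfsg.pPrimeCore 2 G = ⊥
    swap
    · -- pass to `G ⧸ O(G)`
      set O := Cfsg.pPrimeCore 2 G with hOdef
      have hOcop : (Nat.card O).Coprime 2 := CfsgLib.PCore.pPrimeCore_coprime
      set f := QuotientGroup.mk' O with hf
      have hfs := QuotientGroup.mk'_surjective O
      have hcl' : Cfsg.IsExtremelyClosed (H.map f) := by
        refine map_extremelyClosed f hfs hcl fun g k hk hkN => ?_
        have hmem : k ∈ H ⊔ O := by
          refine mem_sup_of_conj hH2 le_sup_left (hcl g).le hOcop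
            ((Subgroup.normalizer_eq_top O).symm ▸ le_top) hk fun y hy => ?_
          obtain ⟨y', hy', e⟩ := (Subgroup.mem_normalizer_iff.1 hkN (f y)).1 ⟨y, hy, rfl⟩
          exact ⟨y', hy', (QuotientGroup.eq).1 (by simpa [hf] using e)⟩
        have := Subgroup.mem_map_of_mem f hmem
        rwa [Subgroup.map_sup, QuotientGroup.map_mk'_self, sup_bot_eq] at this
      have hlt : Nat.card (G ⧸ O) < n := by
        rw [← hn, Subgroup.card_eq_card_quotient_mul_card_subgroup O]
        exact lt_mul_of_one_lt_right Nat.card_pos (by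
          rwa [Finite.one_lt_card_iff_nontrivial, Subgroup.nontrivial_iff_ne_bot])
      have h1 := ih _ hlt (G ⧸ O) rfl (H.map f) (hH2.map f)
        (Subgroup.map_isMulCommutative H f) hcl'
      rw [show Cfsg.pPrimeCore 2 (G ⧸ O) = ⊥ from
        CfsgLib.PCore.pPrimeCore_quotient_pPrimeCore, sup_bot_eq] at h1
      refine top_le_iff.1 fun x _ => ?_
      have hx : f x ∈ Subgroup.normalizer ((H.map f : Subgroup (G ⧸ O)) : Set (G ⧸ O)) := by
        rw [h1]; trivial
      obtain ⟨o, ho, hox⟩ := CfsgLib.PLocal.exists_mul_mem_normalizer hOcop hH2 (x := x)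
        fun y hy => by
          have := (Subgroup.mem_normalizer_iff.1 hx (f y)).1 ⟨y, hy, rfl⟩
          simpa [hf] using this
      rw [show x = o⁻¹ * (o * x) by group]
      exact mul_mem (Subgroup.mem_sup_right (inv_mem ho)) (Subgroup.mem_sup_left hox)
    rw [hO, sup_bot_eq]
    rcases eq_or_ne H ⊥ with rfl | hH1
    · exact Subgroup.normalizer_eq_top _
    -- the quotient step
    have finish : ∀ Z : Subgroup G, Z.Normal → Z ≤ H → Z ≠ ⊥ →
        Subgroup.normalClosure (H : Set G) ≤ Subgroup.centralizer (Z : Set G) →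
        Subgroup.normalizer (H : Set G) = ⊤ := by
      intro Z hZn hZH hZ1 hcent
      have hcl' : Cfsg.IsExtremelyClosed (H.map (QuotientGroup.mk' Z)) := by
        refine map_extremelyClosed _ (QuotientGroup.mk'_surjective Z) hcl fun g k hk hkN => ?_
        refine Subgroup.mem_map_of_mem _ ((hcl g).le ⟨hk, ?_⟩)
        have h := Subgroup.comap_normalizer_eq_of_surjective (H.map (QuotientGroup.mk' Z))
          (QuotientGroup.mk'_surjective Z)
        rw [QuotientGroup.comap_map_mk', sup_eq_right.2 hZH] at h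
        rw [← h]
        exact hkN
      have hlt : Nat.card (G ⧸ Z) < n := by
        rw [← hn, Subgroup.card_eq_card_quotient_mul_card_subgroup Z]
        exact lt_mul_of_one_lt_right Nat.card_pos (by
          rwa [Finite.one_lt_card_iff_nontrivial, Subgroup.nontrivial_iff_ne_bot])
      exact normalizer_eq_top_of_quotient hH2 hO Z hZH hcent
        (ih _ hlt (G ⧸ Z) rfl _ (hH2.map _) (Subgroup.map_isMulCommutative H _) hcl')
    by_cases hcen : ∃ a ∈ H, a * a = 1 ∧ a ≠ 1 ∧ ∀ g : G, g * a = a * g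
    · obtain ⟨a, ha, -, ha1, hac⟩ := hcen
      have hzc : Subgroup.zpowers a ≤ Subgroup.center G :=
        Subgroup.zpowers_le.2 (Subgroup.mem_center_iff.2 hac)
      refine finish (Subgroup.zpowers a) ⟨fun z hz g => ?_⟩ (Subgroup.zpowers_le.2 ha)
        (by simpa using ha1) (fun m _ => Subgroup.mem_centralizer_iff.2 fun z hz =>
          (Subgroup.mem_center_iff.1 (hzc hz) m).symm)
      rw [Subgroup.mem_center_iff.1 (hzc hz) g, mul_inv_cancel_right]
      exact hz
    have hloc : ∀ a ∈ H, a * a = 1 → a ≠ 1 →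
        Subgroup.normalizer ((H.subgroupOf (Subgroup.centralizer ({a} : Set G))) :
            Set ↥(Subgroup.centralizer ({a} : Set G))) ⊔
          Cfsg.pPrimeCore 2 ↥(Subgroup.centralizer ({a} : Set G)) = ⊤ := by
      intro a ha ha2 ha1
      have hHC : H ≤ Subgroup.centralizer ({a} : Set G) := fun v hv =>
        Subgroup.mem_centralizer_singleton_iff.2
          (congrArg Subtype.val (hab.is_comm.comm ⟨v, hv⟩ ⟨a, ha⟩))
      have hne : Subgroup.centralizer ({a} : Set G) ≠ ⊤ := fun e => hcen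
        ⟨a, ha, ha2, ha1, fun g => Subgroup.mem_centralizer_singleton_iff.1 (by rw [e]; trivial)⟩
      have hlt : Nat.card ↥(Subgroup.centralizer ({a} : Set G)) < n :=
        hn ▸ lt_of_le_of_ne (Subgroup.card_le_card_group _) (fun e => hne
          (Subgroup.eq_top_of_card_eq _ e))
      exact ih _ hlt _ rfl _ hH2.comap_subtype
        (by haveI := hab; exact Subgroup.subgroupOf_isMulCommutative _ H)
        (subgroupOf_extremelyClosed hcl hHC)
    have key := fun a (ha : a ∈ H) (ha2 : a * a = 1) =>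
      normalClosure_commute hH2 hab hcl hO hloc ha ha2
    let Z : Subgroup G :=
      { carrier := {a | a ∈ H ∧ a * a = 1}
        mul_mem' := fun {a b} ha hb => ⟨mul_mem ha.1 hb.1, by
          have hc : Commute a b := congrArg Subtype.val (hab.is_comm.comm ⟨a, ha.1⟩ ⟨b, hb.1⟩)
          rw [hc.symm.mul_mul_mul_comm, ha.2, hb.2, one_mul]⟩
        one_mem' := ⟨one_mem _, one_mul _⟩
        inv_mem' := fun {a} ha => ⟨inv_mem ha.1, by rw [← mul_inv_rev, ha.2, inv_one]⟩ }
    refine finish Z ⟨fun a ha g => ⟨(key a ha.1 ha.2).2 g,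
      IsConjInvol.sq ⟨g, a, ha.1, ha.2, rfl⟩⟩⟩ (fun a ha => ha.1) ?_
      (fun m hm => Subgroup.mem_centralizer_iff.2 fun a ha => ((key a ha.1 ha.2).1 m hm).symm)
    intro hbot
    obtain ⟨k, hk⟩ := hH2.exists_card_eq
    have h2 : 2 ∣ Nat.card H := by
      rcases k with _ | k
      · rw [pow_zero] at hk
        exact absurd (Subgroup.eq_bot_of_card_eq H hk) hH1
      · exact hk ▸ dvd_pow_self 2 k.succ_ne_zero
    obtain ⟨x, hx⟩ := exists_prime_orderOf_dvd_card' (G := H) 2 h2
    have hxZ : (x : G) ∈ Z := ⟨x.2, by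
      have := pow_orderOf_eq_one x
      rw [hx, pow_two] at this
      exact congrArg Subtype.val this⟩
    rw [hbot, Subgroup.mem_bot] at hxZ
    rw [OneMemClass.coe_eq_one.1 hxZ, orderOf_one] at hx
    omega

end CfsgLib.LocalEven.ExtremelyClosed
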