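import Cfsg.Agent.Lib.LocalEven.GlaubermanWeakNoTransvection
import Cfsg.Agent.Lib.PGroup.Frattini
import Mathlib.Algebra.BigOperators.Intervals

/-!
The norm argument over the cosets of a Sylow subgroup: an element of a normal abelian `p`-subgroup
`W` centralized by the normalizer of the subgroup generated by the minimal offenders on `W` in a
Sylow subgroup is central.
-/

set_option autoImplicit false
set_option linter.unusedSectionVars false

open Subgroup MulAction
open scoped IsMulCommutative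

namespace CfsgLib.LocalEven.GlaubermanWeak

variable {G : Type*} [Group G]

/-- `B` is a subgroup of `S` acting non-trivially on `W` with `|W : C_W(B)| ≤ |B : C_B(W)|`. -/
def IsOff (W S B : Subgroup G) : Prop :=
  B ≤ S ∧ ¬ B ≤ centralizer (W : Set G) ∧
    Nat.card W * Nat.card (B ⊓ centralizer (W : Set G) : Subgroup G) ≤
      Nat.card B * Nat.card (W ⊓ centralizer (B : Set G) : Subgroup G)

/-- A minimal offender. -/
def IsMinOff (W S B : Subgroup G) : Prop :=
  IsOff W S B ∧ ∀ B' : Subgroup G, B' ≤ B → IsOff W S B' → B' = B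

/-- The subgroup generated by the minimal offenders on `W` in `S`. -/
def minOffSup (W S : Subgroup G) : Subgroup G := sSup {B | IsMinOff W S B}

theorem minOffSup_le (W S : Subgroup G) : minOffSup W S ≤ S := sSup_le fun _ hB => hB.1.1

theorem exists_isMinOff [Finite G] {W S A : Subgroup G} (hA : IsOff W S A) :
    ∃ B : Subgroup G, B ≤ A ∧ IsMinOff W S B := by
  obtain ⟨B, ⟨hB, hBA⟩, hmin⟩ := Set.exists_min_image {B : Subgroup G | IsOff W S B ∧ B ≤ A}
    (fun B => Nat.card B) (Set.toFinite _) ⟨A, hA, le_rfl⟩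
  exact ⟨B, hBA, hB, fun B' hle hB' =>
    eq_of_le_of_card_ge hle (hmin B' ⟨hB', hle.trans hBA⟩)⟩

theorem IsMinOff.le_minOffSup {W S B : Subgroup G} (hB : IsMinOff W S B) :
    B ≤ minOffSup W S :=
  le_sSup (show B ∈ {B | IsMinOff W S B} from hB)

theorem not_minOffSup_le_centralizer [Finite G] {W S A : Subgroup G} (hA : IsOff W S A) :
    ¬ minOffSup W S ≤ centralizer (W : Set G) := by
  obtain ⟨B, -, hB⟩ := exists_isMinOff hA
  exact fun h => hB.1.2.1 (hB.le_minOffSup.trans h)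

theorem map_conj_inf_centralizer [Finite G] (W : Subgroup G) [W.Normal] (B : Subgroup G) (g : G) :
    (W ⊓ centralizer (B : Set G)).map (MulAut.conj g).toMonoidHom =
      W ⊓ centralizer ((B.map (MulAut.conj g).toMonoidHom : Subgroup G) : Set G) := by
  ext x
  simp only [CfsgLib.Techniques.mem_map_conj, mem_inf, mem_centralizer_iff, SetLike.mem_coe]
  constructor
  · rintro ⟨hx, hc⟩
    refine ⟨?_, fun y hy => ?_⟩
    · have := Normal.conj_mem (inferInstance : W.Normal) _ hx g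
      simpa [mul_assoc] using this
    · have := hc _ hy
      calc y * x = g * (g⁻¹ * y * g * (g⁻¹ * x * g)) * g⁻¹ := by group
        _ = g * (g⁻¹ * x * g * (g⁻¹ * y * g)) * g⁻¹ := by rw [this]
        _ = x * y := by group
  · rintro ⟨hx, hc⟩
    refine ⟨Normal.conj_mem' inferInstance x hx g, fun y hy => ?_⟩
    have := hc (g * y * g⁻¹) (by simpa [mul_assoc] using hy)
    calc y * (g⁻¹ * x * g) = g⁻¹ * (g * y * g⁻¹ * x) * g := by group
      _ = g⁻¹ * (x * (g * y * g⁻¹)) * g := by rw [this]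
      _ = g⁻¹ * x * g * y := by group

theorem IsOff.map_conj [Finite G] {W S B : Subgroup G} [W.Normal] (hB : IsOff W S B) {g : G}
    (hle : B.map (MulAut.conj g).toMonoidHom ≤ S) :
    IsOff W S (B.map (MulAut.conj g).toMonoidHom) := by
  have hC : (centralizer (W : Set G)).map (MulAut.conj g).toMonoidHom = centralizer (W : Set G) :=
    CfsgLib.Techniques.map_conj_eq_self_iff.2
      (by rw [normalizer_eq_top]; exact mem_top g)
  refine ⟨hle, fun h => hB.2.1 fun b hb => ?_, ?_⟩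
  · have h1 := h (CfsgLib.Techniques.conj_mem_map_conj g hb)
    have := Normal.conj_mem' (inferInstance : (centralizer (W : Set G)).Normal) _ h1 g
    simpa [mul_assoc] using this
  · have h2 := hB.2.2
    rwa [← map_conj_inf_centralizer, CfsgLib.Techniques.card_map_conj,
      CfsgLib.Techniques.card_map_conj, ← hC, ← map_inf _ _ _ (MulAut.conj g).injective,
      CfsgLib.Techniques.card_map_conj]

theorem IsMinOff.map_conj [Finite G] {W S B : Subgroup G} [W.Normal] (hB : IsMinOff W S B) {g : G}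
    (hle : B.map (MulAut.conj g).toMonoidHom ≤ S) :
    IsMinOff W S (B.map (MulAut.conj g).toMonoidHom) := by
  refine ⟨hB.1.map_conj hle, fun B' hB' hoff => ?_⟩
  have h1 : B'.map (MulAut.conj g⁻¹).toMonoidHom ≤ B := by
    have := Subgroup.map_mono (f := (MulAut.conj g⁻¹).toMonoidHom) hB'
    rwa [← CfsgLib.Techniques.map_conj_mul, inv_mul_cancel, CfsgLib.Techniques.map_conj_one] at this
  have h2 := hB.2 _ h1 (hoff.map_conj (h1.trans hB.1.1))
  rw [← h2, ← CfsgLib.Techniques.map_conj_mul, mul_inv_cancel, CfsgLib.Techniques.map_conj_one]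

theorem mem_normalizer_minOffSup [Finite G] {W S : Subgroup G} [W.Normal] {g : G}
    (hle : (minOffSup W S).map (MulAut.conj g).toMonoidHom ≤ S) :
    g ∈ normalizer (minOffSup W S : Set G) := by
  rw [← CfsgLib.Techniques.map_conj_eq_self_iff]
  refine eq_of_le_of_card_ge ?_ (CfsgLib.Techniques.card_map_conj _ g).ge
  rw [map_le_iff_le_comap]
  refine sSup_le fun B hB => ?_
  rw [← map_le_iff_le_comap]
  exact IsMinOff.le_minOffSup (hB.map_conj ((Subgroup.map_mono (show IsMinOff W S B from hB).le_minOffSup).trans hle))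

theorem le_normalizer_minOffSup [Finite G] (W S : Subgroup G) [W.Normal] :
    S ≤ normalizer (minOffSup W S : Set G) := fun s hs => by
  refine mem_normalizer_minOffSup ?_
  rintro _ ⟨x, hx, rfl⟩
  exact S.mul_mem (S.mul_mem hs (minOffSup_le W S hx)) (S.inv_mem hs)

/-- A subgroup of index `p` of a `p`-group above a given proper subgroup, with representatives. -/
theorem exists_index_prime [Finite G] {p : ℕ} [Fact p.Prime] {P H : Subgroup G} (hP : IsPGroup p P)
    (hH : H ≤ P) (hne : H ≠ P) :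
    ∃ R : Subgroup G, H ≤ R ∧ R < P ∧ (∀ a ∈ P, ∀ r ∈ R, a * r * a⁻¹ ∈ R) ∧
      ∀ a ∈ P, a ∉ R → (∀ i : ℕ, a ^ i ∈ R → p ∣ i) ∧
        ∀ x ∈ P, ∃ i < p, ∃ r ∈ R, a ^ i * r = x := by
  have h1 : H.subgroupOf P ≠ ⊤ := fun e => hne (le_antisymm hH (subgroupOf_eq_top.1 e))
  obtain ⟨M, hM, hHM⟩ := (eq_top_or_exists_le_coatom (H.subgroupOf P)).resolve_left h1
  haveI := CfsgLib.PGroup.normal_of_isCoatom hP hM
  have hidx := CfsgLib.PGroup.index_of_isCoatom hP hM
  have hmem : ∀ {x : G} (hx : x ∈ P), x ∈ M.map P.subtype ↔ (⟨x, hx⟩ : ↥P) ∈ M := by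
    intro x hx
    exact ⟨fun ⟨y, hy, e⟩ => by
      have : y = ⟨x, hx⟩ := Subtype.ext e
      exact this ▸ hy, fun h => ⟨⟨x, hx⟩, h, rfl⟩⟩
  refine ⟨M.map P.subtype, fun h hh => (hmem (hH hh)).2 (hHM hh),
    lt_of_le_of_ne (map_subtype_le M) fun e => hM.1 ?_, ?_, ?_⟩
  · exact eq_top_iff.2 fun x _ => (hmem x.2).1 (by rw [e]; exact x.2)
  · intro a ha r hr
    have hrP := map_subtype_le M hr
    exact (hmem (P.mul_mem (P.mul_mem ha hrP) (P.inv_mem ha))).2
      (Normal.conj_mem (inferInstance : M.Normal) (⟨r, hrP⟩ : ↥P) ((hmem hrP).1 hr) (⟨a, ha⟩ : ↥P))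
  intro a ha haR
  set π := QuotientGroup.mk' M
  have hπ : ∀ x : ↥P, π x = 1 ↔ x ∈ M := fun x => QuotientGroup.eq_one_iff x
  have hcard : Nat.card (↥P ⧸ M) = p := by rw [← index_eq_card]; exact hidx
  have hne1 : π ⟨a, ha⟩ ≠ 1 := fun e => haR ((hmem ha).2 ((hπ _).1 e))
  have hord : orderOf (π ⟨a, ha⟩) = p :=
    orderOf_eq_prime (hcard ▸ pow_card_eq_one') hne1
  refine ⟨fun i hi => ?_, fun x hx => ?_⟩
  · rw [← hord, orderOf_dvd_iff_pow_eq_one, ← map_pow, hπ]
    exact (hmem (P.pow_mem ha i)).1 hi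
  · classical
    have h2 : π ⟨x, hx⟩ ∈ zpowers (π ⟨a, ha⟩) := by
      rw [zpowers_eq_top_of_prime_card hcard hne1]; exact mem_top _
    rw [mem_zpowers_iff_mem_range_orderOf, hord, Finset.mem_image] at h2
    obtain ⟨i, hi, he⟩ := h2
    refine ⟨i, Finset.mem_range.1 hi, (a ^ i)⁻¹ * x, ?_, mul_inv_cancel_left _ _⟩
    refine (hmem (P.mul_mem (P.inv_mem (P.pow_mem ha i)) hx)).2 ((hπ _).1 ?_)
    have e : (⟨(a ^ i)⁻¹ * x, P.mul_mem (P.inv_mem (P.pow_mem ha i)) hx⟩ : ↥P) =
        (⟨a, ha⟩ ^ i)⁻¹ * ⟨x, hx⟩ := Subtype.ext (by simp)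
    rw [e, map_mul, map_inv, map_pow, he, inv_mul_cancel]

section Core

variable [Finite G] {p : ℕ} [Fact p.Prime] (W : Subgroup G) [W.Normal] [IsMulCommutative W]

/-- Conjugation on `W`. -/
abbrev cj (g : G) : ↥W →* ↥W := (MulAut.conjNormal g).toMonoidHom

theorem cj_coe (g : G) (w : ↥W) : ((cj W g w : ↥W) : G) = g * w * g⁻¹ := MulAut.conjNormal_apply g w

theorem cj_mul (g h : G) (w : ↥W) : cj W (g * h) w = cj W g (cj W h w) :=
  Subtype.ext (by simp only [cj_coe]; group)

/-- The conjugate of `u` attached to a coset. -/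
noncomputable abbrev cosetConj (S : Subgroup G) (u : ↥W) (ω : G ⧸ S) : ↥W := cj W ω.out u

theorem cosetConj_smul {S : Subgroup G} {u : ↥W} (hu : ∀ s ∈ S, cj W s u = u) (g : G)
    (ω : G ⧸ S) : cosetConj W S u (g • ω) = cj W g (cosetConj W S u ω) := by
  induction ω using QuotientGroup.induction_on with
  | H x =>
    obtain ⟨s, hs⟩ := QuotientGroup.mk_out_eq_mul S x
    obtain ⟨t, ht⟩ := QuotientGroup.mk_out_eq_mul S (g * x)
    show cj W ((g * x : G) : G ⧸ S).out u = cj W g (cj W (x : G ⧸ S).out u)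
    rw [hs, ht, cj_mul, cj_mul, hu _ t.2, cj_mul, hu _ s.2, ← cj_mul]

open Classical in
/-- The orbit of a coset under a subgroup. -/
noncomputable def orb {S : Subgroup G} (R : Subgroup G) (ω : G ⧸ S) : Finset (G ⧸ S) :=
  haveI := Fintype.ofFinite (G ⧸ S)
  Finset.univ.filter fun ω' => ∃ r ∈ R, r • ω = ω'

theorem mem_orb {S R : Subgroup G} {ω ω' : G ⧸ S} : ω' ∈ orb R ω ↔ ∃ r ∈ R, r • ω = ω' := by
  simp [orb]

theorem orb_prod_fixed {S : Subgroup G} {u : ↥W} (hu : ∀ s ∈ S, cj W s u = u) (R : Subgroup G)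
    (ω : G ⧸ S) {r : G} (hr : r ∈ R) :
    cj W r (∏ ω' ∈ orb R ω, cosetConj W S u ω') = ∏ ω' ∈ orb R ω, cosetConj W S u ω' := by
  classical
  rw [map_prod]
  refine Finset.prod_nbij' (fun ω' => r • ω') (fun ω' => r⁻¹ • ω') ?_ ?_ ?_ ?_ ?_
  · intro ω' h
    obtain ⟨t, ht, rfl⟩ := mem_orb.1 h
    exact mem_orb.2 ⟨r * t, R.mul_mem hr ht, mul_smul r t ω⟩
  · intro ω' h
    obtain ⟨t, ht, rfl⟩ := mem_orb.1 h
    exact mem_orb.2 ⟨r⁻¹ * t, R.mul_mem (R.inv_mem hr) ht, mul_smul r⁻¹ t ω⟩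
  · intro ω' _; exact inv_smul_smul r ω'
  · intro ω' _; exact smul_inv_smul r ω'
  · intro ω' _; exact (cosetConj_smul W hu r ω').symm

variable (S : Sylow p G)

/-- The crucial step: the norm over an orbit which is moved by the minimal offenders gains a
`p`-th power. -/
theorem orb_prod_pow_mem (hWp : IsPGroup p W) (q d : ℕ) {u : ↥W}
    (hu : ∀ s ∈ (S : Subgroup G), cj W s u = u) (hd : ∃ y : ↥W, y ^ p ^ d = u ^ q)
    (hexc : ∀ a ∈ (S : Subgroup G), a ∉ centralizer (W : Set G) →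
      (W ⊓ centralizer ({a} : Set G)).relIndex W ≤ p →
      ∀ w : ↥W, (commHom W a (w ^ q)) ^ ∑ i ∈ Finset.range p, i = 1) :
    ∀ (R' : Subgroup G), R' ≤ S → minOffSup W S ≤ R' → ∀ ω : G ⧸ (S : Subgroup G),
      ¬ minOffSup W S ≤ stabilizer G ω →
      ∃ y : ↥W, y ^ p ^ (d + 1) = (∏ ω' ∈ orb R' ω, cosetConj W S u ω') ^ q := by
  classical
  intro R'
  induction R' using WellFoundedLT.induction with
  | _ R' ih =>
  intro hR'S hJR' ω hω
  set J := minOffSup W (S : Subgroup G) with hJ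
  obtain ⟨R, hstab, hRR', hRn, hrep⟩ := exists_index_prime (p := p) (S.2.to_le hR'S)
    (inf_le_left : R' ⊓ stabilizer G ω ≤ R')
    (fun e => hω (hJR'.trans (inf_eq_left.1 e)))
  -- choose `a`
  obtain ⟨a, haR', haR, hcase⟩ : ∃ a ∈ R', a ∉ R ∧
      (J ≤ R ∨ ∃ B, IsMinOff W (S : Subgroup G) B ∧ B ≤ R' ∧ a ∈ B) := by
    by_cases hJR : J ≤ R
    · obtain ⟨a, ha, ha'⟩ := SetLike.exists_of_lt hRR'
      exact ⟨a, ha, ha', Or.inl hJR⟩
    · obtain ⟨B, hB, hBR⟩ : ∃ B, IsMinOff W (S : Subgroup G) B ∧ ¬ B ≤ R := by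
        by_contra! h
        exact hJR (sSup_le h)
      obtain ⟨a, ha, ha'⟩ := SetLike.not_le_iff_exists.1 hBR
      have hBR' : B ≤ R' := hB.le_minOffSup.trans hJR'
      exact ⟨a, hBR' ha, ha', Or.inr ⟨B, hB, hBR', ha⟩⟩
  obtain ⟨hdiv, hcov⟩ := hrep a haR' haR
  -- the orbit is cut in `p` pieces
  have hpiece : ∀ i : ℕ, orb R (a ^ i • ω) = (orb R ω).image (a ^ i • ·) := by
    intro i
    ext ω'
    rw [mem_orb, Finset.mem_image]
    constructor
    · rintro ⟨r, hr, rfl⟩
      refine ⟨((a ^ i)⁻¹ * r * a ^ i) • ω, mem_orb.2 ⟨_, ?_, rfl⟩, ?_⟩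
      · simpa using hRn _ (R'.inv_mem (R'.pow_mem haR' i)) r hr
      · simp only [← mul_smul]; group
    · rintro ⟨x, hx, rfl⟩
      obtain ⟨r, hr, rfl⟩ := mem_orb.1 hx
      refine ⟨a ^ i * r * (a ^ i)⁻¹, hRn _ (R'.pow_mem haR' i) r hr, ?_⟩
      simp only [← mul_smul]; group
  have hunion : orb R' ω = (Finset.range p).biUnion fun i => orb R (a ^ i • ω) := by
    ext ω'
    rw [mem_orb, Finset.mem_biUnion]
    constructor
    · rintro ⟨x, hx, rfl⟩
      obtain ⟨i, hi, r, hr, rfl⟩ := hcov x hx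
      refine ⟨i, Finset.mem_range.2 hi, ?_⟩
      rw [hpiece, Finset.mem_image]
      exact ⟨r • ω, mem_orb.2 ⟨r, hr, rfl⟩, (mul_smul _ _ _).symm⟩
    · rintro ⟨i, -, hi⟩
      obtain ⟨r, hr, rfl⟩ := mem_orb.1 hi
      exact ⟨r * a ^ i, R'.mul_mem (hRR'.le hr) (R'.pow_mem haR' i), mul_smul _ _ _⟩
  have hkey : ∀ i < p, ∀ j < p, i ≤ j → (∃ ω', ω' ∈ orb R (a ^ i • ω) ∧ ω' ∈ orb R (a ^ j • ω)) →
      i = j := by
    rintro i hi j hj hij ⟨ω', h1, h2⟩
    obtain ⟨r, hr, rfl⟩ := mem_orb.1 h1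
    obtain ⟨s, hs, hse⟩ := mem_orb.1 h2
    have hx : (r * a ^ i)⁻¹ * (s * a ^ j) ∈ stabilizer G ω := by
      rw [mem_stabilizer_iff, mul_smul, inv_smul_eq_iff, mul_smul, mul_smul, hse]
    have hxR : (r * a ^ i)⁻¹ * (s * a ^ j) ∈ R :=
      hstab ⟨R'.mul_mem (R'.inv_mem (R'.mul_mem (hRR'.le hr) (R'.pow_mem haR' i)))
        (R'.mul_mem (hRR'.le hs) (R'.pow_mem haR' j)), hx⟩
    have h3 : a ^ (j - i) ∈ R := by
      have h4 := hRn _ (R'.pow_mem haR' i) _ hxR
      have e : a ^ (j - i) =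
          (r⁻¹ * s)⁻¹ * (a ^ i * ((r * a ^ i)⁻¹ * (s * a ^ j)) * (a ^ i)⁻¹) := by
        have : a ^ j = a ^ (j - i) * a ^ i := by rw [← pow_add]; congr 1; omega
        rw [this]; group
      rw [e]
      exact R.mul_mem (R.inv_mem (R.mul_mem (R.inv_mem hr) hs)) h4
    rcases hdiv _ h3 with ⟨c, hc⟩
    rcases Nat.eq_zero_or_pos c with rfl | hc0
    · omega
    · have := Nat.le_mul_of_pos_right p hc0
      omega
  have hdisj : (↑(Finset.range p) : Set ℕ).PairwiseDisjoint fun i => orb R (a ^ i • ω) := by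
    intro i hi j hj hij
    rw [Function.onFun, Finset.disjoint_left]
    intro ω' h1 h2
    simp only [Finset.coe_range, Set.mem_Iio] at hi hj
    rcases le_total i j with h | h
    · exact hij (hkey i hi j hj h ⟨ω', h1, h2⟩)
    · exact hij (hkey j hj i hi h ⟨ω', h2, h1⟩).symm
  have hsplit : (∏ ω' ∈ orb R' ω, cosetConj W S u ω') ^ q =
      ∏ i ∈ Finset.range p, (∏ ω' ∈ orb R (a ^ i • ω), cosetConj W S u ω') ^ q := by
    rw [hunion, Finset.prod_biUnion hdisj, Finset.prod_pow]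
  rcases hcase with hJR | ⟨B, hB, hBR', haB⟩
  · have hp : ∀ i : ℕ, ∃ y : ↥W, y ^ p ^ (d + 1) =
        (∏ ω' ∈ orb R (a ^ i • ω), cosetConj W S u ω') ^ q := by
      intro i
      refine ih R hRR' (hRR'.le.trans hR'S) hJR _ fun h => hω fun j hj => ?_
      have h1 := h ((mem_set_normalizer_iff.1 (le_normalizer_minOffSup W (S : Subgroup G)
        (hR'S (R'.pow_mem haR' i))) j).1 hj)
      rw [mem_stabilizer_iff, mul_smul, mul_smul, inv_smul_smul] at h1
      exact mem_stabilizer_iff.2 (smul_left_cancel _ h1)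
    choose y hy using hp
    refine ⟨∏ i ∈ Finset.range p, y i, ?_⟩
    rw [hsplit, ← Finset.prod_pow]
    exact Finset.prod_congr rfl fun i _ => hy i
  -- a minimal offender moves `R`
  set T := ∏ ω' ∈ orb R ω, cosetConj W S u ω' with hT
  have hTfix : ∀ r ∈ R, cj W r T = T := fun r hr => orb_prod_fixed W hu R ω hr
  obtain ⟨v, hv⟩ : ∃ v : ↥W, v ^ p ^ d = T ^ q := by
    obtain ⟨y, hy⟩ := hd
    refine ⟨∏ ω' ∈ orb R ω, cj W ω'.out y, ?_⟩
    rw [hT, ← Finset.prod_pow, ← Finset.prod_pow]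
    exact Finset.prod_congr rfl fun ω' _ => by
      show _ = (cj W ω'.out u) ^ q
      rw [← map_pow, hy, map_pow]
  have hpieceprod : ∀ i : ℕ, ∏ ω' ∈ orb R (a ^ i • ω), cosetConj W S u ω' = cj W (a ^ i) T := by
    intro i
    rw [hpiece, Finset.prod_image fun x _ y _ h => smul_left_cancel _ h, hT, map_prod]
    exact Finset.prod_congr rfl fun x _ => cosetConj_smul W hu _ x
  simp only [hsplit, hpieceprod]
  set C := W ⊓ centralizer ((B ⊓ R : Subgroup G) : Set G) with hC
  have hTC : (T : G) ∈ C := by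
    refine ⟨T.2, mem_centralizer_iff.2 fun r hr => ?_⟩
    have := congrArg Subtype.val (hTfix r hr.2)
    rw [cj_coe] at this
    exact mul_inv_eq_iff_eq_mul.1 this
  by_cases hCB : C ≤ W ⊓ centralizer (B : Set G)
  · have haT : cj W a T = T := Subtype.ext (by
      rw [cj_coe, mul_inv_eq_iff_eq_mul]
      exact mem_centralizer_iff.1 (hCB hTC).2 a haB)
    have hai : ∀ i : ℕ, cj W (a ^ i) T = T := by
      intro i
      induction i with
      | zero => exact Subtype.ext (by rw [cj_coe]; simp)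
      | succ i ih' => rw [pow_succ, cj_mul, haT, ih']
    refine ⟨v, ?_⟩
    simp only [hai, Finset.prod_const, Finset.card_range]
    rw [pow_succ, pow_mul, hv]
  · -- then `a` is a transvection
    have hBp : IsPGroup p (B : Subgroup G) := S.2.to_le hB.1.1
    set D := W ⊓ centralizer (B : Set G) with hD
    have hDC : D ≤ C := inf_le_inf_left _ (centralizer_le fun x hx => hx.1)
    have hpC : p * Nat.card D ≤ Nat.card C := by
      obtain ⟨i, hi⟩ := IsPGroup.exists_card_eq (hWp.to_le (inf_le_left : D ≤ W))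
      obtain ⟨j, hj⟩ := IsPGroup.exists_card_eq (hWp.to_le (inf_le_left : C ≤ W))
      have hlt : Nat.card D < Nat.card C := by
        by_contra h
        exact hCB (eq_of_le_of_card_ge hDC (not_lt.1 h)).ge
      rw [hi, hj] at hlt ⊢
      have hij := (Nat.pow_lt_pow_iff_right (Fact.out : p.Prime).one_lt).1 hlt
      rw [← pow_succ']
      exact Nat.pow_le_pow_right (Fact.out : p.Prime).pos hij
    have hBcov : ∀ b ∈ B, ∃ i < p, ∃ r ∈ B ⊓ R, a ^ i * r = b := by
      intro b hb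
      obtain ⟨i, hi, r, hr, rfl⟩ := hcov b (hBR' hb)
      refine ⟨i, hi, r, ⟨?_, hr⟩, rfl⟩
      simpa using B.mul_mem (B.inv_mem (B.pow_mem haB i)) hb
    have hBcard : Nat.card B ≤ p * Nat.card (B ⊓ R : Subgroup G) := by
      have hsurj : Function.Surjective (fun x : Fin p × ↥(B ⊓ R : Subgroup G) =>
          (⟨a ^ (x.1 : ℕ) * x.2, B.mul_mem (B.pow_mem haB _) x.2.2.1⟩ : ↥B)) := by
        rintro ⟨b, hb⟩
        obtain ⟨i, hi, r, hr, rfl⟩ := hBcov b hb
        exact ⟨⟨⟨i, hi⟩, ⟨r, hr⟩⟩, rfl⟩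
      have := Nat.card_le_card_of_surjective _ hsurj
      rwa [Nat.card_prod, Nat.card_fin] at this
    have hBRC : B ⊓ R ≤ centralizer (W : Set G) := by
      by_contra hn
      have hoff : IsOff W (S : Subgroup G) (B ⊓ R) := by
        refine ⟨inf_le_left.trans hB.1.1, hn, ?_⟩
        calc Nat.card W * Nat.card ((B ⊓ R) ⊓ centralizer (W : Set G) : Subgroup G)
            ≤ Nat.card W * Nat.card (B ⊓ centralizer (W : Set G) : Subgroup G) :=
              Nat.mul_le_mul_left _ (card_le_of_le (inf_le_inf_right _ inf_le_left))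
          _ ≤ Nat.card B * Nat.card D := hB.1.2.2
          _ ≤ p * Nat.card (B ⊓ R : Subgroup G) * Nat.card D := Nat.mul_le_mul_right _ hBcard
          _ = Nat.card (B ⊓ R : Subgroup G) * (p * Nat.card D) := by ring
          _ ≤ _ := Nat.mul_le_mul_left _ hpC
      exact haR (((hB.2 _ inf_le_left hoff).symm ▸ haB : a ∈ B ⊓ R).2)
    have haC : a ∉ centralizer (W : Set G) := fun h => hB.1.2.1 fun b hb => by
      obtain ⟨i, -, r, hr, rfl⟩ := hBcov b hb
      exact mul_mem (pow_mem h i) (hBRC hr)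
    set A := W ⊓ centralizer ({a} : Set G) with hA
    have hAD : A ≤ D := by
      rintro w ⟨hw, hwa⟩
      refine ⟨hw, mem_centralizer_iff.2 fun b hb => ?_⟩
      obtain ⟨i, -, r, hr, rfl⟩ := hBcov b hb
      have h1 : Commute (a ^ i) w := Commute.pow_left (mem_centralizer_iff.1 hwa a rfl) i
      have h2 : Commute r w := (mem_centralizer_iff.1 (hBRC hr) w hw).symm
      exact h1.mul_left h2
    have hidx : A.relIndex W ≤ p := by
      have hDA : D ≤ A := fun w hw =>
        ⟨hw.1, mem_centralizer_iff.2 fun y hy => by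
          rw [Set.mem_singleton_iff] at hy
          exact hy ▸ mem_centralizer_iff.1 hw.2 a haB⟩
      have hAeq : A = D := le_antisymm hAD hDA
      have h1 : Nat.card A * A.relIndex W = Nat.card W := by
        rw [← relIndex_bot_left, relIndex_mul_relIndex _ _ _ bot_le inf_le_left, relIndex_bot_left]
      have h2 : Nat.card W * Nat.card (B ⊓ R : Subgroup G) ≤
          p * Nat.card (B ⊓ R : Subgroup G) * Nat.card D :=
        le_trans (Nat.mul_le_mul_left _ (card_le_of_le (le_inf inf_le_left hBRC)))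
          (hB.1.2.2.trans (Nat.mul_le_mul_right _ hBcard))
      rw [← h1, hAeq] at h2
      have h3 : 0 < Nat.card (B ⊓ R : Subgroup G) * Nat.card D :=
        Nat.mul_pos Nat.card_pos Nat.card_pos
      refine Nat.le_of_mul_le_mul_left ?_ h3
      rw [hAeq]
      linarith [h2]
    have haS : a ∈ (S : Subgroup G) := hR'S haR'
    obtain ⟨k, hk⟩ := S.2 ⟨a, haS⟩
    have hak : a ^ p ^ k = 1 := by simpa using congrArg Subtype.val hk
    obtain ⟨Ra, hRaW, -, hRa, hRat⟩ := exists_transvection W hWp hak hidx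
    set t := commHom W a (T ^ q) with ht
    set x := T ^ q with hx
    have htfix : cj W a t = t := Subtype.ext (by
      rw [cj_coe]
      exact (hRat _ (by rw [ht, commHom_coe]; exact hRa _ x.2)).2)
    have hax : cj W a x = t * x := Subtype.ext (by
      rw [cj_coe, coe_mul, ht, commHom_coe]; group)
    have hai : ∀ i : ℕ, cj W (a ^ i) x = t ^ i * x := by
      intro i
      induction i with
      | zero => exact Subtype.ext (by rw [cj_coe]; simp)
      | succ i ih' =>
        rw [pow_succ', cj_mul, ih', map_mul, map_pow, htfix, hax, ← mul_assoc, ← pow_succ]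
    refine ⟨v, ?_⟩
    simp only [← map_pow, ← hx, hai, Finset.prod_mul_distrib,
      Finset.prod_const, Finset.card_range]
    rw [Finset.prod_pow_eq_pow_sum (Finset.range p) (fun i => i), ht, hexc a haS haC hidx T,
      one_mul, pow_succ, pow_mul, hv]

/-- An element of `W` whose `q`-th power is centralized by the normalizer of the subgroup generated
by the minimal offenders, and which is centralized by `S`, has central `q`-th power. -/
theorem pow_mem_center_of_normalizer (hWp : IsPGroup p W) (q : ℕ)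
    (hexc : ∀ a ∈ (S : Subgroup G), a ∉ centralizer (W : Set G) →
      (W ⊓ centralizer ({a} : Set G)).relIndex W ≤ p →
      ∀ w : ↥W, (commHom W a (w ^ q)) ^ ∑ i ∈ Finset.range p, i = 1)
    (u : ↥W) (hu : ∀ s ∈ (S : Subgroup G), s * u = u * s)
    (hN : ∀ n ∈ normalizer (minOffSup W (S : Subgroup G) : Set G), n * (u : G) ^ q = (u : G) ^ q * n) :
    (u : G) ^ q ∈ center G := by
  classical
  haveI := Fintype.ofFinite (G ⧸ (S : Subgroup G))
  set N := normalizer (minOffSup W (S : Subgroup G) : Set G) with hNdef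
  have hSN : (S : Subgroup G) ≤ N := le_normalizer_minOffSup W _
  obtain ⟨K, hK⟩ := IsPGroup.exists_card_eq hWp
  suffices H : ∀ (j d : ℕ), K ≤ j + d → ∀ u : ↥W, (∀ s ∈ (S : Subgroup G), cj W s u = u) →
      (∀ n ∈ N, n * ((u ^ q : ↥W) : G) = ((u ^ q : ↥W) : G) * n) →
      (∃ y : ↥W, y ^ p ^ d = u ^ q) → ((u ^ q : ↥W) : G) ∈ center G by
    have h1 := H K 0 (by omega) u
      (fun s hs => Subtype.ext (by rw [cj_coe, mul_inv_eq_iff_eq_mul]; exact hu s hs))
      (by simpa using hN) ⟨u ^ q, by simp⟩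
    simpa using h1
  intro j
  induction j with
  | zero =>
    intro d hd u _ _ ⟨y, hy⟩
    obtain ⟨e, he⟩ := Nat.exists_eq_add_of_le (show K ≤ d by omega)
    rw [← hy, he, pow_add, pow_mul, ← hK, pow_card_eq_one', one_pow, OneMemClass.coe_one]
    exact one_mem _
  | succ j ih =>
  intro d hd u hu hN ⟨y, hy⟩
  set F := cosetConj W (S : Subgroup G) u with hF
  set Ω₁ := Finset.univ.filter fun ω : G ⧸ (S : Subgroup G) => ω.out ∈ N with hΩ₁
  set Ω₂ := Finset.univ.filter fun ω : G ⧸ (S : Subgroup G) => ¬ ω.out ∈ N with hΩ₂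
  have hout : ∀ ω : G ⧸ (S : Subgroup G), ∀ g : G, (g : G ⧸ (S : Subgroup G)) = ω →
      (g ∈ N ↔ ω.out ∈ N) := by
    rintro _ g rfl
    obtain ⟨s, hs⟩ := QuotientGroup.mk_out_eq_mul (S : Subgroup G) g
    rw [hs, N.mul_mem_cancel_right (hSN s.2)]
  have hsmul : ∀ s ∈ (S : Subgroup G), ∀ ω : G ⧸ (S : Subgroup G),
      ((s • ω).out ∈ N ↔ ω.out ∈ N) := by
    intro s hs ω
    rw [← hout (s • ω) (s * ω.out) (by
      conv_rhs => rw [← QuotientGroup.out_eq' ω]
      rfl), N.mul_mem_cancel_left (hSN hs)]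
  set T := ∏ ω, F ω with hT
  have hTc : ∀ g : G, g * (T : G) * g⁻¹ = T := by
    intro g
    rw [← cj_coe, hT, map_prod]
    congr 1
    exact Fintype.prod_equiv (MulAction.toPerm g) _ _ fun ω => (cosetConj_smul W hu g ω).symm
  set e := ∏ ω ∈ Ω₂, F ω with he
  have hefix : ∀ s ∈ (S : Subgroup G), cj W s e = e := by
    intro s hs
    rw [he, map_prod]
    refine Finset.prod_nbij' (fun ω => s • ω) (fun ω => s⁻¹ • ω) ?_ ?_ ?_ ?_ ?_
    · intro ω hω
      simp only [hΩ₂, Finset.mem_filter, Finset.mem_univ, true_and] at hω ⊢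
      rwa [hsmul s hs]
    · intro ω hω
      simp only [hΩ₂, Finset.mem_filter, Finset.mem_univ, true_and] at hω ⊢
      rwa [hsmul _ (inv_mem hs)]
    · intro ω _; exact inv_smul_smul s ω
    · intro ω _; exact smul_inv_smul s ω
    · intro ω _; exact (cosetConj_smul W hu s ω).symm
  have hΩ₁val : ∀ ω ∈ Ω₁, F ω ^ q = u ^ q := by
    intro ω hω
    simp only [hΩ₁, Finset.mem_filter, Finset.mem_univ, true_and] at hω
    rw [hF, ← map_pow]
    exact Subtype.ext (by rw [cj_coe, mul_inv_eq_iff_eq_mul]; exact hN _ hω)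
  have hTq : T ^ q = (u ^ q) ^ Ω₁.card * e ^ q := by
    rw [hT, he, ← Finset.prod_filter_mul_prod_filter_not Finset.univ
      (fun ω : G ⧸ (S : Subgroup G) => ω.out ∈ N), mul_pow, ← hΩ₁, ← hΩ₂,
      ← Finset.prod_pow _ q, Finset.prod_congr rfl hΩ₁val, Finset.prod_const]
  -- the part outside `N` gains a `p`-th power
  have hgain : ∀ Ω : Finset (G ⧸ (S : Subgroup G)),
      (∀ ω ∈ Ω, ω.out ∉ N ∧ ∀ s ∈ (S : Subgroup G), s • ω ∈ Ω) →
      ∃ y : ↥W, y ^ p ^ (d + 1) = (∏ ω ∈ Ω, F ω) ^ q := by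
    intro Ω
    induction Ω using Finset.strongInduction with
    | _ Ω ihΩ =>
    intro hΩ
    rcases Finset.eq_empty_or_nonempty Ω with rfl | ⟨ω, hω⟩
    · exact ⟨1, by simp⟩
    have hsub : orb (S : Subgroup G) ω ⊆ Ω := fun ω' h => by
      obtain ⟨s, hs, rfl⟩ := mem_orb.1 h
      exact (hΩ ω hω).2 s hs
    have hmem : ω ∈ orb (S : Subgroup G) ω := mem_orb.2 ⟨1, one_mem _, one_smul _ _⟩
    obtain ⟨y₁, hy₁⟩ := ihΩ (Ω \ orb (S : Subgroup G) ω)
      (Finset.sdiff_ssubset hsub ⟨ω, hmem⟩) (fun ω' hω' => by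
        obtain ⟨h1, h2⟩ := Finset.mem_sdiff.1 hω'
        refine ⟨(hΩ ω' h1).1, fun s hs => Finset.mem_sdiff.2 ⟨(hΩ ω' h1).2 s hs, fun h => h2 ?_⟩⟩
        obtain ⟨t, ht, hte⟩ := mem_orb.1 h
        exact mem_orb.2 ⟨s⁻¹ * t, mul_mem (inv_mem hs) ht, by rw [mul_smul, hte, inv_smul_smul]⟩)
    have hstab : ¬ minOffSup W (S : Subgroup G) ≤ stabilizer G ω := by
      intro h
      refine (hΩ ω hω).1 ?_
      rw [← inv_inv ω.out]
      refine N.inv_mem (mem_normalizer_minOffSup ?_)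
      rintro _ ⟨x, hx, rfl⟩
      have h1 := mem_stabilizer_iff.1 (h hx)
      rw [← QuotientGroup.out_eq' ω] at h1
      have h2 := QuotientGroup.eq.1 (show ((x * ω.out : G) : G ⧸ (S : Subgroup G)) = (ω.out : G) from h1)
      show ω.out⁻¹ * x * ω.out⁻¹⁻¹ ∈ _
      have h3 := inv_mem h2
      simpa [mul_assoc] using h3
    obtain ⟨y₂, hy₂⟩ := orb_prod_pow_mem W S hWp q d hu ⟨y, hy⟩ hexc _ le_rfl (minOffSup_le W _) ω hstab
    exact ⟨y₁ * y₂, by rw [mul_pow, hy₁, hy₂, ← mul_pow, Finset.prod_sdiff hsub]⟩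
  obtain ⟨ye, hye⟩ := hgain Ω₂ fun ω hω => by
    simp only [hΩ₂, Finset.mem_filter, Finset.mem_univ, true_and] at hω ⊢
    exact ⟨hω, fun s hs => by rwa [hsmul s hs]⟩
  have heN : ∀ n ∈ N, n * ((e ^ q : ↥W) : G) = ((e ^ q : ↥W) : G) * n := by
    intro n hn
    have e1 : e ^ q = ((u ^ q) ^ Ω₁.card)⁻¹ * T ^ q := by rw [hTq, inv_mul_cancel_left]
    rw [e1, coe_mul, InvMemClass.coe_inv, SubmonoidClass.coe_pow, SubmonoidClass.coe_pow T]
    have h1 : Commute n ((u ^ q : ↥W) : G) := hN n hn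
    have h2 : Commute n (T : G) := mul_inv_eq_iff_eq_mul.1 (hTc n)
    exact (h1.pow_right _).inv_right.mul_right (h2.pow_right _)
  have hec := ih (d + 1) (by omega) e hefix heN ⟨ye, hye⟩
  have hTmem : (T : G) ∈ center G := mem_center_iff.2 fun g => mul_inv_eq_iff_eq_mul.1 (hTc g)
  have humc : ((u ^ q : ↥W) : G) ^ Ω₁.card ∈ center G := by
    have h1 : ((T ^ q : ↥W) : G) ∈ center G := by
      rw [SubmonoidClass.coe_pow]; exact pow_mem hTmem q
    rw [hTq, coe_mul, (center G).mul_mem_cancel_right hec, SubmonoidClass.coe_pow] at h1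
    exact h1
  have hm : ¬ p ∣ Ω₁.card := by
    have hι : Ω₁.card = (S : Subgroup G).relIndex N := by
      let ι : ↥N ⧸ (S : Subgroup G).subgroupOf N → G ⧸ (S : Subgroup G) :=
        Quotient.map' Subtype.val fun a b h => by
          rw [QuotientGroup.leftRel_apply] at h ⊢
          exact h
      have hinj : Function.Injective ι := by
        intro a b
        induction a using QuotientGroup.induction_on with
        | H a =>
          induction b using QuotientGroup.induction_on with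
          | H b =>
            intro h
            have h' := QuotientGroup.eq.1
              (show ((a : G) : G ⧸ (S : Subgroup G)) = (b : G) from h)
            exact QuotientGroup.eq.2 (mem_subgroupOf.2 h')
      have hrange : Set.range ι = (Ω₁ : Set (G ⧸ (S : Subgroup G))) := by
        ext ω
        simp only [hΩ₁, Finset.coe_filter, Finset.mem_univ, true_and, Set.mem_range]
        constructor
        · rintro ⟨a, rfl⟩
          induction a using QuotientGroup.induction_on with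
          | H a => exact (hout _ (a : G) rfl).1 a.2
        · intro hω
          exact ⟨((⟨ω.out, hω⟩ : ↥N) : ↥N ⧸ (S : Subgroup G).subgroupOf N),
            QuotientGroup.out_eq' ω⟩
      rw [relIndex, index, ← Nat.card_range_of_injective hinj, hrange,
        Nat.card_coe_set_eq, Set.ncard_coe_finset]
    rw [hι]
    exact CfsgLib.Techniques.not_dvd_relIndex_sylow S hSN
  obtain ⟨k, hk⟩ := hWp (u ^ q)
  have hco : Nat.Coprime Ω₁.card (orderOf ((u ^ q : ↥W) : G)) := by
    refine Nat.Coprime.coprime_dvd_right (orderOf_dvd_of_pow_eq_one (n := p ^ k) ?_) ?_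
    · simpa using congrArg Subtype.val hk
    · exact Nat.Coprime.pow_right k
        ((Fact.out : p.Prime).coprime_iff_not_dvd.2 hm).symm
  obtain ⟨m, hm'⟩ := exists_pow_eq_self_of_coprime hco
  rw [← hm']
  exact pow_mem humc m

end Core

end CfsgLib.LocalEven.GlaubermanWeak
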