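import Cfsg.Agent.Lib.LocalEven.InvolvesFour
import Cfsg.Agent.Lib.Involutions.BaerSuzuki
import Cfsg.Agent.Lib.Techniques.Basic
import Mathlib.GroupTheory.Sylow
import Mathlib.FieldTheory.Finite.Basic

/-!
Transvections on normal abelian `p`-subgroups: commutators with an element fixing a subgroup of
index at most `p`, and the fact that in the absence of `S₄` such elements do not exist modulo
`O₂` of the action.
-/

set_option autoImplicit false

open Subgroup

namespace CfsgLib.LocalEven.GlaubermanWeak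

variable {G : Type*} [Group G]

/-- The commutators of `a` with the elements of an abelian normal subgroup `W`, as a homomorphism. -/
def commHom (W : Subgroup G) [W.Normal] [IsMulCommutative W] (a : G) : ↥W →* ↥W where
  toFun w := ⟨a * w * a⁻¹ * (w : G)⁻¹,
    W.mul_mem (Normal.conj_mem inferInstance _ w.2 a) (W.inv_mem w.2)⟩
  map_one' := Subtype.ext (by simp)
  map_mul' v w := Subtype.ext (by
    show a * (v * w : G) * a⁻¹ * (v * w : G)⁻¹ =
      a * (v : G) * a⁻¹ * (v : G)⁻¹ * (a * (w : G) * a⁻¹ * (w : G)⁻¹)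
    have h : (a * (w : G) * a⁻¹ * (w : G)⁻¹) * (v : G)⁻¹ =
        (v : G)⁻¹ * (a * (w : G) * a⁻¹ * (w : G)⁻¹) :=
      setLike_mul_comm (W.mul_mem (Normal.conj_mem inferInstance _ w.2 a) (W.inv_mem w.2))
        (W.inv_mem v.2)
    calc a * (v * w : G) * a⁻¹ * (v * w : G)⁻¹
        = a * (v : G) * a⁻¹ * ((a * (w : G) * a⁻¹ * (w : G)⁻¹) * (v : G)⁻¹) := by group
      _ = _ := by rw [h]; group)

theorem commHom_coe (W : Subgroup G) [W.Normal] [IsMulCommutative W] (a : G) (w : ↥W) :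
    (commHom W a w : G) = a * w * a⁻¹ * (w : G)⁻¹ := rfl

/-- An element of `p`-power order fixing a subgroup of index at most `p` of an abelian normal
`p`-subgroup `W` has its commutators with `W` in a subgroup of order at most `p` that it fixes. -/
theorem exists_transvection [Finite G] {p : ℕ} [Fact p.Prime] (W : Subgroup G) [W.Normal]
    [IsMulCommutative W] (hWp : IsPGroup p W) {a : G} {k : ℕ} (hak : a ^ p ^ k = 1)
    (hidx : (W ⊓ centralizer ({a} : Set G)).relIndex W ≤ p) :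
    ∃ R : Subgroup G, R ≤ W ∧ Nat.card R ≤ p ∧ (∀ w ∈ W, a * w * a⁻¹ * w⁻¹ ∈ R) ∧
      ∀ t ∈ R, t ^ p = 1 ∧ a * t * a⁻¹ = t := by
  let R := (commHom W a).range.map W.subtype
  have hker : (commHom W a).ker = (W ⊓ centralizer ({a} : Set G)).subgroupOf W := by
    ext w
    rw [MonoidHom.mem_ker, mem_subgroupOf, mem_inf, mem_centralizer_iff]
    constructor
    · intro h
      refine ⟨w.2, fun y hy => ?_⟩
      rw [Set.mem_singleton_iff] at hy
      have := congrArg Subtype.val h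
      rw [commHom_coe, OneMemClass.coe_one, mul_inv_eq_one] at this
      rw [hy]
      exact mul_inv_eq_iff_eq_mul.1 this
    · rintro ⟨-, h⟩
      apply Subtype.ext
      rw [commHom_coe, OneMemClass.coe_one, h a rfl]
      group
  have hcard : Nat.card R = (W ⊓ centralizer ({a} : Set G)).relIndex W := by
    rw [card_map_of_injective W.subtype_injective, ← Subgroup.index_ker, hker]
    rfl
  have hRW : R ≤ W := map_subtype_le _
  have hmem : ∀ w ∈ W, a * w * a⁻¹ * w⁻¹ ∈ R := fun w hw =>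
    ⟨commHom W a ⟨w, hw⟩, ⟨⟨w, hw⟩, rfl⟩, rfl⟩
  obtain ⟨i, hi⟩ := IsPGroup.exists_card_eq (hWp.to_le hRW)
  have hi1 : i ≤ 1 := by
    by_contra h
    have : p ^ 2 ≤ p ^ i := Nat.pow_le_pow_right (Fact.out : p.Prime).pos (by omega)
    have h2 := (Fact.out : p.Prime).two_le
    nlinarith [hcard ▸ hidx, hi]
  have hdvd : Nat.card R ∣ p := by
    rw [hi]
    exact (pow_dvd_pow p hi1).trans (by rw [pow_one])
  refine ⟨R, hRW, by rw [hcard]; exact hidx, hmem, fun t ht => ?_⟩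
  have htp : t ^ p = 1 := by
    rw [← orderOf_dvd_iff_pow_eq_one]
    exact ((orderOf_mk t ht).symm ▸ orderOf_dvd_natCard (⟨t, ht⟩ : ↥R)).trans hdvd
  refine ⟨htp, ?_⟩
  rcases eq_or_ne t 1 with rfl | ht1
  · simp
  have hord : orderOf t = p := orderOf_eq_prime htp ht1
  have hz : zpowers t = R := by
    refine eq_of_le_of_card_ge (zpowers_le.2 ht) ?_
    rw [Nat.card_zpowers, hord]
    exact Nat.le_of_dvd (Fact.out : p.Prime).pos hdvd
  have hatR : a * t * a⁻¹ ∈ R := by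
    have h1 := R.mul_mem (hmem t (hRW ht)) ht
    rwa [inv_mul_cancel_right] at h1
  rw [← hz, ← mem_powers_iff_mem_zpowers] at hatR
  obtain ⟨n, hn⟩ := hatR
  simp only at hn
  have hpow : ∀ m : ℕ, a ^ m * t * (a ^ m)⁻¹ = t ^ n ^ m := by
    intro m
    induction m with
    | zero => simp
    | succ m ih =>
      calc a ^ (m + 1) * t * (a ^ (m + 1))⁻¹
          = a ^ m * (a * t * a⁻¹) * (a ^ m)⁻¹ := by rw [pow_succ]; group
        _ = a ^ m * t ^ n * (a ^ m)⁻¹ := by rw [hn]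
        _ = (a ^ m * t * (a ^ m)⁻¹) ^ n := conj_pow.symm
        _ = _ := by rw [ih, ← pow_mul, pow_succ]
  have h1 := hpow (p ^ k)
  rw [hak, one_mul, inv_one, mul_one] at h1
  have h2 : n ^ p ^ k ≡ 1 [MOD p] := by
    have h0 : n ^ p ^ k ≡ 1 [MOD orderOf t] := pow_eq_pow_iff_modEq.1 (by rw [pow_one]; exact h1.symm)
    rwa [hord] at h0
  rw [← ZMod.natCast_eq_natCast_iff, Nat.cast_pow, ZMod.pow_card_pow, ZMod.natCast_eq_natCast_iff,
    ← hord, ← pow_eq_pow_iff_modEq, pow_one] at h2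
  rw [← hn, h2]

/-- If `S₄` is not involved, no `2`-element outside `C(W)` fixes a subgroup of index at most two of
the abelian normal `2`-subgroup `W`, provided `O₂(G / C(W)) = 1`. -/
theorem involves_four_of_transvection [Finite G] (W : Subgroup G) [W.Normal] [IsMulCommutative W]
    (hW2 : IsPGroup 2 W)
    (hOp : ∀ N : Subgroup (G ⧸ centralizer (W : Set G)), N.Normal → IsPGroup 2 N → N = ⊥)
    {a : G} {k : ℕ} (hak : orderOf a = 2 ^ k) (ha : a ∉ centralizer (W : Set G))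
    (hidx : (W ⊓ centralizer ({a} : Set G)).relIndex W ≤ 2) :
    Cfsg.Involves (Equiv.Perm (Fin 4)) G := by
  classical
  haveI : Fact (Nat.Prime 2) := ⟨Nat.prime_two⟩
  haveI : Fact (Nat.Prime 3) := ⟨Nat.prime_three⟩
  set CW := centralizer (W : Set G) with hCW
  set π := QuotientGroup.mk' CW with hπdef
  have hπ : ∀ g : G, π g = 1 ↔ g ∈ CW := fun g => QuotientGroup.eq_one_iff g
  have hCWmem : ∀ g : G, (∀ w ∈ W, g * w * g⁻¹ = w) → g ∈ CW := fun g h =>
    mem_centralizer_iff.2 fun w hw => (mul_inv_eq_iff_eq_mul.1 (h w hw)).symm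
  have hak' : a ^ 2 ^ k = 1 := hak ▸ pow_orderOf_eq_one a
  obtain ⟨Ra, hRaW, hRacard, hRa, hRat⟩ := exists_transvection W hW2 hak' hidx
  have sq : ∀ (c : G) (L : Subgroup G), (∀ w ∈ W, c * w * c⁻¹ * w⁻¹ ∈ L) →
      (∀ t ∈ L, t ^ 2 = 1 ∧ c * t * c⁻¹ = t) → c ^ 2 ∈ CW := by
    intro c L hc hL
    refine hCWmem _ fun w hw => ?_
    obtain ⟨h2, hfix⟩ := hL _ (hc w hw)
    calc c ^ 2 * w * (c ^ 2)⁻¹
        = (c * (c * w * c⁻¹ * w⁻¹) * c⁻¹) * (c * w * c⁻¹ * w⁻¹) * w := by rw [pow_two]; group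
      _ = w := by rw [hfix, ← pow_two, h2, one_mul]
  have hπa : π a * π a = 1 := by
    rw [← map_mul, hπ, ← pow_two]
    exact sq a Ra hRa hRat
  -- a conjugate generating with `a` a group which is not a two-group
  have hnot : ¬ ∀ g : G ⧸ CW, IsPGroup 2 (closure ({π a, g * π a * g⁻¹} : Set (G ⧸ CW))) := by
    intro h
    obtain ⟨N, hN, hN2, hmem⟩ := CfsgLib.Involutions.exists_normal_isPGroup_of_mem h
    rw [hOp N hN hN2, mem_bot, hπ] at hmem
    exact ha hmem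
  push_neg at hnot
  obtain ⟨g', hg'⟩ := hnot
  obtain ⟨g, rfl⟩ := QuotientGroup.mk'_surjective CW g'
  let Rb := Ra.map (MulAut.conj g).toMonoidHom
  set b := g * a * g⁻¹ with hb
  have hRb : ∀ w ∈ W, b * w * b⁻¹ * w⁻¹ ∈ Rb := fun w hw =>
    ⟨_, hRa (g⁻¹ * w * g) (Normal.conj_mem' inferInstance w hw g), by
      simp only [MulEquiv.coe_toMonoidHom, MulAut.conj_apply, hb]; group⟩
  set c := a * b with hc
  -- the four group on which everything happens
  set L := Ra ⊔ Rb with hL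
  have hRbW : Rb ≤ W := by
    rintro _ ⟨t, ht, rfl⟩
    exact Normal.conj_mem inferInstance t (hRaW ht) g
  have hLW : L ≤ W := sup_le hRaW hRbW
  have hnorm : Ra ≤ normalizer (Rb : Set G) := fun r hr =>
    centralizer_le_normalizer _ (mem_centralizer_iff.2 fun t ht =>
      setLike_mul_comm (hRbW ht) (hRaW hr))
  have hL2 : ∀ t ∈ L, t ^ 2 = 1 := by
    intro t ht
    obtain ⟨r, hr, r', hr', rfl⟩ := CfsgLib.Techniques.exists_mul_of_mem_sup hnorm ht
    rw [Commute.mul_pow (setLike_mul_comm (hRaW hr) (hRbW hr')), (hRat r hr).1, one_mul]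
    obtain ⟨r₀, hr₀, rfl⟩ := hr'
    rw [← map_pow, (hRat r₀ hr₀).1, map_one]
  have hLcard : Nat.card L ≤ 4 := by
    have hsurj : Function.Surjective (fun x : ↥Ra × ↥Rb =>
        (⟨x.1.1 * x.2.1, mul_mem_sup x.1.2 x.2.2⟩ : ↥L)) := by
      rintro ⟨t, ht⟩
      obtain ⟨r, hr, r', hr', rfl⟩ := CfsgLib.Techniques.exists_mul_of_mem_sup hnorm ht
      exact ⟨⟨⟨r, hr⟩, ⟨r', hr'⟩⟩, rfl⟩
    have h1 := Nat.card_le_card_of_surjective _ hsurj
    rw [Nat.card_prod] at h1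
    have h2 : Nat.card Rb = Nat.card Ra := CfsgLib.Techniques.card_map_conj Ra g
    rw [h2] at h1
    exact h1.trans ((Nat.mul_le_mul hRacard hRacard).trans (by norm_num))
  let H : Subgroup G :=
    { carrier := {x | ∀ w ∈ W, x * w * x⁻¹ * w⁻¹ ∈ L}
      one_mem' := fun w _ => by simp
      mul_mem' := fun {x y} hx hy w hw => by
        have h1 := L.mul_mem (hx _ (Normal.conj_mem inferInstance w hw y)) (hy w hw)
        have e : x * y * w * (x * y)⁻¹ * w⁻¹ =
            x * (y * w * y⁻¹) * x⁻¹ * (y * w * y⁻¹)⁻¹ * (y * w * y⁻¹ * w⁻¹) := by group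
        rw [e]; exact h1
      inv_mem' := fun {x} hx w hw => by
        have h1 := L.inv_mem (hx _ (Normal.conj_mem' inferInstance w hw x))
        have e : x⁻¹ * w * x⁻¹⁻¹ * w⁻¹ = (x * (x⁻¹ * w * x) * x⁻¹ * (x⁻¹ * w * x)⁻¹)⁻¹ := by group
        rw [e]; exact h1 }
  have hcH : c ∈ H := H.mul_mem (fun w hw => le_sup_left (a := Ra) (hRa w hw))
    (fun w hw => le_sup_right (b := Rb) (hRb w hw))
  have hHL : ∀ x ∈ H, ∀ t ∈ L, x * t * x⁻¹ ∈ L := by
    intro x hx t ht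
    have h1 := L.mul_mem (hx t (hLW ht)) ht
    rwa [inv_mul_cancel_right] at h1
  have hc6 : ∀ t ∈ L, c ^ 6 * t * (c ^ 6)⁻¹ = t := by
    intro t ht
    rcases eq_or_ne t 1 with rfl | ht1
    · simp
    have horb : ∀ i : ℕ, c ^ i * t * (c ^ i)⁻¹ ∈ L ∧ c ^ i * t * (c ^ i)⁻¹ ≠ 1 := fun i =>
      ⟨hHL _ (H.pow_mem hcH i) t ht, fun h => ht1 (conj_eq_one_iff.1 h)⟩
    let f : Fin 4 → {x : ↥L // x ≠ 1} := fun i =>
      ⟨⟨_, (horb i).1⟩, fun h => (horb i).2 (congrArg Subtype.val h)⟩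
    haveI : Fintype ↥L := Fintype.ofFinite _
    obtain ⟨i, j, hij, hf⟩ := Fintype.exists_ne_map_eq_of_card_lt f (by
      rw [Fintype.card_subtype_compl, Fintype.card_subtype_eq, Fintype.card_fin,
        ← Nat.card_eq_fintype_card]
      omega)
    have hf' : c ^ (i : ℕ) * t * (c ^ (i : ℕ))⁻¹ = c ^ (j : ℕ) * t * (c ^ (j : ℕ))⁻¹ :=
      congrArg Subtype.val (congrArg Subtype.val hf)
    have key : ∀ i j : ℕ, i < j → c ^ i * t * (c ^ i)⁻¹ = c ^ j * t * (c ^ j)⁻¹ →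
        Commute (c ^ (j - i)) t := by
      intro i j hij h
      rw [show j = i + (j - i) by omega, pow_add] at h
      have h' : c ^ i * t * (c ^ i)⁻¹ = c ^ i * (c ^ (j - i) * t * (c ^ (j - i))⁻¹) * (c ^ i)⁻¹ := by
        rw [h]; group
      exact (mul_inv_eq_iff_eq_mul.1 (mul_left_cancel (mul_right_cancel h')).symm)
    obtain ⟨d, hd1, hd3, hcd⟩ : ∃ d : ℕ, 1 ≤ d ∧ d ≤ 3 ∧ Commute (c ^ d) t := by
      rcases lt_or_gt_of_ne (fun h : (i : ℕ) = j => hij (Fin.ext h)) with h | h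
      · exact ⟨j - i, by omega, by omega, key i j h hf'⟩
      · exact ⟨i - j, by omega, by omega, key j i h hf'.symm⟩
    have hd6 : d ∣ 6 := by
      rcases (by omega : d = 1 ∨ d = 2 ∨ d = 3) with rfl | rfl | rfl <;> norm_num
    obtain ⟨e, he⟩ := hd6
    rw [he, pow_mul, mul_inv_eq_iff_eq_mul]
    exact hcd.pow_left e
  have hc12 : c ^ 12 ∈ CW := by
    rw [show 12 = 6 * 2 by norm_num, pow_mul]
    exact sq _ L (fun w hw => H.pow_mem hcH 6 w hw) fun t ht => ⟨hL2 t ht, hc6 t ht⟩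
  -- the image of `c` is inverted by that of `a`, and has order a multiple of three
  have hπb : π b * π b = 1 := by
    rw [hb, map_mul, map_mul, map_inv]
    calc π g * π a * (π g)⁻¹ * (π g * π a * (π g)⁻¹) = π g * (π a * π a) * (π g)⁻¹ := by group
      _ = 1 := by rw [hπa]; group
  have hinv : π a * π c * (π a)⁻¹ = (π c)⁻¹ := by
    rw [eq_inv_iff_mul_eq_one, hc, map_mul]
    calc π a * (π a * π b) * (π a)⁻¹ * (π a * π b) = (π a * π a) * (π b * π b) := by group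
      _ = 1 := by rw [hπa, hπb, one_mul]
  have hn12 : orderOf (π c) ∣ 12 := by
    rw [orderOf_dvd_iff_pow_eq_one, ← map_pow, hπ]; exact hc12
  have h3 : 3 ∣ orderOf (π c) := by
    by_contra h3
    have h4 : orderOf (π c) ∣ 2 ^ 2 :=
      ((Nat.prime_three.coprime_iff_not_dvd.2 h3).symm.dvd_mul_right).1 (by norm_num; exact hn12)
    obtain ⟨i, -, hi⟩ := (Nat.dvd_prime_pow Nat.prime_two).1 h4
    have hA : IsPGroup 2 (zpowers (π a)) := by
      refine IsPGroup.of_card (n := 1) ?_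
      rw [Nat.card_zpowers, pow_one]
      exact orderOf_eq_prime (by rw [pow_two, hπa]) fun h => ha ((hπ a).1 h)
    have hC : IsPGroup 2 (zpowers (π c)) := IsPGroup.of_card (n := i) (by rw [Nat.card_zpowers, hi])
    have hle : zpowers (π a) ≤ normalizer (zpowers (π c) : Set (G ⧸ CW)) := by
      rw [zpowers_le, Subgroup.mem_normalizer_iff_map_conj_eq, MonoidHom.map_zpowers]
      change zpowers (π a * π c * (π a)⁻¹) = _
      rw [hinv, zpowers_inv]
    refine hg' ((CfsgLib.Techniques.isPGroup_sup hA hC hle).to_le ?_)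
    rw [closure_le]
    rintro x (rfl | rfl)
    · exact le_sup_left (b := zpowers (π c)) (mem_zpowers _)
    · have e : π g * π a * (π g)⁻¹ = (π a)⁻¹ * π c := by rw [hc, map_mul, hb]; simp
      show π g * π a * (π g)⁻¹ ∈ _
      rw [e]
      exact mul_mem (inv_mem (le_sup_left (b := zpowers (π c)) (mem_zpowers _)))
        (le_sup_right (a := zpowers (π a)) (mem_zpowers _))
  set y := c ^ (orderOf (π c) / 3) with hy
  have hy3 : orderOf (π y) = 3 := by
    rw [hy, map_pow]; exact orderOf_pow_orderOf_div (orderOf_pos _).ne' h3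
  have hyH : y ∈ H := H.pow_mem hcH _
  have hyinv : π a * π y * (π a)⁻¹ = (π y)⁻¹ := by
    rw [hy, map_pow, ← conj_pow, hinv, inv_pow]
  -- the elements of order at most two of `W`
  let V : Subgroup G :=
    { carrier := {w | w ∈ W ∧ w ^ 2 = 1}
      one_mem' := ⟨W.one_mem, one_pow 2⟩
      mul_mem' := fun {u v} hu hv => ⟨W.mul_mem hu.1 hv.1, by
        rw [Commute.mul_pow (setLike_mul_comm hu.1 hv.1), hu.2, hv.2, one_mul]⟩
      inv_mem' := fun {u} hu => ⟨W.inv_mem hu.1, by rw [inv_pow, hu.2, inv_one]⟩ }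
  haveI hVn : V.Normal := ⟨fun v hv x => ⟨Normal.conj_mem inferInstance v hv.1 x, by
    rw [conj_pow, hv.2]; simp⟩⟩
  have hV : Cfsg.IsElementaryAbelian 2 V :=
    ⟨⟨⟨fun u v => Subtype.ext (setLike_mul_comm u.2.1 v.2.1)⟩⟩, fun v hv => hv.2⟩
  set CV := centralizer (V : Set G) with hCV
  have hCWV : CW ≤ CV := centralizer_le fun v hv => hv.1
  have hyV : y ∉ CV := by
    intro h
    have h2 : y ^ 2 ∈ CW := sq y L hyH fun t ht => ⟨hL2 t ht, by
      rw [mul_inv_eq_iff_eq_mul, mem_centralizer_iff.1 h t ⟨hLW ht, hL2 t ht⟩]⟩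
    rw [← hπ, map_pow, ← orderOf_dvd_iff_pow_eq_one, hy3] at h2
    norm_num at h2
  have hy3V : y ^ 3 ∈ CV := hCWV (by rw [← hπ, map_pow, ← hy3, pow_orderOf_eq_one])
  have hayV : a * y * a⁻¹ * y ∈ CV := hCWV (by
    rw [← hπ, map_mul, map_mul, map_mul, map_inv, hyinv, inv_mul_cancel])
  set φ := QuotientGroup.mk' CV with hφdef
  have hφ : ∀ x : G, φ x = 1 ↔ x ∈ CV := fun x => QuotientGroup.eq_one_iff x
  have hφy1 : φ y ≠ 1 := fun h => hyV ((hφ y).1 h)
  have hφy3 : orderOf (φ y) = 3 := orderOf_eq_prime (by rw [← map_pow, hφ]; exact hy3V) hφy1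
  have hφinv : φ a * φ y * (φ a)⁻¹ = (φ y)⁻¹ := by
    rw [eq_inv_iff_mul_eq_one, ← map_inv, ← map_mul, ← map_mul, ← map_mul, hφ]
    exact hayV
  set M := (zpowers (φ y)).comap φ with hM
  have hMidx : CV.relIndex M = 3 := by
    have hk : CV = (⊥ : Subgroup (G ⧸ CV)).comap φ := by
      rw [MonoidHom.comap_bot, hφdef, QuotientGroup.ker_mk']
    nth_rw 1 [hk]
    rw [relIndex_comap, hM, map_comap_eq_self_of_surjective (QuotientGroup.mk'_surjective CV),
      relIndex_bot_left, Nat.card_zpowers, hφy3]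
  let P₀ : Sylow 3 ↥M := default
  set P := (P₀ : Subgroup ↥M).map M.subtype with hP
  have hPM : P ≤ M := map_subtype_le _
  have hPp : IsPGroup 3 P := P₀.2.map _
  have hPidx : ¬ 3 ∣ P.relIndex M := by
    rw [Subgroup.relIndex, Subgroup.subgroupOf, hP,
      comap_map_eq_self_of_injective M.subtype_injective]
    exact P₀.not_dvd_index
  obtain ⟨y', hy'P, hy'V⟩ : ∃ y' ∈ P, y' ∉ CV := by
    by_contra! h
    exact hPidx (hMidx ▸ relIndex_dvd_of_le_left M h)
  have haM : ∀ x ∈ M, a * x * a⁻¹ ∈ M := by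
    intro x hx
    obtain ⟨i, hi⟩ := mem_comap.1 hx
    simp only at hi
    refine mem_comap.2 ⟨-i, ?_⟩
    simp only
    rw [map_mul, map_mul, map_inv, ← hi, ← conj_zpow, hφinv, inv_zpow, zpow_neg]
  have haP : P.map (MulAut.conj a).toMonoidHom ≤ M := by
    rintro _ ⟨x, hx, rfl⟩
    exact haM x (hPM hx)
  obtain ⟨m, hm, hmle⟩ := CfsgLib.Techniques.exists_conj_le_sylow_of haP
    (CfsgLib.Techniques.isPGroup_map_conj hPp a) hPM hPp hPidx
  rw [← CfsgLib.Techniques.map_conj_mul] at hmle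
  set n := m * a with hn
  have hnP : n ∈ normalizer (P : Set G) :=
    CfsgLib.Techniques.map_conj_eq_self_iff.1
      (eq_of_le_of_card_ge hmle (CfsgLib.Techniques.card_map_conj P n).ge)
  have hninv : φ n * φ y * (φ n)⁻¹ = (φ y)⁻¹ := by
    obtain ⟨i, hi⟩ := mem_comap.1 hm
    simp only at hi
    rw [hn, map_mul, ← hi]
    calc φ y ^ i * φ a * φ y * (φ y ^ i * φ a)⁻¹
        = φ y ^ i * (φ a * φ y * (φ a)⁻¹) * (φ y ^ i)⁻¹ := by group
      _ = (φ y)⁻¹ := by rw [hφinv]; group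
  obtain ⟨e, o, ho, heo⟩ := Nat.exists_eq_two_pow_mul_odd (orderOf_pos n).ne'
  obtain ⟨r, hr⟩ := ho
  have hxord : orderOf (n ^ o) = 2 ^ e := by
    rw [orderOf_pow_of_dvd (by omega) ⟨2 ^ e, heo.trans (mul_comm _ _)⟩, heo,
      Nat.mul_div_cancel _ (by omega)]
  have hxinv : φ (n ^ o) * φ y * (φ (n ^ o))⁻¹ = (φ y)⁻¹ := by
    rw [hr, map_pow]
    have hcomm : Commute (φ n * φ n) (φ y) := by
      refine mul_inv_eq_iff_eq_mul.1 ?_
      calc φ n * φ n * φ y * (φ n * φ n)⁻¹ = φ n * (φ n * φ y * (φ n)⁻¹) * (φ n)⁻¹ := by group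
        _ = φ n * (φ y)⁻¹ * (φ n)⁻¹ := by rw [hninv]
        _ = (φ n * φ y * (φ n)⁻¹)⁻¹ := by group
        _ = φ y := by rw [hninv, inv_inv]
    have hc' : Commute ((φ n * φ n) ^ r) (φ y) := hcomm.pow_left r
    rw [pow_succ', pow_mul, pow_two]
    calc φ n * (φ n * φ n) ^ r * φ y * (φ n * (φ n * φ n) ^ r)⁻¹
        = φ n * ((φ n * φ n) ^ r * φ y * ((φ n * φ n) ^ r)⁻¹) * (φ n)⁻¹ := by group
      _ = (φ y)⁻¹ := by rw [hc'.eq, mul_inv_cancel_right, hninv]
  have hgen : ∀ u ∈ M, ∃ i : ℕ, φ u = φ y' ^ i := by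
    intro u hu
    obtain ⟨i, hi⟩ := mem_comap.1 (hPM hy'P)
    simp only at hi
    have hne : φ y' ≠ 1 := fun h => hy'V ((hφ y').1 h)
    have hz : zpowers (φ y') = zpowers (φ y) := by
      refine eq_of_le_of_card_ge (zpowers_le.2 ⟨i, hi⟩) ?_
      rw [Nat.card_zpowers, Nat.card_zpowers, hφy3, orderOf_eq_prime (p := 3) ?_ hne]
      rw [← hi, ← zpow_natCast, ← zpow_mul, mul_comm, zpow_mul, zpow_natCast, ← hφy3,
        pow_orderOf_eq_one, one_zpow]
    have hu' : φ u ∈ zpowers (φ y') := by rw [hz]; exact mem_comap.1 hu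
    obtain ⟨j, hj⟩ := mem_powers_iff_mem_zpowers.2 hu'
    exact ⟨j, hj.symm⟩
  obtain ⟨i, hi⟩ := mem_comap.1 (hPM hy'P)
  simp only at hi
  refine CfsgLib.LocalEven.Involved.involves_four_of_action V hV (n ^ o) y' P hxord hPp
    (pow_mem hnP o) hy'P hy'V ?_ ?_ ?_
  · rw [← hCV, ← hφ, map_pow, ← hi, ← zpow_natCast, ← zpow_mul, mul_comm, zpow_mul,
      zpow_natCast, ← hφy3, pow_orderOf_eq_one, one_zpow]
  · intro u hu
    obtain ⟨j, hj⟩ := hgen u⁻¹ (M.inv_mem (hPM hu))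
    refine ⟨j, ?_⟩
    rw [← hCV, ← hφ, map_mul, map_pow, ← hj, ← map_mul, inv_mul_cancel, map_one]
  · rw [← hCV, ← hφ, map_mul, map_mul, map_mul, map_inv, ← hi, ← conj_zpow, hxinv, inv_zpow,
      inv_mul_cancel]

end CfsgLib.LocalEven.GlaubermanWeak
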