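import Cfsg.Agent.Lib.LocalEven.FaithfulModule
import Cfsg.Agent.Lib.PLocal.Constraint

/-!
Subgroups in which no nontrivial `p`-element is inverted.
-/

set_option autoImplicit false

namespace CfsgLib.LocalEven.Inversion

variable {G : Type*} [Group G] {p : ℕ}

/-- No nontrivial `p`-element of `H` is inverted by an element of `H`. -/
def InvFree (p : ℕ) (H : Subgroup G) : Prop :=
  ∀ x ∈ H, ∀ g ∈ H, (∃ k, orderOf x = p ^ k) → g * x * g⁻¹ = x⁻¹ → x = 1

theorem InvFree.mono {H K : Subgroup G} (h : InvFree p K) (hle : H ≤ K) : InvFree p H :=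
  fun x hx g hg => h x (hle hx) g (hle hg)

theorem invFree_top_iff (H : Subgroup G) : InvFree p (⊤ : Subgroup ↥H) ↔ InvFree p H := by
  constructor
  · intro h x hx g hg hk he
    exact congrArg Subtype.val (h ⟨x, hx⟩ trivial ⟨g, hg⟩ trivial
      (by obtain ⟨k, hk⟩ := hk; exact ⟨k, by rwa [Subgroup.orderOf_mk]⟩) (Subtype.ext he))
  · intro h x _ g _ hk he
    refine Subtype.ext (h x x.2 g g.2 ?_ (congrArg Subtype.val he))
    obtain ⟨k, hk⟩ := hk
    exact ⟨k, by rwa [Subgroup.orderOf_coe]⟩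

theorem InvFree.map_injective {K : Type*} [Group K] {H : Subgroup G} (h : InvFree p H) (f : G →* K)
    (hf : Function.Injective f) : InvFree p (H.map f) := by
  rintro _ ⟨x, hx, rfl⟩ _ ⟨g, hg, rfl⟩ ⟨k, hk⟩ he
  rw [orderOf_injective f hf] at hk
  rw [h x hx g hg ⟨k, hk⟩ (hf (by simpa using he)), map_one]

theorem inverts_pow_odd {g x : G} (h : g * x * g⁻¹ = x⁻¹) {m : ℕ} (hm : Odd m) :
    g ^ m * x * (g ^ m)⁻¹ = x⁻¹ := by
  obtain ⟨j, rfl⟩ := hm
  have h2 : Commute (g ^ 2) x := by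
    show g ^ 2 * x = x * g ^ 2
    calc g ^ 2 * x = g * (g * x * g⁻¹) * g⁻¹ * g ^ 2 := by simp [pow_two, mul_assoc]
      _ = g * x⁻¹ * g⁻¹ * g ^ 2 := by rw [h]
      _ = (g * x * g⁻¹)⁻¹ * g ^ 2 := by group
      _ = x * g ^ 2 := by rw [h, inv_inv]
  have h3 : Commute (g ^ (2 * j)) x := by rw [pow_mul]; exact h2.pow_left j
  rw [add_comm, pow_add, pow_one]
  calc g * g ^ (2 * j) * x * (g * g ^ (2 * j))⁻¹
      = g * (g ^ (2 * j) * x * (g ^ (2 * j))⁻¹) * g⁻¹ := by group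
    _ = g * x * g⁻¹ := by rw [h3.eq, mul_inv_cancel_right]
    _ = x⁻¹ := h

theorem exists_odd_pow [Finite G] (g : G) : ∃ m, Odd m ∧ ∃ i, orderOf (g ^ m) = 2 ^ i := by
  obtain ⟨j, m, hm, hj⟩ := Nat.exists_eq_two_pow_mul_odd (orderOf_pos g).ne'
  refine ⟨m, hm, j, ?_⟩
  rw [orderOf_pow' g hm.pos.ne', hj, Nat.gcd_mul_left_left, Nat.mul_div_cancel _ hm.pos]

theorem eq_one_of_two_pow_of_odd {t : G} {i : ℕ} (ht : orderOf t = 2 ^ i) {n : ℕ} (hn : Odd n)
    (h : t ^ n = 1) : t = 1 := by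
  rw [← orderOf_eq_one_iff]
  exact Nat.eq_one_of_dvd_coprimes ((Nat.coprime_two_left.2 hn).pow_left i) ht.dvd
    (orderOf_dvd_of_pow_eq_one h)

/-- An inverted element of odd order is moved by the inverting element. -/
theorem eq_one_of_commute {x g : G} (ho : Odd (orderOf x)) (he : g * x * g⁻¹ = x⁻¹)
    (hc : Commute g x) : x = 1 := by
  rw [hc.eq, mul_inv_cancel_right] at he
  have h2 : x ^ 2 = 1 := by rw [pow_two]; exact eq_inv_iff_mul_eq_one.1 he
  exact orderOf_eq_one_iff.1 (Nat.eq_one_of_dvd_coprimes (Nat.coprime_two_left.2 ho)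
    (orderOf_dvd_of_pow_eq_one h2) dvd_rfl)

variable [Finite G] [Fact p.Prime]

theorem odd_of_prime_pow (hp2 : p ≠ 2) {x : G} (h : ∃ k, orderOf x = p ^ k) : Odd (orderOf x) := by
  obtain ⟨k, hk⟩ := h
  rw [hk]
  exact ((Fact.out : p.Prime).odd_of_ne_two hp2).pow

/-- A 2-element of an inversion free subgroup centralizes each `p`-subgroup it normalizes. -/
theorem InvFree.mem_centralizer {H U : Subgroup G} (h : InvFree p H) (hUH : U ≤ H)
    (hU : IsPGroup p U) {t : G} (ht : t ∈ H) (htU : t ∈ Subgroup.normalizer (U : Set G))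
    (h2 : ∃ i, orderOf t = 2 ^ i) : t ∈ Subgroup.centralizer (U : Set G) := by
  obtain ⟨i, hi⟩ := h2
  have key : ∀ i, ∀ s : G, s ∈ H → s ∈ Subgroup.normalizer (U : Set G) → s ^ 2 ^ i = 1 →
      s ∈ Subgroup.centralizer (U : Set G) := by
    intro i
    induction i with
    | zero =>
      intro s _ _ hs
      rw [pow_zero, pow_one] at hs
      rw [hs]; exact one_mem _
    | succ i ih =>
      intro s hsH hsU hs
      have hsq := ih (s ^ 2) (pow_mem hsH 2) (pow_mem hsU 2) (by rw [← pow_mul, ← pow_succ']; exact hs)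
      refine Subgroup.mem_centralizer_iff.2 fun v hv => ?_
      have hsv : s * v * s⁻¹ ∈ U := (Subgroup.mem_normalizer_iff.1 hsU v).1 hv
      have hw : s * v * s⁻¹ * v⁻¹ ∈ U := U.mul_mem hsv (U.inv_mem hv)
      obtain ⟨k, hk⟩ := (IsPGroup.iff_orderOf.1 hU) ⟨_, hw⟩
      rw [Subgroup.orderOf_mk] at hk
      have hvv : s ^ 2 * v * (s ^ 2)⁻¹ = v := by
        rw [← Subgroup.mem_centralizer_iff.1 hsq v hv, mul_inv_cancel_right]
      have hinv : s * (s * v * s⁻¹ * v⁻¹) * s⁻¹ = (s * v * s⁻¹ * v⁻¹)⁻¹ := by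
        calc s * (s * v * s⁻¹ * v⁻¹) * s⁻¹ = (s ^ 2 * v * (s ^ 2)⁻¹) * (s * v⁻¹ * s⁻¹) := by simp [pow_two, mul_assoc]
          _ = v * (s * v⁻¹ * s⁻¹) := by rw [hvv]
          _ = _ := by group
      have h1 := h _ (hUH hw) s hsH ⟨k, hk⟩ hinv
      rw [mul_inv_eq_one, mul_inv_eq_iff_eq_mul] at h1
      exact h1.symm
  exact key i t ht htU (by rw [← hi]; exact pow_orderOf_eq_one t)

/-- A 2-element of an inversion free subgroup containing a self-centralizing normal `p`-subgroup is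
trivial. -/
theorem InvFree.two_element_eq_one {H U : Subgroup G} (hp2 : p ≠ 2) (h : InvFree p H) [U.Normal]
    (hU : IsPGroup p U) (hUH : U ≤ H) (hC : Subgroup.centralizer (U : Set G) ≤ U) {t : G}
    (ht : t ∈ H) (h2 : ∃ i, orderOf t = 2 ^ i) : t = 1 := by
  have h1 := hC (h.mem_centralizer hUH hU ht (by rw [Subgroup.normalizer_eq_top U]; trivial) h2)
  obtain ⟨k, hk⟩ := hU ⟨t, h1⟩
  obtain ⟨i, hi⟩ := h2
  exact eq_one_of_two_pow_of_odd hi ((Fact.out : p.Prime).odd_of_ne_two hp2).pow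
    (congrArg Subtype.val hk)

/-- Inversion freeness passes to images with kernel a `p`-group or of order prime to `p`. -/
theorem InvFree.map {K : Type*} [Group K] [Finite K] {H : Subgroup G} (hp2 : p ≠ 2) (h : InvFree p H)
    (f : G →* K) (hker : IsPGroup p ↥(f.ker ⊓ H) ∨ (Nat.card ↥(f.ker ⊓ H)).Coprime p) :
    InvFree p (H.map f) := by
  rintro y hy g hg hyk hinv
  obtain ⟨k, hk⟩ := hyk
  have hsurj : Function.Surjective (f.subgroupMap H) := f.subgroupMap_surjective H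
  obtain ⟨⟨y₀, hy₀H⟩, hy₀, i, hi⟩ := FaithfulModule.exists_lift_prime_pow (f.subgroupMap H) hsurj
    (Fact.out : p.Prime) (d := ⟨y, hy⟩) (j := k) (by rwa [Subgroup.orderOf_mk])
  have hy₀' : f y₀ = y := congrArg Subtype.val hy₀
  rw [Subgroup.orderOf_mk] at hi
  obtain ⟨g₀, hg₀H, rfl⟩ := hg
  obtain ⟨m, hm, h2⟩ := exists_odd_pow g₀
  have hinv' := inverts_pow_odd hinv hm
  rw [← map_pow] at hinv'
  set t := g₀ ^ m with ht
  have htH : t ∈ H := pow_mem hg₀H m
  rcases hker with hker | hker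
  · set U := (Subgroup.zpowers y).comap f ⊓ H with hU
    have hUp : IsPGroup p U := by
      intro u
      obtain ⟨l, hl⟩ : ∃ l : ℕ, f u.1 ^ p ^ l = 1 := by
        obtain ⟨j, hj⟩ := Subgroup.mem_zpowers_iff.1 u.2.1
        refine ⟨k, ?_⟩
        rw [← hj, ← zpow_natCast, ← zpow_mul, mul_comm, zpow_mul, zpow_natCast, ← hk,
          pow_orderOf_eq_one, one_zpow]
      have hmem : u.1 ^ p ^ l ∈ f.ker ⊓ H := ⟨by show f _ = 1; rw [map_pow, hl], pow_mem u.2.2 _⟩
      obtain ⟨l', hl'⟩ := hker ⟨_, hmem⟩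
      refine ⟨l + l', Subtype.ext ?_⟩
      have := congrArg Subtype.val hl'
      rw [Subgroup.coe_pow, Subgroup.coe_one] at this
      rw [Subgroup.coe_pow, Subgroup.coe_one, pow_add, pow_mul, ← this]
    have hnorm : ∀ s : G, f s ∈ Subgroup.normalizer (Subgroup.zpowers y : Set K) → s ∈ H →
        s ∈ Subgroup.normalizer (U : Set G) := by
      intro s hs hsH
      refine CfsgLib.Techniques.mem_normalizer_inf (Subgroup.le_normalizer_comap f hs)
        (Subgroup.le_normalizer hsH)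
    have htn : f t ∈ Subgroup.normalizer (Subgroup.zpowers y : Set K) := by
      refine Subgroup.mem_normalizer_iff_map_conj_eq.2 ?_
      show (Subgroup.zpowers y).map (MulAut.conj (f t) : K →* K) = _
      rw [MonoidHom.map_zpowers]
      show Subgroup.zpowers (f t * y * (f t)⁻¹) = _
      rw [hinv', Subgroup.zpowers_inv]
    have hc := h.mem_centralizer (U := U) inf_le_right hUp htH (hnorm t htn htH) h2
    refine eq_one_of_commute (odd_of_prime_pow hp2 ⟨k, hk⟩) hinv' ?_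
    have := congrArg f (Subgroup.mem_centralizer_iff.1 hc y₀
      ⟨by show f y₀ ∈ Subgroup.zpowers y; rw [hy₀']; exact Subgroup.mem_zpowers y, hy₀H⟩)
    rw [map_mul, map_mul, hy₀'] at this
    exact this.symm
  · haveI : ((f.ker ⊓ H).subgroupOf H).Normal := by
      rw [Subgroup.inf_subgroupOf_right]; infer_instance
    set N := (f.ker ⊓ H).subgroupOf H with hN
    have hNc : (Nat.card N).Coprime p := by
      rw [Nat.card_congr (Subgroup.subgroupOfEquivOfLe inf_le_right).toEquiv]; exact hker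
    set z : ↥H := ⟨y₀, hy₀H⟩ with hz
    have hzp : IsPGroup p (Subgroup.zpowers z) := IsPGroup.of_card (n := i) (by
      rw [Nat.card_zpowers, hz, Subgroup.orderOf_mk, hi])
    obtain ⟨n, hn, hnt⟩ := CfsgLib.PLocal.exists_mul_mem_normalizer hNc hzp (x := (⟨t, htH⟩ : ↥H))
      (by
          rintro w hw
          obtain ⟨j, rfl⟩ := Subgroup.mem_zpowers_iff.1 hw
          refine ⟨z ^ (-j), Subgroup.zpow_mem_zpowers z (-j), ?_⟩
          rw [QuotientGroup.mk'_apply, QuotientGroup.mk'_apply, QuotientGroup.eq, ← conj_zpow]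
          refine ⟨?_, SetLike.coe_mem ((z ^ (-j))⁻¹ * ((⟨t, htH⟩ : ↥H) * z * (⟨t, htH⟩ : ↥H)⁻¹) ^ j)⟩
          have e : f t * y ^ j * (f t)⁻¹ = y ^ (-j) := by rw [← conj_zpow, hinv', inv_zpow, zpow_neg]
          show f ((((z ^ (-j))⁻¹ * ((⟨t, htH⟩ : ↥H) * z * (⟨t, htH⟩ : ↥H)⁻¹) ^ j) : ↥H) : G) = 1
          simp only [Subgroup.coe_mul, Subgroup.coe_inv, Subgroup.coe_zpow, map_mul, map_inv, map_zpow,
            hz, hy₀']
          rw [conj_zpow, e, ← zpow_neg, neg_neg, ← zpow_add, add_neg_cancel, zpow_zero])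
    obtain ⟨l, hl⟩ := Subgroup.mem_zpowers_iff.1
        ((Subgroup.mem_normalizer_iff.1 hnt z).1 (Subgroup.mem_zpowers z))
    have hfn : f (n : G) = 1 := hn.1
    have hl' : y₀ ^ l = ((n : G) * t) * y₀ * ((n : G) * t)⁻¹ := congrArg Subtype.val hl
    have hfl : y ^ l = y⁻¹ := by
      have := congrArg f hl'
      rw [map_zpow, hy₀', map_mul, map_mul, map_inv, map_mul, hfn, one_mul, hy₀'] at this
      rw [this, hinv']
    have hord : orderOf y₀ = orderOf y := by
      refine Nat.dvd_antisymm (orderOf_dvd_of_pow_eq_one ?_) (hy₀' ▸ orderOf_map_dvd f y₀)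
      have hmem : (z ^ orderOf y) ∈ N := by
        refine ⟨?_, (z ^ orderOf y).2⟩
        show f _ = 1
        rw [Subgroup.coe_subtype, Subgroup.coe_pow, map_pow, hy₀',
          pow_orderOf_eq_one]
      exact congrArg Subtype.val (CfsgLib.PLocal.eq_one_of_mem_pGroup_of_mem_coprime hzp hNc
        (pow_mem (Subgroup.mem_zpowers z) _) hmem)
    have h1 : y₀ ^ (l + 1) = 1 := by
      rw [← orderOf_dvd_iff_zpow_eq_one, hord, orderOf_dvd_iff_zpow_eq_one, zpow_add_one, hfl,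
        inv_mul_cancel]
    have h2' : y₀ = 1 := by
      refine h y₀ hy₀H _ (H.mul_mem n.2 htH) ⟨i, hi⟩ ?_
      rw [← hl', eq_inv_iff_mul_eq_one, ← zpow_add_one, h1]
    rw [← hy₀', h2', map_one]

end CfsgLib.LocalEven.Inversion
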