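import Cfsg.Prelude.Def_LocalEven
import Cfsg.Agent.Lib.Involutions.Basic

/-!
Lifting a normalised `p`-subgroup with an acting 2-element through a surjection, and the
criterion for a dihedral group of order `2p` to be involved.
-/

set_option autoImplicit false

open Cfsg

namespace CfsgLib.LocalEven.Involved

/-- Lift a 2-element normalising a normal `p`-subgroup. -/
theorem exists_lift_normalizing {K D : Type*} [Group K] [Finite K] [Group D] {p : ℕ}
    [Fact p.Prime] (π : K →* D) (hπ : Function.Surjective π) (N : Subgroup D) [N.Normal]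
    (hN : IsPGroup p N) (d : D) {k : ℕ} (hd : orderOf d = 2 ^ k) :
    ∃ (x : K) (P : Subgroup K), (∃ j : ℕ, orderOf x = 2 ^ j) ∧ IsPGroup p P ∧
      x ∈ Subgroup.normalizer (P : Set K) ∧ π x = d ∧ P.map π = N := by
  have : Finite D := Finite.of_surjective π hπ
  have hMs : Function.Surjective (π.subgroupComap N) :=
    π.subgroupComap_surjective_of_surjective N hπ
  obtain ⟨P⟩ : Nonempty (Sylow p ↥(N.comap π)) := inferInstance
  have htop : ((P : Subgroup ↥(N.comap π)).map (π.subgroupComap N)) = ⊤ := by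
    have h2 := (Sylow.mapSurjective hMs P).3 (Q := (⊤ : Subgroup ↥N))
      (hN.of_equiv Subgroup.topEquiv.symm) le_top
    simpa using h2.symm
  have hPN : ((P : Subgroup ↥(N.comap π)).map (N.comap π).subtype).map π = N := by
    calc ((P : Subgroup ↥(N.comap π)).map (N.comap π).subtype).map π
        = ((P : Subgroup ↥(N.comap π)).map (π.subgroupComap N)).map N.subtype := by
          rw [Subgroup.map_map, Subgroup.map_map]; rfl
      _ = N := by rw [htop, ← MonoidHom.range_eq_map, Subgroup.range_subtype]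
  set P' := (P : Subgroup ↥(N.comap π)).map (N.comap π).subtype with hP'
  have hfr : Subgroup.normalizer (P' : Set K) ⊔ N.comap π = ⊤ := Sylow.normalizer_sup_eq_top P
  have hdmem : d ∈ (Subgroup.normalizer (P' : Set K)).map π := by
    have h1 : (Subgroup.normalizer (P' : Set K)).map π = ⊤ := by
      rw [eq_top_iff]
      have h2 : (⊤ : Subgroup D) ≤ (Subgroup.normalizer (P' : Set K)).map π ⊔ N := by
        rw [← Subgroup.map_comap_eq_self_of_surjective hπ N, ← Subgroup.map_sup, hfr,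
          Subgroup.map_top_of_surjective π hπ]
      refine h2.trans (sup_le le_rfl ?_)
      calc N = P'.map π := hPN.symm
        _ ≤ _ := Subgroup.map_mono Subgroup.le_normalizer
    rw [h1]; trivial
  obtain ⟨n, hn, hnd⟩ := hdmem
  obtain ⟨v, m, hm, hv⟩ :=
    Nat.exists_eq_pow_mul_and_not_dvd (orderOf_pos n).ne' 2 (by norm_num)
  have hco : Nat.Coprime m (2 ^ v) :=
    Nat.Coprime.pow_right v (((Nat.prime_two.coprime_iff_not_dvd).2 hm).symm)
  have hkv : k ≤ v := by
    have h1 : 2 ^ k ∣ 2 ^ v * m := by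
      rw [← hd, ← hv, ← hnd]; exact orderOf_map_dvd π n
    have h2 : Nat.Coprime (2 ^ k) m :=
      Nat.Coprime.pow_left k ((Nat.prime_two.coprime_iff_not_dvd).2 hm)
    exact (Nat.pow_dvd_pow_iff_le_right (by norm_num)).1 (h2.dvd_of_dvd_mul_right h1)
  obtain ⟨e, he1, he0⟩ := Nat.chineseRemainder hco.symm 1 0
  refine ⟨n ^ e, P', ?_, P.2.map _, Subgroup.pow_mem _ hn e, ?_, hPN⟩
  · have h1 : (n ^ e) ^ (2 ^ v) = 1 := by
      rw [← pow_mul, ← orderOf_dvd_iff_pow_eq_one, hv, mul_comm e]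
      exact mul_dvd_mul_left _ ((Nat.modEq_zero_iff_dvd).1 he0)
    obtain ⟨j, -, hj⟩ := (Nat.dvd_prime_pow Nat.prime_two).1 (orderOf_dvd_of_pow_eq_one h1)
    exact ⟨j, hj⟩
  · rw [map_pow, hnd]
    have : e ≡ 1 [MOD orderOf d] := Nat.ModEq.of_dvd (by rw [hd]; exact pow_dvd_pow 2 hkv) he1
    calc d ^ e = d ^ 1 := pow_eq_pow_iff_modEq.2 this
      _ = d := pow_one d

variable {G : Type*} [Group G]

theorem exists_inverted {p : ℕ} (P : Subgroup G) (hP : IsPGroup p P) :
    ∀ (k : ℕ) (x : G), orderOf x = 2 ^ k → x ∈ Subgroup.normalizer (P : Set G) →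
      x ∉ Subgroup.centralizer (P : Set G) →
      ∃ x' y : G, (∃ j : ℕ, orderOf x' = 2 ^ j) ∧ y ∈ P ∧ y ≠ 1 ∧ x' * y * x'⁻¹ = y⁻¹ := by
  intro k
  induction k with
  | zero =>
    intro x hx _ hnc
    rw [pow_zero, orderOf_eq_one_iff] at hx
    subst hx
    exact absurd (Subgroup.one_mem _) hnc
  | succ k ih =>
    intro x hx hn hnc
    by_cases hc : x ^ 2 ∈ Subgroup.centralizer (P : Set G)
    · rw [Subgroup.mem_centralizer_iff] at hnc
      push_neg at hnc
      obtain ⟨u, hu, hux⟩ := hnc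
      have hxu : x * u * x⁻¹ ∈ P := (Subgroup.mem_normalizer_iff.1 hn u).1 hu
      refine ⟨x, u⁻¹ * (x * u * x⁻¹), ⟨k + 1, hx⟩, P.mul_mem (P.inv_mem hu) hxu, ?_, ?_⟩
      · intro h
        have h1 : x * u * x⁻¹ = u := (inv_mul_eq_one.1 h).symm
        exact hux (mul_inv_eq_iff_eq_mul.1 h1).symm
      · have h2 : u * x ^ 2 = x ^ 2 * u := Subgroup.mem_centralizer_iff.1 hc u hu
        calc x * (u⁻¹ * (x * u * x⁻¹)) * x⁻¹ = x * u⁻¹ * x⁻¹ * (x ^ 2 * u) * (x ^ 2)⁻¹ := by
              rw [pow_two]; group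
          _ = x * u⁻¹ * x⁻¹ * u := by rw [← h2]; group
          _ = (u⁻¹ * (x * u * x⁻¹))⁻¹ := by group
    · refine ih (x ^ 2) ?_ (Subgroup.pow_mem _ hn 2) hc
      rw [orderOf_pow' x (by norm_num), hx, pow_succ, Nat.gcd_mul_left_left, Nat.mul_div_cancel _ (by norm_num)]

theorem involves_dihedral_of_inverted [Finite G] {p : ℕ} [hp : Fact p.Prime] (hp2 : p ≠ 2)
    {x y : G} {k l : ℕ} (hx : orderOf x = 2 ^ k) (hy : orderOf y = p ^ l) (hy1 : y ≠ 1)
    (hxy : x * y * x⁻¹ = y⁻¹) : Involves (DihedralGroup p) G := by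
  obtain ⟨l', rfl⟩ : ∃ l', l = l' + 1 := by
    refine Nat.exists_eq_add_one.2 (Nat.pos_of_ne_zero ?_)
    rintro rfl
    rw [pow_zero, orderOf_eq_one_iff] at hy
    exact hy1 hy
  set z := y ^ (p ^ l') with hzdef
  have hz : orderOf z = p := by
    rw [hzdef, orderOf_pow' y (pow_ne_zero _ hp.out.ne_zero), hy, pow_succ,
      Nat.gcd_mul_right_left, Nat.mul_div_cancel_left _ (pow_pos hp.out.pos _)]
  have hxz : x * z * x⁻¹ = z⁻¹ := CfsgLib.Involutions.inverts_pow hxy _
  have hzz : z ≠ z⁻¹ := by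
    intro h
    have : z ^ 2 = 1 := by rw [pow_two]; nth_rw 1 [h]; exact inv_mul_cancel z
    have h2 := orderOf_dvd_of_pow_eq_one this
    rw [hz] at h2
    exact hp2 ((Nat.prime_dvd_prime_iff_eq hp.out Nat.prime_two).1 h2)
  have hcz : Commute (x ^ 2) z := by
    have h : x ^ 2 * z * (x ^ 2)⁻¹ = z := by
      calc x ^ 2 * z * (x ^ 2)⁻¹ = x * (x * z * x⁻¹) * x⁻¹ := by rw [pow_two]; group
        _ = x * z⁻¹ * x⁻¹ := by rw [hxz]
        _ = (x * z * x⁻¹)⁻¹ := by group
        _ = z := by rw [hxz, inv_inv]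
    exact mul_inv_eq_iff_eq_mul.1 h
  set K := Subgroup.closure ({x, z} : Set G) with hK
  have hxK : x ∈ K := Subgroup.subset_closure (Or.inl rfl)
  have hzK : z ∈ K := Subgroup.subset_closure (Or.inr rfl)
  set R := Subgroup.zpowers (x ^ 2) with hR
  have hRn : (R.subgroupOf K).Normal := by
    have hc : K ≤ Subgroup.centralizer (R : Set G) := by
      rw [hK, Subgroup.closure_le]
      intro a ha
      rw [SetLike.mem_coe, Subgroup.mem_centralizer_iff]
      rintro b ⟨i, rfl⟩
      rcases ha with ha | ha <;> subst ha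
      · exact ((Commute.refl a).pow_left 2).zpow_left i
      · exact hcz.zpow_left i
    refine ⟨fun r hr g => ?_⟩
    rw [Subgroup.mem_subgroupOf] at hr ⊢
    have h1 := Subgroup.mem_centralizer_iff.1 (hc g.2) _ hr
    simpa [← h1] using hr
  refine ⟨K, R, hRn, ?_⟩
  set q : ↥K →* ↥K ⧸ R.subgroupOf K := QuotientGroup.mk' _ with hq
  set a := q ⟨x, hxK⟩ with ha
  set b := q ⟨z, hzK⟩ with hb
  have ha1 : a ≠ 1 := by
    intro h
    rw [ha, hq, QuotientGroup.mk'_apply, QuotientGroup.eq_one_iff, Subgroup.mem_subgroupOf] at h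
    obtain ⟨i, hi⟩ := h
    have hcx : Commute x z := (show (x ^ 2) ^ i = x from hi) ▸ hcz.zpow_left i
    apply hzz
    rw [← hxz, hcx.eq]; group
  have ha2 : orderOf a = 2 := by
    refine orderOf_eq_prime ?_ ha1
    rw [ha, ← map_pow, hq, QuotientGroup.mk'_apply, QuotientGroup.eq_one_iff, Subgroup.mem_subgroupOf]
    exact Subgroup.mem_zpowers _
  have hb1 : b ≠ 1 := by
    intro h
    rw [hb, hq, QuotientGroup.mk'_apply, QuotientGroup.eq_one_iff, Subgroup.mem_subgroupOf] at h
    obtain ⟨i, hi⟩ := h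
    have hcx : Commute x z :=
      (show (x ^ 2) ^ i = z from hi) ▸ ((Commute.refl x).pow_right 2).zpow_right i
    apply hzz
    rw [← hxz, hcx.eq]; group
  have hbo : orderOf b = p := by
    refine orderOf_eq_prime ?_ hb1
    rw [hb, ← map_pow]
    have : (⟨z, hzK⟩ : ↥K) ^ p = 1 := Subtype.ext (by rw [← hz]; exact pow_orderOf_eq_one z)
    rw [this, map_one]
  have hab : a * b * a⁻¹ = b⁻¹ := by
    rw [ha, hb, ← map_inv, ← map_inv, ← map_mul, ← map_mul]
    exact congrArg q (Subtype.ext hxz)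
  have hab2 : orderOf (a * b) = 2 := by
    refine orderOf_eq_prime ?_ ?_
    · have haa : a⁻¹ = a := CfsgLib.Involutions.inv_eq_self_of_involution ha2
      calc (a * b) ^ 2 = a * b * a⁻¹ * b := by rw [haa, pow_two, mul_assoc, mul_assoc, mul_assoc]
        _ = 1 := by rw [hab, inv_mul_cancel]
    · intro h
      have h' : b = a := by
        rw [← CfsgLib.Involutions.inv_eq_self_of_involution ha2]
        exact eq_inv_of_mul_eq_one_right h
      rw [h', ha2] at hbo
      exact hp2 hbo.symm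
  have hgen : Subgroup.closure ({a, a * b} : Set (↥K ⧸ R.subgroupOf K)) = ⊤ := by
    rw [eq_top_iff]
    have h1 : (⊤ : Subgroup ↥K) = Subgroup.closure {⟨x, hxK⟩, ⟨z, hzK⟩} := by
      apply Subgroup.map_injective K.subtype_injective
      rw [MonoidHom.map_closure, ← MonoidHom.range_eq_map, Subgroup.range_subtype, Set.image_pair]
      exact hK
    rw [← Subgroup.map_top_of_surjective q (QuotientGroup.mk'_surjective _), h1,
      MonoidHom.map_closure, Set.image_pair, Subgroup.closure_le]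
    have ma : a ∈ Subgroup.closure ({a, a * b} : Set (↥K ⧸ R.subgroupOf K)) :=
      Subgroup.subset_closure (Or.inl rfl)
    have mab : a * b ∈ Subgroup.closure ({a, a * b} : Set (↥K ⧸ R.subgroupOf K)) :=
      Subgroup.subset_closure (Or.inr rfl)
    rintro c (rfl | hc)
    · exact ma
    · rw [Set.mem_singleton_iff] at hc
      subst hc
      have := mul_mem (inv_mem ma) mab
      rwa [inv_mul_cancel_left] at this
  obtain ⟨e⟩ := CfsgLib.Involutions.closure_pair_mulEquiv_dihedral ha2 hab2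
  have hord : orderOf (a * (a * b)) = p := by
    rw [← mul_assoc, CfsgLib.Involutions.mul_self_eq_one ha2, one_mul, hbo]
  rw [hgen, hord] at e
  exact ⟨Subgroup.topEquiv.symm.trans e⟩

theorem exists_acting_of_involves [Finite G] {p : ℕ} [hp : Fact p.Prime] (hp2 : p ≠ 2)
    (h : Involves (DihedralGroup p) G) :
    ∃ (x : G) (P : Subgroup G), (∃ k : ℕ, orderOf x = 2 ^ k) ∧ IsPGroup p ↥P ∧
      x ∈ Subgroup.normalizer (P : Set G) ∧ x ∉ Subgroup.centralizer (P : Set G) := by
  obtain ⟨K, R, hn, ⟨e⟩⟩ := h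
  set π : ↥K →* DihedralGroup p := e.toMonoidHom.comp (QuotientGroup.mk' _) with hπdef
  have hπ : Function.Surjective π := e.surjective.comp (QuotientGroup.mk'_surjective _)
  set N := Subgroup.zpowers (DihedralGroup.r (1 : ZMod p)) with hNdef
  have hNp : IsPGroup p N := by
    refine IsPGroup.of_card (n := 1) ?_
    rw [hNdef, Nat.card_zpowers, DihedralGroup.orderOf_r_one, pow_one]
  have hNn : N.Normal := by
    apply Subgroup.normal_of_index_eq_two
    have h1 := N.card_mul_index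
    rw [DihedralGroup.nat_card, hNdef, Nat.card_zpowers, DihedralGroup.orderOf_r_one] at h1
    exact Nat.eq_of_mul_eq_mul_left hp.out.pos (by rw [h1, mul_comm])
  obtain ⟨x, P, hx, hP, hxn, hxd, hPN⟩ := exists_lift_normalizing π hπ N hNp
    (DihedralGroup.sr (0 : ZMod p)) (k := 1) (by rw [DihedralGroup.orderOf_sr, pow_one])
  refine ⟨x, P.map K.subtype, ?_, hP.map _, ?_, ?_⟩
  · simpa using hx
  · exact Subgroup.le_normalizer_map _ ⟨x, hxn, rfl⟩
  · intro hc
    obtain ⟨u, hu, hur⟩ : DihedralGroup.r (1 : ZMod p) ∈ P.map π := by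
      rw [hPN]; exact Subgroup.mem_zpowers _
    have h1 := Subgroup.mem_centralizer_iff.1 hc (u : G) ⟨u, hu, rfl⟩
    have h2 : π (u * x) = π (x * u) := congrArg π (Subtype.ext h1)
    rw [map_mul, map_mul, hur, hxd, DihedralGroup.r_mul_sr, DihedralGroup.sr_mul_r] at h2
    injection h2 with h3
    apply hp2
    have h4 : ((2 : ℕ) : ZMod p) = 0 := by linear_combination (-1 : ZMod p) * h3
    rw [ZMod.natCast_eq_zero_iff] at h4
    exact (Nat.prime_dvd_prime_iff_eq hp.out Nat.prime_two).1 h4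

end CfsgLib.LocalEven.Involved
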