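import Mathlib
import Cfsg.Prelude.Def_SylowControl
import Cfsg.Prelude.Def_SylowChains

/-!
# Control of Sylow intersections

The chains of `Cfsg.ControlsSylowIntersections` as a transitive closure of one-step links.
-/

namespace CfsgLib.SylowControl

variable {G : Type*} [Group G] {p : ℕ}

theorem mem_conjRight {g y : G} {X : Subgroup G} :
    y ∈ Cfsg.subgroupConjRight g X ↔ g * y * g⁻¹ ∈ X := by
  rw [Cfsg.subgroupConjRight, Subgroup.mem_map_equiv, MulAut.conj_symm_apply, inv_inv]

theorem conjRight_mul (g h : G) (X : Subgroup G) :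
    Cfsg.subgroupConjRight (g * h) X =
      Cfsg.subgroupConjRight h (Cfsg.subgroupConjRight g X) := by
  ext y
  simp [mem_conjRight, mul_assoc]

theorem conjRight_one (X : Subgroup G) : Cfsg.subgroupConjRight 1 X = X := by
  ext y
  simp [mem_conjRight]

theorem conjRight_inv_conjRight (g : G) (X : Subgroup G) :
    Cfsg.subgroupConjRight g⁻¹ (Cfsg.subgroupConjRight g X) = X := by
  rw [← conjRight_mul, mul_inv_cancel, conjRight_one]

theorem conjRight_conjRight_inv (g : G) (X : Subgroup G) :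
    Cfsg.subgroupConjRight g (Cfsg.subgroupConjRight g⁻¹ X) = X := by
  rw [← conjRight_mul, inv_mul_cancel, conjRight_one]

theorem conjRight_mono {g : G} {X Y : Subgroup G} (h : X ≤ Y) :
    Cfsg.subgroupConjRight g X ≤ Cfsg.subgroupConjRight g Y := Subgroup.map_mono h

theorem conjRight_inf (g : G) (X Y : Subgroup G) :
    Cfsg.subgroupConjRight g (X ⊓ Y) =
      Cfsg.subgroupConjRight g X ⊓ Cfsg.subgroupConjRight g Y := by
  ext y
  simp [mem_conjRight]

theorem conjRight_eq_self_of_mem {g : G} {X : Subgroup G} (h : g ∈ X) :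
    Cfsg.subgroupConjRight g X = X := by
  ext y
  rw [mem_conjRight]
  constructor
  · intro hy
    have := X.mul_mem (X.mul_mem (X.inv_mem h) hy) h
    simpa [mul_assoc] using this
  · intro hy
    exact X.mul_mem (X.mul_mem h hy) (X.inv_mem h)

theorem mem_normalizer_iff_conjRight {g : G} {X : Subgroup G} :
    g ∈ Subgroup.normalizer (X : Set G) ↔ Cfsg.subgroupConjRight g X = X := by
  rw [Subgroup.mem_normalizer_iff, SetLike.ext_iff]
  simp only [mem_conjRight]
  exact forall_congr' fun y => Iff.comm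

theorem card_conjRight (g : G) (X : Subgroup G) :
    Nat.card (Cfsg.subgroupConjRight g X) = Nat.card X :=
  Subgroup.card_map_of_injective (MulEquiv.injective _)

theorem conjRight_ne_bot (g : G) {X : Subgroup G} (h : X ≠ ⊥) :
    Cfsg.subgroupConjRight g X ≠ ⊥ := by
  rw [Cfsg.subgroupConjRight, Ne, Subgroup.map_eq_bot_iff_of_injective _ (MulEquiv.injective _)]
  exact h

theorem normalizer_conjRight (g : G) (X : Subgroup G) :
    Subgroup.normalizer (Cfsg.subgroupConjRight g X : Set G) =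
      Cfsg.subgroupConjRight g (Subgroup.normalizer (X : Set G)) := by
  ext y
  rw [mem_conjRight, mem_normalizer_iff_conjRight, mem_normalizer_iff_conjRight]
  constructor
  · intro h
    have h2 := congrArg (Cfsg.subgroupConjRight g⁻¹) h
    rw [← conjRight_mul, ← conjRight_mul, ← conjRight_mul, mul_inv_cancel, conjRight_one] at h2
    rwa [← mul_assoc] at h2
  · intro h
    rw [← conjRight_mul, show g * y = (g * y * g⁻¹) * g by group, conjRight_mul, h]

/-- The right conjugate of a Sylow subgroup. -/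
noncomputable def conjSylow [Finite G] [Fact p.Prime] (g : G) (S : Sylow p G) : Sylow p G :=
  Sylow.ofCard (Cfsg.subgroupConjRight g (S : Subgroup G))
    (by rw [card_conjRight]; exact S.card_eq_multiplicity)

@[simp] theorem coe_conjSylow [Finite G] [Fact p.Prime] (g : G) (S : Sylow p G) :
    (conjSylow g S : Subgroup G) = Cfsg.subgroupConjRight g (S : Subgroup G) := rfl

theorem exists_conjRight_eq [Finite G] [Fact p.Prime] (S T : Sylow p G) :
    ∃ g : G, Cfsg.subgroupConjRight g (S : Subgroup G) = (T : Subgroup G) := by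
  obtain ⟨g, hg⟩ := MulAction.exists_smul_eq G S T
  refine ⟨g⁻¹, ?_⟩
  rw [← hg]
  ext y
  rw [mem_conjRight, Sylow.coe_subgroup_smul, Subgroup.mem_pointwise_smul_iff_inv_smul_mem]
  simp [MulAut.smul_def, mul_assoc]

section Members

variable [Finite G] [Fact p.Prime]

theorem mem_sylowMembers_iff {𝓕 : Set (Subgroup G)} (S : Sylow p G) {X : Subgroup G} :
    X ∈ Cfsg.sylowMembers p 𝓕 (S : Subgroup G) ↔
      X ∈ 𝓕 ∧ ¬ p ∣ (S : Subgroup G).relIndex X := by
  refine and_congr Iff.rfl ?_
  constructor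
  · rintro ⟨P, hP⟩
    have h : (P : Subgroup X) = (S : Subgroup G).subgroupOf X := by
      apply Subgroup.map_injective X.subtype_injective
      rw [hP, Subgroup.subgroupOf_map_subtype]
    rw [Subgroup.relIndex, ← h]
    exact P.not_dvd_index
  · intro h
    have hpg : IsPGroup p ((S : Subgroup G).subgroupOf X) :=
      S.isPGroup'.comap_of_injective X.subtype X.subtype_injective
    exact ⟨hpg.toSylow h, Subgroup.subgroupOf_map_subtype _ _⟩

theorem sylowMembers_conjRight {𝓕 : Set (Subgroup G)} (h𝓕 : Cfsg.IsNormalSet 𝓕) (g : G)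
    (S : Sylow p G) {X : Subgroup G} (hX : X ∈ Cfsg.sylowMembers p 𝓕 (S : Subgroup G)) :
    Cfsg.subgroupConjRight g X ∈
      Cfsg.sylowMembers p 𝓕 (Cfsg.subgroupConjRight g (S : Subgroup G)) := by
  rw [← coe_conjSylow, mem_sylowMembers_iff, coe_conjSylow]
  rw [mem_sylowMembers_iff] at hX
  refine ⟨h𝓕 X hX.1 g, ?_⟩
  rw [Cfsg.subgroupConjRight, Cfsg.subgroupConjRight,
    Subgroup.relIndex_map_map_of_injective _ _ (MulEquiv.injective _)]
  exact hX.2

/-- One link of a chain controlling `W`. -/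
def Step (p : ℕ) (𝓕 : Set (Subgroup G)) (W : Subgroup G) (c d : Sylow p G) : Prop :=
  ∃ (X : Subgroup G) (x : G),
    X ∈ Cfsg.sylowMembers p 𝓕 (c : Subgroup G) ∧ X ∈ Cfsg.sylowMembers p 𝓕 (d : Subgroup G) ∧
    x ∈ X ∧ Cfsg.subgroupConjRight x (d : Subgroup G) = (c : Subgroup G) ∧
    W ≤ (d : Subgroup G) ⊓ X

/-- Chains of links. -/
def Linked (p : ℕ) (𝓕 : Set (Subgroup G)) (W : Subgroup G) : Sylow p G → Sylow p G → Prop :=
  Relation.ReflTransGen (Step p 𝓕 W)

omit [Finite G] [Fact p.Prime] in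
theorem linked_of_chain {𝓕 : Set (Subgroup G)} {W : Subgroup G} {n : ℕ}
    (c : Fin (n + 1) → Sylow p G) (h : ∀ i : Fin n, Step p 𝓕 W (c i.castSucc) (c i.succ)) :
    Linked p 𝓕 W (c 0) (c (Fin.last n)) := by
  suffices ∀ i : Fin (n + 1), Linked p 𝓕 W (c 0) (c i) from this _
  intro i
  induction i using Fin.induction with
  | zero => exact .refl
  | succ i ih => exact ih.tail (h i)

omit [Finite G] [Fact p.Prime] in
theorem controls_linked {𝓕 : Set (Subgroup G)} (hc : Cfsg.ControlsSylowIntersections p 𝓕)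
    {W : Subgroup G} {S T : Sylow p G} (hne : (S : Subgroup G) ⊓ (T : Subgroup G) ≠ ⊥)
    (hW : W ≤ (S : Subgroup G) ⊓ (T : Subgroup G)) : Linked p 𝓕 W S T := by
  by_cases h : S = T
  · subst h; exact .refl
  obtain ⟨n, c, X, x, h0, hn, hi⟩ := hc S T h hne
  rw [← h0, ← hn]
  exact linked_of_chain c fun i =>
    ⟨X i, x i, (hi i).1, (hi i).2.1, (hi i).2.2.1, (hi i).2.2.2.1, hW.trans (hi i).2.2.2.2⟩

omit [Finite G] [Fact p.Prime] in
theorem exists_chain {𝓕 : Set (Subgroup G)} {W : Subgroup G} {S T : Sylow p G}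
    (h : Linked p 𝓕 W S T) :
    ∃ (n : ℕ) (c : Fin (n + 1) → Sylow p G) (X : Fin n → Subgroup G) (x : Fin n → G),
      c 0 = S ∧ c (Fin.last n) = T ∧ ∀ i : Fin n,
        X i ∈ Cfsg.sylowMembers p 𝓕 (c i.castSucc : Subgroup G) ∧
        X i ∈ Cfsg.sylowMembers p 𝓕 (c i.succ : Subgroup G) ∧
        x i ∈ X i ∧ Cfsg.subgroupConjRight (x i) (c i.succ : Subgroup G) =
          (c i.castSucc : Subgroup G) ∧
        W ≤ (c i.succ : Subgroup G) ⊓ X i := by
  induction h with
  | refl => exact ⟨0, fun _ => S, Fin.elim0, Fin.elim0, rfl, rfl, fun i => i.elim0⟩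
  | @tail b d _ hbd ih =>
    obtain ⟨n, c, X, x, h0, hn, hi⟩ := ih
    obtain ⟨X', x', hX'⟩ := hbd
    refine ⟨n + 1, Fin.snoc c d, Fin.snoc X X', Fin.snoc x x', ?_, Fin.snoc_last _ _, ?_⟩
    · exact (Fin.snoc_castSucc (α := fun _ => Sylow p G) d c 0).trans h0
    · intro i
      induction i using Fin.lastCases with
      | last =>
        simp only [Fin.snoc_castSucc, Fin.snoc_last, hn, Fin.succ_last]
        exact hX'
      | cast i =>
        simp only [Fin.snoc_castSucc, Fin.succ_castSucc]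
        exact hi i

omit [Finite G] [Fact p.Prime] in
theorem controls_of_linked {𝓕 : Set (Subgroup G)}
    (h : ∀ S T : Sylow p G, S ≠ T → (S : Subgroup G) ⊓ (T : Subgroup G) ≠ ⊥ →
      Linked p 𝓕 ((S : Subgroup G) ⊓ (T : Subgroup G)) S T) :
    Cfsg.ControlsSylowIntersections p 𝓕 := fun S T hne hi => exists_chain (h S T hne hi)

omit [Finite G] [Fact p.Prime] in
theorem Linked.mono {𝓕 : Set (Subgroup G)} {W W' : Subgroup G} (hW : W' ≤ W) {S T : Sylow p G}
    (h : Linked p 𝓕 W S T) : Linked p 𝓕 W' S T :=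
  Relation.ReflTransGen.mono
    (fun c d (hh : Step p 𝓕 W c d) => show Step p 𝓕 W' c d from
      let ⟨X, x, h1, h2, h3, h4, h5⟩ := hh
      ⟨X, x, h1, h2, h3, h4, hW.trans h5⟩) _ _ h

theorem Linked.conj {𝓕 : Set (Subgroup G)} (h𝓕 : Cfsg.IsNormalSet 𝓕) (g : G) {W : Subgroup G}
    {S T : Sylow p G} (h : Linked p 𝓕 W S T) :
    Linked p 𝓕 (Cfsg.subgroupConjRight g W) (conjSylow g S) (conjSylow g T) := by
  induction h with
  | refl => exact .refl
  | @tail c d _ hcd ih =>
  refine Relation.ReflTransGen.tail ih ?_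
  obtain ⟨X, x, h1, h2, h3, h4, h5⟩ := hcd
  refine ⟨Cfsg.subgroupConjRight g X, g⁻¹ * x * g, ?_, ?_, ?_, ?_, ?_⟩
  · rw [coe_conjSylow]; exact sylowMembers_conjRight h𝓕 g c h1
  · rw [coe_conjSylow]; exact sylowMembers_conjRight h𝓕 g d h2
  · rw [mem_conjRight]; simpa [mul_assoc] using h3
  · rw [coe_conjSylow, coe_conjSylow, ← conjRight_mul, show g * (g⁻¹ * x * g) = x * g by group,
      conjRight_mul, h4]
  · rw [coe_conjSylow, ← conjRight_inf]; exact conjRight_mono h5

/-- Elements along a chain from `S`: the last Sylow subgroup is conjugate to `S` by an element of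
any subgroup containing the members of `𝓕(S)`. -/
theorem Linked.exists_conj_mem {𝓕 : Set (Subgroup G)} (h𝓕 : Cfsg.IsNormalSet 𝓕) {W : Subgroup G}
    {M : Subgroup G} {S : Sylow p G}
    (hM : ∀ X ∈ Cfsg.sylowMembers p 𝓕 (S : Subgroup G), X ≤ M) {c d : Sylow p G}
    (h : Linked p 𝓕 W c d)
    (hc : ∃ m ∈ M, (c : Subgroup G) = Cfsg.subgroupConjRight m (S : Subgroup G)) :
    ∃ m ∈ M, (d : Subgroup G) = Cfsg.subgroupConjRight m (S : Subgroup G) := by
  induction h with
  | refl => exact hc
  | @tail b d _ hbd ih =>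
    obtain ⟨m, hm, hb⟩ := ih
    obtain ⟨X, x, h1, -, h3, h4, -⟩ := hbd
    refine ⟨m * x⁻¹, ?_, ?_⟩
    · have h5 := hM _ (by
        have := sylowMembers_conjRight h𝓕 m⁻¹ b h1
        rwa [hb, conjRight_inv_conjRight] at this)
      have h6 : m * x⁻¹ * m⁻¹ ∈ M := h5 (by
        rw [mem_conjRight]; simpa [mul_assoc] using X.inv_mem h3)
      have := M.mul_mem h6 hm
      simpa [mul_assoc] using this
    · rw [conjRight_mul, ← hb, ← h4, conjRight_inv_conjRight]

/-- A `p`-subgroup properly inside a Sylow subgroup grows in its normalizer. -/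
theorem card_lt_inf_normalizer (T : Sylow p G) {P : Subgroup G} (hP : P ≤ (T : Subgroup G))
    (hne : P ≠ (T : Subgroup G)) :
    Nat.card P < Nat.card ↥((T : Subgroup G) ⊓ Subgroup.normalizer (P : Set G)) := by
  haveI : Group.IsNilpotent T := T.isPGroup'.isNilpotent
  have hlt : P.subgroupOf (T : Subgroup G) < ⊤ := by
    rw [lt_top_iff_ne_top, Ne, Subgroup.subgroupOf_eq_top]
    exact fun h => hne (le_antisymm hP h)
  obtain ⟨y, hy, hy'⟩ := SetLike.exists_of_lt
    (Group.normalizerCondition_of_isNilpotent (G := T) _ hlt)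
  have hyP : (y : G) ∈ Subgroup.normalizer (P : Set G) := by
    rw [Subgroup.mem_normalizer_iff]
    intro k
    constructor
    · intro hk
      exact ((Subgroup.mem_normalizer_iff.1 hy) ⟨k, hP hk⟩).1 hk
    · intro hk
      have hkT : k ∈ (T : Subgroup G) := by
        have := mul_mem (mul_mem (inv_mem y.2) (hP hk)) y.2
        simpa [mul_assoc] using this
      exact ((Subgroup.mem_normalizer_iff.1 hy) ⟨k, hkT⟩).2 hk
  have hle : P ≤ (T : Subgroup G) ⊓ Subgroup.normalizer (P : Set G) :=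
    le_inf hP Subgroup.le_normalizer
  refine lt_of_le_of_ne (Subgroup.card_le_of_le hle) fun e => hy' ?_
  exact Subgroup.mem_subgroupOf.2 ((Subgroup.eq_of_le_of_card_ge hle e.ge).ge ⟨y.2, hyP⟩)

/-- A Sylow subgroup meeting `X` in a Sylow subgroup of `X` lies in `X` when `X` contains a Sylow
subgroup. -/
theorem sylow_le_of_relIndex (c : Sylow p G) {X : Subgroup G} (P : Sylow p G)
    (hPX : (P : Subgroup G) ≤ X) (h : ¬ p ∣ (c : Subgroup G).relIndex X) :
    (c : Subgroup G) ≤ X := by
  have hpg : IsPGroup p ((c : Subgroup G).subgroupOf X) :=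
    c.isPGroup'.comap_of_injective X.subtype X.subtype_injective
  have h1 : Nat.card ((c : Subgroup G).subgroupOf X) = Nat.card (P : Subgroup G) := by
    have e1 : Nat.card (hpg.toSylow h : Subgroup X) = Nat.card ((c : Subgroup G).subgroupOf X) := rfl
    have e2 : Nat.card ((P.subtype hPX : Sylow p X) : Subgroup X) = Nat.card (P : Subgroup G) := by
      rw [Sylow.coe_subtype]
      exact Nat.card_congr (Subgroup.subgroupOfEquivOfLe hPX).toEquiv
    rw [← e1, ← e2]
    exact ((hpg.toSylow h).card_eq_multiplicity).trans (P.subtype hPX).card_eq_multiplicity.symm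
  have h2 : Nat.card ↥((c : Subgroup G) ⊓ X) = Nat.card (c : Subgroup G) := by
    rw [← Subgroup.subgroupOf_map_subtype, Subgroup.card_map_of_injective X.subtype_injective, h1]
    exact P.card_eq_multiplicity.trans c.card_eq_multiplicity.symm
  have := Subgroup.eq_of_le_of_card_ge (inf_le_left : (c : Subgroup G) ⊓ X ≤ c) h2.ge
  exact this ▸ inf_le_right

omit [Finite G] [Fact p.Prime] in
theorem map_conjRight_subtype (M : Subgroup G) (x : M) (Y : Subgroup M) :
    (Cfsg.subgroupConjRight x Y).map M.subtype =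
      Cfsg.subgroupConjRight (x : G) (Y.map M.subtype) := by
  rw [Cfsg.subgroupConjRight, Cfsg.subgroupConjRight, Subgroup.map_map, Subgroup.map_map]
  rfl

omit [Finite G] [Fact p.Prime] in
theorem mem_functorFamily_top {f : Subgroup G → Set (Subgroup G)} {P : Sylow p G} {F : Subgroup G}
    (hF : F ∈ f (P : Subgroup G)) :
    Subgroup.normalizer (F : Set G) ∈ Cfsg.functorFamily p f ⊤ := by
  refine ⟨P.subtype le_top, F, ?_, (top_inf_eq _).symm⟩
  rwa [Sylow.coe_subtype, Subgroup.map_subgroupOf_eq_of_le le_top]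

end Members

end CfsgLib.SylowControl
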