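import Cfsg.Prelude.Def_LocalEven
import Cfsg.Prelude.Def_ConjugacyFunctors
import Cfsg.Prelude.Def_PLocal
import Cfsg.Agent.Lib.PLocal.Thompson
import Mathlib.GroupTheory.PGroup
import Cfsg.Agent.Lib.Classif.KlingerMason.Basic

/-!
Basic properties of E-groups and of `Ĵ`: invariance under isomorphisms, `J_e` is an E-group, and the functor
`Ω₁(Z(Ĵ))`.
-/

set_option autoImplicit false
set_option linter.unusedSectionVars false

namespace CfsgLib.LocalEven.JHat

open Subgroup CfsgLib.PLocal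

universe u v

variable {G : Type u} {H : Type v} [Group G] [Group H]

theorem map_inf_centralizer {f : G →* H} (hf : Function.Injective f) (A B : Subgroup G) :
    (A ⊓ centralizer (B : Set G)).map f = A.map f ⊓ centralizer (B.map f : Set H) := by
  ext y
  simp only [mem_inf, Subgroup.mem_map, mem_centralizer_iff, coe_map, Set.forall_mem_image, SetLike.mem_coe]
  constructor
  · rintro ⟨x, ⟨hx, hc⟩, rfl⟩
    exact ⟨⟨x, hx, rfl⟩, fun a ha => by rw [← map_mul, ← map_mul, hc a ha]⟩
  · rintro ⟨⟨x, hx, rfl⟩, hc⟩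
    exact ⟨x, ⟨hx, fun a ha => hf (by rw [map_mul, map_mul]; exact hc ha)⟩, rfl⟩

/-- E-groups are invariant under isomorphisms. -/
theorem isEGroup_of_equiv (e : G ≃* H) (h : Cfsg.IsEGroup G) : Cfsg.IsEGroup H := by
  intro V hV hVe hR
  have hinj : Function.Injective e.toMonoidHom := e.injective
  have hsurj : Function.Surjective e.toMonoidHom := e.surjective
  set V' : Subgroup G := V.comap e.toMonoidHom with hV'
  have hmap : V'.map e.toMonoidHom = V := map_comap_eq_self_of_surjective hsurj V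
  have hnorm : V'.Normal := hV.comap e.toMonoidHom
  have hcm : ∀ R : Subgroup G, (R ⊓ centralizer (V' : Set G)).map e.toMonoidHom =
      R.map e.toMonoidHom ⊓ centralizer (V : Set H) := fun R => by
    rw [map_inf_centralizer hinj, hmap]
  have hmc : ∀ x : G, x ∈ centralizer (V' : Set G) ↔ e x ∈ centralizer (V : Set H) := by
    intro x
    simp only [mem_centralizer_iff]
    constructor
    · intro hx y hy
      obtain ⟨a, rfl⟩ := e.surjective y
      rw [← map_mul, ← map_mul, hx a hy]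
    · exact fun hx a ha => e.injective (by rw [map_mul, map_mul]; exact hx (e a) ha)
  have hle : V' ≤ center G := h V' hnorm ((elemAb_map_iff hinj).1 (hmap.symm ▸ hVe)) fun R h1 h2 h3 => by
    have k := hR (R.map e.toMonoidHom)
      (by
        rw [← map_commutator]
        rintro _ ⟨x, hx, rfl⟩
        exact (hmc x).1 (h1 hx))
      (by
        rintro _ ⟨r, hr, rfl⟩
        rw [← map_pow]
        exact (hmc _).1 (h2 r hr))
      (fun hle => h3 fun x hx => (hmc x).2 (hle ⟨x, hx, rfl⟩))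
    rw [← hcm, ← hmap, ← map_inf_centralizer hinj, ← map_commutator] at k
    simpa only [card_map_of_injective hinj] using k
  intro v hv
  obtain ⟨a, ha, rfl⟩ := (hmap.symm ▸ hv : v ∈ V'.map e.toMonoidHom)
  refine mem_center_iff.2 fun b => ?_
  obtain ⟨b, rfl⟩ := e.surjective b
  show e b * e a = e a * e b
  rw [← map_mul, ← map_mul, mem_center_iff.1 (hle ha) b]

/-- A maximal elementary abelian subgroup centralises every subgroup `V` of the group which it normalises and
which satisfies the condition of an E-group. -/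
theorem maxElem_le_centralizer [Finite G] {P A V : Subgroup G} (hA : IsMaxElemIn 2 P A) (hVP : V ≤ P)
    (hV : Cfsg.IsElementaryAbelian 2 V) (hAV : A ≤ normalizer (V : Set G))
    (hE : ¬ A ≤ centralizer (V : Set G) →
      Nat.card A ^ 3 * Nat.card ↥(V ⊓ centralizer (A : Set G)) ^ 2 <
        Nat.card V ^ 2 * Nat.card ↥(A ⊓ centralizer (V : Set G)) ^ 3) :
    A ≤ centralizer (V : Set G) := by
  by_contra hnot
  have k := hE hnot
  set A₀ : Subgroup G := A ⊓ centralizer (V : Set G) with hA₀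
  have hA₀e : Cfsg.IsElementaryAbelian 2 A₀ := elemAb_of_le hA.elem inf_le_left
  have hcomm : A₀ ≤ centralizer (V : Set G) := inf_le_right
  have hB : Cfsg.IsElementaryAbelian 2 (A₀ ⊔ V : Subgroup G) := elemAb_sup hA₀e hV hcomm
  have hB' := hA.2.2 _ (sup_le (inf_le_left.trans hA.1) hVP) hB
  have hprod := CfsgLib.Classif.KM.card_sup_mul_inf hcomm
  have hinf : Nat.card ↥(A₀ ⊓ V) ≤ Nat.card ↥(V ⊓ centralizer (A : Set G)) := by
    refine card_le_of_le fun x hx => ⟨hx.2, mem_centralizer_iff.2 fun a ha => ?_⟩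
    exact (elemAb_commute hA.elem ha hx.1.1)
  have h0 : 0 < Nat.card A₀ := Nat.card_pos
  have h1 : Nat.card A₀ * Nat.card V ≤ Nat.card A * Nat.card ↥(V ⊓ centralizer (A : Set G)) := by
    rw [← hprod]; exact Nat.mul_le_mul hB' hinf
  have h2 : Nat.card A₀ ≤ Nat.card A := card_le_of_le inf_le_left
  have h3 : (Nat.card A₀ * Nat.card V) ^ 2 * Nat.card A₀ ≤
      (Nat.card A * Nat.card ↥(V ⊓ centralizer (A : Set G))) ^ 2 * Nat.card A :=
    Nat.mul_le_mul (Nat.pow_le_pow_left h1 2) h2
  rw [mul_pow, mul_pow] at h3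
  ring_nf at h3 k
  omega

/-- `J_e(G)` is an E-group. -/
theorem isEGroup_thompson [Finite G] : Cfsg.IsEGroup ↥(Cfsg.thompsonSubgroup 2 G) := by
  intro V hV hVe hR
  have htop : thompson 2 (⊤ : Subgroup ↥(Cfsg.thompsonSubgroup 2 G)) = ⊤ := by
    apply map_injective (Cfsg.thompsonSubgroup 2 G).subtype_injective
    rw [← thompson_map (Cfsg.thompsonSubgroup 2 G).subtype_injective, map_subtype_top, thompsonSubgroup_eq,
      thompson_eq_of_le le_top le_rfl]
  have hle : thompson 2 (⊤ : Subgroup ↥(Cfsg.thompsonSubgroup 2 G)) ≤ centralizer (V : Set _) := by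
    rw [thompson_le_iff]
    intro A hA
    have hnorm := hV
    refine maxElem_le_centralizer hA le_top hVe (by rw [normalizer_eq_top]; exact le_top) fun hnot => ?_
    refine (hR A ?_ (fun r hr => ?_) hnot).1
    · rw [commutator_le]
      intro a ha b hb
      rw [commutatorElement_eq_one_iff_commute.2 (elemAb_commute hA.elem ha hb)]
      exact one_mem _
    · rw [hA.elem.2 r hr]; exact one_mem _
  rw [htop] at hle
  intro v hv
  refine mem_center_iff.2 fun b => ?_
  exact (mem_centralizer_iff.1 (hle (mem_top b)) v hv).symm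

theorem thompsonSubgroup_map [Finite G] (e : G ≃* H) :
    (Cfsg.thompsonSubgroup 2 G).map e.toMonoidHom = Cfsg.thompsonSubgroup 2 H := by
  rw [thompsonSubgroup_eq, thompsonSubgroup_eq, ← thompson_map e.injective,
    map_top_of_surjective _ e.surjective]

theorem thompsonSubgroup_le_jHat [Finite G] : Cfsg.thompsonSubgroup 2 G ≤ Cfsg.jHat G :=
  le_sSup ⟨isEGroup_thompson, le_rfl⟩

theorem le_jHat {U : Subgroup G} (hU : Cfsg.IsEGroup U) (hJ : Cfsg.thompsonSubgroup 2 G ≤ U) :
    U ≤ Cfsg.jHat G :=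
  le_sSup ⟨hU, hJ⟩

theorem jHat_map_le [Finite G] (e : G ≃* H) : (Cfsg.jHat G).map e.toMonoidHom ≤ Cfsg.jHat H := by
  rw [map_le_iff_le_comap]
  refine sSup_le fun U hU => ?_
  rw [← map_le_iff_le_comap]
  refine le_jHat (isEGroup_of_equiv (U.equivMapOfInjective e.toMonoidHom e.injective) hU.1) ?_
  rw [← thompsonSubgroup_map e]
  exact map_mono hU.2

theorem jHat_map [Finite G] (e : G ≃* H) : (Cfsg.jHat G).map e.toMonoidHom = Cfsg.jHat H := by
  haveI : Finite H := Finite.of_equiv G e.toEquiv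
  refine le_antisymm (jHat_map_le e) fun x hx => ⟨e.symm x, ?_, e.apply_symm_apply x⟩
  exact jHat_map_le e.symm ⟨x, hx, rfl⟩

theorem thompsonSubgroupOf_le_jHat_map [Finite G] (P : Subgroup G) :
    Cfsg.thompsonSubgroupOf 2 P ≤ (Cfsg.jHat ↥P).map P.subtype :=
  map_mono thompsonSubgroup_le_jHat

/-- `Ω₁(Z(Ĵ(Q)))` as a functor. -/
def zJHat (Q : Type u) [Group Q] : Subgroup Q :=
  Cfsg.omegaOne 2 (Cfsg.jHat Q ⊓ centralizer (Cfsg.jHat Q : Set Q))

theorem inducedFunctor_zJHat (P : Subgroup G) :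
    Cfsg.inducedFunctor (G := G) zJHat P = Cfsg.omegaOne 2 ((Cfsg.jHat ↥P).map P.subtype ⊓
      centralizer (((Cfsg.jHat ↥P).map P.subtype : Subgroup G) : Set G)) := by
  show (zJHat ↥P).map P.subtype = _
  rw [zJHat, ← omegaOne_map P.subtype_injective, map_inf_centralizer P.subtype_injective]

theorem omegaOne_inf_centralizer_le_zJHat [Finite G] (P : Subgroup G) :
    Cfsg.omegaOne 2 (P ⊓ centralizer (P : Set G)) ≤ Cfsg.inducedFunctor (G := G) zJHat P := by
  have h1 : Cfsg.omegaOne 2 (P ⊓ centralizer (P : Set G)) ≤ (Cfsg.jHat ↥P).map P.subtype := by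
    refine le_trans ?_ (thompsonSubgroupOf_le_jHat_map P)
    rw [thompsonSubgroupOf_eq]
    exact (omegaOne_inf_centralizer_le 2 P).trans
      ((omegaOne_le 2 _).trans inf_le_left)
  rw [inducedFunctor_zJHat, Cfsg.omegaOne, Subgroup.closure_le]
  intro x hx
  refine mem_omegaOne ⟨h1 (mem_omegaOne hx.1 hx.2), ?_⟩ hx.2
  exact centralizer_le (map_subtype_le _) hx.1.2

theorem isCharPFunctor_zJHat : Cfsg.IsCharPFunctor.{u} 2 zJHat := by
  haveI : Fact (Nat.Prime 2) := ⟨Nat.prime_two⟩
  refine ⟨fun Q _ _ hQ hnt h0 => ?_, fun Q R _ _ _ _ φ => ?_⟩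
  · haveI := hnt
    haveI : Nontrivial (center Q) := hQ.center_nontrivial
    obtain ⟨n, hn0, hn⟩ := (hQ.to_subgroup (center Q)).nontrivial_iff_card.1 inferInstance
    obtain ⟨z, hz⟩ := exists_prime_orderOf_dvd_card' 2 (hn ▸ dvd_pow_self 2 hn0.ne' :
      2 ∣ Nat.card (center Q))
    have hz2 : (z : Q) ^ 2 = 1 := by
      rw [← Subgroup.coe_pow, ← hz, pow_orderOf_eq_one, Subgroup.coe_one]
    have hz1 : (z : Q) ≠ 1 := fun h => by
      rw [show z = 1 from Subtype.ext h, orderOf_one] at hz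
      omega
    refine hz1 (by
      have hmem : (z : Q) ∈ zJHat Q := ?_
      · rw [h0] at hmem; exact mem_bot.1 hmem
      refine mem_omegaOne ⟨thompsonSubgroup_le_jHat ?_, mem_centralizer_iff.2 fun a _ => mem_center_iff.1 z.2 a⟩ hz2
      · rw [thompsonSubgroup_eq]
        exact (omegaOne_le 2 _).trans inf_le_left (omegaOne_inf_centralizer_le 2 (⊤ : Subgroup Q)
          (mem_omegaOne ⟨mem_top _, mem_centralizer_iff.2 fun a _ => mem_center_iff.1 z.2 a⟩ hz2))
      )
  · show (Cfsg.omegaOne 2 _).map φ.toMonoidHom = Cfsg.omegaOne 2 _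
    rw [← omegaOne_map φ.injective, map_inf_centralizer φ.injective, jHat_map φ]

end CfsgLib.LocalEven.JHat
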