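import Mathlib

/-!
The trace map `C_V(S) → C_V(K)` for an abelian subgroup `V` normalized by `K` and `S ≤ K`
(Gaschütz-style averaging), as used for `C_V(S) ≤ C_V(K)[V,K]` when `|K : S|` is prime to the
exponent of `V`.
-/

namespace CfsgLib.Trace

open Subgroup
open scoped commutatorElement
open scoped IsMulCommutative

variable {G : Type*} [Group G]

/-- Conjugation of `v` by a representative of the coset `q`. -/
noncomputable def cosetConj {V K : Subgroup G} (hK : K ≤ normalizer (V : Set G)) (S : Subgroup G)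
    (v : V) (q : K ⧸ S.subgroupOf K) : V :=
  ⟨((q.out : K) : G) * (v : G) * ((q.out : K) : G)⁻¹, (mem_normalizer_iff.mp (hK q.out.2) v).mp v.2⟩

theorem cosetConj_mk {V K : Subgroup G} (hK : K ≤ normalizer (V : Set G)) (S : Subgroup G)
    (v : V) (hS : ∀ s ∈ S, s * (v : G) = v * s) (k : K) :
    (cosetConj hK S v (QuotientGroup.mk k) : G) = k * (v : G) * (k : G)⁻¹ := by
  obtain ⟨s, hs⟩ := QuotientGroup.mk_out_eq_mul (S.subgroupOf K) k
  simp only [cosetConj]
  rw [hs, Subgroup.coe_mul, mul_inv_rev]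
  have h := hS _ (mem_subgroupOf.mp s.2)
  calc ((k : G) * ((s : K) : G)) * (v : G) * ((((s : K) : G))⁻¹ * (k : G)⁻¹)
      = (k : G) * (((s : K) : G) * (v : G)) * (((s : K) : G))⁻¹ * (k : G)⁻¹ := by group
    _ = k * (v : G) * (k : G)⁻¹ := by rw [h]; group

/-- The trace of an `S`-fixed element: the product of its conjugates over `K/S`. -/
noncomputable def trace [Finite G] {V K : Subgroup G} [IsMulCommutative V]
    (hK : K ≤ normalizer (V : Set G)) (S : Subgroup G) (v : V) : V :=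
  letI := Fintype.ofFinite (K ⧸ S.subgroupOf K)
  ∏ q : K ⧸ S.subgroupOf K, cosetConj hK S v q

theorem cosetConj_mul {V K : Subgroup G} (hK : K ≤ normalizer (V : Set G)) (S : Subgroup G)
    (v w : V) (q : K ⧸ S.subgroupOf K) :
    cosetConj hK S (v * w) q = cosetConj hK S v q * cosetConj hK S w q :=
  Subtype.ext (by simp only [cosetConj, Subgroup.coe_mul]; group)

variable [Finite G] {V K : Subgroup G} [IsMulCommutative V]

theorem trace_mul (hK : K ≤ normalizer (V : Set G)) (S : Subgroup G) (v w : V) :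
    trace hK S (v * w) = trace hK S v * trace hK S w := by
  unfold trace
  simp only [cosetConj_mul, Finset.prod_mul_distrib]

/-- Conjugation by `g ∈ N(V)` carries the trace to the trace, if `g` normalizes `K` and `S`. -/
theorem conj_trace (hK : K ≤ normalizer (V : Set G)) (S : Subgroup G) (v : V)
    (hS : ∀ s ∈ S, s * (v : G) = v * s) (g : G) (hgV : g ∈ normalizer (V : Set G))
    (hgK : g ∈ normalizer (K : Set G)) (hgS : g ∈ normalizer (S : Set G)) :
    g * (trace hK S v : G) * g⁻¹ =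
      (trace hK S (⟨g * (v : G) * g⁻¹, (mem_normalizer_iff.mp hgV v).mp v.2⟩ : V) : G) := by
  letI := Fintype.ofFinite (K ⧸ S.subgroupOf K)
  set w : V := ⟨g * (v : G) * g⁻¹, (mem_normalizer_iff.mp hgV v).mp v.2⟩ with hw
  have hSw : ∀ s ∈ S, s * (w : G) = w * s := by
    intro s hs
    have h1 : g⁻¹ * s * g ∈ S := by
      simpa using (mem_normalizer_iff.mp (inv_mem hgS) s).mp hs
    have h2 := hS _ h1
    simp only [hw]
    calc s * (g * (v : G) * g⁻¹) = g * ((g⁻¹ * s * g) * (v : G)) * g⁻¹ := by group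
      _ = g * (v : G) * g⁻¹ * s := by rw [h2]; group
  let c : K ≃ K :=
    { toFun := fun k => ⟨g * k * g⁻¹, (mem_normalizer_iff.mp hgK k).mp k.2⟩
      invFun := fun k => ⟨g⁻¹ * k * g, by
        simpa using (mem_normalizer_iff.mp (inv_mem hgK) k).mp k.2⟩
      left_inv := fun k => Subtype.ext (by simp [mul_assoc])
      right_inv := fun k => Subtype.ext (by simp [mul_assoc]) }
  let e : (K ⧸ S.subgroupOf K) ≃ (K ⧸ S.subgroupOf K) :=
    Quotient.congr c (fun a b => by
      rw [QuotientGroup.leftRel_apply, QuotientGroup.leftRel_apply]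
      simp only [mem_subgroupOf, c, Equiv.coe_fn_mk, Subgroup.coe_mul, Subgroup.coe_inv]
      rw [show (g * (a : G) * g⁻¹)⁻¹ * (g * (b : G) * g⁻¹) = g * ((a : G)⁻¹ * b) * g⁻¹ by group]
      exact mem_normalizer_iff.mp hgS _)
  let f : V →* V :=
    { toFun := fun x => ⟨g * (x : G) * g⁻¹, (mem_normalizer_iff.mp hgV x).mp x.2⟩
      map_one' := Subtype.ext (by simp)
      map_mul' := fun x y => Subtype.ext (by simp only [Subgroup.coe_mul]; group) }
  have key : f (trace hK S v) = trace hK S w := by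
    unfold trace
    rw [map_prod]
    refine Fintype.prod_equiv e _ _ fun q => ?_
    induction q using QuotientGroup.induction_on with
    | _ k =>
      apply Subtype.ext
      show g * (cosetConj hK S v (QuotientGroup.mk k) : G) * g⁻¹ =
        (cosetConj hK S w (QuotientGroup.mk (c k)) : G)
      rw [cosetConj_mk hK S v hS, cosetConj_mk hK S w hSw]
      simp only [hw, c, Equiv.coe_fn_mk]
      group
  exact congrArg Subtype.val key

/-- The trace of an `S`-fixed element is centralized by `K`. -/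
theorem trace_mem_centralizer (hK : K ≤ normalizer (V : Set G)) (S : Subgroup G) (v : V)
    (hS : ∀ s ∈ S, s * (v : G) = v * s) :
    (trace hK S v : G) ∈ centralizer (K : Set G) := by
  letI := Fintype.ofFinite (K ⧸ S.subgroupOf K)
  rw [mem_centralizer_iff]
  intro k hk
  let f : V →* V :=
    { toFun := fun x => ⟨k * (x : G) * k⁻¹, (mem_normalizer_iff.mp (hK hk) x).mp x.2⟩
      map_one' := Subtype.ext (by simp)
      map_mul' := fun x y => Subtype.ext (by simp only [Subgroup.coe_mul]; group) }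
  have key : f (trace hK S v) = trace hK S v := by
    unfold trace
    rw [map_prod]
    refine Fintype.prod_equiv (MulAction.toPerm (⟨k, hk⟩ : K)) _ _ fun q => ?_
    induction q using QuotientGroup.induction_on with
    | _ j =>
      apply Subtype.ext
      show k * (cosetConj hK S v (QuotientGroup.mk j) : G) * k⁻¹ =
        (cosetConj hK S v (QuotientGroup.mk ((⟨k, hk⟩ : K) * j)) : G)
      rw [cosetConj_mk hK S v hS, cosetConj_mk hK S v hS, Subgroup.coe_mul]
      simp only
      group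
  have h2 : k * (trace hK S v : G) * k⁻¹ = trace hK S v := congrArg Subtype.val key
  exact mul_inv_eq_iff_eq_mul.mp h2

/-- If `v` is centralized by `K`, its trace is `v^|K:S|`. -/
theorem trace_of_mem_centralizer (hK : K ≤ normalizer (V : Set G)) (S : Subgroup G) (v : V)
    (hv : (v : G) ∈ centralizer (K : Set G)) : trace hK S v = v ^ S.relIndex K := by
  letI := Fintype.ofFinite (K ⧸ S.subgroupOf K)
  unfold trace
  rw [Finset.prod_congr rfl (fun q _ => show cosetConj hK S v q = v from Subtype.ext (by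
    simp only [cosetConj]
    rw [mem_centralizer_iff.mp hv _ q.out.2, mul_inv_cancel_right])), Finset.prod_const,
    Finset.card_univ, ← Nat.card_eq_fintype_card]
  rfl

/-- The trace is congruent to `v^|K:S|` modulo `[K,V]`. -/
theorem trace_mul_inv_pow_mem (hK : K ≤ normalizer (V : Set G)) (S : Subgroup G) (v : V) :
    ((trace hK S v * (v ^ S.relIndex K)⁻¹ : V) : G) ∈ ⁅V, K⁆ := by
  letI := Fintype.ofFinite (K ⧸ S.subgroupOf K)
  have h : trace hK S v * (v ^ S.relIndex K)⁻¹ =
      ∏ q : K ⧸ S.subgroupOf K, cosetConj hK S v q * v⁻¹ := by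
    rw [Finset.prod_mul_distrib, Finset.prod_const, Finset.card_univ, ← Nat.card_eq_fintype_card,
      inv_pow]
    rfl
  rw [h]
  refine (Finset.prod_induction _ (fun x : V => (x : G) ∈ ⁅V, K⁆)
    (fun a b ha hb => by simpa using mul_mem ha hb) (one_mem _) fun q _ => ?_)
  rw [commutator_comm]
  simpa [cosetConj, commutatorElement_def] using
    commutator_mem_commutator (H₁ := K) (H₂ := V) (q.out : K).2 v.2

/-- `C_V(S) ≤ C_V(K) [V,K]` when the index is prime to the exponent; the `[V,K]` factor can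
moreover be taken fixed by `S`. -/
theorem exists_fixed_mul_commutator (hK : K ≤ normalizer (V : Set G)) {S : Subgroup G}
    (hSK : S ≤ K) {q : ℕ} (hexp : ∀ x ∈ V, x ^ q = 1) (hco : (S.relIndex K).Coprime q)
    {v : G} (hv : v ∈ V) (hS : v ∈ centralizer (S : Set G)) :
    ∃ c ∈ V ⊓ centralizer (K : Set G),
      ∃ w ∈ (⁅V, K⁆ ⊓ V) ⊓ centralizer (S : Set G), v = c * w := by
  have hvS : ∀ s ∈ S, s * v = v * s := mem_centralizer_iff.mp hS
  have hord : orderOf v ∣ q := orderOf_dvd_of_pow_eq_one (hexp v hv)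
  obtain ⟨m, hm⟩ := exists_pow_eq_self_of_coprime
    (Nat.Coprime.coprime_dvd_right hord hco)
  refine ⟨(trace hK S ⟨v, hv⟩ : G) ^ m,
    ⟨pow_mem (SetLike.coe_mem _) m, pow_mem (trace_mem_centralizer hK S ⟨v, hv⟩ hvS) m⟩,
    ((trace hK S ⟨v, hv⟩ : G) ^ m)⁻¹ * v,
    ⟨⟨?_, V.mul_mem (V.inv_mem (pow_mem (SetLike.coe_mem _) m)) hv⟩,
      (centralizer (S : Set G)).mul_mem ((centralizer (S : Set G)).inv_mem
        (pow_mem (centralizer_le (SetLike.coe_subset_coe.mpr hSK)
          (trace_mem_centralizer hK S ⟨v, hv⟩ hvS)) m)) hS⟩, (mul_inv_cancel_left _ _).symm⟩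
  have h1 := inv_mem (pow_mem (trace_mul_inv_pow_mem hK S ⟨v, hv⟩) m)
  have h2 : (((trace hK S ⟨v, hv⟩ * ((⟨v, hv⟩ : V) ^ S.relIndex K)⁻¹) ^ m)⁻¹ : V) =
      (trace hK S ⟨v, hv⟩ ^ m)⁻¹ * ⟨v, hv⟩ := by
    have hm' : ((⟨v, hv⟩ : V) ^ S.relIndex K) ^ m = ⟨v, hv⟩ := Subtype.ext (by simpa using hm)
    rw [mul_pow, inv_pow, hm', mul_inv, inv_inv]
  have h3 := congrArg Subtype.val h2
  simp only [Subgroup.coe_inv, Subgroup.coe_mul, SubgroupClass.coe_pow] at h3 h1
  rwa [h3] at h1

/-- As `exists_fixed_mul_commutator`; the `K`-fixed factor commutes with whatever normalizes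
`V`, `K`, `S` and commutes with `v`. -/
theorem exists_fixed_mul_commutator_equivariant (hK : K ≤ normalizer (V : Set G)) {S : Subgroup G}
    (hSK : S ≤ K) {q : ℕ} (hexp : ∀ x ∈ V, x ^ q = 1) (hco : (S.relIndex K).Coprime q)
    {v : G} (hv : v ∈ V) (hS : v ∈ centralizer (S : Set G)) :
    ∃ c ∈ V ⊓ centralizer (K : Set G),
      (∀ g ∈ normalizer (V : Set G) ⊓ normalizer (K : Set G) ⊓ normalizer (S : Set G),
        Commute g v → Commute g c) ∧
      ∃ w ∈ (⁅V, K⁆ ⊓ V) ⊓ centralizer (S : Set G), v = c * w := by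
  have hvS : ∀ s ∈ S, s * v = v * s := mem_centralizer_iff.mp hS
  obtain ⟨m, hm⟩ := exists_pow_eq_self_of_coprime
    (Nat.Coprime.coprime_dvd_right (orderOf_dvd_of_pow_eq_one (hexp v hv)) hco)
  set t : G := (trace hK S ⟨v, hv⟩ : G) ^ m with ht
  have htV : t ∈ V := pow_mem (SetLike.coe_mem _) m
  have htC : t ∈ centralizer (K : Set G) := pow_mem (trace_mem_centralizer hK S ⟨v, hv⟩ hvS) m
  refine ⟨t, ⟨htV, htC⟩, fun g hg hgv => ?_, t⁻¹ * v, ⟨⟨?_, V.mul_mem (V.inv_mem htV) hv⟩,
    (centralizer (S : Set G)).mul_mem ((centralizer (S : Set G)).inv_mem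
      (centralizer_le (SetLike.coe_subset_coe.mpr hSK) htC)) hS⟩, (mul_inv_cancel_left _ _).symm⟩
  · have h := conj_trace hK S ⟨v, hv⟩ hvS g hg.1.1 hg.1.2 hg.2
    have hfix : (⟨g * v * g⁻¹, (mem_normalizer_iff.mp hg.1.1 v).mp hv⟩ : V) = ⟨v, hv⟩ :=
      Subtype.ext (show g * v * g⁻¹ = v from mul_inv_eq_iff_eq_mul.mpr hgv)
    rw [hfix] at h
    exact (show Commute g (trace hK S ⟨v, hv⟩ : G) from mul_inv_eq_iff_eq_mul.mp h).pow_right m
  · have h1 := inv_mem (pow_mem (trace_mul_inv_pow_mem hK S ⟨v, hv⟩) m)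
    have h2 : (((trace hK S ⟨v, hv⟩ * ((⟨v, hv⟩ : V) ^ S.relIndex K)⁻¹) ^ m)⁻¹ : V) =
        (trace hK S ⟨v, hv⟩ ^ m)⁻¹ * ⟨v, hv⟩ := by
      have hm' : ((⟨v, hv⟩ : V) ^ S.relIndex K) ^ m = ⟨v, hv⟩ := Subtype.ext (by simpa using hm)
      rw [mul_pow, inv_pow, hm', mul_inv, inv_inv]
    have h3 := congrArg Subtype.val h2
    simp only [Subgroup.coe_inv, Subgroup.coe_mul, SubgroupClass.coe_pow] at h3 h1
    rwa [h3] at h1

end CfsgLib.Trace
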