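import Mathlib
import Cfsg.Prelude.Def_LocalStructure
import Cfsg.Agent.Lib.LocalEven.PReducedBasic
import Cfsg.Agent.Lib.LocalEven.PReduced
import Cfsg.Agent.Lib.LocalEven.PReducedSub
import Cfsg.Agent.Lib.LocalEven.PReducedSubnormal
import Cfsg.Agent.Lib.LocalEven.Trace

/-!
Kieler's lemma: in a finite group of characteristic `p`, `C_L(Ω₁Z(T)) = C_L(Ω₁Z(T ∩ L))` for
subnormal `L`.
-/

namespace CfsgLib.PRed

open Subgroup
open scoped commutatorElement

variable {G : Type*} [Group G] [Finite G] {p : ℕ} [Fact p.Prime]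

/-- The ambient form of `C_L(O_p L) ≤ O_p L` for a normal subgroup. -/
theorem centralizer_inf_pCore_le (hchar : centralizer (Cfsg.pCore p G : Set G) ≤ Cfsg.pCore p G)
    (L : Subgroup G) [L.Normal] :
    L ⊓ centralizer ((Cfsg.pCore p G ⊓ L : Subgroup G) : Set G) ≤ Cfsg.pCore p G := by
  haveI := pCore_normal (p := p) (G := G)
  refine le_pCore inferInstance (isPGroup_of_coprime _ fun x hx hxp => ?_)
  have hQ := pCore_isPGroup (p := p) (G := G)
  refine eq_one_of_coprime hQ hxp (hchar (mem_centralizer_iff.mpr fun q hq => ?_))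
  have hc : ⁅q, x⁆ ∈ Cfsg.pCore p G ⊓ L := by
    refine ⟨commutator_le_left _ _ (commutator_mem_commutator hq hx.1), ?_⟩
    exact commutator_le_right _ _ (commutator_mem_commutator hq hx.1)
  exact commute_of_coprime hQ hxp hc.1 (mem_centralizer_iff.mp hx.2 _ hc)

/-- A normal subgroup of a group of characteristic `p` has characteristic `p`. -/
theorem char_normal (hchar : centralizer (Cfsg.pCore p G : Set G) ≤ Cfsg.pCore p G)
    (L : Subgroup G) [L.Normal] :
    centralizer (Cfsg.pCore p ↥L : Set ↥L) ≤ Cfsg.pCore p ↥L := by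
  haveI := pCore_normal (p := p) (G := G)
  intro x hx
  have h1 : (x : G) ∈ L ⊓ centralizer ((Cfsg.pCore p G ⊓ L : Subgroup G) : Set G) := by
    refine ⟨x.2, mem_centralizer_iff.mpr fun q hq => ?_⟩
    have hq' : (⟨q, hq.2⟩ : L) ∈ Cfsg.pCore p ↥L :=
      le_pCore (N := (Cfsg.pCore p G).subgroupOf L) inferInstance
        pCore_isPGroup.comap_subtype hq.1
    exact congrArg Subtype.val (mem_centralizer_iff.mp hx _ hq')
  exact le_pCore (N := (Cfsg.pCore p G).subgroupOf L) inferInstance
    pCore_isPGroup.comap_subtype (centralizer_inf_pCore_le hchar L h1)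

/-- Kieler's lemma for a normal subgroup. -/
theorem kieler_normal (hchar : centralizer (Cfsg.pCore p G : Set G) ≤ Cfsg.pCore p G)
    (T : Sylow p G) (L : Subgroup G) [L.Normal] :
    L ⊓ centralizer (omegaZ p (T : Subgroup G) : Set G) =
      L ⊓ centralizer (omegaZ p ((T : Subgroup G) ⊓ L) : Set G) := by
  haveI := pCore_normal (p := p) (G := G)
  have hp : p.Prime := Fact.out
  set Q := Cfsg.pCore p G with hQdef
  set S := (T : Subgroup G) ⊓ L with hSdef
  have hQT : Q ≤ (T : Subgroup G) := pCore_le_sylow T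
  have hQLS : Q ⊓ L ≤ S := inf_le_inf_right L hQT
  obtain ⟨P, hP⟩ := exists_sylow_inf_normal T L
  have hco : ∀ X : Subgroup G, S ≤ X → X ≤ L → (S.relIndex X).Coprime p := by
    intro X hSX hXL
    refine ((hp.coprime_iff_not_dvd).mpr ?_).symm
    have h := P.not_dvd_index
    rw [hP] at h
    intro hd
    refine h ?_
    show p ∣ (T : Subgroup G).relIndex L
    rw [← inf_relIndex_right, ← hSdef, ← relIndex_mul_relIndex S X L hSX hXL]
    exact hd.trans (Dvd.intro _ rfl)
  have hnormZ : ∀ A : Subgroup G, A.Normal → (omegaZ p A).Normal := fun A hA =>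
    normalizer_eq_top_iff.mp (top_le_iff.mp
      ((normalizer_eq_top_iff.mpr hA).ge.trans (normalizer_le_normalizer_omegaZ A)))
  refine le_antisymm (le_inf inf_le_left ?_) (le_inf inf_le_left ?_)
  · -- `C_L(Z) ≤ C(Z₀)`
    set W := omegaZ p (Q ⊓ L) with hW
    haveI := hnormZ (Q ⊓ L) inferInstance
    haveI hWc : IsMulCommutative ↥W := (isElemAb_omegaOne_inf_centralizer _).1
    have hWT : W ≤ (T : Subgroup G) := (omegaZ_le _).trans (inf_le_left.trans hQT)
    set X := L ⊓ centralizer (omegaZ p (T : Subgroup G) : Set G) with hX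
    have hXW : X ≤ normalizer (W : Set G) := le_normalizer_of_normal
    have hSX : S ≤ X := le_inf inf_le_right
      (inf_le_left.trans (Subgroup.le_centralizer_iff.mp (omegaZ_le_centralizer _)))
    have hexp : ∀ u ∈ W, u ^ p = 1 := (isElemAb_omegaOne_inf_centralizer _).2
    -- the kernel of the trace on `C_W(S)` is trivial
    let A : Subgroup G :=
      { carrier := {u | ∃ h : u ∈ W, u ∈ centralizer (S : Set G) ∧
          (Trace.trace hXW S ⟨u, h⟩ : G) = 1}
        one_mem' := ⟨one_mem _, one_mem _, by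
          rw [show (⟨1, one_mem W⟩ : W) = 1 from rfl,
            Trace.trace_of_mem_centralizer hXW S 1 (by simp [one_mem]), one_pow]
          rfl⟩
        mul_mem' := by
          rintro a b ⟨ha, ha1, ha2⟩ ⟨hb, hb1, hb2⟩
          refine ⟨W.mul_mem ha hb, Subgroup.mul_mem _ ha1 hb1, ?_⟩
          rw [show (⟨a * b, W.mul_mem ha hb⟩ : W) = ⟨a, ha⟩ * ⟨b, hb⟩ from rfl, Trace.trace_mul,
            Subgroup.coe_mul, ha2, hb2, one_mul]
        inv_mem' := by
          rintro a ⟨ha, ha1, ha2⟩
          refine ⟨W.inv_mem ha, Subgroup.inv_mem _ ha1, ?_⟩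
          have h1 : Trace.trace hXW S ((⟨a, ha⟩ : W) * ⟨a⁻¹, W.inv_mem ha⟩) = 1 := by
            rw [show (⟨a, ha⟩ : W) * ⟨a⁻¹, W.inv_mem ha⟩ = 1 from Subtype.ext (mul_inv_cancel a),
              Trace.trace_of_mem_centralizer hXW S 1 (by simp [one_mem]), one_pow]
          rw [Trace.trace_mul] at h1
          have := congrArg Subtype.val h1
          rw [Subgroup.coe_mul, ha2, one_mul] at this
          exact this }
    have hA : A = ⊥ := by
      by_contra hne
      have hTX : (T : Subgroup G) ≤ normalizer (X : Set G) :=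
        (le_inf le_normalizer_of_normal (le_normalizer.trans ((normalizer_le_normalizer_omegaZ _).trans
          (normalizer_le_normalizer_centralizer _)))).trans (normalizer_inf_le_normalizer_inf _ _)
      have hTS : (T : Subgroup G) ≤ normalizer (S : Set G) :=
        (le_inf le_normalizer le_normalizer_of_normal).trans (normalizer_inf_le_normalizer_inf _ _)
      have hTA : (T : Subgroup G) ≤ normalizer (A : Set G) := by
        intro g hg
        refine mem_normalizer_of_conj_mem ?_
        rintro u ⟨hu, hu1, hu2⟩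
        have hgW : g ∈ normalizer (W : Set G) := le_normalizer_of_normal hg
        refine ⟨(mem_normalizer_iff.mp hgW u).mp hu, ?_, ?_⟩
        · exact (mem_normalizer_iff.mp (normalizer_le_normalizer_centralizer S (hTS hg)) u).mp hu1
        · rw [← Trace.conj_trace hXW S ⟨u, hu⟩ (mem_centralizer_iff.mp hu1) g hgW (hTX hg) (hTS hg),
            hu2, mul_one, mul_inv_cancel]
      obtain ⟨a, ⟨haW, -, ha2⟩, ha1, haT⟩ := exists_fixed_ne_one T.2
        (T.2.to_le (show A ≤ (T : Subgroup G) from fun u hu => hWT hu.1)) hTA hne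
      have haZ : a ∈ omegaZ p (T : Subgroup G) := mem_omegaZ.mpr ⟨hWT haW, haT, hexp a haW⟩
      have haX : a ∈ centralizer (X : Set G) :=
        Subgroup.le_centralizer_iff.mp (inf_le_right :
          X ≤ centralizer (omegaZ p (T : Subgroup G) : Set G)) haZ
      rw [Trace.trace_of_mem_centralizer hXW S ⟨a, haW⟩ haX, SubgroupClass.coe_pow] at ha2
      exact ha1 (orderOf_eq_one_iff.mp (Nat.eq_one_of_dvd_coprimes (hco X hSX inf_le_left)
        (orderOf_dvd_of_pow_eq_one ha2) (orderOf_dvd_of_pow_eq_one (hexp a haW))))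
    rw [Subgroup.le_centralizer_iff]
    intro v hv
    obtain ⟨hvS, hvC, hvp⟩ := mem_omegaZ.mp hv
    have hvQ : v ∈ Q := centralizer_inf_pCore_le hchar L
      ⟨hvS.2, centralizer_le (SetLike.coe_subset_coe.mpr hQLS) hvC⟩
    have hvW : v ∈ W := mem_omegaZ.mpr
      ⟨⟨hvQ, hvS.2⟩, centralizer_le (SetLike.coe_subset_coe.mpr hQLS) hvC, hvp⟩
    obtain ⟨c, ⟨hcW, hcX⟩, w, ⟨⟨-, hwW⟩, hwS⟩, hvw⟩ :=
      Trace.exists_fixed_mul_commutator hXW hSX hexp (hco X hSX inf_le_left) hvW hvC
    -- replace `w` by its own fixed part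
    set u : W := ⟨w, hwW⟩
    have hu : Trace.trace hXW S u ^ p = 1 := Subtype.ext (by
      simpa using hexp _ (Trace.trace hXW S u).2)
    obtain ⟨m, hm⟩ := exists_pow_eq_self_of_coprime ((hco X hSX inf_le_left).coprime_dvd_right
      (orderOf_dvd_of_pow_eq_one hu))
    set d : W := Trace.trace hXW S u ^ m with hd
    have hdX : (d : G) ∈ centralizer (X : Set G) := by
      rw [hd, SubgroupClass.coe_pow]
      exact pow_mem (Trace.trace_mem_centralizer hXW S u (mem_centralizer_iff.mp hwS)) m
    have hdA : ((u⁻¹ * d : W) : G) ∈ A := by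
      refine ⟨(u⁻¹ * d).2, ?_, ?_⟩
      · exact Subgroup.mul_mem _ (Subgroup.inv_mem _ hwS)
          (centralizer_le (SetLike.coe_subset_coe.mpr hSX) hdX)
      · have h0 : Trace.trace hXW S u⁻¹ * Trace.trace hXW S u = 1 := by
          rw [← Trace.trace_mul, inv_mul_cancel,
            Trace.trace_of_mem_centralizer hXW S 1 (by simp [one_mem]), one_pow]
        rw [show (⟨((u⁻¹ * d : W) : G), (u⁻¹ * d).2⟩ : W) = u⁻¹ * d from rfl, Trace.trace_mul,
          Trace.trace_of_mem_centralizer hXW S d hdX, hd, ← pow_mul, mul_comm m, pow_mul, hm, h0]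
        rfl
    rw [hA, Subgroup.mem_bot] at hdA
    have hwd : w = (d : G) := by
      have := congrArg Subtype.val (inv_mul_eq_one.mp (Subtype.ext hdA : u⁻¹ * d = 1))
      exact this
    rw [hvw, hwd]
    exact Subgroup.mul_mem _ hcX hdX
  · -- `C_L(Z₀) ≤ C(Z)`
    set V := omegaZ p Q with hV
    haveI := hnormZ Q inferInstance
    haveI hVc : IsMulCommutative ↥V := (isElemAb_omegaOne_inf_centralizer _).1
    intro x hx
    rw [mem_centralizer_iff]
    intro v hv
    obtain ⟨hvT, hvC, hvp⟩ := mem_omegaZ.mp hv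
    have hvCQ : v ∈ centralizer (Q : Set G) := centralizer_le (SetLike.coe_subset_coe.mpr hQT) hvC
    obtain ⟨c, ⟨hcV, hcL⟩, w, ⟨⟨hwc, hwV⟩, hwS⟩, hvw⟩ :=
      Trace.exists_fixed_mul_commutator (V := V) (K := L) le_normalizer_of_normal inf_le_right
        (isElemAb_omegaOne_inf_centralizer _).2 (hco L inf_le_right le_rfl)
        (mem_omegaZ.mpr ⟨hchar hvCQ, hvCQ, hvp⟩)
        (centralizer_le (SetLike.coe_subset_coe.mpr inf_le_left) hvC)
    have hwZ : w ∈ omegaZ p S := mem_omegaZ.mpr
      ⟨hQLS ⟨omegaZ_le _ hwV, commutator_le_right _ _ hwc⟩, hwS, (mem_omegaZ.mp hwV).2.2⟩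
    rw [hvw]
    exact (Commute.mul_left (mem_centralizer_iff.mp hcL x hx.1).symm
      (mem_centralizer_iff.mp hx.2 w hwZ)).eq

/-- Kieler's lemma for subnormal subgroups, with the inherited facts. -/
theorem kieler_subnormal (hchar : centralizer (Cfsg.pCore p G : Set G) ≤ Cfsg.pCore p G)
    (T : Sylow p G) {L : Subgroup G} (hL : L.IsSubnormal) :
    centralizer (Cfsg.pCore p ↥L : Set ↥L) ≤ Cfsg.pCore p ↥L ∧
      (∃ P : Sylow p ↥L, (P : Subgroup ↥L) = (T : Subgroup G).subgroupOf L) ∧
      L ⊓ centralizer (omegaZ p (T : Subgroup G) : Set G) =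
        L ⊓ centralizer (omegaZ p ((T : Subgroup G) ⊓ L) : Set G) := by
  induction hL with
  | top =>
    refine ⟨char_normal hchar _, exists_sylow_inf_normal T ⊤, by rw [inf_top_eq]⟩
  | step H K hle _ hN ih =>
    obtain ⟨hKc, ⟨P, hP⟩, heq⟩ := ih
    haveI := hN
    have hHc := char_normal hKc (H.subgroupOf K)
    let e : ↥(H.subgroupOf K) ≃* ↥H := subgroupOfEquivOfLe hle
    obtain ⟨R, hR⟩ := exists_sylow_inf_normal P (H.subgroupOf K)
    refine ⟨?_, ⟨R.mapSurjective (f := e.toMonoidHom) e.surjective, ?_⟩, ?_⟩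
    · have hmap : (Cfsg.pCore p ↥(H.subgroupOf K)).map e.toMonoidHom = Cfsg.pCore p ↥H := by
        refine le_antisymm (pCore_map_le _ e.surjective) fun y hy => ?_
        exact ⟨e.symm y, pCore_map_le e.symm.toMonoidHom e.symm.surjective ⟨y, hy, rfl⟩,
          e.apply_symm_apply y⟩
      intro y hy
      rw [← hmap]
      refine ⟨e.symm y, hHc (mem_centralizer_iff.mpr fun q hq => ?_), e.apply_symm_apply y⟩
      apply e.injective
      rw [map_mul, map_mul, e.apply_symm_apply]
      exact mem_centralizer_iff.mp hy (e q) (hmap ▸ mem_map_of_mem e.toMonoidHom hq)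
    · show (R : Subgroup _).map e.toMonoidHom = _
      rw [hR, hP]
      ext x
      rw [show e.toMonoidHom = (e : _ →* _) from rfl, Subgroup.map_equiv_eq_comap_symm,
        Subgroup.mem_comap]
      simp [e, mem_subgroupOf, subgroupOfEquivOfLe]
    · have hk := congrArg (Subgroup.map K.subtype) (kieler_normal hKc P (H.subgroupOf K))
      rw [Subgroup.map_inf _ _ _ K.subtype_injective, Subgroup.map_inf _ _ _ K.subtype_injective,
        map_centralizer_subtype, map_centralizer_subtype, omegaZ_map, omegaZ_map,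
        Subgroup.map_inf _ _ _ K.subtype_injective, map_subgroupOf_eq_of_le hle, hP,
        subgroupOf_map_subtype] at hk
      have hKH : H ⊓ K = H := inf_eq_left.mpr hle
      rw [← inf_assoc, ← inf_assoc, hKH,
        show (T : Subgroup G) ⊓ K ⊓ H = (T : Subgroup G) ⊓ H by
          rw [inf_assoc, inf_eq_right.mpr hle]] at hk
      calc H ⊓ centralizer (omegaZ p (T : Subgroup G) : Set G)
          = H ⊓ (K ⊓ centralizer (omegaZ p (T : Subgroup G) : Set G)) := by
            rw [← inf_assoc, hKH]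
        _ = H ⊓ centralizer (omegaZ p ((T : Subgroup G) ⊓ K) : Set G) := by
            rw [heq, ← inf_assoc, hKH]
        _ = _ := hk

end CfsgLib.PRed
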