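import Cfsg.Agent.Lib.LocalEven.QuadraticCommute

/-!
A quadratic element on an irreducible module of odd characteristic: it has order `p` in the image,
commutes there with an involution and gives a section `SL(2, p)`.
-/

set_option autoImplicit false

open scoped MatrixGroups commutatorElement

namespace CfsgLib.LocalEven.NoQuadratic

variable {G : Type*} [Group G] [Finite G] {p : ℕ} [Fact p.Prime]

/-- The image of a quadratic element in the group induced on an irreducible module. -/
theorem of_quadratic (hp2 : p ≠ 2) (V H : Subgroup G) (hV : Cfsg.IsElementaryAbelian p V)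
    (hHV : H ≤ Subgroup.normalizer (V : Set G))
    (hirr : ∀ U : Subgroup G, U ≤ V → H ≤ Subgroup.normalizer (U : Set G) → U = ⊥ ∨ U = V)
    [((Subgroup.centralizer (V : Set G)).subgroupOf H).Normal]
    {a : G} (haH : a ∈ H) (hac : a ∉ Subgroup.centralizer (V : Set G))
    (hquad : ⁅⁅V, Subgroup.zpowers a⁆, Subgroup.zpowers a⁆ = ⊥) :
    let c : ↥H ⧸ (Subgroup.centralizer (V : Set G)).subgroupOf H := QuotientGroup.mk ⟨a, haH⟩
    c ≠ 1 ∧ c ^ p = 1 ∧ (∃ z, orderOf z = 2 ∧ z * c = c * z) ∧
      ∃ (M : Subgroup (↥H ⧸ (Subgroup.centralizer (V : Set G)).subgroupOf H))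
        (f : M →* SL(2, ZMod p)), Function.Surjective f := by
  classical
  intro c
  set N := Subgroup.normalizer (V : Set G) with hN
  have hVN : V ≤ N := Subgroup.le_normalizer
  set V' := V.subgroupOf N with hV'
  haveI : V'.Normal := Subgroup.normal_subgroupOf_of_le_normalizer le_rfl
  have hV'e : Cfsg.IsElementaryAbelian p V' :=
    ⟨⟨⟨fun x y => Subtype.ext (Subtype.ext (by
      haveI := hV.1
      exact setLike_mul_comm (Subgroup.mem_subgroupOf.1 x.2) (Subgroup.mem_subgroupOf.1 y.2)))⟩⟩, fun x hx => Subtype.ext (hV.2 _ hx)⟩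
  obtain ⟨W, iW, iM, iF, ρ, emb, hemb, hembV, hact, hρ, hsq⟩ :=
    CfsgLib.PLocal.exists_rep_quotient' V' hV'e
  set ψ : ↥H →* N ⧸ Subgroup.centralizer (V' : Set N) :=
    (QuotientGroup.mk' _).comp (Subgroup.inclusion hHV) with hψ
  have hker : ψ.ker = (Subgroup.centralizer (V : Set G)).subgroupOf H := by
    ext h
    rw [MonoidHom.mem_ker, hψ, MonoidHom.comp_apply, QuotientGroup.mk'_apply,
      QuotientGroup.eq_one_iff, Subgroup.mem_subgroupOf, Subgroup.mem_centralizer_iff,
      Subgroup.mem_centralizer_iff]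
    constructor
    · intro h1 v hv
      exact congrArg Subtype.val (h1 ⟨v, hVN hv⟩ hv)
    · intro h1 v hv
      exact Subtype.ext (h1 v hv)
  let e : ↥H ⧸ (Subgroup.centralizer (V : Set G)).subgroupOf H →* N ⧸ Subgroup.centralizer (V' : Set N) :=
    QuotientGroup.lift _ ψ hker.ge
  have he : Function.Injective e := by
    rw [injective_iff_map_eq_one]
    intro q hq
    obtain ⟨h, rfl⟩ := QuotientGroup.mk_surjective q
    exact (QuotientGroup.eq_one_iff h).2 (hker ▸ (MonoidHom.mem_ker.2 hq))
  set σ := ρ.comp e with hσ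
  have hσi : Function.Injective σ := hρ.comp he
  have hc1 : c ≠ 1 := fun h => hac ((QuotientGroup.eq_one_iff (⟨a, haH⟩ : ↥H)).1 h)
  have hcs : (σ c - 1) * (σ c - 1) = 0 := hsq ⟨a, hHV haH⟩ (by
    refine Subgroup.map_injective N.subtype_injective ?_
    rw [Subgroup.map_commutator, Subgroup.map_commutator, hV', Subgroup.map_subgroupOf_eq_of_le hVN,
      MonoidHom.map_zpowers, Subgroup.map_bot]
    exact hquad)
  have hcp : c ^ p = 1 := hσi (by
    rw [map_pow, map_one, show σ c = (σ c - 1) + 1 by abel, (Commute.one_right _).add_pow]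
    rw [Finset.sum_range_succ', Finset.sum_eq_single 0]
    · simp only [zero_add, pow_one, one_pow, mul_one, Nat.choose_one_right, pow_zero,
        Nat.choose_zero_right, Nat.cast_one]
      rw [show ((p : ℕ) : Module.End (ZMod p) W) = 0 from by
        rw [← map_natCast (algebraMap (ZMod p) (Module.End (ZMod p) W)) p, ZMod.natCast_self, map_zero],
        mul_zero, zero_add]
    · intro i _ hi
      rw [pow_succ, show i = (i - 1) + 1 by omega, pow_succ, mul_assoc ((σ c - 1) ^ (i - 1)), hcs]
      simp
    · intro h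
      exact absurd (Finset.mem_range.2 (Fact.out : p.Prime).pos) h)
  have hcore : c ∉ Cfsg.pCore p (↥H ⧸ (Subgroup.centralizer (V : Set G)).subgroupOf H) := by
    intro hc
    set P := Cfsg.pCore p (↥H ⧸ (Subgroup.centralizer (V : Set G)).subgroupOf H) with hP
    have hPp : IsPGroup p P := CfsgLib.PCore.pCore_isPGroup
    haveI : P.Normal := Cfsg.pCore_normal p _
    haveI : Finite W := Finite.of_injective (fun w => emb (Multiplicative.ofAdd w))
      (hemb.comp Multiplicative.ofAdd.injective)
    letI : MulAction P W :=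
      { smul := fun x w => σ (x : _) w
        one_smul := fun w => by show σ 1 w = w; rw [map_one]; rfl
        mul_smul := fun x y w => by
          show σ ((x : _) * (y : _)) w = σ (x : _) (σ (y : _) w)
          rw [map_mul]; rfl }
    -- a nonzero fixed vector
    obtain ⟨w₁, hw₁⟩ : ∃ w : W, w ≠ 0 := by
      by_contra! h
      apply hc1
      refine hσi (LinearMap.ext fun w => ?_)
      rw [h (σ c w), h (σ 1 w)]
    have hpW : p ∣ Nat.card W := by
      have hp' : (p : ℕ) • w₁ = 0 := by
        rw [← Nat.cast_smul_eq_nsmul (ZMod p), ZMod.natCast_self, zero_smul]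
      have := addOrderOf_eq_prime hp' hw₁
      exact this ▸ addOrderOf_dvd_natCard w₁
    obtain ⟨w₀, hw₀, hne⟩ := hPp.exists_fixed_point_of_prime_dvd_card_of_fixed_point W hpW
      (a := (0 : W)) (fun x => map_zero (σ (x : _)))
    let Fx : AddSubgroup W :=
      { carrier := {w | ∀ x ∈ P, σ x w = w}
        add_mem' := fun {u v} hu hv x hx => by rw [map_add, hu x hx, hv x hx]
        zero_mem' := fun x _ => map_zero _
        neg_mem' := fun {u} hu x hx => by rw [map_neg, hu x hx] }
    have hFx : w₀ ∈ Fx := fun x hx => hw₀ ⟨x, hx⟩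
    let U : Subgroup G := (Fx.toSubgroup).map (N.subtype.comp emb)
    have hUV : U ≤ V := by
      rintro _ ⟨w, -, rfl⟩
      exact hembV w
    have hUn : H ≤ Subgroup.normalizer (U : Set G) := by
      have key : ∀ h : ↥H, ∀ u ∈ U, (h : G) * u * (h : G)⁻¹ ∈ U := by
        rintro h _ ⟨w, hw, rfl⟩
        refine ⟨Multiplicative.ofAdd (σ (QuotientGroup.mk h) (Multiplicative.toAdd w)), ?_, ?_⟩
        · intro x hx
          show σ x (σ (QuotientGroup.mk h) (Multiplicative.toAdd w)) = _
          have h1 : (QuotientGroup.mk h)⁻¹ * x * QuotientGroup.mk h ∈ P := by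
            simpa using (inferInstance : P.Normal).conj_mem x hx (QuotientGroup.mk h)⁻¹
          have h2 := hw _ h1
          conv_rhs => rw [← h2]
          rw [← Module.End.mul_apply, ← Module.End.mul_apply, ← map_mul, ← map_mul]
          congr 1
          congr 1
          group
        · show ((emb (Multiplicative.ofAdd (ρ (QuotientGroup.mk _) (Multiplicative.toAdd w)))) : G) = _
          rw [hact]
          rfl
      intro h hh
      rw [Subgroup.mem_normalizer_iff]
      intro u
      refine ⟨fun hu => key ⟨h, hh⟩ u hu, fun hu => ?_⟩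
      have := key ⟨h, hh⟩⁻¹ _ hu
      simpa [mul_assoc] using this
    rcases hirr U hUV hUn with h | h
    · apply hne
      have h1 : ((emb (Multiplicative.ofAdd w₀) : N) : G) ∈ (⊥ : Subgroup G) :=
        h ▸ ⟨Multiplicative.ofAdd w₀, hFx, rfl⟩
      rw [Subgroup.mem_bot] at h1
      have h2 : emb (Multiplicative.ofAdd w₀) = emb 1 := by rw [map_one]; exact Subtype.ext h1
      exact (Multiplicative.ofAdd.injective (hemb h2)).symm
    · apply hc1
      refine hσi (LinearMap.ext fun w => ?_)
      obtain ⟨w', hw', he'⟩ : ((emb (Multiplicative.ofAdd w) : N) : G) ∈ U := h ▸ hembV _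
      have hww : w' = Multiplicative.ofAdd w := hemb (Subtype.ext he')
      rw [map_one]
      exact (hww ▸ hw') c hc
  refine ⟨hc1, hcp, QuadCommute.exists_involution_commute hp2 σ hσi hcs hcore, ?_⟩
  exact CfsgLib.PLocal.exists_sl2_of_rep hp2 σ hσi hcs hcore

end CfsgLib.LocalEven.NoQuadratic
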