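import Cfsg.Agent.Lib.LocalEven.OffenderSquareQuasisimple
import Cfsg.Agent.Lib.Solvable.Fitting

/-!
`|A| ^ 2 ≤ |V : C_V(A)|` for an elementary abelian 2-group `A` of a group acting faithfully on `V`,
faithful on a family of commuting quasisimple subgroups, by doubling diagonals.
-/

set_option autoImplicit false
set_option linter.style.haveILetI false
set_option linter.unusedSectionVars false

namespace CfsgLib.LocalEven.OffenderSquare

open Subgroup
open scoped commutatorElement Pointwise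
open CfsgLib.PLocal (elemAb_commute elemAb_isPGroup elemAb_of_le)

variable {G : Type*} [Group G] [Finite G]

/-- The hypotheses on one quasisimple subgroup. -/
structure Good (D : Subgroup G) : Prop where
  qs : Cfsg.IsQuasisimple D
  odd : Odd (Nat.card (center D))
  big : BigInverted (D ⧸ center D)

/-- A complement in an elementary abelian group containing a given subgroup meeting `X` trivially. -/
theorem exists_complement_ge {A X Y : Subgroup G} (hA : Cfsg.IsElementaryAbelian 2 A) (hX : X ≤ A)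
    (hY : Y ≤ A) (hXY : X ⊓ Y = ⊥) : ∃ Z, Y ≤ Z ∧ Z ≤ A ∧ X ⊓ Z = ⊥ ∧ X ⊔ Z = A := by
  classical
  obtain ⟨Z, ⟨hYZ, hZA, hXZ⟩, hmax⟩ := (Set.toFinite {Z : Subgroup G | Y ≤ Z ∧ Z ≤ A ∧ X ⊓ Z = ⊥}).exists_maximal
    ⟨Y, le_rfl, hY, hXY⟩
  refine ⟨Z, hYZ, hZA, hXZ, le_antisymm (sup_le hX hZA) fun a ha => ?_⟩
  by_contra hn
  have hZ' : Z ⊔ zpowers a ≤ A := sup_le hZA (zpowers_le.2 ha)
  have key : X ⊓ (Z ⊔ zpowers a) = ⊥ := by
    rw [eq_bot_iff]
    intro w hw'
    obtain ⟨hwX, hw⟩ := mem_inf.1 hw'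
    have hn' : zpowers a ≤ normalizer (Z : Set G) := zpowers_le.2 (centralizer_le_normalizer _
      (mem_centralizer_iff.2 fun z hz => elemAb_commute hA (hZA hz) ha))
    rw [← SetLike.mem_coe, coe_mul_of_right_le_normalizer_left Z _ hn'] at hw
    obtain ⟨z, hz, u, ⟨i, rfl⟩, rfl⟩ := Set.mem_mul.1 hw
    have hai : a ^ i = 1 ∨ a ^ i = a := by
      rcases Int.even_or_odd i with ⟨j, rfl⟩ | ⟨j, rfl⟩
      · left; rw [← two_mul, zpow_mul, zpow_two, ← pow_two, hA.2 a ha, one_zpow]
      · right; rw [zpow_add_one, zpow_mul, zpow_two, ← pow_two, hA.2 a ha, one_zpow, one_mul]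
    rcases hai with h | h
    · simp only [h, mul_one] at hwX ⊢
      exact hXZ ▸ mem_inf.2 ⟨hwX, hz⟩
    · exfalso
      simp only [h] at hwX
      have : z⁻¹ * (z * a) ∈ X ⊔ Z := mul_mem (inv_mem (mem_sup_right hz)) (mem_sup_left hwX)
      rw [inv_mul_cancel_left] at this
      exact hn this
  have := hmax ⟨hYZ.trans le_sup_left, hZ', key⟩ le_sup_left
  exact hn (mem_sup_right (this (mem_sup_right (mem_zpowers a))))

/-- An element centralizing the image of an element acts as one on `D` modulo the centre. -/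
theorem mem_centralizer_of_mem_center {D : Subgroup G} (hD : ⁅D, D⁆ = D) {b : G}
    (hb : b ∈ normalizer (D : Set G))
    (h : ∀ d ∈ D, d⁻¹ * (b * d * b⁻¹) ∈ centralizer (D : Set G)) : b ∈ centralizer (D : Set G) := by
  refine mem_centralizer_of_automizer_eq hD (g := ⟨b, hb⟩) ?_
  ext q
  obtain ⟨d, rfl⟩ := QuotientGroup.mk_surjective q
  rw [CfsgLib.Components.automizerHom_apply, MulAut.one_apply, QuotientGroup.eq, mem_center_iff]
  intro u
  apply Subtype.ext
  have := (h d d.2)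
  have h2 := inv_mem this
  simp only [mul_inv_rev, inv_inv] at h2
  have := mem_centralizer_iff.1 h2 u u.2
  simpa [mul_assoc] using this

/-- An involution with a nontrivial inverted element of order prime to three moves at least four. -/
theorem four_le_index (V : Subgroup G) (hV : Cfsg.IsElementaryAbelian 2 V) {a y : G}
    (hyV : y ∈ normalizer (V : Set G)) (hyo : Odd (orderOf y)) (hy3 : ¬ 3 ∣ orderOf y)
    (hyc : y ∉ centralizer (V : Set G)) (hinv : a * y * a⁻¹ = y⁻¹) :
    4 ≤ (V ⊓ centralizer ({a} : Set G)).relIndex V := by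
  haveI : Fact (Nat.Prime 2) := ⟨Nat.prime_two⟩
  by_contra hlt
  push Not at hlt
  set F := V ⊓ centralizer ({a} : Set G) with hF
  set F' := F.map (MulAut.conj y).toMonoidHom with hF'
  have hidx : F'.relIndex V = F.relIndex V := by
    conv_lhs => rw [hF', ← mem_normalizer_iff_map_conj_eq.1 hyV]
    exact relIndex_map_map_of_injective _ _ (MulAut.conj y).injective
  obtain ⟨k, hk⟩ := (elemAb_isPGroup hV).index (F.subgroupOf V)
  have hk1 : k ≤ 1 := by
    by_contra h
    have h4 := Nat.pow_le_pow_right (show 0 < 2 by norm_num) (show 2 ≤ k by omega)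
    rw [relIndex, hk] at hlt
    omega
  have hF2 : F.relIndex V ≤ 2 := by
    rw [relIndex, hk]
    exact (Nat.pow_le_pow_right two_pos hk1).trans (by norm_num)
  have hidx4 : (F ⊓ F').relIndex V ≤ 4 :=
    relIndex_inf_le.trans (Nat.mul_le_mul hF2 (hidx.trans_le hF2))
  have hfix : ∀ w ∈ F ⊓ F', y ^ 2 * w = w * y ^ 2 := by
    rintro w ⟨hw, v, hv, hvw⟩
    have hvw' : y * v * y⁻¹ = w := hvw
    have h1 : Commute w a := mem_centralizer_singleton_iff.1 hw.2
    have h2 : Commute w (y * a * y⁻¹) := by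
      rw [← hvw']
      show y * v * y⁻¹ * (y * a * y⁻¹) = y * a * y⁻¹ * (y * v * y⁻¹)
      have hva : v * a = a * v := mem_centralizer_singleton_iff.1 hv.2
      calc y * v * y⁻¹ * (y * a * y⁻¹) = y * (v * a) * y⁻¹ := by group
        _ = y * (a * v) * y⁻¹ := by rw [hva]
        _ = _ := by group
    have h3 := h2.mul_right h1.inv_right
    have e1 : y * a * y⁻¹ * a⁻¹ = y ^ 2 := by
      calc y * a * y⁻¹ * a⁻¹ = y * (a * y * a⁻¹)⁻¹ := by group
        _ = y ^ 2 := by rw [hinv, inv_inv, pow_two]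
    rw [e1] at h3
    exact h3.eq.symm
  have hcop : (orderOf y).Coprime 2 := Nat.coprime_two_right.2 hyo
  have hy2o : orderOf (y ^ 2) = orderOf y := hcop.orderOf_pow
  have hy2 := CfsgLib.PLocal.centralizes_of_index_le_four V (F ⊓ F') hV
    (inf_le_left.trans inf_le_left) hidx4 (pow_mem hyV 2) (hy2o.symm ▸ hyo) (hy2o.symm ▸ hy3) hfix
  obtain ⟨j, hj⟩ := hyo
  apply hyc
  have hyy : y = (y ^ 2) ^ (j + 1) := by
    rw [← pow_mul, show 2 * (j + 1) = orderOf y + 1 by omega, pow_succ, pow_orderOf_eq_one, one_mul]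
  exact hyy ▸ pow_mem hy2 _

/-- The diagonal of `D` and `D ^ a`. -/
noncomputable def diagHom {D : Subgroup G} {a : G}
    (hc : ∀ d ∈ D, ∀ e ∈ D, a * d * a⁻¹ * e = e * (a * d * a⁻¹)) : D →* G where
  toFun d := d * (a * d * a⁻¹)
  map_one' := by simp
  map_mul' d e := by
    rw [coe_mul]
    calc (d : G) * e * (a * (d * e) * a⁻¹) = d * (e * (a * d * a⁻¹)) * (a * e * a⁻¹) := by group
      _ = d * (a * d * a⁻¹ * e) * (a * e * a⁻¹) := by rw [← hc d d.2 e e.2]
      _ = _ := by group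

theorem diagHom_apply {D : Subgroup G} {a : G}
    (hc : ∀ d ∈ D, ∀ e ∈ D, a * d * a⁻¹ * e = e * (a * d * a⁻¹)) (d : D) :
    diagHom hc d = d * (a * d * a⁻¹) := rfl

/-- If two diagonal elements agree, the components agree modulo the centralizer of `D`. -/
theorem diag_eq_mod {D : Subgroup G} {a : G}
    (hc : ∀ d ∈ D, ∀ e ∈ D, a * d * a⁻¹ * e = e * (a * d * a⁻¹)) {d e : D}
    (h : diagHom hc d = diagHom hc e) : (e : G)⁻¹ * d ∈ centralizer (D : Set G) := by
  rw [diagHom_apply, diagHom_apply] at h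
  have e1 : (e : G)⁻¹ * d = a * (e * (d : G)⁻¹) * a⁻¹ := by
    calc (e : G)⁻¹ * d = (e : G)⁻¹ * (d * (a * d * a⁻¹)) * (a * d * a⁻¹)⁻¹ := by group
      _ = (e : G)⁻¹ * (e * (a * e * a⁻¹)) * (a * d * a⁻¹)⁻¹ := by rw [h]
      _ = _ := by group
  rw [e1, mem_centralizer_iff]
  intro u hu
  exact (hc _ (mul_mem e.2 (inv_mem d.2)) u hu).symm

/-- The diagonal of two commuting conjugates of a good group is good. -/
theorem good_diag {D : Subgroup G} (hD : Good D) {a : G}
    (hc : ∀ d ∈ D, ∀ e ∈ D, a * d * a⁻¹ * e = e * (a * d * a⁻¹)) : Good (diagHom hc).range := by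
  set ψ := diagHom hc
  have hker : ∀ d e : D, ψ d = ψ e → e⁻¹ * d ∈ center D := fun d e h => mem_center_iff.2 fun u =>
    Subtype.ext (mem_centralizer_iff.1 (diag_eq_mod hc h) u u.2)
  haveI : Nontrivial ψ.range := by
    rw [nontrivial_iff_ne_bot, Ne, MonoidHom.range_eq_bot_iff]
    intro h
    refine CfsgLib.Components.quasisimple_center_ne_top hD.qs ((eq_top_iff' _).2 fun d => ?_)
    simpa using hker d 1 (by rw [h]; rfl)
  have hsurj := ψ.rangeRestrict_surjective
  have hq := CfsgLib.Components.isQuasisimple_of_surjective hD.qs ψ.rangeRestrict hsurj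
  set π : D →* ψ.range ⧸ center ψ.range := (QuotientGroup.mk' (center ψ.range)).comp ψ.rangeRestrict
  have hπs : Function.Surjective π := (QuotientGroup.mk'_surjective _).comp hsurj
  have hπk : π.ker = center D := by
    refine le_antisymm ?_ fun d hd => ?_
    · rcases CfsgLib.Components.quasisimple_normal_eq_top_or_le_center hD.qs π.ker with h | h
      · exfalso
        refine CfsgLib.Components.quasisimple_center_ne_top hq ((eq_top_iff' _).2 fun y => ?_)
        obtain ⟨d, rfl⟩ := hsurj y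
        exact (QuotientGroup.eq_one_iff _).1 (MonoidHom.mem_ker.1 (h.symm ▸ mem_top d : d ∈ π.ker))
      · exact h
    · exact (QuotientGroup.eq_one_iff _).2
        (CfsgLib.Components.map_center_le_center_of_surjective ψ.rangeRestrict hsurj ⟨d, hd, rfl⟩)
  refine ⟨hq, hD.odd.of_dvd_nat ?_, ?_⟩
  · have hm : (center D).map ψ.rangeRestrict = center ψ.range := by
      refine le_antisymm (CfsgLib.Components.map_center_le_center_of_surjective _ hsurj) fun y hy => ?_
      obtain ⟨d, rfl⟩ := hsurj y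
      exact ⟨d, hπk ▸ MonoidHom.mem_ker.2 ((QuotientGroup.eq_one_iff _).2 hy), rfl⟩
    rw [← hm]
    exact card_map_dvd (center D) ψ.rangeRestrict
  · exact hD.big.of_equiv ((QuotientGroup.quotientMulEquivOfEq hπk.symm).trans
      (QuotientGroup.quotientKerEquivOfSurjective π hπs))

/-- A good subgroup whose odd order elements act faithfully acts faithfully. -/
theorem inf_centralizer_eq_bot {V D : Subgroup G} (hDV : D ≤ normalizer (V : Set G)) (hD : Good D)
    (hkey : ∀ x ∈ D, Odd (orderOf x) → x ∈ centralizer (V : Set G) → x = 1) :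
    D ⊓ centralizer (V : Set G) = ⊥ := by
  haveI : ((D ⊓ centralizer (V : Set G)).subgroupOf D).Normal :=
    normal_subgroupOf_of_le_normalizer fun d hd => inf_normalizer_le_normalizer_inf
      ⟨le_normalizer hd, CfsgLib.Components.normalizer_le_normalizer_centralizer V (hDV hd)⟩
  rcases CfsgLib.Components.quasisimple_normal_eq_top_or_le_center hD.qs
    ((D ⊓ centralizer (V : Set G)).subgroupOf D) with h | h
  · exfalso
    apply CfsgLib.Components.quasisimple_not_isSolvable hD.qs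
    have hp : IsPGroup 2 D := by
      intro d
      obtain ⟨k, m, hm, hord⟩ :=
        Nat.exists_eq_pow_mul_and_not_dvd (orderOf_pos d).ne' 2 (by norm_num)
      refine ⟨k, Subtype.ext ?_⟩
      rw [coe_pow, coe_one]
      have hd : ((d ^ 2 ^ k : D) : G) ∈ D ⊓ centralizer (V : Set G) :=
        mem_subgroupOf.1 (h.symm ▸ mem_top (d ^ 2 ^ k))
      rw [coe_pow] at hd
      refine hkey _ hd.1 ?_ hd.2
      rw [orderOf_pow, orderOf_coe, hord, Nat.gcd_mul_right_left,
        Nat.mul_div_cancel_left _ (pow_pos two_pos k)]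
      exact Nat.odd_iff.2 (by omega)
    haveI : Fact (Nat.Prime 2) := ⟨Nat.prime_two⟩
    haveI := hp.isNilpotent
    infer_instance
  · rw [eq_bot_iff]
    intro z hz
    have hzc : (⟨z, hz.1⟩ : D) ∈ center D := h (mem_subgroupOf.2 hz)
    refine mem_bot.2 (hkey z hz.1 (hD.odd.of_dvd_nat ?_) hz.2)
    have := Subgroup.orderOf_dvd_natCard (center D) hzc
    rwa [← orderOf_coe] at this

/-- Odd order elements acting faithfully still do so on the fixed points of a 2-group they centralize. -/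
theorem odd_faithful_fixed {V P E : Subgroup G} (hV : IsPGroup 2 V) (hP : IsPGroup 2 P)
    (hPV : P ≤ normalizer (V : Set G)) (hEV : E ≤ normalizer (V : Set G))
    (hE : ∀ u ∈ E, Odd (orderOf u) → u ∈ centralizer (V : Set G) → u = 1) :
    ∀ u ∈ E ⊓ centralizer (P : Set G), Odd (orderOf u) →
      u ∈ centralizer ((V ⊓ centralizer (P : Set G) : Subgroup G) : Set G) → u = 1 := by
  rintro u ⟨huE, huP⟩ ho huW
  haveI : Fact (Nat.Prime 2) := ⟨Nat.prime_two⟩
  exact hE u huE ho (CfsgLib.Components.mem_centralizer_of_AxB (p := 2) hV hP hPV (hEV huE) huP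
    (Nat.coprime_two_right.2 ho)
    fun r hr hrP => (mem_centralizer_iff.1 huW r (mem_inf.2 ⟨hr, hrP⟩)).symm)

/-- The bound along one orbit of commuting conjugates. -/
theorem card_sq_le_orbit {S : Subgroup G} (hS : ¬ Cfsg.Involves (Equiv.Perm (Fin 3)) S) :
    ∀ (n : ℕ) (V E D A : Subgroup G), Nat.card A = n → Cfsg.IsElementaryAbelian 2 V →
      Cfsg.IsElementaryAbelian 2 A → A ≤ S → E ≤ S → A ≤ normalizer (V : Set G) →
      E ≤ normalizer (V : Set G) → A ≤ normalizer (E : Set G) →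
      (∀ u ∈ E, Odd (orderOf u) → u ∈ centralizer (V : Set G) → u = 1) →
      D ≤ E → Good D → A ⊓ centralizer (D : Set G) = ⊥ →
      (∀ b ∈ A, b ∈ normalizer (D : Set G) ∨
        ∀ d ∈ D, ∀ e ∈ D, b * d * b⁻¹ * e = e * (b * d * b⁻¹)) →
      Nat.card A ^ 2 ≤ (V ⊓ centralizer (A : Set G)).relIndex V := by
  intro n
  induction n using Nat.strong_induction_on with
  | _ n ih =>
  intro V E D A hAn hV hA hAS hES hAV hEV hAE hodd hDE hD hAf hconj
  haveI : Fact (Nat.Prime 2) := ⟨Nat.prime_two⟩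
  have hDS := hDE.trans hES
  have hDV := hDE.trans hEV
  have hf : D ⊓ centralizer (V : Set G) = ⊥ :=
    inf_centralizer_eq_bot hDV hD fun x hx => hodd x (hDE hx)
  by_cases hall : A ≤ normalizer (D : Set G)
  · exact card_sq_le_of_quasisimple hS V D A hDS hAS hV hDV hAV hall hA hD.qs hf hAf hD.big
  obtain ⟨a, ha, haN⟩ := SetLike.not_le_iff_exists.1 hall
  have hc := (hconj a ha).resolve_left haN
  have ha2 : a * a = 1 := by rw [← pow_two]; exact hA.2 a ha
  have hai : a⁻¹ = a := inv_eq_of_mul_eq_one_left ha2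
  have ha1 : a ≠ 1 := fun h => haN (h ▸ one_mem _)
  have hao : orderOf a = 2 := orderOf_eq_prime (hA.2 a ha) ha1
  have hXY : zpowers a ⊓ (A ⊓ normalizer (D : Set G)) = ⊥ := by
    rw [eq_bot_iff]
    intro w hw
    obtain ⟨⟨i, rfl⟩, -, hwN⟩ := hw
    rcases Int.even_or_odd i with ⟨j, rfl⟩ | ⟨j, rfl⟩
    · exact mem_bot.2 (show a ^ (j + j) = 1 by rw [← two_mul, zpow_mul, zpow_two, ha2, one_zpow])
    · exfalso
      apply haN
      have e : a ^ (2 * j + 1) = a := by rw [zpow_add_one, zpow_mul, zpow_two, ha2, one_zpow, one_mul]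
      exact e ▸ hwN
  obtain ⟨A', hNA', hA'A, haA', hsup⟩ := exists_complement_ge hA (zpowers_le.2 ha) inf_le_left hXY
  have haA'' : a ∉ A' := fun h => ha1 (mem_bot.1 (haA' ▸ mem_inf.2 ⟨mem_zpowers a, h⟩))
  have hn' : zpowers a ≤ normalizer (A' : Set G) := zpowers_le.2 (centralizer_le_normalizer _
    (mem_centralizer_iff.2 fun z hz => elemAb_commute hA (hA'A hz) ha))
  have hcard : Nat.card A ≤ 2 * Nat.card A' := by
    have h := CfsgLib.Structure.card_sup_dvd_mul hn'
    rw [sup_comm, hsup, Nat.card_zpowers, hao, mul_comm] at h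
    exact Nat.le_of_dvd (mul_pos two_pos Nat.card_pos) h
  have hlt : Nat.card A' < n := by
    rw [← hAn]
    exact lt_of_not_ge fun h => haA'' ((eq_of_le_of_card_ge hA'A h).symm ▸ ha)
  -- an odd element of `D` outside the centre
  obtain ⟨x, hx, hxo⟩ : ∃ x : D, x ∉ center D ∧ Odd (orderOf x) := by
    by_contra! h
    refine CfsgLib.Components.quasisimple_not_isSolvable hD.qs ?_
    have hp : IsPGroup 2 (D ⧸ center D) := by
      intro q
      obtain ⟨d, rfl⟩ := QuotientGroup.mk_surjective q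
      obtain ⟨k, m, hm, hord⟩ :=
        Nat.exists_eq_pow_mul_and_not_dvd (orderOf_pos d).ne' 2 (by norm_num)
      refine ⟨k, ?_⟩
      rw [← QuotientGroup.mk_pow, QuotientGroup.eq_one_iff]
      by_contra hc'
      refine h _ hc' ?_
      rw [orderOf_pow, hord, Nat.gcd_mul_right_left, Nat.mul_div_cancel_left _ (pow_pos two_pos k)]
      exact Nat.odd_iff.2 (by omega)
    haveI := hp.isNilpotent
    haveI : Group.IsSolvable (center D) :=
      Group.isSolvable_of_comm fun p q => Subtype.ext (mem_center_iff.1 q.2 p)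
    exact Group.isSolvable_of_ker_le_range (center D).subtype (QuotientGroup.mk' (center D))
      (by rw [QuotientGroup.ker_mk', range_subtype])
  set y := (x : G) * (a * (x : G)⁻¹ * a⁻¹) with hy
  have hxa : a * (x : G)⁻¹ * a⁻¹ * x = x * (a * (x : G)⁻¹ * a⁻¹) := hc _ (inv_mem x.2) _ x.2
  have hyinv : a * y * a⁻¹ = y⁻¹ := by
    rw [hy, mul_inv_rev, ← conj_inv, inv_inv, hai, mul_inv_rev, mul_inv_rev, hai]
    calc a * ((x : G) * (a * ((x : G)⁻¹ * a))) * a = a * x * a * (x : G)⁻¹ * (a * a) := by group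
      _ = a * x * a * (x : G)⁻¹ := by rw [ha2, mul_one]
  have hcomm : Commute (x : G) (a * (x : G)⁻¹ * a⁻¹) := hxa.symm
  have hyo : Odd (orderOf y) := by
    refine Odd.of_dvd_nat ?_ (hcomm.orderOf_mul_dvd_mul_orderOf)
    rw [show a * (x : G)⁻¹ * a⁻¹ = MulAut.conj a (x : G)⁻¹ from rfl, MulEquiv.orderOf_eq, orderOf_inv,
      orderOf_coe]
    exact hxo.mul hxo
  have hyS : y ∈ S := mul_mem (hDS x.2)
    (mul_mem (mul_mem (hAS ha) (inv_mem (hDS x.2))) (inv_mem (hAS ha)))
  have hy3 : ¬ 3 ∣ orderOf y := fun h => hS (CfsgLib.PLocal.SThree.involves_perm_three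
    (x := (⟨y, hyS⟩ : S)) (a := ⟨a, hAS ha⟩) (by rwa [orderOf_mk]) (by rwa [orderOf_mk])
    (Subtype.ext hyinv))
  have hyN : y ∈ normalizer (V : Set G) := mul_mem (hDV x.2)
    (mul_mem (mul_mem (hAV ha) (inv_mem (hDV x.2))) (inv_mem (hAV ha)))
  have hyc : y ∉ centralizer (V : Set G) := by
    intro hyC
    apply hx
    rw [mem_center_iff]
    intro u
    have hVn := CfsgLib.Components.normalizer_le_normalizer_centralizer V (hDV u.2)
    have h1 : (u : G) * y * (u : G)⁻¹ * y⁻¹ ∈ centralizer (V : Set G) :=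
      mul_mem ((mem_normalizer_iff.1 hVn y).1 hyC) (inv_mem hyC)
    have e : (u : G) * y * (u : G)⁻¹ * y⁻¹ = u * x * (u : G)⁻¹ * (x : G)⁻¹ := by
      have hu : a * (x : G)⁻¹ * a⁻¹ * (u : G)⁻¹ = (u : G)⁻¹ * (a * (x : G)⁻¹ * a⁻¹) :=
        hc _ (inv_mem x.2) _ (inv_mem u.2)
      calc (u : G) * y * (u : G)⁻¹ * y⁻¹
          = u * x * ((a * (x : G)⁻¹ * a⁻¹) * (u : G)⁻¹) * y⁻¹ := by rw [hy]; group
        _ = u * x * ((u : G)⁻¹ * (a * (x : G)⁻¹ * a⁻¹)) * y⁻¹ := by rw [hu]
        _ = _ := by rw [hy]; group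
    have h2 : (u : G) * x * (u : G)⁻¹ * (x : G)⁻¹ = 1 :=
      mem_bot.1 (hf ▸ mem_inf.2 ⟨mul_mem (mul_mem (mul_mem u.2 x.2) (inv_mem u.2)) (inv_mem x.2),
        e ▸ h1⟩)
    exact Subtype.ext (mul_inv_eq_iff_eq_mul.1 (mul_inv_eq_one.1 h2))
  have h4 := four_le_index V hV hyN hyo hy3 hyc hyinv
  -- recursion
  have hxyE : ∀ d ∈ D, a * d * a⁻¹ ∈ E := fun d hd => (mem_normalizer_iff.1 (hAE ha) d).1 (hDE hd)
  set D₁ := (diagHom hc).range with hD₁
  set E₁ := E ⊓ centralizer (zpowers a : Set G)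
  set W := V ⊓ centralizer (zpowers a : Set G)
  have hD₁E : D₁ ≤ E₁ := by
    rintro _ ⟨d, rfl⟩
    refine mem_inf.2 ⟨mul_mem (hDE d.2) (hxyE d d.2), ?_⟩
    rw [mem_centralizer_iff]
    rintro _ ⟨i, rfl⟩
    refine (Commute.zpow_left ?_ i).eq
    show a * _ = _ * a
    rw [diagHom_apply]
    calc a * ((d : G) * (a * d * a⁻¹)) = (a * d * a⁻¹) * d * a := by
          rw [hai]
          calc a * ((d : G) * (a * d * a)) = a * d * a * (d * a) := by group
            _ = _ := by group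
      _ = d * (a * d * a⁻¹) * a := by rw [hc d d.2 d d.2]
  have hA'n : ∀ b ∈ A', b ∈ normalizer (centralizer (zpowers a : Set G) : Set G) := fun b hb =>
    CfsgLib.Components.normalizer_le_normalizer_centralizer _ (centralizer_le_normalizer _
      (mem_centralizer_iff.2 (by rintro _ ⟨i, rfl⟩; exact
        ((show Commute a b from elemAb_commute hA ha (hA'A hb)).zpow_left i).eq)))
  have hab : ∀ b ∈ A', a * b ∉ normalizer (D : Set G) := by
    intro b hb h
    have h1 : a * b ∈ A' := hNA' ⟨mul_mem ha (hA'A hb), h⟩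
    exact haA'' (by simpa using mul_mem h1 (inv_mem hb))
  have hA'f : A' ⊓ centralizer (D₁ : Set G) = ⊥ := by
    rw [eq_bot_iff]
    intro b hb
    obtain ⟨hbA', hbD⟩ := mem_inf.1 hb
    have hcb : ∀ d : D, b * diagHom hc d * b⁻¹ = diagHom hc d := fun d => by
      rw [← mem_centralizer_iff.1 hbD _ ⟨d, rfl⟩, mul_inv_cancel_right]
    have hba : b * a = a * b := elemAb_commute hA (hA'A hbA') ha
    by_cases hbN : b ∈ normalizer (D : Set G)
    · have hbc : b ∈ centralizer (D : Set G) := by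
        refine mem_centralizer_of_mem_center (isPerfect_iff.1 hD.qs.1) hbN fun d hd => ?_
        have hd' : b * d * b⁻¹ ∈ D := (mem_normalizer_iff.1 hbN d).1 hd
        refine diag_eq_mod hc (d := ⟨b * d * b⁻¹, hd'⟩) (e := ⟨d, hd⟩) ?_
        rw [diagHom_apply, diagHom_apply]
        refine Eq.trans ?_ (hcb ⟨d, hd⟩)
        rw [diagHom_apply]
        calc (b * d * b⁻¹) * (a * (b * d * b⁻¹) * a⁻¹) = b * d * b⁻¹ * ((a * b) * d * (a * b)⁻¹) := by
              group
          _ = b * d * b⁻¹ * ((b * a) * d * (b * a)⁻¹) := by rw [hba]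
          _ = _ := by group
      exact hAf ▸ mem_inf.2 ⟨hA'A hbA', hbc⟩
    · exfalso
      refine CfsgLib.Components.quasisimple_center_ne_top hD.qs ((eq_top_iff' _).2 fun d => ?_)
      rw [mem_center_iff]
      intro u
      have hbc := (hconj b (hA'A hbA')).resolve_left hbN
      have habc := (hconj (a * b) (mul_mem ha (hA'A hbA'))).resolve_left (hab b hbA')
      have e : diagHom hc d = (b * d * b⁻¹) * ((a * b) * d * (a * b)⁻¹) := by
        rw [← hcb d, diagHom_apply, ← hba]; group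
      have h1 : Commute (diagHom hc d) (u : G) := by
        rw [e]; exact Commute.mul_left (hbc d d.2 u u.2) (habc d d.2 u u.2)
      rw [diagHom_apply] at h1
      have h2 : Commute ((d : G) * (a * d * a⁻¹) * (a * d * a⁻¹)⁻¹) (u : G) :=
        h1.mul_left (show Commute (a * (d : G) * a⁻¹) (u : G) from hc d d.2 u u.2).inv_left
      rw [mul_inv_cancel_right] at h2
      exact Subtype.ext h2.symm
  have hconj₁ : ∀ b ∈ A', b ∈ normalizer (D₁ : Set G) ∨
      ∀ d ∈ D₁, ∀ e ∈ D₁, b * d * b⁻¹ * e = e * (b * d * b⁻¹) := by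
    intro b hb
    have hba : b * a = a * b := elemAb_commute hA (hA'A hb) ha
    have e : ∀ d : D, b * diagHom hc d * b⁻¹ = b * d * b⁻¹ * (a * (b * d * b⁻¹) * a⁻¹) := fun d => by
      rw [diagHom_apply]
      calc b * ((d : G) * (a * d * a⁻¹)) * b⁻¹ = b * d * b⁻¹ * ((b * a) * d * (b * a)⁻¹) := by group
        _ = b * d * b⁻¹ * ((a * b) * d * (a * b)⁻¹) := by rw [hba]
        _ = _ := by group
    by_cases hbN : b ∈ normalizer (D : Set G)
    · left
      rw [mem_normalizer_iff_map_conj_eq]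
      refine eq_of_le_of_card_ge ?_ (by rw [card_map_of_injective (MulAut.conj b).injective])
      rintro _ ⟨_, ⟨d, rfl⟩, rfl⟩
      exact ⟨⟨b * d * b⁻¹, (mem_normalizer_iff.1 hbN d).1 d.2⟩, (e d).symm⟩
    · right
      have hbc := (hconj b (hA'A hb)).resolve_left hbN
      have habc := (hconj (a * b) (mul_mem ha (hA'A hb))).resolve_left (hab b hb)
      rintro _ ⟨d, rfl⟩ _ ⟨u, rfl⟩
      rw [e d, diagHom_apply hc u]
      have c1 : Commute (b * (d : G) * b⁻¹) (u : G) := hbc d d.2 u u.2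
      have c2 : Commute (a * (b * (d : G) * b⁻¹) * a⁻¹) (u : G) := by
        have h := habc d d.2 u u.2
        rwa [show a * b * (d : G) * (a * b)⁻¹ = a * (b * (d : G) * b⁻¹) * a⁻¹ by group] at h
      have hconjc : ∀ {p q : G}, Commute p q → Commute (a * p * a⁻¹) (a * q * a⁻¹) := fun h =>
        Commute.map h (MulAut.conj a)
      have c3 : Commute (b * (d : G) * b⁻¹) (a * (u : G) * a⁻¹) := by
        have h := hconjc c2
        have e2 : a * (a * (b * (d : G) * b⁻¹) * a⁻¹) * a⁻¹ = b * (d : G) * b⁻¹ := by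
          rw [hai]
          calc a * (a * (b * (d : G) * b⁻¹) * a) * a = (a * a) * (b * d * b⁻¹) * (a * a) := by group
            _ = _ := by rw [ha2, one_mul, mul_one]
        rwa [e2] at h
      exact ((c1.mul_right c3).mul_left (c2.mul_right (hconjc c1))).eq
  have hA'V : ∀ b ∈ A', b ∈ normalizer (W : Set G) := fun b hb =>
    inf_normalizer_le_normalizer_inf ⟨hAV (hA'A hb), hA'n b hb⟩
  have hE₁W : E₁ ≤ normalizer (W : Set G) := fun u hu =>
    inf_normalizer_le_normalizer_inf ⟨hEV hu.1, le_normalizer hu.2⟩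
  have hih := ih _ hlt W E₁ D₁ A' rfl (elemAb_of_le hV inf_le_left) (elemAb_of_le hA hA'A)
    (hA'A.trans hAS) (inf_le_left.trans hES) hA'V hE₁W
    (fun b hb => inf_normalizer_le_normalizer_inf ⟨hAE (hA'A hb), hA'n b hb⟩)
    (odd_faithful_fixed (elemAb_isPGroup hV) (elemAb_isPGroup (elemAb_of_le hA (zpowers_le.2 ha)))
      (zpowers_le.2 (hAV ha)) hEV hodd)
    hD₁E (good_diag hD hc) hA'f hconj₁
  have hWA : W ⊓ centralizer (A' : Set G) = V ⊓ centralizer (A : Set G) := by
    refine le_antisymm (fun w hw => ?_) (le_inf (inf_le_inf_left _ (centralizer_le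
      (zpowers_le.2 ha))) (inf_le_right.trans (centralizer_le hA'A)))
    obtain ⟨⟨hwV, hwa⟩, hwA'⟩ := hw
    refine mem_inf.2 ⟨hwV, ?_⟩
    have : zpowers a ⊔ A' ≤ centralizer ({w} : Set G) := sup_le
      (fun t ht => mem_centralizer_singleton_iff.2 (mem_centralizer_iff.1 hwa t ht))
      (fun t ht => mem_centralizer_singleton_iff.2 (mem_centralizer_iff.1 hwA' t ht))
    rw [hsup] at this
    exact mem_centralizer_iff.2 fun t ht => mem_centralizer_singleton_iff.1 (this ht)
  rw [hWA] at hih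
  have hCa : centralizer (zpowers a : Set G) = centralizer ({a} : Set G) := by
    rw [zpowers_eq_closure, centralizer_closure]
  have hmul := relIndex_mul_relIndex (V ⊓ centralizer (A : Set G)) W V
    (hWA ▸ inf_le_left) inf_le_left
  rw [← hmul]
  calc Nat.card A ^ 2 ≤ (2 * Nat.card A') ^ 2 := Nat.pow_le_pow_left hcard 2
    _ = Nat.card A' ^ 2 * 4 := by ring
    _ ≤ _ := Nat.mul_le_mul hih (by simpa only [W, hCa] using h4)

/-- The bound for a group faithful on a family of commuting good subgroups. -/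
theorem card_sq_le_of_family {S : Subgroup G} (hS : ¬ Cfsg.Involves (Equiv.Perm (Fin 3)) S)
    (V : Subgroup G) (hV : Cfsg.IsElementaryAbelian 2 V) (hSV : S ≤ normalizer (V : Set G))
    (hf : S ⊓ centralizer (V : Set G) = ⊥) (𝒦 : Set (Subgroup G)) (hgood : ∀ D ∈ 𝒦, Good D)
    (hle : ∀ D ∈ 𝒦, D ≤ S)
    (hconj : ∀ D ∈ 𝒦, ∀ b ∈ S, b ∈ normalizer (D : Set G) ∨
      ∀ d ∈ D, ∀ e ∈ D, b * d * b⁻¹ * e = e * (b * d * b⁻¹)) :
    ∀ (n : ℕ) (A : Subgroup G), Nat.card A = n → Cfsg.IsElementaryAbelian 2 A → A ≤ S →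
      (∀ b ∈ A, (∀ D ∈ 𝒦, b ∈ centralizer (D : Set G)) → b = 1) →
      Nat.card A ^ 2 ≤ (V ⊓ centralizer (A : Set G)).relIndex V := by
  intro n
  induction n using Nat.strong_induction_on with
  | _ n ih =>
  intro A hAn hA hAS hAf
  by_cases hA1 : A = ⊥
  · subst hA1
    simp only [card_bot, one_pow]
    exact Nat.pos_of_ne_zero index_ne_zero_of_finite
  obtain ⟨D, hD, hAD⟩ : ∃ D ∈ 𝒦, ¬ A ≤ centralizer (D : Set G) := by
    by_contra! h
    exact hA1 ((eq_bot_iff_forall _).2 fun b hb => hAf b hb fun D hD => h D hD hb)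
  set A₂ := A ⊓ centralizer (D : Set G) with hA₂
  obtain ⟨A₃, -, hA₃A, h23, hsup⟩ :=
    exists_complement_ge hA (X := A₂) inf_le_left bot_le (inf_bot_eq _)
  have hA₂lt : Nat.card A₂ < n := by
    rw [← hAn]
    exact lt_of_not_ge fun h => hAD (eq_of_le_of_card_ge inf_le_left h ▸ inf_le_right)
  have h2 := ih _ hA₂lt A₂ rfl (elemAb_of_le hA inf_le_left) (inf_le_left.trans hAS)
    fun b hb => hAf b (mem_inf.1 hb).1
  set W := V ⊓ centralizer (A₂ : Set G) with hW
  set E := S ⊓ centralizer (A₂ : Set G)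
  have hA₃C : A₃ ≤ centralizer (A₂ : Set G) := fun b hb => mem_centralizer_iff.2 fun c hc =>
    elemAb_commute hA (mem_inf.1 hc).1 (hA₃A hb)
  have hA₃f : A₃ ⊓ centralizer (D : Set G) = ⊥ :=
    le_bot_iff.1 (fun b hb => h23 ▸ mem_inf.2
      ⟨mem_inf.2 ⟨hA₃A (mem_inf.1 hb).1, (mem_inf.1 hb).2⟩, (mem_inf.1 hb).1⟩)
  have h3 := card_sq_le_orbit hS _ W E D A₃ rfl (elemAb_of_le hV inf_le_left) (elemAb_of_le hA hA₃A)
    (hA₃A.trans hAS) inf_le_left
    (fun b hb => inf_normalizer_le_normalizer_inf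
      ⟨hSV (hAS (hA₃A hb)), le_normalizer (hA₃C hb)⟩)
    (fun u hu => inf_normalizer_le_normalizer_inf ⟨hSV hu.1, le_normalizer hu.2⟩)
    (fun b hb => le_normalizer (mem_inf.2 ⟨hAS (hA₃A hb), hA₃C hb⟩))
    (odd_faithful_fixed (elemAb_isPGroup hV) (elemAb_isPGroup (elemAb_of_le hA inf_le_left))
      (inf_le_left.trans (hAS.trans hSV)) hSV fun u hu _ huV => mem_bot.1 (hf ▸ mem_inf.2 ⟨hu, huV⟩))
    (le_inf (hle D hD) (le_centralizer_iff.1 inf_le_right)) (hgood D hD) hA₃f
    fun b hb => hconj D hD b (hAS (hA₃A hb))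
  have hWA : W ⊓ centralizer (A₃ : Set G) = V ⊓ centralizer (A : Set G) := by
    refine le_antisymm (fun w hw => ?_) (le_inf (inf_le_inf_left _ (centralizer_le inf_le_left))
      (inf_le_right.trans (centralizer_le hA₃A)))
    obtain ⟨⟨hwV, hw2⟩, hw3⟩ := hw
    refine mem_inf.2 ⟨hwV, ?_⟩
    have : A₂ ⊔ A₃ ≤ centralizer ({w} : Set G) := sup_le
      (fun t ht => mem_centralizer_singleton_iff.2 (mem_centralizer_iff.1 hw2 t ht))
      (fun t ht => mem_centralizer_singleton_iff.2 (mem_centralizer_iff.1 hw3 t ht))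
    rw [hsup] at this
    exact mem_centralizer_iff.2 fun t ht => mem_centralizer_singleton_iff.1 (this ht)
  rw [hWA] at h3
  have hcard : Nat.card A ≤ Nat.card A₃ * Nat.card A₂ := by
    have hn : A₂ ≤ normalizer (A₃ : Set G) := fun b hb => centralizer_le_normalizer _
      (mem_centralizer_iff.2 fun c hc => elemAb_commute hA (hA₃A hc) (mem_inf.1 hb).1)
    have h := CfsgLib.Structure.card_sup_dvd_mul hn
    rw [sup_comm, hsup] at h
    exact Nat.le_of_dvd (mul_pos Nat.card_pos Nat.card_pos) h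
  rw [← relIndex_mul_relIndex (V ⊓ centralizer (A : Set G)) W V (hWA ▸ inf_le_left) inf_le_left]
  calc Nat.card A ^ 2 ≤ (Nat.card A₃ * Nat.card A₂) ^ 2 := Nat.pow_le_pow_left hcard 2
    _ = Nat.card A₃ ^ 2 * Nat.card A₂ ^ 2 := mul_pow _ _ _
    _ ≤ _ := Nat.mul_le_mul h3 h2

end CfsgLib.LocalEven.OffenderSquare
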