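import Cfsg.Agent.Lib.PLocal.OffenderSquare
import Cfsg.Agent.Lib.Components.Balance
import Cfsg.Agent.Lib.Techniques.JeClassTwo
import Cfsg.Agent.Lib.LocalEven.FaithfulModule

/-!
An elementary abelian 2-group `B` acting on a quasisimple group `D` and on an elementary abelian
2-group `W` on which `D` is faithful: `|B| ^ 2 ≤ |W : C_W(B)|`, given suitable elements of `D / Z(D)`
of large primitive order inverted by `B`.
-/

set_option autoImplicit false
set_option linter.style.haveILetI false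
set_option linter.unusedSectionVars false

namespace CfsgLib.LocalEven.OffenderSquare

open Subgroup
open scoped commutatorElement Pointwise
open CfsgLib.PLocal (elemAb_commute elemAb_isPGroup elemAb_of_le)

/-- Every elementary abelian group of at least four automorphisms of `X` has an element inverting an
element of large primitive prime order. -/
def BigInverted (X : Type*) [Group X] : Prop :=
  ∀ B : Subgroup (MulAut X), Cfsg.IsElementaryAbelian 2 B → 4 ≤ Nat.card B →
    ∃ β ∈ B, ∃ (x : X) (r s e : ℕ), r.Prime ∧ r ≠ 2 ∧ orderOf x = r ∧ β x = x⁻¹ ∧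
      Nat.card B ≤ 2 ^ s ∧ 4 * s ≤ e + 1 ∧ ∀ k : ℕ, r ∣ 2 ^ k - 1 → e ∣ k

theorem BigInverted.of_equiv {X Y : Type*} [Group X] [Group Y] (e : X ≃* Y) (h : BigInverted X) :
    BigInverted Y := by
  intro B hB h4
  set c : MulAut Y ≃* MulAut X := MulAut.congr e.symm
  have hcard : Nat.card (B.map c.toMonoidHom) = Nat.card B :=
    Nat.card_congr (B.equivMapOfInjective _ c.injective).toEquiv.symm
  have hel : Cfsg.IsElementaryAbelian 2 (B.map c.toMonoidHom) := by
    refine ⟨CfsgLib.PLocal.isMulCommutative_of_forall ?_, ?_⟩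
    · rintro _ ⟨a, ha, rfl⟩ _ ⟨b, hb, rfl⟩
      rw [← map_mul, elemAb_commute hB ha hb, map_mul]
    · rintro _ ⟨a, ha, rfl⟩
      rw [← map_pow, hB.2 a ha, map_one]
  obtain ⟨_, ⟨β, hβ, rfl⟩, x, r, s, k, hr, hr2, hx, hinv, hs, hk, hp⟩ := h _ hel (hcard.symm ▸ h4)
  refine ⟨β, hβ, e x, r, s, k, hr, hr2, by rwa [MulEquiv.orderOf_eq], ?_, hcard ▸ hs, hk, hp⟩
  have h1 : e.symm (β (e x)) = x⁻¹ := hinv
  rw [← map_inv, ← h1, MulEquiv.apply_symm_apply]

variable {G : Type*} [Group G] [Finite G]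

/-- An element of prime order `r` inverted by `b` forces a large `|W : C_W(b)|`. -/
theorem sq_index_of_inverted (W : Subgroup G) (hW : Cfsg.IsElementaryAbelian 2 W) {b x : G}
    (hxW : x ∈ normalizer (W : Set G))
    (hxc : x ∉ centralizer (W : Set G)) {r e : ℕ} (hr : r.Prime) (hr2 : r ≠ 2) (hx : orderOf x = r)
    (hinv : b * x * b⁻¹ = x⁻¹) (he : ∀ k : ℕ, r ∣ 2 ^ k - 1 → e ∣ k) :
    2 ^ e ≤ ((W ⊓ centralizer ({b} : Set G)).relIndex W) ^ 2 := by
  haveI : Fact (Nat.Prime 2) := ⟨Nat.prime_two⟩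
  haveI : Fact r.Prime := ⟨hr⟩
  set F := W ⊓ centralizer ({b} : Set G) with hF
  set F' := F.map (MulAut.conj x).toMonoidHom with hF'
  have hidx : F'.relIndex W = F.relIndex W := by
    conv_lhs => rw [hF', ← mem_normalizer_iff_map_conj_eq.1 hxW]
    exact relIndex_map_map_of_injective _ _ (MulAut.conj x).injective
  have hcx : F ⊓ F' ≤ centralizer ({x⁻¹ * x⁻¹} : Set G) := by
    rintro w ⟨hw, v, hv, hvw⟩
    have hvw' : x * v * x⁻¹ = w := hvw
    rw [mem_centralizer_singleton_iff]
    have h1 : Commute w b := mem_centralizer_singleton_iff.1 hw.2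
    have h2 : Commute w (x * b * x⁻¹) := by
      rw [← hvw']
      show x * v * x⁻¹ * (x * b * x⁻¹) = x * b * x⁻¹ * (x * v * x⁻¹)
      have hvb : v * b = b * v := mem_centralizer_singleton_iff.1 hv.2
      calc x * v * x⁻¹ * (x * b * x⁻¹) = x * (v * b) * x⁻¹ := by group
        _ = x * (b * v) * x⁻¹ := by rw [hvb]
        _ = _ := by group
    have h3 := h2.mul_right h1.inv_right
    have e1 : x * b * x⁻¹ * b⁻¹ = x * x := by
      calc x * b * x⁻¹ * b⁻¹ = x * (b * x * b⁻¹)⁻¹ := by group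
        _ = x * x := by rw [hinv, inv_inv]
    rw [e1] at h3
    have := h3.inv_right
    rwa [mul_inv_rev] at this
  have hK : zpowers x ⊓ centralizer (W : Set G) = ⊥ := by
    by_contra h
    have hdvd : Nat.card ↥(zpowers x ⊓ centralizer (W : Set G)) ∣ r :=
      hx ▸ Nat.card_zpowers x ▸ card_dvd_of_le inf_le_left
    rcases (Nat.dvd_prime hr).1 hdvd with h1 | h1
    · exact h (eq_bot_of_card_eq _ h1)
    · have := eq_of_le_of_card_ge (inf_le_left : zpowers x ⊓ centralizer (W : Set G) ≤ zpowers x)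
        (by rw [h1, Nat.card_zpowers, hx])
      exact hxc (this.ge (mem_zpowers x)).2
  have hord : r ^ (0 + 1) ∣ orderOf (x⁻¹ * x⁻¹) := by
    rw [← pow_two, (Nat.Coprime.orderOf_pow (y := x⁻¹) ?_), orderOf_inv, hx, pow_one]
    rw [orderOf_inv, hx]
    exact (Nat.coprime_primes hr Nat.prime_two).2 hr2
  have hb := CfsgLib.LocalEven.FaithfulModule.bound_of_fixed (V := W) (H := zpowers x)
    (W := F ⊓ F') (elemAb_isPGroup hW) (zpowers_le.2 hxW) hK (inf_le_left.trans inf_le_left)
    (mul_mem (inv_mem (mem_zpowers x)) (inv_mem (mem_zpowers x))) hcx hr hr2 hord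
    (fun k hk => he k (by simpa using hk))
  calc 2 ^ e ≤ (F ⊓ F').relIndex W := hb
    _ ≤ F.relIndex W * F'.relIndex W := relIndex_inf_le
    _ = _ := by rw [hidx, pow_two]

/-- The kernel of the action on `D / Z(D)` of the normalizer of the perfect group `D`. -/
theorem mem_centralizer_of_automizer_eq {D : Subgroup G} (hD : ⁅D, D⁆ = D)
    {g : normalizer (D : Set G)} (h : CfsgLib.Components.automizerHom D g = 1) :
    (g : G) ∈ centralizer (D : Set G) := by
  have hz : ∀ k ∈ zpowers g, ∀ l ∈ D, ⁅l, (k : G)⁆ ∈ centralizer (D : Set G) := by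
    intro k hk l hl
    obtain ⟨i, rfl⟩ := hk
    have h1 : CfsgLib.Components.automizerHom D (g ^ i) = 1 := by rw [map_zpow, h, one_zpow]
    have h2 := DFunLike.congr_fun h1 (QuotientGroup.mk (⟨l, hl⟩ : D))
    rw [CfsgLib.Components.automizerHom_apply, MulAut.one_apply, eq_comm, QuotientGroup.eq,
      mem_center_iff] at h2
    rw [mem_centralizer_iff]
    intro m hm
    have hc : (l⁻¹ : G) * (((g ^ i : normalizer (D : Set G)) : G) * l *
        ((g ^ i : normalizer (D : Set G)) : G)⁻¹) ∈ centralizer (D : Set G) :=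
      mem_centralizer_iff.2 fun u hu => congrArg Subtype.val (h2 ⟨u, hu⟩)
    have e : ⁅l, ((g ^ i : normalizer (D : Set G)) : G)⁆ = l * (l⁻¹ * (((g ^ i :
        normalizer (D : Set G)) : G) * l * ((g ^ i : normalizer (D : Set G)) : G)⁻¹))⁻¹ * l⁻¹ := by
      rw [commutatorElement_def]; group
    rw [e]
    exact mem_centralizer_iff.1 ((mem_normalizer_iff.1
      (CfsgLib.Components.normalizer_le_normalizer_centralizer D (le_normalizer hl)) _).1
      (inv_mem hc)) m hm
  have hK : ⁅D, zpowers (g : G)⁆ = ⊥ := by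
    refine CfsgLib.Components.commutator_eq_bot_of_perfect hD (le_bot_iff.1 ?_)
    refine (commutator_mono (?_ : ⁅D, zpowers (g : G)⁆ ≤ centralizer (D : Set G)) le_rfl).trans
      (commutator_eq_bot_iff_le_centralizer.2 le_rfl).le
    rw [commutator_le]
    rintro l hl _ ⟨i, rfl⟩
    exact hz (g ^ i) ⟨i, rfl⟩ l hl
  rw [commutator_comm] at hK
  exact CfsgLib.Components.le_centralizer_of_commutator_eq_bot hK (mem_zpowers _)

/-- An involution not centralizing the quasisimple group `D` inverts an element of odd order of `D`. -/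
theorem exists_inverted_in {D B : Subgroup G} (hD : Cfsg.IsQuasisimple D)
    (hBD : B ≤ normalizer (D : Set G)) (hB : Cfsg.IsElementaryAbelian 2 B) {a : G} (ha : a ∈ B)
    (haD : a ∉ centralizer (D : Set G)) :
    ∃ x ∈ D, Odd (orderOf x) ∧ x ≠ 1 ∧ a * x * a⁻¹ = x⁻¹ := by
  have hDD : ⁅D, D⁆ = D := isPerfect_iff.1 hD.1
  set H := D ⊔ B with hH
  have ha2 : a * a = 1 := by rw [← pow_two]; exact hB.2 a ha
  have haQ : (⟨a, mem_sup_right ha⟩ : H) ∉ Cfsg.pCore 2 H := by
    intro hmem
    apply haD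
    haveI : (Cfsg.pCore 2 H).Normal := inferInstance
    set P := Cfsg.pCore 2 H with hP
    have hDn : (D.subgroupOf H).Normal :=
      normal_subgroupOf_of_le_normalizer (sup_le le_normalizer hBD)
    have hN : ((D.subgroupOf H ⊓ P).map H.subtype).subgroupOf D ≤ center D := by
      haveI : (((D.subgroupOf H ⊓ P).map H.subtype).subgroupOf D).Normal := by
        constructor
        intro n hn d
        rw [mem_subgroupOf] at hn ⊢
        obtain ⟨k, hk, hkn⟩ := hn
        haveI : (D.subgroupOf H ⊓ P).Normal := inferInstance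
        refine ⟨⟨d, mem_sup_left d.2⟩ * k * (⟨d, mem_sup_left d.2⟩ : H)⁻¹,
          Normal.conj_mem inferInstance k hk _, ?_⟩
        show (d : G) * k * (d : G)⁻¹ = ((d * n * d⁻¹ : D) : G)
        rw [coe_mul, coe_mul, coe_inv]
        exact congrArg (fun t => (d : G) * t * (d : G)⁻¹) hkn
      rcases CfsgLib.Components.quasisimple_normal_eq_top_or_le_center hD
        (((D.subgroupOf H ⊓ P).map H.subtype).subgroupOf D) with h | h
      · exfalso
        apply CfsgLib.Components.quasisimple_not_isSolvable hD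
        have hp : IsPGroup 2 D := by
          intro d
          obtain ⟨k, hk, hkd⟩ := (h.symm ▸ mem_top d :
            d ∈ ((D.subgroupOf H ⊓ P).map H.subtype).subgroupOf D)
          obtain ⟨n, hn⟩ := CfsgLib.PCore.pCore_isPGroup (p := 2) (G := H) ⟨k, hk.2⟩
          refine ⟨n, Subtype.ext ?_⟩
          have h3 : ((k ^ 2 ^ n : H) : G) = 1 := by
            have := congrArg Subtype.val hn
            exact congrArg Subtype.val this
          rw [coe_pow, coe_one, ← (show (k : G) = (d : G) from hkd)]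
          exact h3
        haveI : Fact (Nat.Prime 2) := ⟨Nat.prime_two⟩
        haveI := hp.isNilpotent
        infer_instance
      · exact h
    have key : ∀ d ∈ D, ⁅d, a⁆ ∈ centralizer (D : Set G) := by
      intro d hd
      have h1 : ⁅(⟨d, mem_sup_left hd⟩ : H), ⟨a, mem_sup_right ha⟩⁆ ∈ D.subgroupOf H ⊓ P :=
        mem_inf.2 ⟨commutator_le_left _ _ (commutator_mem_commutator (H₁ := D.subgroupOf H)
          (H₂ := P) (mem_subgroupOf.2 hd) hmem), commutator_le_right _ _
          (commutator_mem_commutator (H₁ := D.subgroupOf H) (H₂ := P) (mem_subgroupOf.2 hd) hmem)⟩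
      have hmap : ⁅d, a⁆ ∈ (D.subgroupOf H ⊓ P).map H.subtype := ⟨_, h1, rfl⟩
      have hdD : ⁅d, a⁆ ∈ D := by
        obtain ⟨k, hk, hkd⟩ := hmap
        exact hkd ▸ hk.1
      have h2 := mem_center_iff.1 (hN (mem_subgroupOf.2 hmap : (⟨_, hdD⟩ : D) ∈ _))
      exact mem_centralizer_iff.2 fun u hu => congrArg Subtype.val (h2 ⟨u, hu⟩)
    have hK : ⁅D, zpowers a⁆ = ⊥ := by
      refine CfsgLib.Components.commutator_eq_bot_of_perfect hDD (le_bot_iff.1 ?_)
      refine (commutator_mono (?_ : ⁅D, zpowers a⁆ ≤ centralizer (D : Set G)) le_rfl).trans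
        (commutator_eq_bot_iff_le_centralizer.2 le_rfl).le
      rw [commutator_le]
      rintro l hl _ ⟨i, rfl⟩
      have hai : a ^ i = 1 ∨ a ^ i = a := by
        rcases Int.even_or_odd i with ⟨j, rfl⟩ | ⟨j, rfl⟩
        · left; rw [← two_mul, zpow_mul, zpow_two, ha2, one_zpow]
        · right; rw [zpow_add_one, zpow_mul, zpow_two, ha2, one_zpow, one_mul]
      rcases hai with h | h
      · show ⁅l, a ^ i⁆ ∈ _
        rw [h, commutatorElement_one_right]; exact one_mem _
      · show ⁅l, a ^ i⁆ ∈ _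
        rw [h]; exact key l hl
    rw [commutator_comm] at hK
    exact CfsgLib.Components.le_centralizer_of_commutator_eq_bot hK (mem_zpowers a)
  obtain ⟨g, k, hodd, hne, hinv⟩ :=
    CfsgLib.Techniques.JeTwo.exists_inverted (a := (⟨a, mem_sup_right ha⟩ : H)) (Subtype.ext ha2) haQ
  set y := (⟨a, mem_sup_right ha⟩ : H) * (g * ⟨a, mem_sup_right ha⟩ * g⁻¹) with hy
  have hyD : (y : G) ∈ D := by
    have hg : (g : G) ∈ (D : Set G) * (B : Set G) := by
      rw [← coe_mul_of_right_le_normalizer_left D B hBD]; exact g.2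
    obtain ⟨l, hl, c, hc, hlc⟩ := Set.mem_mul.1 hg
    have e : (y : G) = (a * l * a⁻¹) * l⁻¹ := by
      show a * ((g : G) * a * (g : G)⁻¹) = _
      rw [← hlc]
      calc a * (l * c * a * (l * c)⁻¹) = a * l * (c * a * c⁻¹) * l⁻¹ := by group
        _ = a * l * a⁻¹ * l⁻¹ := by
          rw [elemAb_commute hB hc ha, mul_inv_cancel_right, inv_eq_of_mul_eq_one_left ha2]
    rw [e]
    exact mul_mem ((mem_normalizer_iff.1 (hBD ha) l).1 hl) (inv_mem hl)
  exact ⟨((y ^ 2 ^ k : H) : G), by rw [coe_pow]; exact pow_mem hyD _, by rwa [orderOf_coe],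
    fun h => hne (Subtype.ext h), congrArg Subtype.val hinv⟩

/-- The bound for one quasisimple group. -/
theorem card_sq_le_of_quasisimple {S : Subgroup G}
    (hS : ¬ Cfsg.Involves (Equiv.Perm (Fin 3)) S) (W D B : Subgroup G) (hDS : D ≤ S) (hBS : B ≤ S)
    (hW : Cfsg.IsElementaryAbelian 2 W) (hDW : D ≤ normalizer (W : Set G))
    (hBW : B ≤ normalizer (W : Set G)) (hBD : B ≤ normalizer (D : Set G))
    (hB : Cfsg.IsElementaryAbelian 2 B) (hD : Cfsg.IsQuasisimple D)
    (hDf : D ⊓ centralizer (W : Set G) = ⊥) (hBf : B ⊓ centralizer (D : Set G) = ⊥)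
    (hX : BigInverted (D ⧸ center D)) :
    Nat.card B ^ 2 ≤ (W ⊓ centralizer (B : Set G)).relIndex W := by
  haveI : Fact (Nat.Prime 2) := ⟨Nat.prime_two⟩
  by_cases h1 : B = ⊥
  · subst h1
    simp only [card_bot, one_pow]
    exact Nat.pos_of_ne_zero index_ne_zero_of_finite
  obtain ⟨k, hk⟩ := (elemAb_isPGroup hB).exists_card_eq
  obtain ⟨a, ha, ha1⟩ := (ne_bot_iff_exists_ne_one.1 h1 |>.elim fun a h => ⟨(a : G), a.2,
    fun h' => h (Subtype.ext h')⟩ : ∃ a ∈ B, a ≠ 1)
  by_cases h4 : 4 ≤ Nat.card B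
  · set φ : B →* MulAut (D ⧸ center D) :=
      (CfsgLib.Components.automizerHom D).comp (inclusion hBD)
    have hφ : Function.Injective φ := by
      rw [← MonoidHom.ker_eq_bot_iff, eq_bot_iff]
      intro b hb
      have hc := mem_centralizer_of_automizer_eq (isPerfect_iff.1 hD.1) hb
      exact mem_bot.2 (Subtype.ext (mem_bot.1 (hBf ▸ mem_inf.2 ⟨b.2, hc⟩)))
    have hcard : Nat.card φ.range = Nat.card B :=
      Nat.card_congr (MonoidHom.ofInjective hφ).toEquiv.symm
    have hel : Cfsg.IsElementaryAbelian 2 φ.range := by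
      refine ⟨CfsgLib.PLocal.isMulCommutative_of_forall ?_, ?_⟩
      · rintro _ ⟨u, rfl⟩ _ ⟨v, rfl⟩
        rw [← map_mul, ← map_mul]
        exact congrArg φ (Subtype.ext (elemAb_commute hB u.2 v.2))
      · rintro _ ⟨u, rfl⟩
        rw [← map_pow, show u ^ 2 = 1 from Subtype.ext (hB.2 u u.2), map_one]
    obtain ⟨_, ⟨b, rfl⟩, q, r, s, e, hr, hr2, hq, hinv, hs, hse, he⟩ := hX _ hel (hcard.symm ▸ h4)
    obtain ⟨l, rfl⟩ := QuotientGroup.mk_surjective q
    have hb2 : (b : G) * b = 1 := by rw [← pow_two]; exact hB.2 b b.2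
    have hbi : (b : G)⁻¹ = b := inv_eq_of_mul_eq_one_left hb2
    have hblD : (b : G) * l * (b : G)⁻¹ ∈ D := (mem_normalizer_iff.1 (hBD b.2) l).1 l.2
    set y : D := l⁻¹ * ⟨(b : G) * l * (b : G)⁻¹, hblD⟩ with hy
    have hyq : (QuotientGroup.mk y : D ⧸ center D) = ((QuotientGroup.mk l : D ⧸ center D)⁻¹) ^ 2 := by
      rw [hy, QuotientGroup.mk_mul, QuotientGroup.mk_inv, pow_two]
      congr 1
    have hoy : r ∣ orderOf y := by
      have h := orderOf_map_dvd (QuotientGroup.mk' (center D)) y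
      rw [QuotientGroup.mk'_apply, hyq, Nat.Coprime.orderOf_pow ?_, orderOf_inv, hq] at h
      · exact h
      · rw [orderOf_inv, hq]; exact (Nat.coprime_primes hr Nat.prime_two).2 hr2
    have hyinv : (b : G) * y * (b : G)⁻¹ = (y : G)⁻¹ := by
      show (b : G) * ((l : G)⁻¹ * ((b : G) * l * (b : G)⁻¹)) * (b : G)⁻¹ =
        ((l : G)⁻¹ * ((b : G) * l * (b : G)⁻¹))⁻¹
      simp only [mul_inv_rev, inv_inv, hbi]
      calc (b : G) * ((l : G)⁻¹ * (b * l * b)) * b = b * (l : G)⁻¹ * b * l * (b * b) := by group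
        _ = b * ((l : G)⁻¹ * b) * l := by rw [hb2, mul_one]; group
    set x := (y : G) ^ (orderOf y / r) with hxdef
    have hx : orderOf x = r := by
      rw [hxdef, ← orderOf_coe]
      exact orderOf_pow_orderOf_div (orderOf_pos _).ne' (by rwa [orderOf_coe])
    have hxD : x ∈ D := pow_mem y.2 _
    have hxc : x ∉ centralizer (W : Set G) := fun h => by
      have h1 : x = 1 := mem_bot.1 (hDf ▸ mem_inf.2 ⟨hxD, h⟩)
      rw [h1, orderOf_one] at hx
      exact hr.one_lt.ne hx
    have hxinv : (b : G) * x * (b : G)⁻¹ = x⁻¹ := by rw [hxdef, ← conj_pow, hyinv, inv_pow]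
    have hN := sq_index_of_inverted W hW (hDW hxD) hxc hr hr2 hx hxinv he
    set N := (W ⊓ centralizer (B : Set G)).relIndex W
    have hle : (W ⊓ centralizer ({(b : G)} : Set G)).relIndex W ≤ N :=
      Nat.le_of_dvd (Nat.pos_of_ne_zero index_ne_zero_of_finite) (relIndex_dvd_of_le_left W
        (inf_le_inf_left _ (centralizer_le (Set.singleton_subset_iff.2 b.2))))
    obtain ⟨d, hd⟩ := ((elemAb_isPGroup hW).index ((W ⊓ centralizer (B : Set G)).subgroupOf W))
    have hNd : N = 2 ^ d := hd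
    have hed : e ≤ 2 * d := by
      rw [← Nat.pow_le_pow_iff_right one_lt_two, mul_comm, pow_mul, ← hNd]
      exact hN.trans (Nat.pow_le_pow_left hle 2)
    rw [hcard, hk, Nat.pow_le_pow_iff_right one_lt_two] at hs
    rw [hk, hNd, ← pow_mul]
    exact Nat.pow_le_pow_right two_pos (by omega)
  · have hB2 : Nat.card B = 2 := by
      rcases k with _ | _ | k
      · exact absurd (eq_bot_of_card_eq _ (by simpa using hk)) h1
      · simpa using hk
      · exfalso; apply h4; rw [hk, show 4 = 2 ^ 2 from rfl]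
        exact Nat.pow_le_pow_right two_pos (by omega)
    have haD : a ∉ centralizer (D : Set G) := fun h =>
      ha1 (mem_bot.1 (hBf ▸ mem_inf.2 ⟨ha, h⟩))
    obtain ⟨x, hxD, hxo, hx1, hxinv⟩ := exists_inverted_in hD hBD hB ha haD
    have hBz : ∀ b ∈ B, b = 1 ∨ b = a := by
      intro b hb
      have : zpowers a = B := eq_of_le_of_card_ge (zpowers_le.2 ha) (by
        rw [hB2, Nat.card_zpowers, orderOf_eq_prime (hB.2 a ha) ha1])
      rw [← this] at hb
      obtain ⟨i, rfl⟩ := hb
      rcases Int.even_or_odd i with ⟨j, rfl⟩ | ⟨j, rfl⟩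
      · left
        show a ^ (j + j) = 1
        rw [← two_mul, zpow_mul, zpow_two, ← pow_two, hB.2 a ha, one_zpow]
      · right
        show a ^ (2 * j + 1) = a
        rw [zpow_add_one, zpow_mul, zpow_two, ← pow_two, hB.2 a ha, one_zpow, one_mul]
    refine CfsgLib.PLocal.card_sq_le_relIndex_fixed_in hS W (zpowers x) ?_ hW
      (zpowers_le.2 (hDW hxD)) ?_ ?_ _ B rfl hB hBS hBW ?_ ?_
    · exact zpowers_le.2 (hDS hxD)
    · rw [Nat.card_zpowers]; exact Nat.coprime_two_right.2 hxo
    · exact le_bot_iff.1 ((inf_le_inf_right _ (zpowers_le.2 hxD)).trans hDf.le)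
    · intro b hb
      rcases hBz b hb with rfl | rfl
      · exact one_mem _
      · rw [mem_normalizer_iff_map_conj_eq, MonoidHom.map_zpowers]
        show zpowers (b * x * b⁻¹) = _
        rw [hxinv, zpowers_inv]
    · rw [eq_bot_iff]
      intro b hb
      rcases hBz b hb.1 with rfl | rfl
      · exact one_mem _
      · exfalso
        have hc : x * b = b * x := mem_centralizer_iff.1 hb.2 x (mem_zpowers x)
        have h2 : x⁻¹ = x := by rw [← hxinv, ← hc, mul_inv_cancel_right]
        have h3 : x ^ 2 = 1 := by rw [pow_two]; nth_rewrite 1 [← h2]; exact inv_mul_cancel x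
        apply hx1
        rw [← orderOf_eq_one_iff]
        exact Nat.eq_one_of_dvd_coprimes (Nat.coprime_two_left.2 hxo) (orderOf_dvd_of_pow_eq_one h3)
          dvd_rfl

end CfsgLib.LocalEven.OffenderSquare
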