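import Cfsg.Agent.Lib.LocalEven.FaithfulModule
import Cfsg.Agent.Lib.SpecLin.SLTwoTrace

/-!
In `PSL(2, q)`, `q` odd, no involution commutes with an element of order `p`.
-/

set_option autoImplicit false

namespace CfsgLib.LocalEven.PSLTwo

open Matrix CfsgLib.SpecLin.SLTwo

variable {F : Type*} [Field F] [Fintype F] {p : ℕ} [Fact p.Prime] [CharP F p]

/-- A nilpotent `2 × 2` matrix commuting with a trace-zero matrix of determinant one vanishes. -/
theorem eq_zero_of_commute (h2 : (2 : F) ≠ 0) {N Z : Matrix (Fin 2) (Fin 2) F} (hN : IsNilpotent N)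
    (hZt : Z.trace = 0) (hZd : Z.det = 1) (h : Z * N = N * Z) : N = 0 := by
  have hNt : N.trace = 0 := (Matrix.isNilpotent_trace_of_isNilpotent hN).eq_zero
  obtain ⟨k, hk⟩ := hN
  have hNd : N.det = 0 := by
    have h0 : N.det ^ k = 0 := by rw [← Matrix.det_pow, hk, Matrix.det_zero]
    rcases Nat.eq_zero_or_pos k with rfl | hk0
    · rw [pow_zero] at h0; exact absurd h0 one_ne_zero
    · exact (pow_eq_zero_iff hk0.ne').1 h0
  rw [Matrix.trace_fin_two] at hNt hZt
  rw [Matrix.det_fin_two] at hNd hZd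
  have hd : N 1 1 = - N 0 0 := by linear_combination hNt
  have hz : Z 1 1 = - Z 0 0 := by linear_combination hZt
  rw [hd] at hNd
  rw [hz] at hZd
  have e1 := congrFun (congrFun h 0) 0
  have e2 := congrFun (congrFun h 0) 1
  have e3 := congrFun (congrFun h 1) 0
  simp only [Matrix.mul_apply, Fin.sum_univ_two, hd, hz] at e1 e2 e3
  have f2 : Z 0 0 * N 0 1 - N 0 0 * Z 0 1 = 0 := by
    have : (2 : F) * (Z 0 0 * N 0 1 - N 0 0 * Z 0 1) = 0 := by linear_combination e2
    exact (mul_eq_zero.1 this).resolve_left h2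
  have f3 : N 0 0 * Z 1 0 - N 1 0 * Z 0 0 = 0 := by
    have : (2 : F) * (N 0 0 * Z 1 0 - N 1 0 * Z 0 0) = 0 := by linear_combination e3
    exact (mul_eq_zero.1 this).resolve_left h2
  have f1 : Z 0 1 * N 1 0 - N 0 1 * Z 1 0 = 0 := by linear_combination e1
  have hb : N 0 1 = 0 := sq_eq_zero_iff.1 (by
    linear_combination -(N 0 1) ^ 2 * hZd - (Z 0 0 * N 0 1 + N 0 0 * Z 0 1) * f2
      + (N 0 1 * Z 0 1) * f1 + (Z 0 1) ^ 2 * hNd)
  have ha : N 0 0 = 0 := sq_eq_zero_iff.1 (by
    linear_combination (-1 : F) * hNd - N 1 0 * hb)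
  have hc : N 1 0 = 0 := sq_eq_zero_iff.1 (by
    linear_combination -(N 1 0) ^ 2 * hZd + (N 1 0 * Z 0 0) * f3 - (N 1 0 * Z 1 0) * f1
      - (N 1 0 * Z 0 0 * Z 1 0) * ha - (Z 1 0) ^ 2 * N 1 0 * hb)
  ext i j
  fin_cases i <;> fin_cases j <;> simp [ha, hb, hc, hd]

local notation "SL2" => Matrix.SpecialLinearGroup (Fin 2) F
local notation "PSL2" => Matrix.ProjectiveSpecialLinearGroup (Fin 2) F

theorem not_commute_involution (hp : p ≠ 2) {c z : PSL2} (hcp : c ^ p = 1) (hc : c ≠ 1)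
    (hz : orderOf z = 2) : z * c ≠ c * z := by
  intro h
  have h2 : (2 : F) ≠ 0 := by
    intro e
    have : ((2 : ℕ) : F) = 0 := by exact_mod_cast e
    rw [CharP.cast_eq_zero_iff F p] at this
    exact hp ((Nat.prime_dvd_prime_iff_eq Fact.out Nat.prime_two).1 this)
  obtain ⟨X, hX, i, hi⟩ := CfsgLib.LocalEven.FaithfulModule.exists_lift_prime_pow (q := p)
    (QuotientGroup.mk' (Subgroup.center SL2)) (QuotientGroup.mk'_surjective _) Fact.out (j := 1)
    (d := c) (by rw [pow_one]; exact orderOf_eq_prime hcp hc)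
  obtain ⟨Z, hZ⟩ := QuotientGroup.mk'_surjective (Subgroup.center SL2) z
  set w := X * Z * X⁻¹ * Z⁻¹ with hw
  have hwc : w ∈ Subgroup.center SL2 := by
    rw [← QuotientGroup.eq_one_iff]
    show QuotientGroup.mk' (Subgroup.center SL2) w = 1
    rw [hw, map_mul, map_mul, map_mul, map_inv, map_inv, hX, hZ, ← h]
    group
  have hcj : ∀ j : ℕ, X ^ j * Z * (X ^ j)⁻¹ = w ^ j * Z := by
    intro j
    induction j with
    | zero => simp
    | succ j ih =>
      calc X ^ (j + 1) * Z * (X ^ (j + 1))⁻¹ = X * (X ^ j * Z * (X ^ j)⁻¹) * X⁻¹ := by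
            rw [pow_succ']; group
        _ = (X * w ^ j) * Z * X⁻¹ := by rw [ih]; group
        _ = (w ^ j * X) * Z * X⁻¹ := by
            rw [Subgroup.mem_center_iff.1 (pow_mem hwc j) X]
        _ = w ^ j * w * Z := by rw [hw]; group
        _ = w ^ (j + 1) * Z := by rw [pow_succ]
  have hw1 : w = 1 := by
    have h1 : w ^ orderOf X = 1 := by
      have := hcj (orderOf X)
      rw [pow_orderOf_eq_one] at this
      simpa using this.symm
    have h2' : w ^ 2 = 1 := by
      rcases mem_center_iff'.1 hwc with e | e <;> apply Subtype.ext <;>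
        rw [Matrix.SpecialLinearGroup.coe_pow, e] <;> simp
    rw [← orderOf_eq_one_iff]
    refine Nat.eq_one_of_dvd_coprimes (a := orderOf X) (b := 2) ?_ (orderOf_dvd_of_pow_eq_one h1)
      (orderOf_dvd_of_pow_eq_one h2')
    rw [hi]
    exact ((Nat.coprime_primes Fact.out Nat.prime_two).2 hp).pow_left i
  have hXZ : X * Z = Z * X := by
    rw [hw, mul_inv_eq_one, mul_inv_eq_iff_eq_mul] at hw1
    exact hw1
  have hN : IsNilpotent ((X : Matrix (Fin 2) (Fin 2) F) - 1) := by
    refine ⟨p ^ i, ?_⟩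
    rw [sub_pow_char_pow_of_commute p i (Commute.one_right _), one_pow, ← Matrix.SpecialLinearGroup.coe_pow,
      ← hi, pow_orderOf_eq_one, Matrix.SpecialLinearGroup.coe_one, sub_self]
  have hZ2 : Z * Z ∈ Subgroup.center SL2 := by
    rw [← QuotientGroup.eq_one_iff]
    show QuotientGroup.mk' (Subgroup.center SL2) (Z * Z) = 1
    rw [map_mul, hZ, ← pow_two]
    have := pow_orderOf_eq_one z
    rwa [hz] at this
  have hz1 : z ≠ 1 := fun e => by rw [e, orderOf_one] at hz; omega
  have hsq := CfsgLib.SpecLin.SLTwo.sq_eq (Z : Matrix (Fin 2) (Fin 2) F) Z.2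
  have hne : ∀ s : F, (Z : Matrix (Fin 2) (Fin 2) F) ≠ s • 1 := fun s e => hz1 (by
    rw [← hZ]; exact (QuotientGroup.eq_one_iff Z).2 (mem_center_of_scalar e))
  have htr : (Z : Matrix (Fin 2) (Fin 2) F).trace = 0 := by
    by_contra ht
    rcases mem_center_iff'.1 hZ2 with e | e <;>
      rw [Matrix.SpecialLinearGroup.coe_mul, hsq] at e
    · refine hne (2 / (Z : Matrix (Fin 2) (Fin 2) F).trace) ?_
      have e' := congrArg (fun M => ((Z : Matrix (Fin 2) (Fin 2) F).trace)⁻¹ • (M + 1)) e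
      simp only [sub_add_cancel, smul_smul, inv_mul_cancel₀ ht, one_smul] at e'
      refine e'.trans ?_
      rw [← two_smul F (1 : Matrix (Fin 2) (Fin 2) F), smul_smul, div_eq_inv_mul]
    · refine hne 0 ?_
      have e' := congrArg (fun M => ((Z : Matrix (Fin 2) (Fin 2) F).trace)⁻¹ • (M + 1)) e
      simp only [sub_add_cancel, neg_add_cancel, smul_zero, smul_smul, inv_mul_cancel₀ ht, one_smul] at e'
      refine e'.trans ?_
      rw [zero_smul]
  have h0 := eq_zero_of_commute h2 hN htr Z.2 (by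
    rw [mul_sub, sub_mul, mul_one, one_mul, ← Matrix.SpecialLinearGroup.coe_mul, ← hXZ,
      Matrix.SpecialLinearGroup.coe_mul])
  apply hc
  rw [← hX, show X = 1 from Subtype.ext (sub_eq_zero.1 h0), map_one]

end CfsgLib.LocalEven.PSLTwo
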