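import Mathlib

/-!
The complement of the `Qd` factor is abelian: a conjugation argument in the overgroup.
-/

set_option autoImplicit false

open scoped commutatorElement

namespace CfsgLib.LocalEven.QdSplit

variable {H : Type*} [Group H]

theorem comm_mul_left {s c t : H} (hst : c * t = t * c) (hcs : c * s = s * c) : ⁅s * c, t⁆ = ⁅s, t⁆ := by
  rw [commutatorElement_def, commutatorElement_def,
    show s * c * t * (s * c)⁻¹ * t⁻¹ = s * (c * t * c⁻¹) * s⁻¹ * t⁻¹ by group, hst, mul_inv_cancel_right]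

theorem comm_prod {s t c e : H} (hsc : s * c = c * s) (hse : s * e = e * s) (htc : t * c = c * t)
    (hte : t * e = e * t) : ⁅s * c, t * e⁆ = ⁅s, t⁆ * ⁅c, e⁆ := by
  have hC : ∀ {a b : H}, a * b = b * a → Commute a b := fun h => h
  rw [commutatorElement_def, commutatorElement_def, commutatorElement_def]
  have h1 : Commute (c * e * c⁻¹ * e⁻¹) t⁻¹ :=
    ((((hC htc.symm).mul_left (hC hte.symm)).mul_left (hC htc.symm).inv_left).mul_left
      (hC hte.symm).inv_left).inv_right
  have h2 : Commute (c * e * c⁻¹) s⁻¹ :=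
    (((hC hsc.symm).mul_left (hC hse.symm)).mul_left (hC hsc.symm).inv_left).inv_right
  calc s * c * (t * e) * (s * c)⁻¹ * (t * e)⁻¹
      = s * (c * t) * e * c⁻¹ * s⁻¹ * e⁻¹ * t⁻¹ := by group
    _ = s * t * ((c * e * c⁻¹) * s⁻¹) * e⁻¹ * t⁻¹ := by rw [← htc]; group
    _ = s * t * s⁻¹ * ((c * e * c⁻¹ * e⁻¹) * t⁻¹) := by rw [h2.eq]; group
    _ = _ := by rw [h1.eq]; group

variable [Finite H]

theorem mem_normalizer_of_conj {A : Subgroup H} {g : H} (h : ∀ a ∈ A, g * a * g⁻¹ ∈ A) :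
    g ∈ Subgroup.normalizer (A : Set H) := by
  have hle : A.map (MulAut.conj g).toMonoidHom ≤ A := by
    rintro _ ⟨a, ha, rfl⟩; exact h a ha
  have he : A.map (MulAut.conj g).toMonoidHom = A :=
    Subgroup.eq_of_le_of_card_ge hle (le_of_eq
      (Subgroup.card_map_of_injective (MulAut.conj g).injective).symm)
  refine Subgroup.mem_normalizer_iff.2 fun a => ⟨h a, fun ha => ?_⟩
  rw [← he] at ha
  obtain ⟨b, hb, e⟩ := ha
  have : b = a := mul_left_cancel (mul_right_cancel (show g * b * g⁻¹ = g * a * g⁻¹ from e))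
  exact this ▸ hb

/-- An element normalising the image of an injective map normalises the image of a characteristic subgroup. -/
theorem normalizer_map_of_char {A : Type*} [Group A] (f : A →* H) (hf : Function.Injective f) (T : Subgroup A)
    [hT : T.Characteristic] (x : H) (hx : x ∈ Subgroup.normalizer (f.range : Set H)) :
    x ∈ Subgroup.normalizer (T.map f : Set H) := by
  have h : ∀ a : A, ∃ b : A, f b = x * f a * x⁻¹ := fun a =>
    (Subgroup.mem_normalizer_iff.1 hx (f a)).1 ⟨a, rfl⟩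
  choose φ hφ using h
  let ψ : A →* A := MonoidHom.mk' φ fun a b => hf (by rw [hφ, map_mul, map_mul, hφ, hφ]; group)
  have hψ : Function.Bijective ψ := by
    haveI : Finite A := Finite.of_injective f hf
    refine Finite.injective_iff_bijective.1 fun a b e => hf ?_
    have : x * f a * x⁻¹ = x * f b * x⁻¹ := by rw [← hφ, ← hφ]; exact congrArg f e
    exact mul_left_cancel (mul_right_cancel this)
  refine mem_normalizer_of_conj ?_
  rintro _ ⟨a, ha, rfl⟩
  refine ⟨ψ a, ?_, hφ a⟩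
  have := Subgroup.characteristic_iff_le_comap.1 hT (MulEquiv.ofBijective ψ hψ) ha
  exact this

/-- If a group is the product of commuting subgroups `S₀` and `C`, the derived group `D` of `C` is
moved off itself by a normalizing element and its normalizer centralizes it, then `D` is trivial. -/
theorem complement_comm (S₀ C : Subgroup H) (hcomm : ∀ s ∈ S₀, ∀ c ∈ C, s * c = c * s) (hinf : S₀ ⊓ C = ⊥)
    (hfull : ∀ s ∈ S₀, (∃ t ∈ S₀, s * t ≠ t * s) → ∀ l ∈ ⁅S₀, S₀⁆, ∃ t ∈ S₀, ⁅s, t⁆ = l)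
    (x : H) (hx : x ∈ Subgroup.normalizer ((S₀ ⊔ C : Subgroup H) : Set H))
    (τ : H) (hτC : ∀ c ∈ C, τ * c = c * τ) (hτN : ∀ l ∈ ⁅S₀, S₀⁆, τ * l * τ⁻¹ ∈ ⁅S₀, S₀⁆)
    (hτ : ⁅S₀, S₀⁆ ≠ ⊥ → ∃ l ∈ ⁅S₀, S₀⁆, τ * l ≠ l * τ)
    (hdis : ⁅C, C⁆ ≠ ⊥ → ∀ z ∈ ⁅C, C⁆, x * z * x⁻¹ ∈ ⁅C, C⁆ → z = 1)
    (hnorm : ⁅C, C⁆ ≠ ⊥ → ∀ g : H, g ∈ Subgroup.normalizer ((⁅C, C⁆ : Subgroup H) : Set H) →
      ∀ z ∈ ⁅C, C⁆, g * z = z * g) :
    ⁅C, C⁆ = ⊥ := by
  by_contra hD
  set S := S₀ ⊔ C with hSdef
  set L := ⁅S₀, S₀⁆ with hLdef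
  set D := ⁅C, C⁆ with hDdef
  have hS₀ : S₀ ≤ S := le_sup_left
  have hCS : C ≤ S := le_sup_right
  have hLS : L ≤ S₀ := Subgroup.commutator_le.2 fun a ha b hb => by
    rw [commutatorElement_def]; exact mul_mem (mul_mem (mul_mem ha hb) (inv_mem ha)) (inv_mem hb)
  have hDC : D ≤ C := Subgroup.commutator_le.2 fun a ha b hb => by
    rw [commutatorElement_def]; exact mul_mem (mul_mem (mul_mem ha hb) (inv_mem ha)) (inv_mem hb)
  have hLD : ∀ z, z ∈ L → z ∈ D → z = 1 := fun z h1 h2 =>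
    (Subgroup.eq_bot_iff_forall _).1 hinf z (Subgroup.mem_inf.2 ⟨hLS h1, hDC h2⟩)
  have hcomm' : S₀ ≤ Subgroup.centralizer (C : Set H) := fun s hs =>
    Subgroup.mem_centralizer_iff.2 fun c hc => (hcomm s hs c hc).symm
  -- every element of `S` is a product
  have hfac : ∀ s ∈ S, ∃ s₀ ∈ S₀, ∃ c ∈ C, s₀ * c = s := by
    intro s hs
    have hle : S₀ ≤ Subgroup.normalizer (C : Set H) := fun a ha =>
      mem_normalizer_of_conj fun c hc => by rw [hcomm a ha c hc, mul_inv_cancel_right]; exact hc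
    have h : s ∈ ((S₀ ⊔ C : Subgroup H) : Set H) := hs
    rw [Subgroup.coe_mul_of_left_le_normalizer_right _ _ hle] at h
    obtain ⟨a, ha, b, hb, e⟩ := h
    exact ⟨a, ha, b, hb, e⟩
  have hxS : ∀ s ∈ S, x * s * x⁻¹ ∈ S := fun s hs => (Subgroup.mem_normalizer_iff.1 hx s).1 hs
  have hxS' : ∀ s ∈ S, x⁻¹ * s * x ∈ S := fun s hs => by
    have := (Subgroup.mem_normalizer_iff.1 (inv_mem hx) s).1 hs
    rwa [inv_inv] at this
  let L₁ := L.map (MulAut.conj x).toMonoidHom
  have hcard : Nat.card L₁ = Nat.card L := Subgroup.card_map_of_injective (MulAut.conj x).injective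
  -- the commutators of a conjugate of an element of `S₀` lie in the conjugate of `L`
  have hkey : ∀ s ∈ S₀, ∀ u ∈ S, ⁅x * s * x⁻¹, u⁆ ∈ L₁ := by
    intro s hs u hu
    obtain ⟨t, ht, e, he, heq⟩ := hfac _ (hxS' u hu)
    refine ⟨⁅s, t⁆, Subgroup.commutator_mem_commutator hs ht, ?_⟩
    have h1 : ⁅s * 1, t * e⁆ = ⁅s, t⁆ * ⁅(1 : H), e⁆ :=
      comm_prod (by simp) (hcomm s hs e he) (by simp) (hcomm t ht e he)
    rw [mul_one, commutatorElement_one_left, mul_one] at h1
    show x * ⁅s, t⁆ * x⁻¹ = _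
    rw [← h1, heq, commutatorElement_def, commutatorElement_def]
    group
  by_cases hL1 : L₁ = L
  · -- the centraliser of a characteristic-like subgroup has derived group `D`
    set Y := S₀ ⊔ (S ⊓ Subgroup.centralizer (S : Set H)) with hYdef
    have hxY : ∀ y ∈ Y, x * y * x⁻¹ ∈ Y := by
      have : Y ≤ Y.comap (MulAut.conj x).toMonoidHom := by
        refine sup_le ?_ ?_
        · intro s hs
          show x * s * x⁻¹ ∈ Y
          obtain ⟨t, ht, c, hc, e⟩ := hfac _ (hxS s (hS₀ hs))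
          have hcZ : c ∈ S ⊓ Subgroup.centralizer (S : Set H) := by
            refine Subgroup.mem_inf.2 ⟨hCS hc, Subgroup.mem_centralizer_iff.2 fun u hu => ?_⟩
            obtain ⟨a, ha, c', hc', rfl⟩ := hfac u hu
            have h1 : ⁅c, c'⁆ = 1 := by
              refine hLD _ ?_ (Subgroup.commutator_mem_commutator hc hc')
              have h2 := hkey s hs c' (hCS hc')
              rw [hL1, ← e, show ⁅t * c, c'⁆ = ⁅t * c, 1 * c'⁆ by rw [one_mul],
                comm_prod (hcomm t ht c hc) (hcomm t ht c' hc') (by simp) (by simp),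
                commutatorElement_one_right, one_mul] at h2
              exact h2
            have h3 : c * c' = c' * c := commutatorElement_eq_one_iff_mul_comm.1 h1
            calc a * c' * c = a * c * c' := by rw [mul_assoc, ← h3, mul_assoc]
              _ = c * (a * c') := by rw [hcomm a ha c hc, mul_assoc]
          rw [← e]
          exact mul_mem (le_sup_left (α := Subgroup H) ht) (le_sup_right (α := Subgroup H) (a := S₀) hcZ)
        · intro z hz
          show x * z * x⁻¹ ∈ Y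
          obtain ⟨hz1, hz2⟩ := Subgroup.mem_inf.1 hz
          refine le_sup_right (α := Subgroup H) (Subgroup.mem_inf.2 ⟨hxS z hz1,
            Subgroup.mem_centralizer_iff.2 fun u hu => ?_⟩)
          have := Subgroup.mem_centralizer_iff.1 hz2 _ (hxS' u hu)
          calc u * (x * z * x⁻¹) = x * ((x⁻¹ * u * x) * z) * x⁻¹ := by group
            _ = _ := by rw [this]; group
      exact fun y hy => this hy
    have hYS : Y ≤ S := sup_le hS₀ inf_le_left
    have hYN := mem_normalizer_of_conj hxY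
    set P := S ⊓ Subgroup.centralizer (Y : Set H) with hPdef
    have hxP : ∀ a ∈ P, x * a * x⁻¹ ∈ P := by
      intro a ha
      obtain ⟨ha1, ha2⟩ := Subgroup.mem_inf.1 ha
      refine Subgroup.mem_inf.2 ⟨hxS a ha1, Subgroup.mem_centralizer_iff.2 fun y hy => ?_⟩
      have hy' : x⁻¹ * y * x ∈ Y := by
        have := (Subgroup.mem_normalizer_iff.1 (inv_mem hYN) y).1 hy
        rwa [inv_inv] at this
      have := Subgroup.mem_centralizer_iff.1 ha2 _ hy'
      calc y * (x * a * x⁻¹) = x * ((x⁻¹ * y * x) * a) * x⁻¹ := by group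
        _ = _ := by rw [this]; group
    have hCP : C ≤ P := by
      intro c hc
      refine Subgroup.mem_inf.2 ⟨hCS hc, ?_⟩
      have : Y ≤ Subgroup.centralizer ({c} : Set H) := by
        refine sup_le (fun s hs => ?_) fun z hz => ?_
        · exact Subgroup.mem_centralizer_iff.2 fun w hw => by
            rw [Set.mem_singleton_iff.1 hw, hcomm s hs c hc]
        · exact Subgroup.mem_centralizer_iff.2 fun w hw => by
            rw [Set.mem_singleton_iff.1 hw]
            exact Subgroup.mem_centralizer_iff.1 (Subgroup.mem_inf.1 hz).2 c (hCS hc)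
      exact Subgroup.mem_centralizer_iff.2 fun y hy =>
        (Subgroup.mem_centralizer_iff.1 (this hy) c rfl).symm
    have hPD : ⁅P, P⁆ = D := by
      refine le_antisymm (Subgroup.commutator_le.2 fun a ha b hb => ?_) (Subgroup.commutator_mono hCP hCP)
      obtain ⟨s, hs, c, hc, rfl⟩ := hfac a (Subgroup.mem_inf.1 ha).1
      obtain ⟨t, ht, e, he, rfl⟩ := hfac b (Subgroup.mem_inf.1 hb).1
      rw [comm_prod (hcomm s hs c hc) (hcomm s hs e he) (hcomm t ht c hc) (hcomm t ht e he)]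
      have h1 := Subgroup.mem_centralizer_iff.1 (Subgroup.mem_inf.1 ha).2 t (le_sup_left (α := Subgroup H) ht)
      have h2 : ⁅s, t⁆ = 1 := by
        refine commutatorElement_eq_one_iff_mul_comm.2 ?_
        rw [← mul_assoc, mul_assoc s c t, ← hcomm t ht c hc, ← mul_assoc] at h1
        exact (mul_right_cancel h1).symm
      rw [h2, one_mul]
      exact Subgroup.commutator_mem_commutator hc he
    refine hD ((Subgroup.eq_bot_iff_forall _).2 fun z hz => hdis hD z hz ?_)
    have h := Subgroup.mem_map_of_mem (MulAut.conj x).toMonoidHom (hPD.ge hz)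
    have h' : (⁅P, P⁆).map (MulAut.conj x).toMonoidHom ≤ ⁅P, P⁆ := by
      rw [Subgroup.map_commutator]
      exact Subgroup.commutator_mono (by rintro _ ⟨a, ha, rfl⟩; exact hxP a ha)
        (by rintro _ ⟨a, ha, rfl⟩; exact hxP a ha)
    exact hPD.le (h' h)
  · -- the conjugate of `L` is `D`
    have hcen : ∀ s ∈ S₀, ∃ t ∈ S₀, ∃ c ∈ C, t * c = x * s * x⁻¹ ∧ ∀ u ∈ S₀, t * u = u * t := by
      intro s hs
      obtain ⟨t, ht, c, hc, e⟩ := hfac _ (hxS s (hS₀ hs))
      refine ⟨t, ht, c, hc, e, ?_⟩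
      by_contra hcon
      push Not at hcon
      refine hL1 (Subgroup.eq_of_le_of_card_ge ?_ hcard.le).symm
      intro l hl
      obtain ⟨u, hu, rfl⟩ := hfull t ht hcon l hl
      have := hkey s hs u (hS₀ hu)
      rwa [← e, comm_mul_left (hcomm u hu c hc).symm (hcomm t ht c hc).symm] at this
    have hL1D : L₁ ≤ D := by
      show L.map _ ≤ D
      rw [hLdef, Subgroup.map_commutator]
      refine Subgroup.commutator_le.2 ?_
      rintro _ ⟨s, hs, rfl⟩ _ ⟨u, hu, rfl⟩
      obtain ⟨t, ht, c, hc, e, hte⟩ := hcen s hs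
      obtain ⟨t', ht', c', hc', e', -⟩ := hcen u hu
      show ⁅x * s * x⁻¹, x * u * x⁻¹⁆ ∈ D
      rw [← e, ← e', comm_prod (hcomm t ht c hc) (hcomm t ht c' hc') (hcomm t' ht' c hc) (hcomm t' ht' c' hc'),
        commutatorElement_eq_one_iff_mul_comm.2 (hte t' ht'), one_mul]
      exact Subgroup.commutator_mem_commutator hc hc'
    have hLDn : L ≤ Subgroup.normalizer (D : Set H) := fun l hl => mem_normalizer_of_conj fun z hz => by
      rw [hcomm l (hLS hl) z (hDC hz), mul_inv_cancel_right]; exact hz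
    have hxD : ∀ z ∈ D, x * z * x⁻¹ ∈ L ⊔ D := by
      have : D ≤ (L ⊔ D).comap (MulAut.conj x).toMonoidHom := by
        refine Subgroup.commutator_le.2 fun a ha b hb => ?_
        obtain ⟨s, hs, c, hc, e⟩ := hfac _ (hxS a (hCS ha))
        obtain ⟨t, ht, c', hc', e'⟩ := hfac _ (hxS b (hCS hb))
        rw [Subgroup.mem_comap, map_commutatorElement]
        show ⁅x * a * x⁻¹, x * b * x⁻¹⁆ ∈ L ⊔ D
        rw [← e, ← e', comm_prod (hcomm s hs c hc) (hcomm s hs c' hc') (hcomm t ht c hc) (hcomm t ht c' hc')]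
        exact mul_mem (le_sup_left (α := Subgroup H) (Subgroup.commutator_mem_commutator hs ht))
          (le_sup_right (α := Subgroup H) (a := L) (Subgroup.commutator_mem_commutator hc hc'))
      exact fun z hz => this hz
    -- counting
    have hle : Nat.card D ≤ Nat.card L₁ := by
      rw [hcard]
      have hfac' : ∀ z ∈ L ⊔ D, ∃ l ∈ L, ∃ e ∈ D, l * e = z := by
        intro z hz
        have h : z ∈ ((L ⊔ D : Subgroup H) : Set H) := hz
        rw [Subgroup.coe_mul_of_left_le_normalizer_right _ _ hLDn] at h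
        obtain ⟨a, ha, b, hb, e⟩ := h
        exact ⟨a, ha, b, hb, e⟩
      choose fl hfl fe hfe hfeq using fun z : ↥D => hfac' _ (hxD z z.2)
      refine Nat.card_le_card_of_injective (fun z => (⟨fl z, hfl z⟩ : ↥L)) fun z w h => ?_
      have h0 : fl z = fl w := congrArg Subtype.val h
      have h1 : x * ((w : H)⁻¹ * z) * x⁻¹ ∈ D := by
        have : x * ((w : H)⁻¹ * z) * x⁻¹ = (x * w * x⁻¹)⁻¹ * (x * z * x⁻¹) := by group
        rw [this, ← hfeq z, ← hfeq w, h0, _root_.mul_inv_rev, mul_assoc, inv_mul_cancel_left]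
        exact mul_mem (inv_mem (hfe w)) (hfe z)
      exact Subtype.ext (inv_mul_eq_one.1 (hdis hD _ (mul_mem (inv_mem w.2) z.2) h1)).symm
    have hDL : D = L₁ := (Subgroup.eq_of_le_of_card_ge hL1D hle).symm
    have hL : L ≠ ⊥ := fun h => hL1 (by show L.map _ = L; rw [h, Subgroup.map_bot])
    obtain ⟨l, hl, hne⟩ := hτ hL
    refine hne ?_
    have hN : x * τ * x⁻¹ ∈ Subgroup.normalizer (D : Set H) := mem_normalizer_of_conj fun z hz => by
      rw [hDL] at hz ⊢
      obtain ⟨l', hl', rfl⟩ := hz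
      refine ⟨τ * l' * τ⁻¹, hτN l' hl', ?_⟩
      show x * (τ * l' * τ⁻¹) * x⁻¹ = x * τ * x⁻¹ * (x * l' * x⁻¹) * (x * τ * x⁻¹)⁻¹
      group
    have := hnorm hD _ hN (x * l * x⁻¹) (hDL.ge ⟨l, hl, rfl⟩)
    refine mul_left_cancel (a := x) (mul_right_cancel (b := x⁻¹) ?_)
    calc x * (τ * l) * x⁻¹ = x * τ * x⁻¹ * (x * l * x⁻¹) := by group
      _ = _ := by rw [this]; group

end CfsgLib.LocalEven.QdSplit
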