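import Cfsg.Agent.Lib.LocalEven.Qd
import Cfsg.Agent.Lib.PLocal.Thompson
import Cfsg.Agent.Lib.PCore.Basic
import Cfsg.Agent.Lib.Coprime.HyperplaneGeneration
import Cfsg.Prelude.Def_EvenType

/-!
In `Qd(p)` the centre of the Thompson subgroup does not control strong fusion.
-/

set_option autoImplicit false

open Subgroup Matrix
open scoped MatrixGroups

namespace CfsgLib.LocalEven.QdNotControl

variable {p : ℕ} [hp : Fact p.Prime]

theorem not_controls_of_plane {X : Type*} [Group X] [Finite X] (V : Subgroup X) [V.Normal]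
    (hVp : ∀ v ∈ V, v ^ p = 1) (hcard : Nat.card V ≤ p ^ 2)
    (hC : centralizer (V : Set X) ≤ V) (hmin : ∀ N : Subgroup X, N.Normal → N ≤ V → N ≠ ⊥ → N = V)
    (hV : V ≠ ⊥) (hidx : p ∣ V.index) (T : Sylow p X) :
    ¬ Cfsg.ControlsStrongFusion p (Cfsg.centerThompsonAOf (T : Subgroup X)) := by
  rw [CfsgLib.PLocal.centerThompsonAOf_eq]
  set U := CfsgLib.PLocal.centerJ 0 (T : Subgroup X) with hU
  have hVgrp : IsPGroup p V := fun v => ⟨1, Subtype.ext (by simpa using hVp _ v.2)⟩
  have hsyl : ∀ S : Sylow p X, V ≤ (S : Subgroup X) := fun S =>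
    (CfsgLib.PCore.le_pCore inferInstance hVgrp).trans (CfsgLib.PCore.pCore_le_sylow S)
  haveI : Group.IsNilpotent (T : Subgroup X) := T.2.isNilpotent
  obtain ⟨z, hzV', hzc, hz1⟩ := CfsgLib.Coprime39.exists_central_mem (V.subgroupOf (T : Subgroup X))
    (by
      rw [Ne, subgroupOf_eq_bot, disjoint_iff, inf_eq_left.2 (hsyl T)]
      exact hV)
  have hzV : (z : X) ∈ V := mem_subgroupOf.1 hzV'
  have hzT : ∀ t ∈ (T : Subgroup X), t * (z : X) = z * t := fun t ht =>
    congrArg Subtype.val (mem_center_iff.1 hzc ⟨t, ht⟩)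
  have hz1' : (z : X) ≠ 1 := fun h => hz1 (Subtype.ext h)
  have hzU : (z : X) ∈ U := CfsgLib.PLocal.mem_centerJ_of_centralizes z.2 (pow_zero _)
    (mem_centralizer_iff.2 fun t ht => hzT t (CfsgLib.PLocal.thompson_le 0 _ ht))
  obtain ⟨u, huT, huV⟩ : ∃ u ∈ (T : Subgroup X), u ∉ V := by
    by_contra! h
    exact T.not_dvd_index (le_antisymm h (hsyl T) ▸ hidx)
  -- an abelian subgroup outside `V`, as large as `V`
  set B := closure ({(z : X), u} : Set X) with hB
  have hBT : B ≤ (T : Subgroup X) := by
    rw [hB, closure_le]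
    exact Set.insert_subset z.2 (Set.singleton_subset_iff.2 huT)
  have hBab : Cfsg.IsElementaryAbelian 0 B := by
    refine CfsgLib.PLocal.elemAb_closure ?_ fun a _ => pow_zero a
    rintro a (rfl | rfl) b (rfl | rfl)
    · rfl
    · exact (hzT _ huT).symm
    · exact hzT _ huT
    · rfl
  have hBcard : p ^ 2 ≤ Nat.card B := by
    obtain ⟨i, hi⟩ := IsPGroup.exists_card_eq (T.2.to_le hBT)
    have hord : orderOf (z : X) = p := orderOf_eq_prime (hVp _ hzV) hz1'
    have hlt : Nat.card (zpowers (z : X)) < Nat.card B := by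
      by_contra h
      have he : zpowers (z : X) = B :=
        eq_of_le_of_card_ge (zpowers_le.2 (subset_closure (Or.inl rfl))) (not_lt.1 h)
      have hu : u ∈ B := subset_closure (Or.inr rfl)
      exact huV ((zpowers_le.2 (show (z : X) ∈ V from hzV)) (he.symm ▸ hu))
    rw [Nat.card_zpowers, hord, hi] at hlt
    rw [hi]
    refine Nat.pow_le_pow_right hp.out.pos ?_
    by_contra h
    have := Nat.pow_le_pow_right hp.out.pos (show i ≤ 1 by omega)
    rw [pow_one] at this
    omega
  obtain ⟨g, hg⟩ : ∃ g : X, g * (z : X) * g⁻¹ ∉ U := by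
    by_contra! h
    have hN : normalClosure ({(z : X)} : Set X) = V := by
      refine hmin _ normalClosure_normal (normalClosure_le_normal (Set.singleton_subset_iff.2 hzV)) fun e => ?_
      have := subset_normalClosure (s := ({(z : X)} : Set X)) rfl
      rw [SetLike.mem_coe, e, mem_bot] at this
      exact hz1' this
    have hVU : V ≤ U := by
      rw [← hN]
      refine (closure_le _).2 fun y hy => ?_
      obtain ⟨a, ha, hc⟩ := Group.mem_conjugatesOfSet_iff.1 hy
      obtain ⟨c, rfl⟩ := isConj_iff.1 hc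
      rw [Set.mem_singleton_iff] at ha
      rw [ha]
      exact h c
    have hA : ∀ A, CfsgLib.PLocal.IsMaxElemIn 0 (T : Subgroup X) A → A ≤ V := fun A hA a ha =>
      hC (mem_centralizer_iff.2 fun v hv =>
        (CfsgLib.PLocal.centralizes_centerJ (hVU hv) (hA.le_thompson ha)).symm)
    obtain ⟨A, hAm⟩ := CfsgLib.PLocal.exists_isMaxElemIn 0 (T : Subgroup X)
    have hBm := hAm.of_card_le hBT hBab
      ((card_le_of_le (hA A hAm)).trans (hcard.trans hBcard))
    exact huV (hA B hBm (subset_closure (Or.inr rfl)))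
  rintro ⟨S, hUS, hctrl⟩
  obtain ⟨-, h⟩ := hctrl {(z : X)} (Set.singleton_subset_iff.2 (hUS hzU))
  obtain ⟨x, hx, hxz⟩ := h g (by
    rintro _ ⟨a, ha, rfl⟩
    rw [Set.mem_singleton_iff] at ha
    rw [ha]
    exact hsyl S (Normal.conj_mem inferInstance _ hzV g))
  exact hg (hxz _ rfl ▸ (mem_set_normalizer_iff.1 hx _).1 hzU)

open CfsgLib.LocalEven.Qd in
/-- `Z(J(T))` never controls strong fusion in a group isomorphic to the affine group over `ZMod p`. -/
theorem not_controls_of_equivOver {X : Type*} [Group X] [Finite X]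
    (e : X ≃* ↥(Cfsg.qdOver (ZMod p)))
    (T : Sylow p X) : ¬ Cfsg.ControlsStrongFusion p (Cfsg.centerThompsonAOf (T : Subgroup X)) := by
  let f : X →* SL(2, ZMod p) := (block (F := ZMod p)).comp e.toMonoidHom
  have hfs : Function.Surjective f := (block_surjective (F := ZMod p)).comp e.surjective
  let es : X → (Fin 2 → ZMod p) := fun x => shift (e x)
  have hker : ∀ x, x ∈ f.ker ↔ e x ∈ (block (F := ZMod p)).ker := fun x => Iff.rfl
  have hinj : ∀ a ∈ f.ker, ∀ b ∈ f.ker, es a = es b → a = b := fun a ha b hb h =>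
    e.injective (ext_block_shift ((MonoidHom.mem_ker.1 ((hker a).1 ha)).trans
      (MonoidHom.mem_ker.1 ((hker b).1 hb)).symm) h)
  have hconj : ∀ t ∈ f.ker, ∀ x : X, es (x * t * x⁻¹) = (f x).1 *ᵥ es t := by
    intro t ht x
    have h2 : x * t * x⁻¹ ∈ f.ker := Normal.conj_mem inferInstance t ht x
    have h3 := congrArg shift (congrArg e (show x * t * x⁻¹ * x = x * t by group))
    erw [map_mul e, map_mul e x t, shift_mul_ker ((hker _).1 h2), shift_mul] at h3
    refine add_left_cancel (a := shift (e x)) (h3.trans ?_)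
    rw [add_comm]
    rfl
  refine not_controls_of_plane f.ker ?_ ?_ ?_ ?_ ?_ ?_ T
  · intro v hv
    exact e.injective (by
      rw [map_pow, map_one]; exact pow_eq_one_of_mem_ker (p := p) ((hker v).1 hv))
  · have hi : Function.Injective (fun t : f.ker => es t) := fun a b h =>
      Subtype.ext (hinj a a.2 b b.2 h)
    refine (Nat.card_le_card_of_injective _ hi).trans ?_
    rw [Nat.card_fun, Nat.card_zmod, Nat.card_fin]
  · intro x hx
    rw [MonoidHom.mem_ker]
    apply Subtype.ext
    rw [Matrix.SpecialLinearGroup.coe_one]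
    apply Matrix.ext_of_mulVec_single
    intro i
    rw [Matrix.one_mulVec]
    have ht : e.symm (mkQd (1 : SL(2, ZMod p)) (Pi.single i 1)) ∈ f.ker := by
      show block (e (e.symm _)) = 1
      rw [e.apply_symm_apply, block_mkQd]
    have h := hconj _ ht x
    rw [← mem_centralizer_iff.1 hx _ ht, mul_inv_cancel_right] at h
    simp only [es] at h
    rwa [e.apply_symm_apply, shift_mkQd, eq_comm] at h
  · intro N hN hNV hne
    refine le_antisymm hNV fun v hv => ?_
    obtain ⟨t, ht, ht1⟩ := (Subgroup.ne_bot_iff_exists_ne_one.1 hne : ∃ t : N, t ≠ 1) |>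
      fun ⟨t, h⟩ => (⟨t.1, t.2, fun e' => h (Subtype.ext e')⟩ : ∃ t ∈ N, t ≠ 1)
    -- the translations of `N` form an invariant additive subgroup
    let A : AddSubgroup (Fin 2 → ZMod p) :=
      { carrier := {w | ∃ n ∈ N, es n = w}
        zero_mem' := ⟨1, N.one_mem, by simp only [es]; rw [map_one]; exact shift_one⟩
        add_mem' := by
          rintro _ _ ⟨n, hn, rfl⟩ ⟨m, hm, rfl⟩
          refine ⟨m * n, N.mul_mem hm hn, ?_⟩
          simp only [es]
          erw [map_mul e, shift_mul_ker ((hker m).1 (hNV hm))]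
        neg_mem' := by
          rintro _ ⟨n, hn, rfl⟩
          refine ⟨n⁻¹, N.inv_mem hn, eq_neg_of_add_eq_zero_left ?_⟩
          simp only [es]
          rw [← shift_mul_ker ((hker n).1 (hNV hn))]
          erw [← map_mul e]
          rw [mul_inv_cancel, map_one]
          exact shift_one }
    have hinv : ∀ (M : SL(2, ZMod p)) w, w ∈ A → M.1 *ᵥ w ∈ A := by
      rintro M _ ⟨n, hn, rfl⟩
      obtain ⟨x, rfl⟩ := hfs M
      exact ⟨x * n * x⁻¹, hN.conj_mem n hn x, hconj n (hNV hn) x⟩
    have hsmul : ∀ (c : ZMod p) w, w ∈ A → c • w ∈ A := fun c w hw => by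
      have h : c • w = c.val • w := by rw [← Nat.cast_smul_eq_nsmul (ZMod p), ZMod.natCast_zmod_val]
      exact h ▸ A.nsmul_mem hw _
    let U : SL(2, ZMod p) := ⟨!![1, 1; 0, 1], by simp [Matrix.det_fin_two]⟩
    let L : SL(2, ZMod p) := ⟨!![1, 0; 1, 1], by simp [Matrix.det_fin_two]⟩
    have hs : es t ≠ 0 := fun h => ht1 (hinj t (hNV ht) 1 (one_mem _)
      (h.trans (by simp only [es]; rw [map_one]; exact shift_one.symm)))
    have hsA : es t ∈ A := ⟨t, ht, rfl⟩
    set s := es t with hsdef
    have hu : ![s 1, 0] ∈ A := by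
      have := A.sub_mem (hinv U s hsA) hsA
      convert this using 1
      funext i
      fin_cases i <;> simp [U, Matrix.mulVec, dotProduct, Fin.sum_univ_two]
    have hl : ![0, s 0] ∈ A := by
      have := A.sub_mem (hinv L s hsA) hsA
      convert this using 1
      funext i
      fin_cases i <;> simp [L, Matrix.mulVec, dotProduct, Fin.sum_univ_two]
    have hboth : ![1, 0] ∈ A ∧ ![0, 1] ∈ A := by
      by_cases h1 : s 1 = 0
      · have h0 : s 0 ≠ 0 := fun h0 => hs (funext fun i => by fin_cases i <;> simp [h0, h1])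
        have e1 : ![(0 : ZMod p), 1] ∈ A := by
          have := hsmul (s 0)⁻¹ _ hl
          convert this using 1
          funext i
          fin_cases i <;> simp [h0]
        refine ⟨?_, e1⟩
        have := A.sub_mem (hinv U _ e1) e1
        convert this using 1
        funext i
        fin_cases i <;> simp [U, Matrix.mulVec, dotProduct, Fin.sum_univ_two]
      · have e1 : ![(1 : ZMod p), 0] ∈ A := by
          have := hsmul (s 1)⁻¹ _ hu
          convert this using 1
          funext i
          fin_cases i <;> simp [h1]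
        refine ⟨e1, ?_⟩
        have := A.sub_mem (hinv L _ e1) e1
        convert this using 1
        funext i
        fin_cases i <;> simp [L, Matrix.mulVec, dotProduct, Fin.sum_univ_two]
    obtain ⟨n, hn, hne'⟩ : es v ∈ A := by
      have := A.add_mem (hsmul (es v 0) _ hboth.1) (hsmul (es v 1) _ hboth.2)
      convert this using 1
      funext i
      fin_cases i <;> simp
    exact hinj n (hNV hn) v hv hne' ▸ hn
  · intro h
    have h1 : e.symm (mkQd (1 : SL(2, ZMod p)) (Pi.single 0 1)) ∈ f.ker := by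
      show block (e (e.symm _)) = 1
      rw [e.apply_symm_apply, block_mkQd]
    rw [h, mem_bot, e.symm.map_eq_one_iff] at h1
    have := congrFun (congrArg shift h1) 0
    rw [shift_mkQd, shift_one] at this
    simp at this
  · rw [Subgroup.index_ker, MonoidHom.range_eq_top.2 hfs, Subgroup.card_top]
    let U : SL(2, ZMod p) := ⟨!![1, 1; 0, 1], by simp [Matrix.det_fin_two]⟩
    have hU : ∀ k : ℕ, (U ^ k).1 = !![1, (k : ZMod p); 0, 1] := by
      intro k
      induction k with
      | zero => simp [Matrix.one_fin_two]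
      | succ k ih =>
        rw [pow_succ, Matrix.SpecialLinearGroup.coe_mul, ih]
        simp [U, Matrix.mul_fin_two, add_comm]
    have hord : orderOf U = p := by
      refine orderOf_eq_prime ?_ fun h => ?_
      · apply Subtype.ext
        rw [hU]
        simp [Matrix.one_fin_two]
      · have := congrFun (congrFun (congrArg Subtype.val h) 0) 1
        simp [U] at this
    calc p = orderOf U := hord.symm
      _ ∣ _ := orderOf_dvd_natCard U

/-- `Z(J(T))` never controls strong fusion in a group isomorphic to `Qd(p)`. -/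
theorem not_controls_of_equiv {X : Type*} [Group X] [Finite X] (e : X ≃* ↥(Cfsg.qd p))
    (T : Sylow p X) : ¬ Cfsg.ControlsStrongFusion p (Cfsg.centerThompsonAOf (T : Subgroup X)) :=
  not_controls_of_equivOver e T

end CfsgLib.LocalEven.QdNotControl
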