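import Cfsg.Agent.Lib.PushingUp.Main
import Cfsg.Agent.Lib.LocalEven.Qd
import Cfsg.Agent.Lib.Schur.SLTwo
import Cfsg.Agent.Lib.Large.Tools
import Cfsg.Agent.Lib.LocalEven.Baumann.Module
import Cfsg.Agent.Lib.LocalEven.CharP

/-!
Case I of the pushing-up theorem for `p ≥ 5`: the group is the direct product of a copy of `Qd` and
a subgroup of its `p`-core.
-/

set_option autoImplicit false

open scoped commutatorElement MatrixGroups

namespace CfsgLib.LocalEven.QdSplit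

open Cfsg Subgroup Matrix CfsgLib.Large CfsgLib.PushingUp

/-- A perfect central extension of a group without multiplier at `q` has no kernel elements of order `q`;
the extension may live in any universe. -/
theorem stem_kill {A : Type} [Group A] {Γ : Type*} [Group Γ] [Finite Γ] {q : ℕ}
    (hnm : CfsgLib.Schur.NoMultiplierAt q A) (σ : Γ →* A) (hσ : Function.Surjective σ)
    (hker : σ.ker ≤ Subgroup.center Γ) (hperf : commutator Γ = ⊤) {z : Γ} (hz : z ∈ σ.ker) (h1 : z ^ q = 1) :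
    z = 1 := by
  let φ : Γ →* Equiv.Perm (Fin (Nat.card Γ)) :=
    (Finite.equivFin Γ).permCongrHom.toMonoidHom.comp (MulAction.toPermHom Γ Γ)
  have hφ : Function.Injective φ :=
    (Finite.equivFin Γ).permCongrHom.injective.comp MulAction.toPerm_injective
  let f : Γ ≃* ↥φ.range := MonoidHom.ofInjective hφ
  have h := hnm ↥φ.range (σ.comp f.symm.toMonoidHom) ⟨hσ.comp f.symm.surjective, ?_, ?_⟩ (f z)
    (by rw [MonoidHom.mem_ker]; simpa using hz) (by rw [← map_pow, h1, map_one])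
  · exact f.map_eq_one_iff.1 h
  · intro w hw
    refine Subgroup.mem_center_iff.2 fun g => ?_
    have := Subgroup.mem_center_iff.1 (hker (show f.symm w ∈ σ.ker from hw)) (f.symm g)
    exact f.symm.injective (by rw [map_mul, map_mul, this])
  · intro w hw
    have : commutator ↥φ.range = ⊤ := by
      rw [← Subgroup.map_top_of_surjective f.toMonoidHom f.surjective, ← hperf, commutator_def, commutator_def,
        Subgroup.map_commutator, Subgroup.map_top_of_surjective f.toMonoidHom f.surjective]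
    rw [this]; exact Subgroup.mem_top w

variable {G : Type*} [Group G] [Finite G] {p : ℕ} [hp : Fact p.Prime] {F : Type} [Field F] [Fintype F]

/-- The data of case I, and an involution lifting the scalar `-1`. -/
structure Data (p : ℕ) (F : Type) [Field F] (G : Type*) [Group G] where
  five : 5 ≤ p
  charP : CharP F p
  ρ : G →* SL(2, F)
  surj : Function.Surjective ρ
  ker : ρ.ker = pCore p G
  V : Subgroup G
  N : Subgroup G
  L : Subgroup G
  V_normal : V.Normal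
  V_le : V ≤ pCore p G
  V_cent : V ≤ centralizer (pCore p G : Set G)
  N_le : N ≤ V
  N_center : N ≤ center G
  L_normal : L.Normal
  L_sup : L ⊔ pCore p G = ⊤
  L_comm : ⁅pCore p G, L⁆ ≤ V
  ψ : ↥V →* Multiplicative (Fin 2 → F)
  ψ_surj : Function.Surjective ψ
  ψ_ker : ∀ u : ↥V, ψ u = 1 ↔ (u : G) ∈ N
  ψ_equiv : ∀ (g : G) (u v : ↥V), (v : G) = g * (u : G) * g⁻¹ →
    Multiplicative.toAdd (ψ v) = (ρ g).1 *ᵥ Multiplicative.toAdd (ψ u)
  i : G
  i_mem : i ∈ L
  i_sq : i * i = 1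
  i_rho : ∀ v, (ρ i).1 *ᵥ v = -v

namespace Data

variable (d : Data p F G)

include d

omit [Finite G] in
theorem two_ne_zero' : (2 : F) ≠ 0 := by
  haveI := d.charP
  intro h
  have h1 : ((2 : ℕ) : F) = 0 := by exact_mod_cast h
  rw [CharP.cast_eq_zero_iff F p] at h1
  have := Nat.le_of_dvd two_pos h1
  have := d.five
  omega

omit [Finite G] hp [Fintype F] in
theorem i_inv : d.i⁻¹ = d.i := inv_eq_of_mul_eq_one_left d.i_sq

omit [Finite G] in
theorem card_five : 5 ≤ Fintype.card F := by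
  haveI := d.charP
  obtain ⟨n, hp', hn⟩ := FiniteField.card F p
  rw [hn]
  exact d.five.trans (Nat.le_self_pow n.ne_zero p)

omit [Finite G] hp [Fintype F] in
theorem conj_V (g : G) {v : G} (hv : v ∈ d.V) : g * v * g⁻¹ ∈ d.V := d.V_normal.conj_mem v hv g

open Classical in
/-- The coordinates of an element of `V`. -/
noncomputable def co (v : G) : Fin 2 → F :=
  if hv : v ∈ d.V then Multiplicative.toAdd (d.ψ ⟨v, hv⟩) else 0

omit [Finite G] hp [Fintype F] in
theorem co_eq {v : G} (hv : v ∈ d.V) : d.co v = Multiplicative.toAdd (d.ψ ⟨v, hv⟩) := dif_pos hv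

omit [Finite G] hp [Fintype F] in
theorem co_mul {v w : G} (hv : v ∈ d.V) (hw : w ∈ d.V) : d.co (v * w) = d.co v + d.co w := by
  rw [d.co_eq hv, d.co_eq hw, d.co_eq (mul_mem hv hw), ← toAdd_mul, ← map_mul]; rfl

omit [Finite G] hp [Fintype F] in
theorem co_eq_zero {v : G} (hv : v ∈ d.V) : d.co v = 0 ↔ v ∈ d.N := by
  rw [d.co_eq hv, ← d.ψ_ker ⟨v, hv⟩]
  exact toAdd_eq_zero

omit [Finite G] hp [Fintype F] in
theorem co_conj (g : G) {v : G} (hv : v ∈ d.V) : d.co (g * v * g⁻¹) = (d.ρ g).1 *ᵥ d.co v := by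
  rw [d.co_eq hv, d.co_eq (d.conj_V g hv)]
  exact d.ψ_equiv g ⟨v, hv⟩ ⟨_, d.conj_V g hv⟩ rfl

omit [Finite G] hp [Fintype F] in
theorem rho_core {t : G} (ht : t ∈ pCore p G) : d.ρ t = 1 := by
  rw [← MonoidHom.mem_ker, d.ker]; exact ht

omit [Finite G] hp [Fintype F] in
theorem V_fix {t v : G} (ht : t ∈ pCore p G) (hv : v ∈ d.V) : t * v * t⁻¹ = v := by
  rw [Subgroup.mem_centralizer_iff.1 (d.V_cent hv) t ht, mul_inv_cancel_right]

theorem pow_eq {v : G} (hv : v ∈ pCore p G) : ∃ k : ℕ, v ^ (2 * k + 1) = 1 := by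
  obtain ⟨k, hk⟩ := (CfsgLib.PCore.pCore_isPGroup (p := p) (G := G)) ⟨v, hv⟩
  obtain ⟨j, hj⟩ : Odd (p ^ k) := Odd.pow (hp.out.odd_of_ne_two (by have := d.five; omega))
  exact ⟨j, by rw [← hj]; exact congrArg Subtype.val hk⟩

theorem eq_one_of_sq {v : G} (hv : v ∈ pCore p G) (h : v * v = 1) : v = 1 := by
  obtain ⟨k, hk⟩ := d.pow_eq hv
  rwa [pow_succ, pow_mul, pow_two, h, one_pow, one_mul] at hk

/-- The part of `V` inverted by the involution. -/
def V₀ : Subgroup G where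
  carrier := {v | v ∈ d.V ∧ d.i * v * d.i⁻¹ = v⁻¹}
  one_mem' := ⟨one_mem _, by simp⟩
  mul_mem' := by
    rintro a b ⟨ha, ha'⟩ ⟨hb, hb'⟩
    refine ⟨mul_mem ha hb, ?_⟩
    rw [show d.i * (a * b) * d.i⁻¹ = (d.i * a * d.i⁻¹) * (d.i * b * d.i⁻¹) by group, ha', hb',
      ← _root_.mul_inv_rev, Subgroup.mem_centralizer_iff.1 (d.V_cent ha) b (d.V_le hb)]
  inv_mem' := by
    rintro a ⟨ha, ha'⟩
    refine ⟨inv_mem ha, ?_⟩
    rw [show d.i * a⁻¹ * d.i⁻¹ = (d.i * a * d.i⁻¹)⁻¹ by group, ha']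

omit [Finite G] hp [Fintype F] in
theorem mem_V₀ {v : G} : v ∈ d.V₀ ↔ v ∈ d.V ∧ d.i * v * d.i⁻¹ = v⁻¹ := Iff.rfl

theorem V₀_normal : d.V₀.Normal := by
  refine ⟨fun v ⟨hv, hv'⟩ g => ⟨d.conj_V g hv, ?_⟩⟩
  have hq : g⁻¹ * d.i * g * d.i⁻¹ ∈ pCore p G := by
    rw [← d.ker, MonoidHom.mem_ker, map_mul, map_mul, map_mul, map_inv, map_inv, mul_inv_eq_one]
    refine Subtype.ext (Matrix.ext_of_mulVec_single fun j => ?_)
    rw [Matrix.SpecialLinearGroup.coe_mul, Matrix.SpecialLinearGroup.coe_mul, ← Matrix.mulVec_mulVec,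
      ← Matrix.mulVec_mulVec, d.i_rho, Matrix.mulVec_neg, Matrix.mulVec_mulVec,
      ← Matrix.SpecialLinearGroup.coe_mul, inv_mul_cancel, Matrix.SpecialLinearGroup.coe_one,
      Matrix.one_mulVec, d.i_rho]
  calc d.i * (g * v * g⁻¹) * d.i⁻¹
      = g * ((g⁻¹ * d.i * g * d.i⁻¹) * (d.i * v * d.i⁻¹) * (g⁻¹ * d.i * g * d.i⁻¹)⁻¹) * g⁻¹ := by group
    _ = (g * v * g⁻¹)⁻¹ := by rw [d.V_fix hq (d.conj_V d.i hv), hv']; group

theorem co_eq_zero_V₀ {v : G} (hv : v ∈ d.V₀) (h : d.co v = 0) : v = 1 := by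
  refine d.eq_one_of_sq (d.V_le hv.1) ?_
  have h1 := hv.2
  rw [← Subgroup.mem_center_iff.1 (d.N_center ((d.co_eq_zero hv.1).1 h)) d.i |>.symm,
    mul_inv_cancel_right] at h1
  exact mul_eq_one_iff_eq_inv.2 h1

theorem co_surj (x : Fin 2 → F) : ∃ v ∈ d.V₀, d.co v = x := by
  obtain ⟨⟨u, hu⟩, hu'⟩ := d.ψ_surj (Multiplicative.ofAdd (-((2 : F)⁻¹ • x)))
  have hx : d.co u = -((2 : F)⁻¹ • x) := by rw [d.co_eq hu, hu']; rfl
  set w := d.i * u * d.i⁻¹ with hw
  have hwV : w ∈ d.V := d.conj_V _ hu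
  refine ⟨w * u⁻¹, ⟨mul_mem hwV (inv_mem hu), ?_⟩, ?_⟩
  · have e : d.i * w * d.i⁻¹ = u := by
      rw [hw, show d.i * (d.i * u * d.i⁻¹) * d.i⁻¹ = (d.i * d.i) * u * (d.i * d.i)⁻¹ by group, d.i_sq]
      group
    calc d.i * (w * u⁻¹) * d.i⁻¹ = (d.i * w * d.i⁻¹) * w⁻¹ := by simp only [hw]; group
      _ = _ := by rw [e]; group
  · have hinv : d.co u⁻¹ = -d.co u := by
      refine eq_neg_of_add_eq_zero_left ?_
      rw [← d.co_mul (inv_mem hu) hu, inv_mul_cancel, d.co_eq_zero (one_mem _)]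
      exact one_mem _
    rw [d.co_mul hwV (inv_mem hu), hw, d.co_conj d.i hu, d.i_rho, hinv, hx, neg_neg, ← add_smul,
      ← two_mul, mul_inv_cancel₀ d.two_ne_zero', one_smul]

/-- The fixed points of the involution on the core. -/
def C : Subgroup G := pCore p G ⊓ centralizer ({d.i} : Set G)

omit [Finite G] hp [Fintype F] in
theorem mem_C {c : G} : c ∈ d.C ↔ c ∈ pCore p G ∧ d.i * c = c * d.i :=
  ⟨fun h => ⟨h.1, Subgroup.mem_centralizer_iff.1 h.2 _ rfl⟩,
    fun h => ⟨h.1, Subgroup.mem_centralizer_iff.2 fun _ hx => by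
      rw [Set.mem_singleton_iff.1 hx]; exact h.2⟩⟩

theorem V₀_inf_C : d.V₀ ⊓ d.C = ⊥ := by
  refine (Subgroup.eq_bot_iff_forall _).2 fun v ⟨hv, hv'⟩ => ?_
  refine d.eq_one_of_sq (d.V_le hv.1) ?_
  have h1 := hv.2
  rw [(d.mem_C.1 hv').2, mul_inv_cancel_right] at h1
  exact mul_eq_one_iff_eq_inv.2 h1

omit [Finite G] hp [Fintype F] in
theorem C_comm_V₀ {c v : G} (hc : c ∈ d.C) (hv : v ∈ d.V₀) : c * v = v * c :=
  Subgroup.mem_centralizer_iff.1 (d.V_cent hv.1) c hc.1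

/-- Half of an element of `V₀`. -/
theorem exists_half {v : G} (hv : v ∈ d.V₀) : ∃ w ∈ d.V₀, w * w = v := by
  obtain ⟨k, hk⟩ := d.pow_eq (d.V_le hv.1)
  refine ⟨v ^ (k + 1), pow_mem hv _, ?_⟩
  rw [← pow_add, show k + 1 + (k + 1) = 2 * k + 1 + 1 by ring, pow_succ, hk, one_mul]

/-- A commutator with the involution lies in `V₀`. -/
theorem commutator_i (g : G) : g * d.i * g⁻¹ * d.i⁻¹ ∈ d.V₀ := by
  have hT : ∀ t ∈ pCore p G, t * d.i * t⁻¹ * d.i⁻¹ ∈ d.V₀ := by
    intro t ht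
    refine ⟨d.L_comm (Subgroup.commutator_mem_commutator ht d.i_mem), ?_⟩
    rw [d.i_inv]
    calc d.i * (t * d.i * t⁻¹ * d.i) * d.i
        = d.i * t * d.i * t⁻¹ * (d.i * d.i) := by group
      _ = (t * d.i⁻¹ * t⁻¹ * d.i⁻¹)⁻¹ := by rw [d.i_sq, mul_one, d.i_inv]; rw [show (t * d.i * t⁻¹ * d.i)⁻¹ = d.i⁻¹ * t * d.i⁻¹ * t⁻¹ by group, d.i_inv]
      _ = _ := by rw [d.i_inv]
  -- the general case
  have hcen : g * d.i * g⁻¹ * d.i⁻¹ ∈ pCore p G := by
    rw [← d.ker, MonoidHom.mem_ker, map_mul, map_mul, map_mul, map_inv, map_inv, mul_inv_eq_one]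
    refine Subtype.ext (Matrix.ext_of_mulVec_single fun j => ?_)
    rw [Matrix.SpecialLinearGroup.coe_mul, Matrix.SpecialLinearGroup.coe_mul, ← Matrix.mulVec_mulVec,
      ← Matrix.mulVec_mulVec, d.i_rho, Matrix.mulVec_neg, Matrix.mulVec_mulVec,
      ← Matrix.SpecialLinearGroup.coe_mul, mul_inv_cancel, Matrix.SpecialLinearGroup.coe_one,
      Matrix.one_mulVec, d.i_rho]
  set a := g * d.i * g⁻¹ * d.i⁻¹ with ha
  have hai : d.i * a * d.i⁻¹ = a⁻¹ := by
    rw [show a⁻¹ = d.i * g * d.i⁻¹ * g⁻¹ by simp only [ha]; group, ha, d.i_inv]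
    calc d.i * (g * d.i * g⁻¹ * d.i) * d.i = d.i * g * d.i * g⁻¹ * (d.i * d.i) := by group
      _ = _ := by rw [d.i_sq, mul_one]
  set v := a * d.i * a⁻¹ * d.i⁻¹ with hv
  have hva : v = a * a := by
    rw [hv, show a * d.i * a⁻¹ * d.i⁻¹ = a * (d.i * a * d.i⁻¹)⁻¹ by group, hai, inv_inv]
  obtain ⟨k, hk⟩ := d.pow_eq hcen
  have e : a = v ^ (k + 1) := by
    rw [hva, ← pow_two, ← pow_mul, show 2 * (k + 1) = 2 * k + 1 + 1 by ring, pow_succ, hk, one_mul]
  rw [e]
  exact pow_mem (hT a hcen) _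

/-- Every element is a product of an element of `V₀` and an element commuting with the involution. -/
theorem exists_factor (g : G) : ∃ w ∈ d.V₀, ∃ h : G, d.i * h = h * d.i ∧ g = w * h := by
  obtain ⟨w, hw, hww⟩ := d.exists_half (d.commutator_i g)
  refine ⟨w, hw, w⁻¹ * g, ?_, by group⟩
  have h1 : d.i * w = w⁻¹ * d.i := by rw [← hw.2]; group
  have h2 : d.i * w⁻¹ = w * d.i := by
    calc d.i * w⁻¹ = w * (w⁻¹ * d.i) * w⁻¹ := by group
      _ = _ := by rw [← h1]; group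
  have h3 : g * d.i = w * w * d.i * g := by rw [hww]; group
  calc d.i * (w⁻¹ * g) = w * (d.i * g) := by rw [← mul_assoc, h2, mul_assoc]
    _ = w⁻¹ * (w * w * d.i * g) := by group
    _ = w⁻¹ * g * d.i := by rw [← h3, mul_assoc]

theorem C_normal : d.C.Normal := by
  refine ⟨fun c hc g => ?_⟩
  obtain ⟨w, hw, h, hh, rfl⟩ := d.exists_factor g
  have hhc : h * c * h⁻¹ ∈ d.C := by
    refine d.mem_C.2 ⟨(Cfsg.pCore_normal p G).conj_mem c hc.1 h, ?_⟩
    have hh' : d.i * h⁻¹ = h⁻¹ * d.i := (Commute.inv_right (show Commute d.i h from hh)).eq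
    calc d.i * (h * c * h⁻¹) = h * (d.i * c) * h⁻¹ := by rw [← mul_assoc, ← mul_assoc, hh]; group
      _ = h * c * (d.i * h⁻¹) := by rw [(d.mem_C.1 hc).2]; group
      _ = _ := by rw [hh']; group
  rw [show w * h * c * (w * h)⁻¹ = w * (h * c * h⁻¹) * w⁻¹ by group, ← d.C_comm_V₀ hhc hw,
    mul_inv_cancel_right]
  exact hhc

/-- The crossed homomorphism of the affine action. -/
noncomputable def tr (g : G) : Fin 2 → F := (2 : F)⁻¹ • d.co (g * d.i * g⁻¹ * d.i⁻¹)

theorem tr_mul (g h : G) : d.tr (g * h) = (d.ρ g).1 *ᵥ d.tr h + d.tr g := by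
  have h1 := (d.commutator_i h).1
  rw [tr, show g * h * d.i * (g * h)⁻¹ * d.i⁻¹ =
    (g * (h * d.i * h⁻¹ * d.i⁻¹) * g⁻¹) * (g * d.i * g⁻¹ * d.i⁻¹) by group,
    d.co_mul (d.conj_V g h1) (d.commutator_i g).1, d.co_conj g h1, smul_add, tr, tr,
    Matrix.mulVec_smul]

/-- The homomorphism onto `Qd`. -/
noncomputable def toQd : G →* ↥(qdOver F) :=
  MonoidHom.mk' (fun g => Qd.mkQd (d.ρ g) (d.tr g)) fun g h => Qd.ext_block_shift
    (by rw [Qd.block_mkQd, map_mul, map_mul, Qd.block_mkQd, Qd.block_mkQd])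
    (by rw [Qd.shift_mul, Qd.shift_mkQd, Qd.shift_mkQd, Qd.shift_mkQd, Qd.block_mkQd, d.tr_mul])

theorem block_toQd (g : G) : Qd.block (d.toQd g) = d.ρ g := Qd.block_mkQd _ _

theorem shift_toQd (g : G) : Qd.shift (d.toQd g) = d.tr g := Qd.shift_mkQd _ _

theorem tr_eq_zero {g : G} : d.tr g = 0 ↔ d.i * g = g * d.i := by
  constructor
  · intro h
    rw [tr, smul_eq_zero] at h
    have h1 := d.co_eq_zero_V₀ (d.commutator_i g) (h.resolve_left (inv_ne_zero d.two_ne_zero'))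
    rw [mul_inv_eq_one, mul_inv_eq_iff_eq_mul] at h1
    exact h1.symm
  · intro h
    rw [tr, show g * d.i * g⁻¹ * d.i⁻¹ = 1 by rw [← h]; group,
      (d.co_eq_zero (one_mem _)).2 (one_mem _), smul_zero]

theorem ker_toQd : d.toQd.ker = d.C := by
  ext g
  rw [MonoidHom.mem_ker, d.mem_C, ← d.tr_eq_zero, ← d.ker, MonoidHom.mem_ker]
  constructor
  · intro h
    exact ⟨by rw [← d.block_toQd, h, map_one], by rw [← d.shift_toQd, h, Qd.shift_one]⟩
  · rintro ⟨h1, h2⟩
    exact Qd.ext_block_shift (by rw [d.block_toQd, h1, map_one]) (by rw [d.shift_toQd, h2, Qd.shift_one])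

theorem tr_V₀ {w : G} (hw : w ∈ d.V₀) : d.tr w = d.co w := by
  have e : w * d.i * w⁻¹ * d.i⁻¹ = w * w := by
    rw [show w * d.i * w⁻¹ * d.i⁻¹ = w * (d.i * w * d.i⁻¹)⁻¹ by group, hw.2, inv_inv]
  rw [tr, e, d.co_mul hw.1 hw.1, ← two_smul F (d.co w), smul_smul,
    inv_mul_cancel₀ d.two_ne_zero', one_smul]

theorem toQd_surjective : Function.Surjective d.toQd := by
  intro M
  obtain ⟨g, hg⟩ := d.surj (Qd.block M)
  obtain ⟨w, hw, h, hh, rfl⟩ := d.exists_factor g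
  obtain ⟨v, hv, hv'⟩ := d.co_surj (Qd.shift M)
  rw [map_mul, d.rho_core (d.V_le hw.1), one_mul] at hg
  refine ⟨v * h, Qd.ext_block_shift ?_ ?_⟩
  · rw [d.block_toQd, map_mul, d.rho_core (d.V_le hv.1), one_mul, hg]
  · rw [d.shift_toQd, d.tr_mul, d.tr_eq_zero.2 hh, Matrix.mulVec_zero, zero_add, d.tr_V₀ hv, hv']

theorem mem_L_of_coprime {g : G} (hg : (orderOf g).Coprime p) : g ∈ d.L := by
  haveI := d.L_normal
  have htop : (pCore p G).map (QuotientGroup.mk' d.L) = ⊤ := by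
    rw [← Subgroup.map_top_of_surjective _ (QuotientGroup.mk'_surjective d.L), ← d.L_sup, Subgroup.map_sup,
      (Subgroup.map_eq_bot_iff _).2 (QuotientGroup.ker_mk' d.L).ge, bot_sup_eq]
  have hmem : (QuotientGroup.mk' d.L) g ∈ (pCore p G).map (QuotientGroup.mk' d.L) := by
    rw [htop]; exact Subgroup.mem_top _
  have h1 := eq_one_of_mem_pgroup ((CfsgLib.PCore.pCore_isPGroup (p := p) (G := G)).map _) hmem
    (hg.coprime_dvd_left (orderOf_map_dvd _ g))
  rwa [QuotientGroup.mk'_apply, QuotientGroup.eq_one_iff] at h1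

theorem commute_C {g c : G} (hg : (orderOf g).Coprime p) (hc : c ∈ d.C) : g * c = c * g := by
  have hy : g * c * g⁻¹ * c⁻¹ ∈ d.C := mul_mem (d.C_normal.conj_mem c hc g) (inv_mem hc)
  have hyV : g * c * g⁻¹ * c⁻¹ ∈ d.V := by
    have := inv_mem (d.L_comm (Subgroup.commutator_mem_commutator hc.1 (d.mem_L_of_coprime hg)))
    simpa [commutatorElement_def, mul_assoc] using this
  have hyN : g * c * g⁻¹ * c⁻¹ ∈ d.N := by
    refine (d.co_eq_zero hyV).1 ?_
    have h1 := d.co_conj d.i hyV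
    rw [(d.mem_C.1 hy).2, mul_inv_cancel_right, d.i_rho] at h1
    have h2 : (2 : F) • d.co (g * c * g⁻¹ * c⁻¹) = 0 := by
      rw [two_smul]; nth_rewrite 2 [h1]; exact add_neg_cancel _
    exact (smul_eq_zero.1 h2).resolve_left d.two_ne_zero'
  have h1 := CfsgLib.LocalEvenCharP.eq_one_of_conj_eq (CfsgLib.PCore.pCore_isPGroup (p := p) (G := G)) hg hy.1
    (Subgroup.mem_center_iff.1 (d.N_center hyN) g) (x := c) (by group)
  rwa [mul_inv_eq_one, mul_inv_eq_iff_eq_mul] at h1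

/-- The subgroup generated by the `p'`-elements commuting with the involution. -/
def R : Subgroup G := Subgroup.closure {g | (orderOf g).Coprime p ∧ d.i * g = g * d.i}

theorem R_fix {g : G} (hg : g ∈ d.R) : d.i * g = g * d.i := by
  have h : d.R ≤ centralizer ({d.i} : Set G) := (Subgroup.closure_le _).2 fun x hx =>
    Subgroup.mem_centralizer_iff.2 fun y hy => by rw [Set.mem_singleton_iff.1 hy]; exact hx.2
  exact Subgroup.mem_centralizer_iff.1 (h hg) _ rfl

theorem R_comm {g c : G} (hg : g ∈ d.R) (hc : c ∈ d.C) : g * c = c * g := by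
  have h : d.R ≤ centralizer (d.C : Set G) := (Subgroup.closure_le _).2 fun x hx =>
    Subgroup.mem_centralizer_iff.2 fun y hy => (d.commute_C hx.1 hy).symm
  exact (Subgroup.mem_centralizer_iff.1 (h hg) c hc).symm

theorem R_inf_core : d.R ⊓ pCore p G ≤ d.C := fun g hg => d.mem_C.2 ⟨hg.2, d.R_fix hg.1⟩

theorem R_map : d.R.map d.ρ = ⊤ := by
  have hfix : ∀ A : SL(2, F), ∃ h : G, d.i * h = h * d.i ∧ d.ρ h = A := fun A => by
    obtain ⟨g, hg⟩ := d.surj A
    obtain ⟨w, hw, h, hh, rfl⟩ := d.exists_factor g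
    exact ⟨h, hh, by rwa [map_mul, d.rho_core (d.V_le hw.1), one_mul] at hg⟩
  haveI hn : (d.R.map d.ρ).Normal := by
    refine ⟨fun a ha A => ?_⟩
    obtain ⟨h, hh, rfl⟩ := hfix A
    obtain ⟨r, hr, rfl⟩ := ha
    refine ⟨h * r * h⁻¹, ?_, by simp⟩
    have hle : d.R ≤ d.R.comap (MulAut.conj h).toMonoidHom := by
      refine (Subgroup.closure_le _).2 fun x hx => Subgroup.subset_closure ⟨?_, ?_⟩
      · exact (show orderOf (h * x * h⁻¹) = orderOf x by
          simpa using orderOf_injective (MulAut.conj h).toMonoidHom (MulAut.conj h).injective x) ▸ hx.1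
      · exact ((Commute.mul_right (show Commute d.i h from hh) hx.2).mul_right
          (Commute.inv_right (show Commute d.i h from hh))).eq
    exact hle hr
  have hiR : d.i ∈ d.R := Subgroup.subset_closure ⟨by
    refine Nat.Coprime.coprime_dvd_left (orderOf_dvd_of_pow_eq_one (n := 2) (by rw [pow_two, d.i_sq])) ?_
    exact (Nat.coprime_primes Nat.prime_two hp.out).2 (by have := d.five; omega), rfl⟩
  rcases CfsgLib.Baumann.Natural.normal_subgroup (by have := d.card_five; omega) (d.R.map d.ρ) with h | h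
  · exact h
  exfalso
  -- some element of order prime to `p` is not scalar
  let w : SL(2, F) := ⟨!![0, 1; -1, 0], by simp [Matrix.det_fin_two]⟩
  obtain ⟨g, hg, hgw⟩ := hfix w
  obtain ⟨k, hk⟩ : ∃ k, (orderOf (g ^ p ^ k)).Coprime p := by
    refine ⟨(orderOf g).factorization p, ?_⟩
    rw [orderOf_pow_of_dvd (pow_ne_zero _ hp.out.ne_zero) (Nat.ordProj_dvd _ _)]
    exact (Nat.coprime_ordCompl hp.out (orderOf_pos g).ne').symm
  obtain ⟨j, hj⟩ : Odd (p ^ k) := Odd.pow (hp.out.odd_of_ne_two (by have := d.five; omega))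
  have hmem : d.ρ (g ^ p ^ k) ∈ Subgroup.center SL(2, F) :=
    h ⟨_, Subgroup.subset_closure ⟨hk, (Commute.pow_right (show Commute d.i g from hg) _).eq⟩, rfl⟩
  have hw2 : ∀ v, (w * w).1 *ᵥ v = -v := fun v => by
    rw [Matrix.SpecialLinearGroup.coe_mul]
    ext l; fin_cases l <;> simp [w, Matrix.mulVec, dotProduct, Matrix.mul_apply, Fin.sum_univ_two]
  have hcw : (w * w) ∈ Subgroup.center SL(2, F) := by
    refine Subgroup.mem_center_iff.2 fun A => Subtype.ext (Matrix.ext_of_mulVec_single fun l => ?_)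
    rw [Matrix.SpecialLinearGroup.coe_mul, Matrix.SpecialLinearGroup.coe_mul (w * w), ← Matrix.mulVec_mulVec,
      ← Matrix.mulVec_mulVec, hw2, hw2, Matrix.mulVec_neg]
  rw [map_pow, hgw, hj, pow_succ, pow_mul, pow_two] at hmem
  have hwc : w ∈ Subgroup.center SL(2, F) := by
    have := mul_mem (inv_mem (pow_mem hcw j)) hmem
    simpa using this
  rcases CfsgLib.Baumann.Natural.mulVec_of_mem_center hwc with h1 | h1
  · have := congrFun (h1 ![1, 0]) 0
    simp [w, Matrix.mulVec, dotProduct] at this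
  · have := congrFun (h1 ![1, 0]) 0
    simp [w, Matrix.mulVec, dotProduct] at this

theorem R_inf_core_eq_bot : d.R ⊓ pCore p G = ⊥ := by
  haveI := d.charP
  let σ : ↥d.R →* SL(2, F) := d.ρ.comp d.R.subtype
  have hσ : Function.Surjective σ := fun A => by
    obtain ⟨r, hr, hrA⟩ := d.R_map.ge (Subgroup.mem_top A)
    exact ⟨⟨r, hr⟩, hrA⟩
  have hker : σ.ker ≤ Subgroup.center ↥d.R := fun z hz => by
    refine Subgroup.mem_center_iff.2 fun r => Subtype.ext ?_
    have hzC : (z : G) ∈ d.C := d.R_inf_core ⟨z.2, by rw [← d.ker]; exact hz⟩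
    exact d.R_comm r.2 hzC
  haveI : (commutator ↥d.R).Normal := inferInstance
  have hperf : commutator ↥d.R = ⊤ := by
    have htop : (commutator ↥d.R).map σ = ⊤ := by
      rw [commutator_def, Subgroup.map_commutator, Subgroup.map_top_of_surjective _ hσ, ← commutator_def]
      exact CfsgLib.Baumann.Natural.eq_top_of_card (by have := d.card_five; omega)
    have hp' : IsPGroup p (↥d.R ⧸ commutator ↥d.R) := by
      have hkp : IsPGroup p σ.ker := fun z => by
        obtain ⟨k, hk⟩ := (CfsgLib.PCore.pCore_isPGroup (p := p) (G := G))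
          ⟨((z : ↥d.R) : G), by rw [← d.ker]; exact z.2⟩
        exact ⟨k, Subtype.ext (Subtype.ext (congrArg Subtype.val hk :))⟩
      refine hkp.of_surjective ((QuotientGroup.mk' (commutator ↥d.R)).comp σ.ker.subtype) fun y => ?_
      obtain ⟨r, rfl⟩ := QuotientGroup.mk'_surjective _ y
      obtain ⟨c, hc, hcr⟩ := htop.ge (Subgroup.mem_top (σ r))
      refine ⟨⟨c⁻¹ * r, by rw [MonoidHom.mem_ker, map_mul, map_inv, hcr, inv_mul_cancel]⟩, ?_⟩
      show QuotientGroup.mk' _ (c⁻¹ * r) = _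
      rw [QuotientGroup.mk'_apply, QuotientGroup.mk'_apply, QuotientGroup.eq]
      simpa [mul_assoc] using (inferInstance : (commutator ↥d.R).Normal).conj_mem c hc r⁻¹
    rw [eq_top_iff]
    intro r _
    have hle : d.R ≤ (commutator ↥d.R).map d.R.subtype := by
      refine (Subgroup.closure_le _).2 fun x hx => ?_
      have hxR : x ∈ d.R := Subgroup.subset_closure hx
      refine ⟨⟨x, hxR⟩, (QuotientGroup.eq_one_iff _).1 ?_, rfl⟩
      have hc : (orderOf (QuotientGroup.mk' (commutator ↥d.R) ⟨x, hxR⟩)).Coprime p :=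
        hx.1.coprime_dvd_left ((orderOf_map_dvd _ _).trans (by rw [Subgroup.orderOf_mk]))
      obtain ⟨k, hk⟩ := hp' (QuotientGroup.mk' (commutator ↥d.R) ⟨x, hxR⟩)
      exact orderOf_eq_one_iff.1 (Nat.Coprime.eq_one_of_dvd (Nat.Coprime.pow_right k hc)
        (orderOf_dvd_of_pow_eq_one hk))
    obtain ⟨r', hr', hrr⟩ := hle r.2
    obtain rfl : r' = r := Subtype.ext hrr
    exact hr'
  have h9 : Fintype.card F ≠ 9 := fun h => by
    have h1 := Nat.cast_card_eq_zero F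
    rw [h, CharP.cast_eq_zero_iff F p] at h1
    have h3 : p ∣ 3 ^ 2 := h1
    have := Nat.le_of_dvd (by norm_num) (hp.out.dvd_of_dvd_pow h3)
    have := d.five
    omega
  refine (Subgroup.eq_bot_iff_forall _).2 fun z ⟨hz, hzT⟩ => ?_
  by_contra hz1
  have hzk : (⟨z, hz⟩ : ↥d.R) ∈ σ.ker := by
    show d.ρ z = 1
    exact d.rho_core hzT
  obtain ⟨k, hk⟩ := (CfsgLib.PCore.pCore_isPGroup (p := p) (G := G)) ⟨z, hzT⟩
  have hzpow : z ^ p ^ k = 1 := congrArg Subtype.val hk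
  have hnm := CfsgLib.Schur.noMultiplierAt_slTwo_char (F := F) p (by have := d.card_five; omega) h9
  -- kill every power of `z`
  have key : ∀ n : ℕ, ∀ y : ↥d.R, y ∈ σ.ker → (y : G) ^ p ^ n = 1 → y = 1 := by
    intro n
    induction n with
    | zero => intro y _ hy; exact Subtype.ext (by simpa using hy)
    | succ n ih =>
      intro y hy hyn
      refine ih y hy ?_
      have h1 : (y ^ p ^ n) ^ p = 1 := Subtype.ext (by
        rw [← pow_mul, ← pow_succ]; simpa using hyn)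
      have := congrArg Subtype.val (stem_kill hnm σ hσ hker hperf (pow_mem hy _) h1)
      simpa using this
  exact hz1 (congrArg Subtype.val (key k ⟨z, hz⟩ hzk hzpow))

/-! ### The factor isomorphic to `Qd` -/

theorem toQd_eq_one_of_mem_C {c : G} (hc : c ∈ d.C) : d.toQd c = 1 := by
  rw [← MonoidHom.mem_ker, d.ker_toQd]; exact hc

/-- The factor isomorphic to `Qd`. -/
def G₀ : Subgroup G := d.V₀ ⊔ d.R

theorem mem_G₀ {g : G} (hg : g ∈ d.G₀) : ∃ v ∈ d.V₀, ∃ r ∈ d.R, v * r = g := by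
  haveI := d.V₀_normal
  exact Subgroup.mem_sup_of_normal_left.1 hg

theorem G₀_inf_C : d.G₀ ⊓ d.C = ⊥ := by
  refine (Subgroup.eq_bot_iff_forall _).2 fun g hg' => ?_
  obtain ⟨hg, hgC⟩ := Subgroup.mem_inf.1 hg'
  obtain ⟨v, hv, r, hr, rfl⟩ := d.mem_G₀ hg
  have hr1 : r = 1 := by
    have hrT : r ∈ pCore p G := by
      have := mul_mem (inv_mem (d.V_le hv.1)) hgC.1
      rwa [inv_mul_cancel_left] at this
    exact (Subgroup.eq_bot_iff_forall _).1 d.R_inf_core_eq_bot r ⟨hr, hrT⟩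
  subst hr1
  rw [mul_one] at hgC ⊢
  exact (Subgroup.eq_bot_iff_forall _).1 d.V₀_inf_C v ⟨hv, hgC⟩

theorem G₀_comm {g c : G} (hg : g ∈ d.G₀) (hc : c ∈ d.C) : g * c = c * g := by
  obtain ⟨v, hv, r, hr, rfl⟩ := d.mem_G₀ hg
  rw [mul_assoc, d.R_comm hr hc, ← mul_assoc, ← d.C_comm_V₀ hc hv, mul_assoc]

theorem toQd_G₀_surj (M : ↥(qdOver F)) : ∃ g ∈ d.G₀, d.toQd g = M := by
  obtain ⟨r, hr, hrA⟩ := d.R_map.ge (Subgroup.mem_top (Qd.block M))
  obtain ⟨v, hv, hvx⟩ := d.co_surj (Qd.shift M)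
  refine ⟨v * r, mul_mem (le_sup_left (α := Subgroup G) hv) (le_sup_right (α := Subgroup G) hr),
    Qd.ext_block_shift ?_ ?_⟩
  · rw [d.block_toQd, map_mul, d.rho_core (d.V_le hv.1), one_mul, hrA]
  · rw [d.shift_toQd, d.tr_mul, d.tr_eq_zero.2 (d.R_fix hr), Matrix.mulVec_zero, zero_add, d.tr_V₀ hv, hvx]

theorem toQd_G₀_inj {g h : G} (hg : g ∈ d.G₀) (hh : h ∈ d.G₀) (e : d.toQd g = d.toQd h) : g = h := by
  have : g⁻¹ * h ∈ d.G₀ ⊓ d.C := Subgroup.mem_inf.2 ⟨mul_mem (inv_mem hg) hh, by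
    show g⁻¹ * h ∈ d.C
    rw [← d.ker_toQd, MonoidHom.mem_ker, map_mul, map_inv, e, inv_mul_cancel]⟩
  rw [d.G₀_inf_C, Subgroup.mem_bot, inv_mul_eq_one] at this
  exact this

theorem G₀_sup_C : d.G₀ ⊔ d.C = ⊤ := by
  refine (eq_top_iff).2 fun g _ => ?_
  obtain ⟨g₀, hg₀, e⟩ := d.toQd_G₀_surj (d.toQd g)
  have hc : g₀⁻¹ * g ∈ d.C := by
    rw [← d.ker_toQd, MonoidHom.mem_ker, map_mul, map_inv, e, inv_mul_cancel]
  simpa using mul_mem (le_sup_left (α := Subgroup G) hg₀) (le_sup_right (α := Subgroup G) (a := d.G₀) hc)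

theorem nonempty_iso : Nonempty (↥d.G₀ ≃* ↥(qdOver F)) :=
  ⟨MulEquiv.ofBijective (d.toQd.comp d.G₀.subtype)
    ⟨fun a b e => Subtype.ext (d.toQd_G₀_inj a.2 b.2 e), fun M => by
      obtain ⟨g, hg, e⟩ := d.toQd_G₀_surj M
      exact ⟨⟨g, hg⟩, e⟩⟩⟩

theorem i_mem_G₀ : d.i ∈ d.G₀ := by
  refine le_sup_right (α := Subgroup G) (Subgroup.subset_closure ⟨?_, rfl⟩)
  refine Nat.Coprime.coprime_dvd_left (orderOf_dvd_of_pow_eq_one (n := 2) (by rw [pow_two, d.i_sq])) ?_
  exact (Nat.coprime_primes Nat.prime_two hp.out).2 (by have := d.five; omega)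

theorem mem_V₀_of_block {g : G} (hg : g ∈ d.G₀) (h : d.ρ g = 1) : g ∈ d.V₀ := by
  obtain ⟨v, hv, hvx⟩ := d.co_surj (Qd.shift (d.toQd g))
  have : g = v := d.toQd_G₀_inj hg (le_sup_left (α := Subgroup G) hv) (Qd.ext_block_shift
    (by rw [d.block_toQd, d.block_toQd, h, d.rho_core (d.V_le hv.1)])
    (by rw [d.shift_toQd v, d.tr_V₀ hv, hvx]))
  rw [this]; exact hv

/-! ### The Sylow subgroup -/

variable {S : Subgroup G}

/-- The part of the Sylow subgroup in the factor `Qd`. -/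
def S₀ (S : Subgroup G) : Subgroup G := S ⊓ d.G₀

theorem sylow_split (hC : d.C ≤ S) : d.S₀ S ⊔ d.C = S := by
  refine le_antisymm (sup_le inf_le_left hC) fun s hs => ?_
  obtain ⟨g₀, hg₀, e⟩ := d.toQd_G₀_surj (d.toQd s)
  have hc : g₀⁻¹ * s ∈ d.C := by
    rw [← d.ker_toQd, MonoidHom.mem_ker, map_mul, map_inv, e, inv_mul_cancel]
  have hg : g₀ ∈ S := by simpa using mul_mem hs (inv_mem (hC hc))
  simpa using mul_mem (le_sup_left (α := Subgroup G) (show g₀ ∈ d.S₀ S from ⟨hg, hg₀⟩))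
    (le_sup_right (α := Subgroup G) (a := d.S₀ S) hc)

omit d in
/-- Two elements of the Sylow subgroup of `Qd`. -/
theorem _root_.CfsgLib.LocalEven.QdSplit.commutator_upper (M N : ↥(qdOver F)) (b c : Multiplicative F)
    (hM : Qd.block M = CfsgLib.Schur.slUnip b) (hN : Qd.block N = CfsgLib.Schur.slUnip c) :
    ⁅M, N⁆ = Qd.mkQd 1 ![b.toAdd * Qd.shift N 1 - c.toAdd * Qd.shift M 1, 0] := by
  rw [commutatorElement_def, mul_inv_eq_iff_eq_mul, mul_inv_eq_iff_eq_mul]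
  refine Qd.ext_block_shift ?_ ?_
  · rw [map_mul, map_mul, map_mul, Qd.block_mkQd, one_mul, hM, hN, ← map_mul, ← map_mul, mul_comm]
  · funext l
    fin_cases l <;>
      simp [Qd.shift_mul, hM, hN, CfsgLib.Schur.slUnip_coe, Matrix.mulVec, dotProduct, Fin.sum_univ_two, Matrix.vecHead, Matrix.vecTail] <;> ring

variable (hS : S = (CfsgLib.Schur.slUnip (F := F)).range.comap d.ρ)

include hS

theorem block_S₀ {s : G} (hs : s ∈ d.S₀ S) : ∃ b, Qd.block (d.toQd s) = CfsgLib.Schur.slUnip b := by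
  have h : s ∈ S := hs.1
  rw [hS, Subgroup.mem_comap] at h
  obtain ⟨b, hb⟩ := h
  exact ⟨b, by rw [d.block_toQd, hb]⟩

theorem commutator_mem_V₀ : ⁅d.S₀ S, d.S₀ S⁆ ≤ d.V₀ := by
  refine Subgroup.commutator_le.2 fun s hs t ht => ?_
  obtain ⟨b, hb⟩ := d.block_S₀ hS hs
  obtain ⟨c, hc⟩ := d.block_S₀ hS ht
  refine d.mem_V₀_of_block ?_ ?_
  · rw [commutatorElement_def]
    exact mul_mem (mul_mem (mul_mem hs.2 ht.2) (inv_mem hs.2)) (inv_mem ht.2)
  · rw [← d.block_toQd, map_commutatorElement, CfsgLib.LocalEven.QdSplit.commutator_upper _ _ b c hb hc,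
      Qd.block_mkQd]

theorem toQd_commutator_line {l : G} (hl : l ∈ ⁅d.S₀ S, d.S₀ S⁆) :
    ∃ x : F, d.toQd l = Qd.mkQd 1 ![x, 0] := by
  have h1 : Qd.shift (d.toQd l) 1 = 0 := by
    let W : Subgroup G :=
      { carrier := {g | d.ρ g = 1 ∧ Qd.shift (d.toQd g) 1 = 0}
        one_mem' := ⟨map_one _, by rw [map_one, Qd.shift_one]; rfl⟩
        mul_mem' := by
          rintro a b ⟨ha, ha'⟩ ⟨hb, hb'⟩
          refine ⟨by rw [map_mul, ha, hb, one_mul], ?_⟩
          rw [map_mul, Qd.shift_mul, d.block_toQd, ha, Matrix.SpecialLinearGroup.coe_one, Matrix.one_mulVec,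
            Pi.add_apply, ha', hb', add_zero]
        inv_mem' := by
          rintro a ⟨ha, ha'⟩
          refine ⟨by rw [map_inv, ha, inv_one], ?_⟩
          have e : Qd.shift (d.toQd a * d.toQd a⁻¹) 1 = 0 := by rw [← map_mul, mul_inv_cancel, map_one, Qd.shift_one]; rfl
          rw [Qd.shift_mul, d.block_toQd, ha, Matrix.SpecialLinearGroup.coe_one, Matrix.one_mulVec,
            Pi.add_apply, ha', add_zero] at e
          exact e }
    have hle : ⁅d.S₀ S, d.S₀ S⁆ ≤ W := by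
      refine Subgroup.commutator_le.2 fun s hs t ht => ⟨?_, ?_⟩
      · exact d.rho_core (d.V_le (d.commutator_mem_V₀ hS (Subgroup.commutator_mem_commutator hs ht)).1)
      · obtain ⟨b, hb⟩ := d.block_S₀ hS hs
        obtain ⟨c, hc⟩ := d.block_S₀ hS ht
        rw [map_commutatorElement, CfsgLib.LocalEven.QdSplit.commutator_upper _ _ b c hb hc, Qd.shift_mkQd]
        rfl
    exact (hle hl).2
  refine ⟨Qd.shift (d.toQd l) 0, Qd.ext_block_shift ?_ ?_⟩
  · rw [Qd.block_mkQd, d.block_toQd, d.rho_core (d.V_le (d.commutator_mem_V₀ hS hl).1)]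
  · rw [Qd.shift_mkQd]; funext j; fin_cases j <;> simp [h1]

/-- A noncentral element of `S₀` has every element of the derived group as a commutator. -/
theorem full {s : G} (hs : s ∈ d.S₀ S) (hnc : ∃ t ∈ d.S₀ S, s * t ≠ t * s) {l : G}
    (hl : l ∈ ⁅d.S₀ S, d.S₀ S⁆) : ∃ t ∈ d.S₀ S, ⁅s, t⁆ = l := by
  obtain ⟨b, hb⟩ := d.block_S₀ hS hs
  obtain ⟨x, hx⟩ := d.toQd_commutator_line hS hl
  set v := Qd.shift (d.toQd s) 1 with hv
  have hne : b.toAdd ≠ 0 ∨ v ≠ 0 := by
    by_contra hcon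
    push Not at hcon
    obtain ⟨t, ht, hne⟩ := hnc
    obtain ⟨c, hc⟩ := d.block_S₀ hS ht
    apply hne
    refine commutatorElement_eq_one_iff_mul_comm.1 (d.toQd_G₀_inj ?_ (one_mem _) ?_)
    · rw [commutatorElement_def]
      exact mul_mem (mul_mem (mul_mem hs.2 ht.2) (inv_mem hs.2)) (inv_mem ht.2)
    · rw [map_commutatorElement, CfsgLib.LocalEven.QdSplit.commutator_upper _ _ b c hb hc, map_one, ← hv, hcon.1,
        hcon.2]
      refine Qd.ext_block_shift (by rw [Qd.block_mkQd, map_one]) ?_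
      rw [Qd.shift_mkQd, Qd.shift_one]
      funext j; fin_cases j <;> simp
  obtain ⟨c, w, hcw⟩ : ∃ (c : Multiplicative F) (w : F), b.toAdd * w - c.toAdd * v = x := by
    rcases hne with h | h
    · exact ⟨1, x / b.toAdd, by rw [toAdd_one, zero_mul, sub_zero]; field_simp⟩
    · exact ⟨Multiplicative.ofAdd (-(x / v)), 0, by rw [toAdd_ofAdd, mul_zero, zero_sub, neg_mul, neg_neg]; field_simp⟩
  obtain ⟨t, ht, hte⟩ := d.toQd_G₀_surj (Qd.mkQd (CfsgLib.Schur.slUnip c) ![0, w])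
  have htS : t ∈ d.S₀ S := by
    refine ⟨?_, ht⟩
    rw [hS]
    refine ⟨c, ?_⟩
    rw [← d.block_toQd, hte, Qd.block_mkQd]
  refine ⟨t, htS, d.toQd_G₀_inj ?_ (le_sup_left (α := Subgroup G) (d.commutator_mem_V₀ hS hl)) ?_⟩
  · rw [commutatorElement_def]
    exact mul_mem (mul_mem (mul_mem hs.2 ht) (inv_mem hs.2)) (inv_mem ht)
  · rw [map_commutatorElement, CfsgLib.LocalEven.QdSplit.commutator_upper _ _ b c hb (by rw [hte, Qd.block_mkQd]),
      hte, Qd.shift_mkQd, hx, ← hv]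
    simp [hcw]

end Data

/-- The data exist in case I of the pushing-up theorem, with the Sylow subgroup upper unitriangular. -/
theorem exists_data [CharP F p] (h5 : 5 ≤ p) (P : Sylow p G) (hI : OutI p F (P : Subgroup G)) :
    ∃ d : Data p F G, (P : Subgroup G) = (CfsgLib.Schur.slUnip (F := F)).range.comap d.ρ := by
  obtain ⟨-, -, -, -, ρ, V, N, L, hρ, hker, ⟨hNV, hVn, -, ψ, hψs, hψk, hψe⟩, -, -, hVT, hVC, -, hNC, hLn, hLT,
    hLc⟩ := hI
  obtain ⟨n, hp', hq⟩ := FiniteField.card F p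
  have hcard : Nat.card (CfsgLib.Schur.slUnip (F := F)).range =
      p ^ (Nat.card SL(2, F)).factorization p := by
    rw [← Nat.card_congr (MonoidHom.ofInjective CfsgLib.Schur.slUnip_injective).toEquiv,
      Nat.card_congr Multiplicative.toAdd, Nat.card_eq_fintype_card, CfsgLib.Schur.natCard_slTwo, hq]
    have hd : ¬ p ∣ (p ^ (n : ℕ) - 1) * (p ^ (n : ℕ) + 1) := by
      intro hdvd
      have hpn : p ∣ p ^ (n : ℕ) := dvd_pow_self p n.ne_zero
      have h1 : 1 ≤ p ^ (n : ℕ) := Nat.one_le_pow _ _ hp'.pos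
      rcases hp'.dvd_mul.mp hdvd with hh | hh
      · exact hp'.not_dvd_one (by simpa [Nat.sub_sub_self h1] using Nat.dvd_sub hpn hh)
      · exact hp'.not_dvd_one ((Nat.dvd_add_right hpn).mp hh)
    rw [Nat.factorization_mul (pow_ne_zero _ hp'.ne_zero) (fun h0 => hd (by rw [h0]; exact dvd_zero p)),
      Finsupp.add_apply, hp'.factorization_pow, Finsupp.single_eq_same, Nat.factorization_eq_zero_of_not_dvd hd,
      add_zero]
  obtain ⟨a, ha⟩ := MulAction.exists_smul_eq SL(2, F) (P.mapSurjective hρ) (Sylow.ofCard _ hcard)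
  have ha' : ((P : Subgroup G).map ρ).map (MulAut.conj a).toMonoidHom = (CfsgLib.Schur.slUnip (F := F)).range := by
    have := congrArg (fun Q : Sylow p SL(2, F) => (Q : Subgroup SL(2, F))) ha
    simp only [CfsgLib.PushingUp.sylow_smul_eq_map, Sylow.coe_mapSurjective, Sylow.coe_ofCard] at this
    exact this
  -- the involution
  obtain ⟨g, hg⟩ := hρ (-1)
  obtain ⟨l, hl, t, ht, rfl⟩ := Subgroup.mem_sup_of_normal_left.1 (hLT.ge (Subgroup.mem_top g))
  have hρt : ρ t = 1 := by rw [← MonoidHom.mem_ker, hker]; exact ht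
  rw [map_mul, hρt, mul_one] at hg
  obtain ⟨k, hk⟩ : ∃ k, (orderOf (l ^ p ^ k)).Coprime p := by
    refine ⟨(orderOf l).factorization p, ?_⟩
    rw [orderOf_pow_of_dvd (pow_ne_zero _ hp.out.ne_zero) (Nat.ordProj_dvd _ _)]
    exact (Nat.coprime_ordCompl hp.out (orderOf_pos l).ne').symm
  have hodd : Odd (p ^ k) := Odd.pow (hp.out.odd_of_ne_two (by omega))
  set i := l ^ p ^ k with hi
  have hρi : ρ i = -1 := by rw [hi, map_pow, hg, hodd.neg_one_pow]
  have hisq : i * i = 1 := by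
    refine eq_one_of_mem_pgroup (CfsgLib.PCore.pCore_isPGroup (p := p) (G := G)) ?_ ?_
    · rw [← hker, MonoidHom.mem_ker, map_mul, hρi]; simp
    · rw [← pow_two]
      exact hk.coprime_dvd_left (orderOf_pow_dvd 2)
  let d : Data p F G :=
    { five := h5
      charP := inferInstance
      ρ := (MulAut.conj a).toMonoidHom.comp ρ
      surj := (MulAut.conj a).surjective.comp hρ
      ker := by
        rw [← hker]; ext g; simp [MonoidHom.mem_ker]
      V := V
      N := N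
      L := L
      V_normal := hVn
      V_le := hVT
      V_cent := hVC
      N_le := hNV
      N_center := hNC
      L_normal := hLn
      L_sup := hLT
      L_comm := hLc
      ψ := MonoidHom.mk' (fun u => Multiplicative.ofAdd (a.1 *ᵥ (ψ u).toAdd)) fun u v => by
        rw [map_mul, toAdd_mul, Matrix.mulVec_add, ofAdd_add]
      ψ_surj := fun x => by
        obtain ⟨u, hu⟩ := hψs (Multiplicative.ofAdd (a⁻¹.1 *ᵥ x.toAdd))
        refine ⟨u, ?_⟩
        show Multiplicative.ofAdd (a.1 *ᵥ (ψ u).toAdd) = x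
        rw [hu, toAdd_ofAdd, Matrix.mulVec_mulVec, ← Matrix.SpecialLinearGroup.coe_mul, mul_inv_cancel,
          Matrix.SpecialLinearGroup.coe_one, Matrix.one_mulVec, ofAdd_toAdd]
      ψ_ker := fun u => by
        rw [← hψk u]
        show Multiplicative.ofAdd (a.1 *ᵥ (ψ u).toAdd) = 1 ↔ _
        rw [ofAdd_eq_one, ← toAdd_eq_zero]
        refine ⟨fun h => ?_, fun h => by rw [h, Matrix.mulVec_zero]⟩
        have e := congrArg (fun x => a⁻¹.1 *ᵥ x) h
        simp only [Matrix.mulVec_zero, Matrix.mulVec_mulVec, ← Matrix.SpecialLinearGroup.coe_mul, inv_mul_cancel,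
          Matrix.SpecialLinearGroup.coe_one, Matrix.one_mulVec] at e
        exact e
      ψ_equiv := fun g u v e => by
        show a.1 *ᵥ (ψ v).toAdd = (a * ρ g * a⁻¹).1 *ᵥ (a.1 *ᵥ (ψ u).toAdd)
        rw [hψe g u v e, Matrix.mulVec_mulVec, Matrix.mulVec_mulVec, ← Matrix.SpecialLinearGroup.coe_mul,
          ← Matrix.SpecialLinearGroup.coe_mul, inv_mul_cancel_right]
      i := i
      i_mem := pow_mem hl _
      i_sq := hisq
      i_rho := fun v => by
        show (a * ρ i * a⁻¹).1 *ᵥ v = -v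
        rw [hρi, mul_neg, mul_one, neg_mul, mul_inv_cancel]
        simp [Matrix.neg_mulVec] }
  refine ⟨d, ?_⟩
  show (P : Subgroup G) = (CfsgLib.Schur.slUnip (F := F)).range.comap ((MulAut.conj a).toMonoidHom.comp ρ)
  rw [← ha', Subgroup.map_map, Subgroup.comap_map_eq_self]
  intro g hg
  refine CfsgLib.PCore.pCore_le_sylow P ?_
  rw [← hker, MonoidHom.mem_ker]
  simpa [MonoidHom.mem_ker] using hg

end CfsgLib.LocalEven.QdSplit
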