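import Cfsg.Agent.Lib.LocalEven.Qd
import Cfsg.Agent.Lib.LocalEven.InvolvesFour
import Cfsg.Agent.Lib.PLocal.QdSection
import Cfsg.Agent.Lib.Techniques.PStableTransport

/-!
`Qd(p)` and normalizer-form `p`-stability.
-/

set_option autoImplicit false

open Cfsg Matrix
open scoped MatrixGroups commutatorElement

namespace CfsgLib.QdStable

universe u

variable {p : ℕ} [hp : Fact p.Prime]

theorem not_isNormalizerPStable_qd : ¬ Cfsg.IsNormalizerPStable p ↥(Cfsg.qd p) := by
  intro hst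
  change Cfsg.IsNormalizerPStable p ↥(Cfsg.qdOver (ZMod p)) at hst
  set T := (CfsgLib.LocalEven.Qd.block (F := ZMod p)).ker with hT
  let A : SL(2, ZMod p) := ⟨!![1, 1; 0, 1], by simp [Matrix.det_fin_two]⟩
  set g := CfsgLib.LocalEven.Qd.mkQd A 0 with hg
  have htriv : ∀ t ∈ T, ∀ v, CfsgLib.LocalEven.Qd.block t = 1 → t * v = v * t →
      (CfsgLib.LocalEven.Qd.block v).1 *ᵥ CfsgLib.LocalEven.Qd.shift t = CfsgLib.LocalEven.Qd.shift t := by
    intro t ht v h1 h2
    have h3 := congrArg CfsgLib.LocalEven.Qd.shift h2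
    rw [CfsgLib.LocalEven.Qd.shift_mul_ker ht, CfsgLib.LocalEven.Qd.shift_mul] at h3
    exact add_right_cancel (h3.symm.trans (add_comm _ _))
  have hcomm : ∀ t ∈ T, ∀ v, CfsgLib.LocalEven.Qd.shift ⁅t, v⁆ =
      CfsgLib.LocalEven.Qd.shift t - (CfsgLib.LocalEven.Qd.block v).1 *ᵥ CfsgLib.LocalEven.Qd.shift t := by
    intro t ht v
    have hmem : ⁅t, v⁆ ∈ T := by
      rw [hT, MonoidHom.mem_ker, map_commutatorElement, MonoidHom.mem_ker.1 ht, commutatorElement_one_left]
    have e : ⁅t, v⁆ * (v * t) = t * v := by rw [commutatorElement_def]; group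
    have h3 := congrArg CfsgLib.LocalEven.Qd.shift e
    rw [CfsgLib.LocalEven.Qd.shift_mul_ker hmem, CfsgLib.LocalEven.Qd.shift_mul, CfsgLib.LocalEven.Qd.shift_mul_ker ht] at h3
    rw [eq_sub_iff_add_eq]
    apply add_left_cancel (a := CfsgLib.LocalEven.Qd.shift v)
    rw [← add_assoc]
    refine Eq.trans ?_ h3
    abel
  have hN : Subgroup.normalizer (T : Set ↥(Cfsg.qdOver (ZMod p))) = ⊤ :=
    Subgroup.normalizer_eq_top_iff.mpr inferInstance
  have hgN : g ∈ Subgroup.normalizer (T : Set ↥(Cfsg.qdOver (ZMod p))) := by rw [hN]; trivial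
  -- `g` acts quadratically
  have hq : ⁅⁅T, Subgroup.zpowers g⁆, Subgroup.zpowers g⁆ = ⊥ := by
    have hx1 : ∀ x ∈ ⁅T, Subgroup.zpowers g⁆, x ∈ T ∧ CfsgLib.LocalEven.Qd.shift x 1 = 0 := by
      intro x hx
      rw [Subgroup.commutator_def] at hx
      induction hx using Subgroup.closure_induction with
      | mem x hx =>
        obtain ⟨t, ht, z, hz, rfl⟩ := hx
        have hTn : ⁅t, z⁆ ∈ T := by
          rw [hT, MonoidHom.mem_ker, map_commutatorElement, MonoidHom.mem_ker.1 ht, commutatorElement_one_left]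
        refine ⟨hTn, ?_⟩
        rw [hcomm t ht z]
        obtain ⟨i, rfl⟩ := hz
        have hrow : ∀ i : ℤ, (A ^ i).1 1 0 = 0 ∧ (A ^ i).1 1 1 = 1 := by
          intro i
          have hmem : A ^ i ∈ Subgroup.closure {A} := Subgroup.zpow_mem _ (Subgroup.subset_closure (Set.mem_singleton A)) i
          generalize A ^ i = w at hmem ⊢
          induction hmem using Subgroup.closure_induction with
          | mem z hz => rw [Set.mem_singleton_iff.mp hz]; simp [A]
          | one => simp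
          | mul a b _ _ ha hb => simp [Matrix.SpecialLinearGroup.coe_mul, Matrix.mul_apply, Fin.sum_univ_two, ha.1, ha.2, hb.1, hb.2]
          | inv a _ ha =>
            have hdet := a.2
            rw [Matrix.det_fin_two, ha.1, ha.2, mul_one, mul_zero, sub_zero] at hdet
            simp [Matrix.SpecialLinearGroup.coe_inv, Matrix.adjugate_fin_two, ha.1, hdet]
        rw [map_zpow, hg, CfsgLib.LocalEven.Qd.block_mkQd]
        simp [Matrix.mulVec, dotProduct, Fin.sum_univ_two, (hrow i).1, (hrow i).2]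
      | one => exact ⟨one_mem _, by rw [CfsgLib.LocalEven.Qd.shift_one]; rfl⟩
      | mul a b _ _ ha hb =>
        refine ⟨T.mul_mem ha.1 hb.1, ?_⟩
        rw [CfsgLib.LocalEven.Qd.shift_mul_ker ha.1, Pi.add_apply, ha.2, hb.2, add_zero]
      | inv a _ ha =>
        refine ⟨T.inv_mem ha.1, ?_⟩
        have h := congrFun (congrArg CfsgLib.LocalEven.Qd.shift (mul_inv_cancel a)) 1
        rw [CfsgLib.LocalEven.Qd.shift_mul_ker ha.1, Pi.add_apply, ha.2, add_zero, CfsgLib.LocalEven.Qd.shift_one] at h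
        exact h
    rw [Subgroup.commutator_eq_bot_iff_le_centralizer, Subgroup.le_centralizer_iff, Subgroup.zpowers_le,
      Subgroup.mem_centralizer_iff]
    intro x hx
    obtain ⟨hxT, hx0⟩ := hx1 x hx
    refine CfsgLib.LocalEven.Qd.ext_block_shift (by rw [map_mul, map_mul, MonoidHom.mem_ker.1 hxT, one_mul, mul_one]) ?_
    rw [CfsgLib.LocalEven.Qd.shift_mul_ker hxT, CfsgLib.LocalEven.Qd.shift_mul, hg, CfsgLib.LocalEven.Qd.block_mkQd,
      CfsgLib.LocalEven.Qd.shift_mkQd, add_zero, zero_add]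
    funext i
    fin_cases i <;> simp [A, Matrix.mulVec, dotProduct, Fin.sum_univ_two, hx0]
  have hmem := hst T (CfsgLib.LocalEven.Qd.isPGroup_ker_block (p := p)) g hgN hq
  set N := Subgroup.normalizer (T : Set ↥(Cfsg.qdOver (ZMod p))) with hNdef
  set C := (Subgroup.centralizer (T : Set ↥(Cfsg.qdOver (ZMod p)))).subgroupOf N with hC
  haveI : C.Normal := inferInstance
  set D := (Cfsg.pCore p (↥N ⧸ C)).comap (QuotientGroup.mk' C) with hD
  haveI : (Cfsg.pCore p (↥N ⧸ C)).Normal := Cfsg.pCore_normal p _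
  let φ : ↥N →* SL(2, ZMod p) := (CfsgLib.LocalEven.Qd.block (F := ZMod p)).comp N.subtype
  have hφs : Function.Surjective φ := fun a =>
    ⟨⟨CfsgLib.LocalEven.Qd.mkQd a 0, by rw [hN]; trivial⟩, CfsgLib.LocalEven.Qd.block_mkQd a 0⟩
  have hDp : IsPGroup p ↥(D.map φ) := by
    intro y
    obtain ⟨x, hx, hxy⟩ := y.2
    obtain ⟨k, hk⟩ := (IsPGroup.exists_pow_pow_eq_one (CfsgLib.PCore.pCore_isPGroup (p := p) (G := ↥N ⧸ C))) ⟨_, hx⟩
    refine ⟨k, Subtype.ext ?_⟩
    have hxC : x ^ p ^ k ∈ C := by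
      rw [← QuotientGroup.eq_one_iff, QuotientGroup.mk_pow]
      exact congrArg Subtype.val hk
    rw [Subgroup.coe_pow, ← hxy, ← map_pow, Subgroup.coe_one]
    refine Subtype.ext ?_
    rw [Matrix.SpecialLinearGroup.coe_one]
    apply Matrix.ext_of_mulVec_single
    intro i
    rw [Matrix.one_mulVec]
    set t := CfsgLib.LocalEven.Qd.mkQd (1 : SL(2, ZMod p)) (Pi.single i 1)
    have ht : t ∈ T := by rw [hT, MonoidHom.mem_ker, CfsgLib.LocalEven.Qd.block_mkQd]
    have h := htriv t ht _ (CfsgLib.LocalEven.Qd.block_mkQd _ _) (Subgroup.mem_centralizer_iff.mp hxC t ht)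
    rwa [CfsgLib.LocalEven.Qd.shift_mkQd] at h
  have hbot : D.map φ = ⊥ :=
    CfsgLib.LocalEven.Qd.pGroup_normal_sl2_eq_bot ((inferInstance : D.Normal).map φ hφs) hDp
  have h1 : φ ⟨g, hgN⟩ ∈ D.map φ := ⟨⟨g, hgN⟩, hmem, rfl⟩
  rw [hbot, Subgroup.mem_bot] at h1
  have h2 : A = 1 := by
    rw [← CfsgLib.LocalEven.Qd.block_mkQd A 0]
    exact h1
  have h3 := congrFun (congrFun (congrArg Subtype.val h2) 0) 1
  simp [A] at h3

/-- A group without section `Qd(p)` is `p`-stable in the normalizer form, `p` odd. -/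
theorem isNormalizerPStable_of_not_involves {X : Type u} [Group X] [Finite X] (hp2 : p ≠ 2)
    (h : ¬ Cfsg.Involves ↥(Cfsg.qd p) X) : Cfsg.IsNormalizerPStable p X := by
  intro P hP g hg hq
  set N := Subgroup.normalizer (P : Set X) with hN
  set P' := P.subgroupOf N with hP'
  haveI : P'.Normal := Subgroup.normal_subgroupOf_of_le_normalizer le_rfl
  have hPN : P ≤ N := Subgroup.le_normalizer
  by_cases hst : Cfsg.IsPStableOn p P'
  · have hq' : ⁅⁅P', Subgroup.zpowers (⟨g, hg⟩ : ↥N)⁆, Subgroup.zpowers (⟨g, hg⟩ : ↥N)⁆ = ⊥ := by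
      rw [← Subgroup.map_eq_bot_iff_of_injective _ N.subtype_injective, Subgroup.map_commutator,
        Subgroup.map_commutator, MonoidHom.map_zpowers, hP', Subgroup.subgroupOf_map_subtype,
        inf_eq_left.mpr hPN]
      exact hq
    have h1 := hst ⟨g, hg⟩ hq'
    have hC : Subgroup.centralizer (P' : Set ↥N) = (Subgroup.centralizer (P : Set X)).subgroupOf N := by
      ext x
      simp only [Subgroup.mem_centralizer_iff, Subgroup.mem_subgroupOf]
      constructor
      · exact fun hx v hv => congrArg Subtype.val (hx ⟨v, hPN hv⟩ hv)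
      · exact fun hx v hv => Subtype.ext (hx (v : X) hv)
    exact (CfsgLib.PLocal.mk_mem_pCore_iff_of_surjective (p := p) (MonoidHom.id ↥N) Function.surjective_id
      (Subgroup.centralizer (P' : Set ↥N)) ((Subgroup.centralizer (P : Set X)).subgroupOf N)
      ((Subgroup.comap_id _).trans hC) ⟨g, hg⟩).mpr h1
  · exfalso
    obtain ⟨M, f, hf⟩ := CfsgLib.PLocal.exists_qd_of_not_isPStableOn_pGroup hp2 P'
      hP.comap_subtype hst
    exact h (CfsgLib.LocalEven.Involved.involves_of_subgroup (CfsgLib.LocalEven.Involved.involves_of_hom M f hf))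

end CfsgLib.QdStable
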