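import Cfsg.Agent.Lib.ClassicalGroups.SLTwoSylow
import Cfsg.Agent.Lib.NumberTheory.Zsigmondy
import Cfsg.Agent.Lib.LocalEven.FaithfulModule

/-!
In `SL₂(q)` a nontrivial unipotent and one of its conjugates have a product whose order is divisible by a
primitive prime power of `q + 1`; consequences for `PSL₂(q)`.
-/

set_option autoImplicit false

open Matrix
open scoped MatrixGroups

namespace CfsgLib.LocalEven.SLTwoProduct

variable {F : Type*} [Field F]

theorem sq_eq_trace (M : SL(2, F)) : M.1 * M.1 = M.1.trace • M.1 - 1 := by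
  have h := M.2
  rw [Matrix.det_fin_two] at h
  ext i j
  fin_cases i <;> fin_cases j <;>
    simp [Matrix.mul_apply, Fin.sum_univ_two, Matrix.trace_fin_two] <;>
    first
      | linear_combination -h
      | ring

theorem exists_pow_coeff (s : F) (j : ℕ) :
    ∃ a b : F, ∀ A : SL(2, F), A.1.trace = s → (A ^ j).1 = a • A.1 + b • 1 := by
  induction j with
  | zero => exact ⟨0, 1, fun A _ => by simp⟩
  | succ j ih =>
    obtain ⟨a, b, h⟩ := ih
    refine ⟨a * s + b, -a, fun A hA => ?_⟩
    rw [pow_succ, Matrix.SpecialLinearGroup.coe_mul, h A hA, add_mul, Matrix.smul_mul, sq_eq_trace, hA,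
      Matrix.smul_mul, one_mul, smul_sub, smul_smul, add_smul, neg_smul]
    abel

/-- The upper unitriangular element. -/
def uni (t : F) : SL(2, F) := ⟨!![1, t; 0, 1], by simp [Matrix.det_fin_two]⟩

theorem uni_zero : uni (0 : F) = 1 := by
  ext i j
  fin_cases i <;> fin_cases j <;> simp [uni]

theorem center_sq {z : SL(2, F)} (hz : z ∈ Subgroup.center SL(2, F)) : z ^ 2 = 1 := by
  obtain ⟨r, hr, hrz⟩ := Matrix.SpecialLinearGroup.mem_center_iff.1 hz
  have hr' : r ^ 2 = 1 := by simpa using hr
  apply Subtype.ext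
  rw [Matrix.SpecialLinearGroup.coe_pow, ← hrz, ← map_pow, hr', map_one]
  rfl

theorem exists_conj_product {N : SL(2, F)} {r k : ℕ} (hr : r.Prime) (hr2 : r ≠ 2)
    (hN : orderOf N = r ^ (k + 1)) {t : F} (ht : t ≠ 0) :
    ∃ g : SL(2, F), ∀ j : ℕ, (uni t * (g * uni t * g⁻¹)) ^ j ∈ Subgroup.center SL(2, F) →
      r ^ (k + 1) ∣ j := by
  set c := N.1.trace with hc
  have hodd : Nat.Coprime (r ^ (k + 1)) 2 :=
    Nat.Coprime.pow_left _ ((Nat.coprime_primes hr Nat.prime_two).2 hr2)
  have hc0 : c ≠ 0 := by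
    intro h0
    have h1 : (N * N).1 = -1 := by
      rw [Matrix.SpecialLinearGroup.coe_mul, sq_eq_trace, ← hc, h0, zero_smul, zero_sub]
    have h2 : N ^ 4 = 1 := by
      apply Subtype.ext
      rw [show N ^ 4 = (N * N) * (N * N) by simp [pow_succ, mul_assoc],
        Matrix.SpecialLinearGroup.coe_mul, h1, neg_mul_neg, one_mul]
      rfl
    have h3 := orderOf_dvd_of_pow_eq_one h2
    rw [hN] at h3
    have h4 : r ∣ 4 := (dvd_pow_self r (Nat.succ_ne_zero k)).trans h3
    have h5 : r ∣ 2 ^ 2 := by norm_num; exact h4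
    exact hr2 ((Nat.prime_dvd_prime_iff_eq hr Nat.prime_two).1 (hr.dvd_of_dvd_pow h5))
  set A₀ : SL(2, F) := ⟨-(N.1 * N.1), by
    rw [Matrix.det_neg, Matrix.det_mul, N.2]; simp⟩ with hA₀
  have htr0 : A₀.1.trace = 2 - c ^ 2 := by
    show (-(N.1 * N.1)).trace = _
    rw [Matrix.trace_neg, sq_eq_trace, Matrix.trace_sub, Matrix.trace_smul, Matrix.trace_one]
    simp [← hc]; ring
  set x := c / t with hx
  have hx0 : x ≠ 0 := div_ne_zero hc0 ht
  set g : SL(2, F) := ⟨!![0, -x⁻¹; x, 0], by simp [Matrix.det_fin_two, hx0]⟩ with hg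
  have hconj : (g * uni t * g⁻¹).1 = !![1, 0; -(t * x ^ 2), 1] := by
    rw [Matrix.SpecialLinearGroup.coe_mul, Matrix.SpecialLinearGroup.coe_mul,
      Matrix.SpecialLinearGroup.coe_inv]
    ext i j
    fin_cases i <;> fin_cases j <;> simp [hg, uni, hx0, Matrix.adjugate_fin_two] <;> ring
  set M := uni t * (g * uni t * g⁻¹) with hM
  have hM01 : M.1 0 1 = t := by
    rw [hM, Matrix.SpecialLinearGroup.coe_mul, hconj]; simp [uni]
  have htrM : M.1.trace = 2 - c ^ 2 := by
    rw [hM, Matrix.SpecialLinearGroup.coe_mul, hconj, Matrix.trace_fin_two]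
    simp [uni, hx]; field_simp; ring
  refine ⟨g, fun j hj => ?_⟩
  have h1 : M ^ (j * 2) = 1 := by rw [pow_mul]; exact center_sq hj
  obtain ⟨a, b, hab⟩ := exists_pow_coeff (2 - c ^ 2) (j * 2)
  have h2 : (1 : Matrix (Fin 2) (Fin 2) F) = a • M.1 + b • 1 := by
    rw [← hab M htrM, h1]; rfl
  have ha : a = 0 := by
    have h3 := congrFun (congrFun h2 0) 1
    simp [hM01, ht] at h3
    exact h3
  rw [ha, zero_smul, zero_add] at h2
  have h4 : A₀ ^ (j * 2) = 1 := by
    apply Subtype.ext
    rw [hab A₀ htr0, ha, zero_smul, zero_add, ← h2]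
    rfl
  have h5 : N ^ (2 * (j * 2)) = 1 := by
    apply Subtype.ext
    have h6 := congrArg Subtype.val h4
    rw [Matrix.SpecialLinearGroup.coe_pow] at h6
    change (-(N.1 * N.1)) ^ (j * 2) = 1 at h6
    rw [Even.neg_pow ⟨j, by ring⟩, ← pow_two, ← pow_mul] at h6
    rw [Matrix.SpecialLinearGroup.coe_pow]
    exact h6
  have h7 := orderOf_dvd_of_pow_eq_one h5
  rw [hN] at h7
  exact hodd.dvd_of_dvd_mul_right (hodd.dvd_of_dvd_mul_left h7)

variable [Fintype F] {p : ℕ} [Fact p.Prime] [CharP F p]

theorem exists_conj_uni {a : SL(2, F)} (ha : a ≠ 1) {i : ℕ} (hai : orderOf a = p ^ i) :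
    ∃ (h : SL(2, F)) (t : F), t ≠ 0 ∧ h * a * h⁻¹ = uni t := by
  obtain ⟨P, hP⟩ := (IsPGroup.of_card (p := p) (n := i) (G := Subgroup.zpowers a)
    (by rw [Nat.card_zpowers, hai])).exists_le_sylow
  obtain ⟨h, hh⟩ := MulAction.exists_smul_eq SL(2, F) P (CfsgLib.ClassicalGroups.slUniSylow p)
  have hmem : h * a * h⁻¹ ∈ (CfsgLib.ClassicalGroups.slUni : Subgroup SL(2, F)) := by
    have h1 : MulAut.conj h • a ∈ ((h • P : Sylow p SL(2, F)) : Subgroup SL(2, F)) := by
      rw [Sylow.coe_subgroup_smul]
      exact Subgroup.smul_mem_pointwise_smul _ _ _ (hP (Subgroup.mem_zpowers a))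
    rw [hh] at h1
    exact h1
  obtain ⟨h0, h1, h2⟩ := hmem
  refine ⟨h, (h * a * h⁻¹).1 0 1, ?_, ?_⟩
  · intro ht
    apply ha
    have : h * a * h⁻¹ = 1 := by
      ext i j
      fin_cases i <;> fin_cases j
      · exact h0
      · exact ht
      · exact h1
      · exact h2
    calc a = h⁻¹ * (h * a * h⁻¹) * h := by group
      _ = 1 := by rw [this]; group
  · ext i j
    fin_cases i <;> fin_cases j
    · exact h0
    · rfl
    · exact h1
    · exact h2

theorem exists_prime_power {n : ℕ} (hF : Fintype.card F = p ^ n) (hn : 2 ≤ n) :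
    ∃ r k : ℕ, r.Prime ∧ r ≠ p ∧ r ≠ 2 ∧ (∃ N : SL(2, F), orderOf N = r ^ (k + 1)) ∧
      ∀ m : ℕ, r ^ (k + 1) ∣ p ^ m - 1 → 2 * n ∣ m := by
  have hp := (Fact.out : p.Prime)
  by_cases h63 : p = 2 ∧ n = 3
  · obtain ⟨rfl, rfl⟩ := h63
    refine ⟨3, 1, Nat.prime_three, by norm_num, by norm_num, ?_, ?_⟩
    · by_contra hno
      push_neg at hno
      have hcard : Nat.card SL(2, F) = 504 := by
        rw [CfsgLib.ClassicalGroups.slTwo_card, hF]; norm_num
      have : Fact (Nat.Prime 3) := ⟨Nat.prime_three⟩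
      obtain ⟨P⟩ : Nonempty (Sylow 3 SL(2, F)) := inferInstance
      have hPc : Nat.card P = 9 := by
        rw [Sylow.card_eq_multiplicity, hcard]
        have : (504 : ℕ).factorization 3 = 2 := by
          rw [show (504 : ℕ) = 3 ^ 2 * 56 by norm_num, Nat.factorization_mul (by norm_num) (by norm_num),
            Finsupp.add_apply, Nat.factorization_eq_zero_of_not_dvd (by norm_num : ¬ 3 ∣ 56),
            Nat.Prime.factorization_pow Nat.prime_three, Finsupp.single_eq_same]
        rw [this]; norm_num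
      -- all elements have order dividing three
      have h3 : ∀ g : ↥(P : Subgroup SL(2, F)), g ^ 3 = 1 := by
        intro g
        obtain ⟨j, hj⟩ := IsPGroup.iff_orderOf.1 P.2 g
        have hdvd : 3 ^ j ∣ 3 ^ 2 := by
          rw [← hj]; exact (orderOf_dvd_natCard g).trans (by rw [hPc]; norm_num)
        have hj2 := (Nat.pow_dvd_pow_iff_le_right (by norm_num)).1 hdvd
        rw [← orderOf_dvd_iff_pow_eq_one, hj]
        rcases Nat.lt_or_ge j 2 with h | h
        · interval_cases j <;> norm_num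
        · exfalso
          refine hno g.1 ?_
          rw [Subgroup.orderOf_coe, hj, show j = 2 by omega]
      have h31 : ¬ ((3 : F) = 0) := by
        intro h
        have h' : ((3 : ℕ) : F) = 0 := by exact_mod_cast h
        rw [CharP.cast_eq_zero_iff F 2] at h'
        norm_num at h'
      have htr : ∀ g : ↥(P : Subgroup SL(2, F)), g ≠ 1 → g.1.1.trace = -1 := by
        intro g hg
        set s := g.1.1.trace with hs
        have hg3 : (g.1 ^ 3).1 = 1 := by
          have := congrArg Subtype.val (h3 g)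
          rw [SubmonoidClass.coe_pow] at this
          rw [this]; rfl
        have he : (g.1 ^ 3).1 = (s ^ 2 - 1) • g.1.1 - s • 1 := by
          rw [show g.1 ^ 3 = g.1 * g.1 * g.1 by simp [pow_succ, mul_assoc],
            Matrix.SpecialLinearGroup.coe_mul, Matrix.SpecialLinearGroup.coe_mul, sq_eq_trace,
            ← hs, sub_mul, Matrix.smul_mul, sq_eq_trace, ← hs, one_mul, smul_sub, smul_smul, sub_smul,
            one_smul, pow_two]
          abel
        rw [hg3] at he
        have h01 := congrFun (congrFun he 0) 1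
        have h10 := congrFun (congrFun he 1) 0
        have h00 := congrFun (congrFun he 0) 0
        simp at h01 h10 h00
        by_cases hs1 : s ^ 2 - 1 = 0
        · rw [hs1, zero_mul, zero_sub] at h00
          linear_combination h00
        · exfalso
          have e01 : g.1.1 0 1 = 0 := h01.resolve_left hs1
          have e10 : g.1.1 1 0 = 0 := h10.resolve_left hs1
          have hdet := g.1.2
          rw [Matrix.det_fin_two, e01, zero_mul, sub_zero] at hdet
          apply hg
          apply Subtype.ext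
          have hcube : g.1.1 0 0 ^ 3 = 1 := by
            have h6 := congrArg Subtype.val (congrArg Subtype.val (h3 g))
            rw [SubmonoidClass.coe_pow, Matrix.SpecialLinearGroup.coe_pow] at h6
            have h7 := congrFun (congrFun h6 0) 0
            simp [pow_succ, Matrix.mul_apply, Fin.sum_univ_two, e01, e10] at h7
            linear_combination h7
          have h7 : g.1.1 0 0 ^ 7 = 1 := by
            have h0 : g.1.1 0 0 ≠ 0 := fun h => by rw [h, zero_mul] at hdet; exact zero_ne_one hdet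
            have := FiniteField.pow_card_sub_one_eq_one (g.1.1 0 0) h0
            rw [hF] at this
            simpa using this
          have ha1 : g.1.1 0 0 = 1 := by
            calc g.1.1 0 0 = g.1.1 0 0 * (g.1.1 0 0 ^ 3) ^ 2 := by rw [hcube]; ring
              _ = g.1.1 0 0 ^ 7 := by ring
              _ = 1 := h7
          rw [ha1, one_mul] at hdet
          ext i j
          fin_cases i <;> fin_cases j <;> simp [e01, e10, ha1, hdet]
      -- two independent elements
      obtain ⟨a, ha⟩ : ∃ a : ↥(P : Subgroup SL(2, F)), a ≠ 1 := by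
        have : Nontrivial ↥(P : Subgroup SL(2, F)) := Finite.one_lt_card_iff_nontrivial.1 (by rw [hPc]; norm_num)
        exact exists_ne 1
      obtain ⟨b, hb, hba⟩ : ∃ b : ↥(P : Subgroup SL(2, F)), b ≠ 1 ∧ b ∉ Subgroup.zpowers a := by
        by_contra hcon
        push_neg at hcon
        have htop : Subgroup.zpowers a = ⊤ := by
          rw [eq_top_iff]
          intro b _
          by_cases hb : b = 1
          · rw [hb]; exact one_mem _
          · exact hcon b hb
        have := Nat.card_zpowers a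
        rw [htop, Subgroup.card_top, hPc] at this
        have h9 := orderOf_dvd_of_pow_eq_one (h3 a)
        rw [← this] at h9
        norm_num at h9
      have hcomm : a * b = b * a := by
        have : IsMulCommutative ↥(P : Subgroup SL(2, F)) :=
          IsPGroup.isMulCommutative_of_card_eq_prime_sq (p := 3) (by rw [hPc]; norm_num)
        exact this.1.comm a b
      -- b = x a + y
      have hab : a * b ≠ 1 := fun h => hba (by
        rw [← inv_eq_of_mul_eq_one_right h]; exact inv_mem (Subgroup.mem_zpowers a))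
      have haab : a * (a * b) ≠ 1 := fun h => hba (by
        rw [← mul_assoc] at h
        rw [← inv_eq_of_mul_eq_one_right h]; exact inv_mem (mul_mem (Subgroup.mem_zpowers a) (Subgroup.mem_zpowers a)))
      have t1 := htr _ hab
      have t2 := htr _ haab
      have e : ((a * (a * b) : ↥(P : Subgroup SL(2, F))) : SL(2, F)).1 =
          (a.1.1.trace • a.1.1 - 1) * b.1.1 := by
        rw [Subgroup.coe_mul, Subgroup.coe_mul, Matrix.SpecialLinearGroup.coe_mul,
          Matrix.SpecialLinearGroup.coe_mul, ← mul_assoc, sq_eq_trace]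
      rw [e, htr a ha, sub_mul, Matrix.smul_mul, one_mul, Matrix.trace_sub, Matrix.trace_smul,
        htr b hb] at t2
      rw [Subgroup.coe_mul, Matrix.SpecialLinearGroup.coe_mul] at t1
      rw [t1] at t2
      simp at t2
      exact h31 (by linear_combination t2)
    · intro m hm
      have h6 : orderOf ((2 : ℕ) : ZMod (3 ^ (1 + 1))) = 6 := by
        rw [orderOf_eq_iff (by norm_num)]
        refine ⟨by decide, fun m hm hm0 => ?_⟩
        interval_cases m <;> decide
      have := (CfsgLib.NumberTheory.dvd_pow_sub_one_iff_orderOf_dvd (by norm_num) m).1 hm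
      rwa [h6] at this
  · have hne : ¬ (p = 2 ∧ 2 * n = 6) := fun h => h63 ⟨h.1, by omega⟩
    obtain ⟨r, hr⟩ := CfsgLib.NumberTheory.exists_isPPD_of_two_lt (a := p) (n := 2 * n) hp.one_lt
      (by omega) hne
    have hlt := hr.lt hp.one_lt.le (by omega)
    have hrp : r ≠ p := fun h => hr.not_dvd_base hp.one_lt.le (by omega) (h ▸ dvd_rfl)
    refine ⟨r, 0, hr.1, hrp, by omega, ?_, ?_⟩
    · have : Fact r.Prime := ⟨hr.1⟩
      obtain ⟨N, hN⟩ := exists_prime_orderOf_dvd_card' (G := SL(2, F)) r (by
        rw [CfsgLib.ClassicalGroups.slTwo_card, hF, mul_assoc]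
        refine Dvd.dvd.mul_left ?_ _
        have h1 := hr.2.1
        rw [pow_mul', show (p ^ n) ^ 2 - 1 = (p ^ n - 1) * (p ^ n + 1) by
          rw [mul_comm, ← Nat.sq_sub_sq, one_pow]] at h1
        exact h1)
      exact ⟨N, by rw [hN, zero_add, pow_one]⟩
    · intro m hm
      rw [zero_add, pow_one] at hm
      exact (hr.dvd_pow_sub_one_iff hp.one_lt.le (by omega) m).1 hm

/-- In a quotient of `SL₂` by a central subgroup, nontrivial `p`-elements have a conjugate with product of large order. -/
theorem exists_product_central {K : Type*} [Group K] (π : SL(2, F) →* K)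
    (hπ : Function.Surjective π) (hker : π.ker ≤ Subgroup.center SL(2, F)) {r k : ℕ}
    (hr : r.Prime) (hr2 : r ≠ 2) {N : SL(2, F)} (hN : orderOf N = r ^ (k + 1)) {a : K} (ha : a ≠ 1)
    {i : ℕ} (hai : orderOf a = p ^ i) :
    ∃ g : K, r ^ (k + 1) ∣ orderOf (a * (g * a * g⁻¹)) := by
  obtain ⟨a', rfl, i', hi'⟩ :=
    CfsgLib.LocalEven.FaithfulModule.exists_lift_prime_pow π hπ (Fact.out : p.Prime) hai
  obtain ⟨h, t, ht, hh⟩ := exists_conj_uni (p := p) (a := a') (fun h => ha (by rw [h, map_one])) hi'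
  obtain ⟨g, hg⟩ := exists_conj_product hr hr2 hN ht
  refine ⟨π (h⁻¹ * g * h), hg _ ?_⟩
  rw [← map_inv, ← map_mul, ← map_mul, ← map_mul]
  set j := orderOf (π (a' * (h⁻¹ * g * h * a' * (h⁻¹ * g * h)⁻¹)))
  have h1 : (a' * (h⁻¹ * g * h * a' * (h⁻¹ * g * h)⁻¹)) ^ j ∈ Subgroup.center SL(2, F) :=
    hker (by rw [MonoidHom.mem_ker, map_pow, pow_orderOf_eq_one])
  have h2 : uni t * (g * uni t * g⁻¹) =
      h * (a' * (h⁻¹ * g * h * a' * (h⁻¹ * g * h)⁻¹)) * h⁻¹ := by
    rw [← hh]; group
  rw [h2, conj_pow]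
  exact (inferInstance : (Subgroup.center SL(2, F)).Normal).conj_mem _ h1 h

end CfsgLib.LocalEven.SLTwoProduct
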