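import Mathlib
import Cfsg.Prelude.Def_LocalStructure
import Cfsg.Agent.Lib.LocalEven.PReducedBasic
import Cfsg.Agent.Lib.LocalEven.PReducedSubnormal

/-!
Weakly closed p-subgroups of a finite group.
-/

namespace CfsgLib.WClosed

open Subgroup CfsgLib.PRed
open scoped commutatorElement

variable {G : Type*} [Group G] {p : ℕ}

/-- The conjugate `g Q g⁻¹`. -/
abbrev cj (g : G) (Q : Subgroup G) : Subgroup G := Q.map (MulAut.conj g).toMonoidHom

theorem mem_cj {g x : G} {Q : Subgroup G} : x ∈ cj g Q ↔ g⁻¹ * x * g ∈ Q := by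
  constructor
  · rintro ⟨y, hy, rfl⟩
    simpa [mul_assoc] using hy
  · intro h
    exact ⟨_, h, show g * (g⁻¹ * x * g) * g⁻¹ = x by group⟩

theorem cj_cj (g h : G) (Q : Subgroup G) : cj g (cj h Q) = cj (g * h) Q := by
  ext x
  simp [mem_cj, mul_assoc]

theorem cj_one (Q : Subgroup G) : cj (1 : G) Q = Q := by
  ext x
  simp [mem_cj]

theorem cj_eq_iff {g : G} {Q : Subgroup G} : cj g Q = Q ↔ g ∈ normalizer (Q : Set G) :=
  mem_normalizer_iff_map_conj_eq.symm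

theorem cj_mono {g : G} {P Q : Subgroup G} (h : P ≤ Q) : cj g P ≤ cj g Q := map_mono h

theorem cj_le_iff {g : G} {P Q : Subgroup G} : cj g P ≤ Q ↔ P ≤ cj g⁻¹ Q := by
  constructor
  · intro h
    have := cj_mono (g := g⁻¹) h
    rwa [cj_cj, inv_mul_cancel, cj_one] at this
  · intro h
    have := cj_mono (g := g) h
    rwa [cj_cj, mul_inv_cancel, cj_one] at this

theorem cj_le_sup_commutator {n : G} {N Q : Subgroup G} (hn : n ∈ N) : cj n Q ≤ Q ⊔ ⁅N, Q⁆ := by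
  rintro _ ⟨q, hq, rfl⟩
  show n * q * n⁻¹ ∈ _
  rw [show n * q * n⁻¹ = ⁅n, q⁆ * q by group]
  exact mul_mem (mem_sup_right (commutator_mem_commutator hn hq)) (mem_sup_left hq)

variable [Finite G] [Fact p.Prime]

/-- A weakly closed subgroup is the only conjugate of itself in every `p`-group containing it. -/
theorem eq_of_isPGroup {Q : Subgroup G} (h : Cfsg.IsWeaklyClosedSubgroup p Q) {R : Subgroup G}
    (hR : IsPGroup p R) (hQR : Q ≤ R) {g : G} (hg : cj g Q ≤ R) : cj g Q = Q := by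
  obtain ⟨T, hQT, huniq⟩ := h
  obtain ⟨S, hS⟩ := hR.exists_le_sylow
  obtain ⟨c, hc⟩ := MulAction.exists_smul_eq G S T
  have hcS : cj c (S : Subgroup G) = (T : Subgroup G) := by rw [← hc]; rfl
  have h1 : cj c Q = Q := huniq c (hcS ▸ cj_mono (hQR.trans hS))
  have h2 : cj (c * g) Q = Q := huniq (c * g) (by
    show cj (c * g) Q ≤ (T : Subgroup G)
    rw [← cj_cj]
    exact hcS ▸ cj_mono (hg.trans hS))
  have h3 := congrArg (cj c⁻¹) (h2.trans h1.symm)
  rwa [cj_cj, inv_mul_cancel_left, cj_cj, inv_mul_cancel, cj_one] at h3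

/-- `N(R) ≤ N(Q)` for every `p`-group `R` containing the weakly closed `Q`. -/
theorem normalizer_le {Q : Subgroup G} (h : Cfsg.IsWeaklyClosedSubgroup p Q) {R : Subgroup G}
    (hR : IsPGroup p R) (hQR : Q ≤ R) : normalizer (R : Set G) ≤ normalizer (Q : Set G) := by
  intro g hg
  refine cj_eq_iff.mp (eq_of_isPGroup h hR hQR ?_)
  exact (cj_mono hQR).trans (cj_eq_iff.mpr hg).le

/-- A Sylow subgroup of `K ≥ Q` containing `Q`, as a subgroup of `G`. -/
theorem exists_sylow_of_le {Q K : Subgroup G} (hQ : IsPGroup p Q) (hQK : Q ≤ K) :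
    ∃ S : Sylow p ↥K, Q ≤ (S : Subgroup ↥K).map K.subtype := by
  obtain ⟨S, hS⟩ := (hQ.comap_subtype (K := K)).exists_le_sylow
  exact ⟨S, fun x hx => ⟨⟨x, hQK hx⟩, hS hx, rfl⟩⟩

/-- Conjugates of `Q` inside `K ≥ Q` are conjugate under `K`. -/
theorem exists_eq_cj {Q K : Subgroup G} (h : Cfsg.IsWeaklyClosedSubgroup p Q)
    (hQ : IsPGroup p Q) (hQK : Q ≤ K) {g : G} (hg : cj g Q ≤ K) :
    ∃ k ∈ K, cj g Q = cj k Q := by
  obtain ⟨S, hS⟩ := exists_sylow_of_le hQ hQK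
  obtain ⟨S', hS'⟩ := exists_sylow_of_le (hQ.map _) hg
  obtain ⟨k, hk⟩ := MulAction.exists_smul_eq K S S'
  refine ⟨k, k.2, ?_⟩
  have h1 : cj (k : G) ((S : Subgroup ↥K).map K.subtype) = (S' : Subgroup ↥K).map K.subtype := by
    rw [← hk]
    show _ = ((S : Subgroup ↥K).map (MulAut.conj k).toMonoidHom).map K.subtype
    rw [cj, map_map, map_map]
    rfl
  have h2 := eq_of_isPGroup h (S.2.map K.subtype) hS (g := (k : G)⁻¹ * g) (by
    rw [← cj_cj, cj_le_iff, inv_inv, h1]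
    exact hS')
  have h3 := congrArg (cj (k : G)) h2
  rwa [cj_cj, mul_inv_cancel_left] at h3

/-- `M = N_M(Q)[M,Q]` when `Q` normalizes `M`. -/
theorem exists_normalizer_mul_commutator {Q M : Subgroup G}
    (h : Cfsg.IsWeaklyClosedSubgroup p Q) (hQ : IsPGroup p Q) (hQM : Q ≤ normalizer (M : Set G))
    {n : G} (hn : n ∈ M) :
    ∃ a ∈ M ⊓ normalizer (Q : Set G), ∃ b ∈ ⁅M, Q⁆, n = a * b := by
  have hcM : ⁅M, Q⁆ ≤ M := le_normalizer_iff_commutator_le_left.mp hQM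
  have hMn : M ≤ normalizer ((⁅M, Q⁆ : Subgroup G) : Set G) := normalizer_commutator_ge_left _ _
  obtain ⟨k, hk, hke⟩ := exists_eq_cj h hQ (K := Q ⊔ ⁅M, Q⁆) le_sup_left (cj_le_sup_commutator hn)
  have hQn : Q ≤ normalizer ((⁅M, Q⁆ : Subgroup G) : Set G) := normalizer_commutator_ge_right _ _
  obtain ⟨q, hq, b, hb, rfl⟩ := exists_mul_of_mem_sup hQn hk
  have hb' : q * b * q⁻¹ ∈ ⁅M, Q⁆ := (mem_normalizer_iff.mp (hQn hq) b).mp hb
  set c := q * b * q⁻¹ with hc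
  rw [show q * b = c * q by rw [hc]; group, ← cj_cj, cj_eq_iff.mpr (le_normalizer hq)] at hke
  have ha : c⁻¹ * n ∈ normalizer (Q : Set G) := by
    rw [← cj_eq_iff, ← cj_cj, hke, cj_cj, inv_mul_cancel, cj_one]
  have haM : c⁻¹ * n ∈ M := M.mul_mem (M.inv_mem (hcM hb')) hn
  refine ⟨c⁻¹ * n, ⟨haM, ha⟩, (c⁻¹ * n)⁻¹ * c * (c⁻¹ * n), ?_, by group⟩
  simpa using (mem_normalizer_iff.mp (inv_mem (hMn haM)) c).mp hb'

end CfsgLib.WClosed
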