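import Mathlib
import Cfsg.Prelude.Def_Transfer
import Cfsg.Agent.Lib.Transfer.Basic
import Cfsg.Agent.Lib.Transfer.Tate
import Cfsg.Agent.Lib.PGroup.Frattini
import Cfsg.Agent.Lib.H82.TransferFix
import Cfsg.Agent.Lib.H82.HallWielandt

/-!
The Wielandt–Yoshida transfer theorem: a refinement of the Hall–Wielandt argument (adapted from
`Cfsg.Agent.Lib.H82.HallWielandt`), needing only that the iterated commutators which land in a maximal subgroup
of the weakly closed subgroup land in its Frattini subgroup.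
-/

set_option autoImplicit false

namespace CfsgLib.LocalEven.WielandtYoshida

open Subgroup CfsgLib.TransferFix82
open CfsgLib.HallWielandt82 (prod_range_eq_iterate)

theorem frattini_le_ker {P A : Type*} [Group P] [Finite P] [CommGroup A] {p : ℕ} [Fact p.Prime]
    (hP : IsPGroup p P) (hA : ∀ a : A, a ^ p = 1) (f : P →* A) : frattini P ≤ f.ker := by
  refine CfsgLib.PGroup.frattini_le_of (p := p) f.ker (Abelianization.commutator_subset_ker f) fun x => ?_
  rw [MonoidHom.mem_ker, map_pow, hA]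

theorem isCoatom_comap {P Q : Type*} [Group P] [Group Q] [Finite P] [Finite Q] {p : ℕ} [Fact p.Prime]
    (hP : IsPGroup p P) {M : Subgroup P} (hM : IsCoatom M) (f : Q →* P) (hne : ∃ x, f x ∉ M) :
    IsCoatom (M.comap f) := by
  haveI := CfsgLib.PGroup.normal_of_isCoatom hP hM
  have hidx : (M.comap f).index ∣ p := by
    rw [Subgroup.index_comap]
    exact (Subgroup.relIndex_dvd_index_of_normal M f.range).trans
      (CfsgLib.PGroup.index_of_isCoatom hP hM).dvd
  refine ⟨fun h => ?_, fun K hK => ?_⟩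
  · obtain ⟨x, hx⟩ := hne
    exact hx (show x ∈ M.comap f by rw [h]; trivial)
  · rcases (Nat.dvd_prime Fact.out).1 hidx with h | h
    · obtain ⟨x, hx⟩ := hne
      exact absurd (show x ∈ M.comap f by rw [Subgroup.index_eq_one.1 h]; trivial) hx
    · have hd := Subgroup.index_dvd_of_le hK.le
      rw [h] at hd
      rcases (Nat.dvd_prime Fact.out).1 hd with h' | h'
      · exact Subgroup.index_eq_one.1 h'
      · exfalso
        refine hK.not_ge (Subgroup.relIndex_eq_one.1 ?_)
        have e := Subgroup.relIndex_mul_index hK.le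
        rw [h, h'] at e
        exact (Nat.mul_eq_right (Fact.out : p.Prime).ne_zero).1 e

variable {G : Type*} [Group G] [Finite G] {p : ℕ} [hp : Fact p.Prime]

/-- The key fact: transfer from `N_G(Q)` to a group of exponent `p` loses nothing. -/
theorem transfer_restrict_ne_one (P : Sylow p G) (Q : Subgroup G)
    (hQ : Cfsg.IsWeaklyClosed Q (P : Subgroup G))
    (hWY : ∀ u ∈ (P : Subgroup G), ∀ z ∈ Q, ∀ W₀ : Subgroup ↥Q, IsCoatom W₀ →
      (fun y : G => y⁻¹ * z⁻¹ * y * z)^[p - 1] u ∈ W₀.map Q.subtype →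
      (fun y : G => y⁻¹ * z⁻¹ * y * z)^[p - 1] u ∈ ((frattini ↥W₀).map W₀.subtype).map Q.subtype)
    {A : Type*} [CommGroup A] (hA : ∀ a : A, a ^ p = 1)
    (φ : Subgroup.normalizer (Q : Set G) →* A)
    (h : (MonoidHom.transfer φ).comp (Subgroup.normalizer (Q : Set G)).subtype = 1) : φ = 1 := by
  classical
  obtain ⟨H, hH⟩ : ∃ H : Subgroup G, H = Subgroup.normalizer (Q : Set G) := ⟨_, rfl⟩
  revert φ
  rw [← hH]
  intro φ h
  have hPH : (P : Subgroup G) ≤ H :=
    (CfsgLib.Transfer.IsWeaklyClosed.normal hQ).trans (le_of_eq hH.symm)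
  have hQP : Q ≤ (P : Subgroup G) := hQ.1
  have hApg : IsPGroup p A := fun a => ⟨1, by rw [pow_one]; exact hA a⟩
  -- it suffices to treat elements of `P`
  suffices hP1 : ∀ u, ∀ hu : u ∈ (P : Subgroup G), φ ⟨u, hPH hu⟩ = 1 by
    rw [← MonoidHom.ker_eq_top_iff, eq_top_iff,
      ← CfsgLib.Transfer.sylow_sup_pResidual (P.subtype hPH)]
    exact sup_le (fun x hx => hP1 _ hx) (CfsgLib.Transfer.pResidual_le_ker hApg φ)
  by_contra hcon
  have hex : ∃ m, ∃ u, ∃ hu : u ∈ (P : Subgroup G), φ ⟨u, hPH hu⟩ ≠ 1 ∧ orderOf u = m := by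
    push Not at hcon
    obtain ⟨u, hu, hu'⟩ := hcon
    exact ⟨_, u, hu, hu', rfl⟩
  obtain ⟨u, huP, huφ, hum⟩ := Nat.find_spec hex
  obtain ⟨e, he⟩ := IsPGroup.iff_orderOf.1 P.isPGroup' (⟨u, huP⟩ : (P : Subgroup G))
  rw [Subgroup.orderOf_mk] at he
  have hsmall : ∀ y, ∀ hy : y ∈ H, orderOf y ∣ orderOf u → orderOf y < orderOf u →
      φ ⟨y, hy⟩ = 1 := by
    intro y hy hdvd hlt
    obtain ⟨j, -, hj⟩ := (Nat.dvd_prime_pow hp.out).1 (he ▸ hdvd)
    have hyH : IsPGroup p (Subgroup.zpowers (⟨y, hy⟩ : H)) :=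
      IsPGroup.of_card (n := j) (by rw [Nat.card_zpowers, Subgroup.orderOf_mk, hj])
    obtain ⟨R, hR⟩ := hyH.exists_le_sylow
    obtain ⟨g, hg⟩ := MulAction.exists_smul_eq H R (P.subtype hPH)
    have h1 : g * ⟨y, hy⟩ * g⁻¹ ∈ ((g • R : Sylow p H) : Subgroup H) := by
      rw [Sylow.coe_subgroup_smul]
      exact ⟨_, hR (Subgroup.mem_zpowers _), rfl⟩
    rw [hg] at h1
    by_contra hne
    refine Nat.find_min hex (hum ▸ hlt) ⟨(g : G) * y * (g : G)⁻¹, h1, ?_, ?_⟩
    · change φ (g * ⟨y, hy⟩ * g⁻¹) ≠ 1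
      rwa [map_mul, map_mul, map_inv, mul_inv_cancel_comm]
    · exact orderOf_injective (MulAut.conj (g : G)).toMonoidHom (MulAut.conj (g : G)).injective y
  have hlong : ∀ w : G, orderOf w = orderOf u → ∀ (r : ℕ) (g : G) (hm : g⁻¹ * w ^ r * g ∈ H),
      1 < r → r ∣ orderOf w → φ ⟨_, hm⟩ = 1 := by
    intro w hw r g hm hr hdvd
    have h1 : orderOf (g⁻¹ * w ^ r * g) = orderOf (w ^ r) :=
      orderOf_injective (MulAut.conj g⁻¹).toMonoidHom (MulAut.conj g⁻¹).injective (w ^ r) ▸ by simp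
    rw [orderOf_pow_of_dvd (by omega) hdvd, hw] at h1
    exact hsmall _ hm (h1 ▸ Nat.div_dvd_of_dvd (hw ▸ hdvd))
      (h1 ▸ Nat.div_lt_self (orderOf_pos u) hr)
  haveI := Fintype.ofFinite (G ⧸ H)
  have hV : MonoidHom.transfer φ u = 1 := by
    have h1 := DFunLike.congr_fun h ⟨u, hPH huP⟩
    simpa using h1
  rw [transfer_eq_prod_fixVal φ u (hlong u rfl)] at hV
  -- the coset `H` itself
  have hfixQ : ∀ q : G ⧸ H, q ∈ MulAction.fixedPoints Q (G ⧸ H) → q = ((1 : G) : G ⧸ H) := by
    intro q hq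
    induction q using QuotientGroup.induction_on with
    | H x =>
      have hle : Q.map (MulAut.conj x⁻¹).toMonoidHom ≤ H := by
        rintro _ ⟨w, hw, rfl⟩
        simpa [MulAut.conj_apply] using conj_mem_of_smul_eq (hq ⟨w, hw⟩)
      have hpg : IsPGroup p ((Q.map (MulAut.conj x⁻¹).toMonoidHom).subgroupOf H) :=
        ((P.isPGroup'.to_le hQP).map _).of_equiv (Subgroup.subgroupOfEquivOfLe hle).symm
      obtain ⟨R, hR⟩ := hpg.exists_le_sylow
      obtain ⟨g, hg⟩ := MulAction.exists_smul_eq H R (P.subtype hPH)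
      have h1 : Q.map (MulAut.conj ((g : G) * x⁻¹)).toMonoidHom ≤ (P : Subgroup G) := by
        rintro _ ⟨w, hw, rfl⟩
        have hm : x⁻¹ * w * x ∈ H := conj_mem_of_smul_eq (hq ⟨w, hw⟩)
        have h2 : g * ⟨_, hm⟩ * g⁻¹ ∈ ((g • R : Sylow p H) : Subgroup H) := by
          rw [Sylow.coe_subgroup_smul]
          exact ⟨_, hR (Subgroup.mem_subgroupOf.2 ⟨w, hw, by simp [MulAut.conj_apply]⟩), rfl⟩
        rw [hg] at h2
        have h3 : ((g * ⟨_, hm⟩ * g⁻¹ : H) : G) ∈ (P : Subgroup G) := h2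
        simpa [MulAut.conj_apply, mul_assoc] using h3
      have h4 : (g : G) * x⁻¹ ∈ H :=
        hH.symm.le (CfsgLib.Transfer.mem_normalizer_of_map_conj_eq (hQ.2 _ h1))
      refine QuotientGroup.eq.2 ?_
      rw [mul_one]
      simpa using H.mul_mem (H.inv_mem g.2) h4
  haveI := Fintype.ofFinite (Quotient (MulAction.orbitRel Q (G ⧸ H)))
  rw [← Finset.prod_fiberwise (Finset.univ : Finset (G ⧸ H))
    (fun x => (Quotient.mk'' x : Quotient (MulAction.orbitRel Q (G ⧸ H))))
    (fun q => fixVal φ u q)] at hV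
  have hone : ∀ x : G ⧸ H, (Quotient.mk'' x : Quotient (MulAction.orbitRel Q (G ⧸ H))) =
      Quotient.mk'' ((1 : G) : G ⧸ H) → x = ((1 : G) : G ⧸ H) := by
    intro x hx
    obtain ⟨a, ha⟩ := Quotient.exact' hx
    rw [← ha]
    change (((a : G) * 1 : G) : G ⧸ H) = _
    refine QuotientGroup.eq.2 ?_
    rw [mul_one, mul_one]
    exact H.inv_mem (hPH (hQP a.2))
  rw [Finset.prod_eq_single (Quotient.mk'' ((1 : G) : G ⧸ H))] at hV
  rotate_left
  · -- a nontrivial orbit of `Q`
    intro o _ ho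
    obtain ⟨S, hS⟩ : ∃ S : Finset (G ⧸ H), S = Finset.univ.filter
      (fun x => (Quotient.mk'' x : Quotient (MulAction.orbitRel Q (G ⧸ H))) = o) := ⟨_, rfl⟩
    rw [← hS]
    by_cases hnone : ∀ q ∈ S, u • q ≠ q
    · exact Finset.prod_eq_one fun q hq => fixVal_of_not_fixed φ (hnone q hq)
    push Not at hnone
    obtain ⟨q0, hq0, hq0u⟩ := hnone
    have hmemS : ∀ q, q ∈ S ↔ ∃ a ∈ Q, a • q0 = q := by
      intro q
      rw [hS] at hq0
      rw [hS, Finset.mem_filter]
      have hq0' := (Finset.mem_filter.1 hq0).2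
      constructor
      · intro hq
        obtain ⟨a, ha⟩ := Quotient.exact' (hq.2.trans hq0'.symm)
        exact ⟨a, a.2, ha⟩
      · rintro ⟨a, ha, rfl⟩
        exact ⟨Finset.mem_univ _, (Quotient.sound'
          (show (a • q0) ∈ MulAction.orbit Q q0 from ⟨⟨a, ha⟩, rfl⟩)).trans hq0'⟩
    have hmove : ∃ a ∈ Q, a • q0 ≠ q0 := by
      by_contra hno
      push Not at hno
      apply ho
      rw [hS] at hq0
      rw [← (Finset.mem_filter.1 hq0).2, hfixQ q0 fun a => hno a a.2]
    obtain ⟨M, hM⟩ : ∃ M : Subgroup G,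
        M = Q ⊔ ((P : Subgroup G) ⊓ MulAction.stabilizer G q0) := ⟨_, rfl⟩
    have hMP : M ≤ (P : Subgroup G) := hM ▸ sup_le hQP inf_le_left
    have hQM : Q ≤ M := hM ▸ le_sup_left
    have hMorb : ∀ m ∈ M, ∃ a ∈ Q, a • q0 = m • q0 := by
      intro m hm
      rw [hM, ← SetLike.mem_coe,
        Subgroup.coe_mul_of_right_le_normalizer_left Q _ (inf_le_left.trans (hPH.trans (le_of_eq hH)))] at hm
      obtain ⟨a, ha, b, hb, rfl⟩ := hm
      exact ⟨a, ha, by rw [mul_smul, MulAction.mem_stabilizer_iff.1 hb.2]⟩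
    have hne : MulAction.stabilizer M q0 ≠ ⊤ := by
      intro e
      obtain ⟨a, ha, ha'⟩ := hmove
      have h1 : (⟨a, hQM ha⟩ : M) ∈ MulAction.stabilizer M q0 := by rw [e]; trivial
      exact ha' (MulAction.mem_stabilizer_iff.1 h1)
    obtain ⟨M0, hM0, hle0⟩ :=
      (eq_top_or_exists_le_coatom (MulAction.stabilizer M q0)).resolve_left hne
    have hMpg : IsPGroup p M := P.isPGroup'.to_le hMP
    haveI hM0n := CfsgLib.PGroup.normal_of_isCoatom hMpg hM0
    obtain ⟨z, hzQ, hz⟩ : ∃ z : M, (z : G) ∈ Q ∧ z ∉ M0 := by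
      by_contra hno
      push Not at hno
      apply hM0.1
      have h1 : M ≤ M0.map M.subtype := by
        conv_lhs => rw [hM]
        refine sup_le (fun a ha => ⟨⟨a, hQM ha⟩, hno _ ha, rfl⟩)
          (fun b hb => ⟨⟨b, hM ▸ Subgroup.mem_sup_right hb⟩, hle0 ?_, rfl⟩)
        exact MulAction.mem_stabilizer_iff.2 (MulAction.mem_stabilizer_iff.1 hb.2 :)
      rw [eq_top_iff]
      intro m _
      obtain ⟨m', hm', e⟩ := h1 m.2
      exact (Subtype.ext e : m' = m) ▸ hm'
    have hu0 : u ∈ M := hM ▸ Subgroup.mem_sup_right ⟨huP, MulAction.mem_stabilizer_iff.2 hq0u⟩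
    have huM0 : (⟨u, hu0⟩ : M) ∈ M0 := hle0 (MulAction.mem_stabilizer_iff.2 hq0u)
    -- transfer from the stabilizer of `q0` in `M0`
    have hconj : ∀ k ∈ MulAction.stabilizer M0 q0,
        q0.out⁻¹ * ((k : M) : G) * q0.out ∈ H := fun k hk =>
      conj_mem_of_smul_eq (by
        rw [QuotientGroup.out_eq']; exact (MulAction.mem_stabilizer_iff.1 hk :))
    let μ : MulAction.stabilizer M0 q0 →* A :=
      MonoidHom.mk' (fun k => φ ⟨_, hconj k.1 k.2⟩) fun a b => by
        rw [← map_mul]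
        exact congrArg φ (Subtype.ext (by simp [mul_assoc]))
    haveI := Fintype.ofFinite (M0 ⧸ MulAction.stabilizer M0 q0)
    let pt : M0 ⧸ MulAction.stabilizer M0 q0 → G ⧸ H := fun c =>
      ((MulAction.orbitEquivQuotientStabilizer M0 q0).symm c : G ⧸ H)
    have hpt : ∀ k : M0, pt (k : M0 ⧸ MulAction.stabilizer M0 q0) = ((k : M) : G) • q0 :=
      fun k => rfl
    have hW : ∀ w : M0, orderOf ((w : M) : G) = orderOf u →
        MonoidHom.transfer μ w = ∏ c, fixVal φ ((w : M) : G) (pt c) := by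
      intro w hw
      rw [transfer_eq_prod_fixVal μ w]
      · refine Finset.prod_congr rfl fun c _ => ?_
        induction c using QuotientGroup.induction_on with
        | H k =>
          rw [hpt]
          by_cases hk : k⁻¹ * w * k ∈ MulAction.stabilizer M0 q0
          · have hm := hconj _ hk
            rw [fixVal_mk μ w k hk]
            have e : ((k : M) : G) • q0 = ((((k : M) : G) * q0.out : G) : G ⧸ H) := by
              conv_lhs => rw [← QuotientGroup.out_eq' q0]
              rfl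
            rw [e, fixVal_mk φ _ _ (by simpa [mul_assoc] using hm)]
            exact congrArg φ (Subtype.ext (by simp [mul_assoc]))
          · rw [fixVal_of_not_fixed μ (fun e => hk (conj_mem_of_smul_eq e)),
              fixVal_of_not_fixed φ fun e => hk (MulAction.mem_stabilizer_iff.2 ?_)]
            change (((k⁻¹ * w * k : M0) : M) : G) • q0 = q0
            simp only [Subgroup.coe_mul, Subgroup.coe_inv]
            rw [mul_smul, mul_smul, e, inv_smul_smul]
      · intro r k hk hr hdvd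
        have hm := hconj _ hk
        change φ ⟨_, hm⟩ = 1
        have hm' : (((k : M) : G) * q0.out)⁻¹ * ((w : M) : G) ^ r * (((k : M) : G) * q0.out) ∈ H := by
          simpa [mul_assoc] using hm
        have h1 := hlong _ hw r _ hm' hr (by simpa using hdvd)
        rw [← h1]
        exact congrArg φ (Subtype.ext (by simp [mul_assoc]))
    -- the orbit is a union of `p` translates
    have hpz : orderOf (QuotientGroup.mk' M0 z) = p := by
      refine orderOf_eq_prime ?_ fun e => hz ((QuotientGroup.eq_one_iff z).1 e)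
      rw [← map_pow]
      exact (QuotientGroup.eq_one_iff _).2 (CfsgLib.PGroup.pow_mem_of_isCoatom hMpg hM0 z)
    let β : Fin p × (M0 ⧸ MulAction.stabilizer M0 q0) → G ⧸ H := fun ic =>
      ((z : M) : G) ^ (ic.1 : ℕ) • pt ic.2
    have hβmem : ∀ ic, β ic ∈ S := by
      rintro ⟨i, c⟩
      induction c using QuotientGroup.induction_on with
      | H k =>
        obtain ⟨a, ha, he'⟩ := hMorb _ (M.mul_mem (M.pow_mem z.2 i) (k : M).2)
        refine (hmemS _).2 ⟨a, ha, he'.trans ?_⟩
        change _ = ((z : M) : G) ^ (i : ℕ) • pt k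
        rw [hpt, mul_smul]
    have hβinj : Function.Injective β := by
      rintro ⟨i, c⟩ ⟨j, d⟩ hcd
      induction c using QuotientGroup.induction_on with
      | H k =>
        induction d using QuotientGroup.induction_on with
        | H l =>
          change ((z : M) : G) ^ (i : ℕ) • pt k = ((z : M) : G) ^ (j : ℕ) • pt l at hcd
          rw [hpt, hpt] at hcd
          have h1 : (z ^ (j : ℕ) * (l : M))⁻¹ * (z ^ (i : ℕ) * (k : M)) ∈
              MulAction.stabilizer M q0 := by
            rw [MulAction.mem_stabilizer_iff]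
            change ((((z ^ (j : ℕ) * (l : M))⁻¹ * (z ^ (i : ℕ) * (k : M)) : M) : M) : G) • q0 = q0
            simp only [Subgroup.coe_mul, Subgroup.coe_inv, Subgroup.coe_pow]
            rw [mul_smul, inv_smul_eq_iff, mul_smul, mul_smul, hcd]
          have h2 := (QuotientGroup.eq_one_iff _).2 (hle0 h1)
          change QuotientGroup.mk' M0 _ = 1 at h2
          rw [map_mul, map_inv, map_mul, map_mul, map_pow, map_pow] at h2
          have hk1 : QuotientGroup.mk' M0 (k : M) = 1 := (QuotientGroup.eq_one_iff _).2 k.2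
          have hl1 : QuotientGroup.mk' M0 (l : M) = 1 := (QuotientGroup.eq_one_iff _).2 l.2
          rw [hk1, hl1, mul_one, mul_one, inv_mul_eq_one, eq_comm, pow_inj_mod, hpz,
            Nat.mod_eq_of_lt i.isLt, Nat.mod_eq_of_lt j.isLt] at h2
          obtain rfl : i = j := Fin.ext h2
          have h3 : pt (k : M0 ⧸ MulAction.stabilizer M0 q0) = pt l := by
            rw [hpt, hpt]; exact MulAction.injective _ hcd
          have h4 := (MulAction.orbitEquivQuotientStabilizer M0 q0).symm.injective (Subtype.ext h3)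
          rw [h4]
    have himg : (Finset.univ : Finset (Fin p × (M0 ⧸ MulAction.stabilizer M0 q0))).image β = S := by
      refine Finset.ext fun q => ⟨fun hq => ?_, fun hq => ?_⟩
      · obtain ⟨ic, _, rfl⟩ := Finset.mem_image.1 hq
        exact hβmem ic
      · obtain ⟨a, ha, rfl⟩ := (hmemS q).1 hq
        have hidx : Nat.card (M ⧸ M0) = p := CfsgLib.PGroup.index_of_isCoatom hMpg hM0
        obtain ⟨i, hip, hi⟩ : ∃ i, i < p ∧
            QuotientGroup.mk' M0 z ^ i = QuotientGroup.mk' M0 ⟨a, hQM ha⟩ := by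
          have h1 : Subgroup.zpowers (QuotientGroup.mk' M0 z) = ⊤ :=
            Subgroup.eq_top_of_card_eq _ (by rw [Nat.card_zpowers, hpz, hidx])
          obtain ⟨i, hi, hi'⟩ := ((isOfFinOrder_of_finite _).mem_zpowers_iff_mem_range_orderOf).1
            (h1 ▸ Subgroup.mem_top (QuotientGroup.mk' M0 ⟨a, hQM ha⟩)) |> Finset.mem_image.1
          exact ⟨i, hpz ▸ Finset.mem_range.1 hi, hi'⟩
        rw [← map_pow, QuotientGroup.mk'_apply, QuotientGroup.mk'_apply, QuotientGroup.eq] at hi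
        refine Finset.mem_image.2 ⟨(⟨i, hip⟩, ((⟨_, hi⟩ : M0) : M0 ⧸ MulAction.stabilizer M0 q0)),
          Finset.mem_univ _, ?_⟩
        change ((z : M) : G) ^ i • pt _ = a • q0
        rw [hpt, ← mul_smul]
        congr 1
        simp
    rw [← himg, Finset.prod_image fun x _ y _ hxy => hβinj hxy, Fintype.prod_prod_type]
    -- the translates of `u`
    let σ : ℕ → M0 := fun i => ⟨(z ^ i)⁻¹ * ⟨u, hu0⟩ * z ^ i, by
      simpa using hM0n.conj_mem _ huM0 (z ^ i)⁻¹⟩
    have hσ : ∀ i, orderOf ((σ i : M) : G) = orderOf u := fun i => by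
      rw [show ((σ i : M) : G) = (MulAut.conj (((z : M) : G) ^ i)⁻¹).toMonoidHom u by
        simp only [σ, Subgroup.coe_mul, Subgroup.coe_inv, Subgroup.coe_pow,
          MulEquiv.toMonoidHom_eq_coe, MonoidHom.coe_coe, MulAut.conj_apply, inv_inv]]
      exact orderOf_injective _ (MulAut.conj (((z : M) : G) ^ i)⁻¹).injective u
    have hterm : ∀ i : Fin p, ∏ c, fixVal φ u (β (i, c)) = MonoidHom.transfer μ (σ i) := by
      intro i
      rw [hW _ (hσ i)]
      exact Finset.prod_congr rfl fun c _ => by simp [β, σ, fixVal_smul]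
    rw [Finset.prod_congr rfl fun i _ => hterm i,
      Fin.prod_univ_eq_prod_range (fun i => MonoidHom.transfer μ (σ i)) p]
    -- iterated commutators
    let θ : M0 →* M0 := MonoidHom.mk'
      (fun v => ⟨z⁻¹ * (v : M) * z, by simpa using hM0n.conj_mem _ v.2 z⁻¹⟩)
      (fun a b => Subtype.ext (by simp [mul_assoc]))
    let E : M0 → M0 := fun v => v⁻¹ * θ v
    have hσθ : ∀ i, σ (i + 1) = θ (σ i) := fun i => Subtype.ext (by
      simp [σ, θ, pow_succ, mul_assoc])
    have hcom : ∀ v, θ (E v) = E (θ v) := fun v => by simp [E, map_mul, map_inv]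
    have hcom' : ∀ m v, θ (E^[m] v) = E^[m] (θ v) := by
      intro m
      induction m with
      | zero => simp
      | succ m ih => intro v; rw [Function.iterate_succ_apply', hcom, ih, Function.iterate_succ_apply']
    have key := prod_range_eq_iterate hA (fun m i => MonoidHom.transfer μ (E^[m] (σ i))) (by
      intro m i
      rw [Function.iterate_succ_apply', hσθ, ← hcom', div_eq_mul_inv]
      change MonoidHom.transfer μ ((E^[m] (σ i))⁻¹ * θ (E^[m] (σ i))) = _
      rw [map_mul, map_inv, mul_comm])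
    simp only [Function.iterate_zero, id_eq] at key
    rw [key]
    have h1 : ∀ m, (((E^[m] (σ 0) : M0) : M) : G) =
        (fun y : G => y⁻¹ * ((z : M) : G)⁻¹ * y * ((z : M) : G))^[m] u := by
      intro m
      induction m with
      | zero => simp [σ]
      | succ m ih =>
        rw [Function.iterate_succ_apply', Function.iterate_succ_apply', ← ih]
        simp [E, θ, mul_assoc]
    have hQn : ∀ g ∈ (P : Subgroup G), ∀ y ∈ Q, g * y * g⁻¹ ∈ Q := fun g hg y hy =>
      (Subgroup.mem_normalizer_iff.1 (CfsgLib.Transfer.IsWeaklyClosed.normal hQ hg) y).1 hy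
    have hmemQ : (fun y : G => y⁻¹ * ((z : M) : G)⁻¹ * y * ((z : M) : G))^[p - 1] u ∈ Q := by
      obtain ⟨j, hj⟩ : ∃ j, p - 1 = j + 1 := ⟨p - 2, by have := hp.out.two_le; omega⟩
      rw [hj, Function.iterate_succ_apply']
      have hyP : (fun y : G => y⁻¹ * ((z : M) : G)⁻¹ * y * ((z : M) : G))^[j] u ∈ (P : Subgroup G) := by
        rw [← h1]; exact hMP (E^[j] (σ 0) : M0).1.2
      have h2 := hQn _ ((P : Subgroup G).inv_mem hyP) _ (Q.inv_mem hzQ)
      rw [inv_inv] at h2
      exact Q.mul_mem h2 hzQ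
    let ι : ↥Q →* ↥M := Subgroup.inclusion hQM
    set W₀ : Subgroup ↥Q := M0.comap ι with hW₀
    have hQpg : IsPGroup p Q := P.isPGroup'.to_le hQP
    have hW₀c : IsCoatom W₀ := isCoatom_comap hMpg hM0 ι ⟨⟨(z : G), hzQ⟩, hz⟩
    have hin : (fun y : G => y⁻¹ * ((z : M) : G)⁻¹ * y * ((z : M) : G))^[p - 1] u ∈ W₀.map Q.subtype := by
      refine ⟨⟨_, hmemQ⟩, ?_, rfl⟩
      show ι ⟨_, hmemQ⟩ ∈ M0
      have e : ι ⟨_, hmemQ⟩ = ((E^[p - 1] (σ 0) : M0) : M) := Subtype.ext (h1 (p - 1)).symm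
      rw [e]; exact SetLike.coe_mem _
    obtain ⟨_, ⟨x, hx, rfl⟩, hxe⟩ := hWY u huP _ hzQ W₀ hW₀c hin
    let j : ↥W₀ →* ↥M0 := MonoidHom.mk' (fun w => ⟨ι (w : Q), w.2⟩) fun _ _ => rfl
    have hj : j x = E^[p - 1] (σ 0) := Subtype.ext (Subtype.ext ((h1 (p - 1)).trans hxe.symm).symm)
    have hzero : MonoidHom.transfer μ (E^[p - 1] (σ 0)) = 1 := by
      rw [← hj]
      exact frattini_le_ker (hQpg.to_subgroup W₀) hA ((MonoidHom.transfer μ).comp j) hx
    rw [hzero]
  · intro hn
    exact absurd (Finset.mem_univ _) hn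
  rw [Finset.prod_eq_single ((1 : G) : G ⧸ H)
    (fun x hx hne' => absurd (hone x (Finset.mem_filter.1 hx).2) hne')
    (fun hn => (hn (Finset.mem_filter.2 ⟨Finset.mem_univ ((1 : G) : G ⧸ H), rfl⟩)).elim),
    fixVal_mk φ u 1 (by simpa using hPH huP)] at hV
  exact huφ (Eq.trans (congrArg φ (Subtype.ext (by simp))) hV)

/-- The residual of the normalizer is the trace of the residual of `G`. -/
theorem pResidual_normalizer_eq (P : Sylow p G) (Q : Subgroup G)
    (hQ : Cfsg.IsWeaklyClosed Q (P : Subgroup G))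
    (hWY : ∀ u ∈ (P : Subgroup G), ∀ z ∈ Q, ∀ W₀ : Subgroup ↥Q, IsCoatom W₀ →
      (fun y : G => y⁻¹ * z⁻¹ * y * z)^[p - 1] u ∈ W₀.map Q.subtype →
      (fun y : G => y⁻¹ * z⁻¹ * y * z)^[p - 1] u ∈ ((frattini ↥W₀).map W₀.subtype).map Q.subtype) :
    (Cfsg.pResidual p G).subgroupOf (Subgroup.normalizer (Q : Set G)) =
      Cfsg.pResidual p (Subgroup.normalizer (Q : Set G)) := by
  classical
  obtain ⟨H, hH⟩ : ∃ H : Subgroup G, H = Subgroup.normalizer (Q : Set G) := ⟨_, rfl⟩
  rw [← hH]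
  haveI := CfsgLib.Transfer.pResidual_normal (G := H) (p := p)
  have hPH : (P : Subgroup G) ≤ H := hH ▸ CfsgLib.Transfer.IsWeaklyClosed.normal hQ
  have hi : ¬ p ∣ H.index := fun hd => P.not_dvd_index (hd.trans (index_dvd_of_le hPH))
  have hUL : Cfsg.pResidual p H ≤ (Cfsg.pResidual p G).subgroupOf H := by
    rw [subgroupOf, ← map_le_iff_le_comap]
    exact CfsgLib.Transfer.map_pResidual_le H.subtype
  -- every homomorphism to a group of exponent `p` extends to `G`
  have hext : ∀ χ : H →* Multiplicative (ZMod p),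
      ∃ ψ : G →* Multiplicative (ZMod p), ψ.comp H.subtype = χ := by
    have hA : ∀ a : Multiplicative (ZMod p), a ^ p = 1 := fun a => by
      apply Multiplicative.toAdd.injective
      simp
    haveI : Finite (H →* Multiplicative (ZMod p)) :=
      Finite.of_injective _ DFunLike.coe_injective
    let T : (H →* Multiplicative (ZMod p)) → (H →* Multiplicative (ZMod p)) :=
      fun χ => (MonoidHom.transfer χ).comp H.subtype
    have hT : Function.Injective T := by
      intro a b hab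
      have hmul : ∀ x : H, T (b * (b⁻¹ * a)) x = T b x * T (b⁻¹ * a) x := fun x =>
        transfer_mul b (b⁻¹ * a) (x : G)
      have h1 : T (b⁻¹ * a) = 1 := by
        refine MonoidHom.ext fun x => ?_
        have := hmul x
        rw [mul_inv_cancel_left, hab] at this
        exact mul_left_cancel (this.symm.trans (mul_one _).symm)
      subst hH
      exact (inv_mul_eq_one.1 (transfer_restrict_ne_one P Q hQ hWY hA _ h1)).symm
    intro χ
    obtain ⟨a, ha⟩ := (Finite.injective_iff_surjective.1 hT) χ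
    exact ⟨_, ha⟩
  refine le_antisymm ?_ hUL
  refine CfsgLib.Transfer.tate_iterate H hi _
    (CfsgLib.Transfer.isPGroup_quotient_of_pResidual_le _ le_rfl) hUL ?_
  intro M hMn hUM _ _ S hS
  have hpg : IsPGroup p (H ⧸ M) := CfsgLib.Transfer.isPGroup_quotient_of_pResidual_le M hUM
  refine frattini_nongenerating ?_
  rw [eq_top_iff, ← hS]
  refine sup_le_sup_left ?_ S
  simp only [frattini, Order.radical, le_iInf_iff]
  intro C hC
  haveI := CfsgLib.PGroup.normal_of_isCoatom hpg hC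
  have hcard : Nat.card ((H ⧸ M) ⧸ C) = p := CfsgLib.PGroup.index_of_isCoatom hpg hC
  let e : (H ⧸ M) ⧸ C ≃* Multiplicative (ZMod p) :=
    mulEquivOfPrimeCardEq hcard (by rw [Nat.card_congr Multiplicative.toAdd, Nat.card_zmod])
  obtain ⟨ψ, hψ⟩ := hext ((e.toMonoidHom.comp (QuotientGroup.mk' C)).comp (QuotientGroup.mk' M))
  rintro _ ⟨l, hl, rfl⟩
  have hker := CfsgLib.Transfer.pResidual_le_ker (p := p) (IsPGroup.of_card (n := 1)
    (by rw [Nat.card_congr Multiplicative.toAdd, Nat.card_zmod, pow_one])) ψ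
  have h1 : e ((QuotientGroup.mk' C) (QuotientGroup.mk' M l)) = 1 :=
    (DFunLike.congr_fun hψ l).symm.trans (hker (Subgroup.mem_subgroupOf.1 hl))
  rw [MulEquiv.map_eq_one_iff] at h1
  exact (QuotientGroup.eq_one_iff _).1 h1



/-- In the abelianization a `p`-element of the image of `O^p` is trivial. -/
theorem sylow_inf_le (P : Sylow p G) (H : Subgroup G) (hPH : (P : Subgroup G) ≤ H) {x : ↥H}
    (hx : (x : G) ∈ (P : Subgroup G)) (hxm : x ∈ commutator ↥H ⊔ Cfsg.pResidual p ↥H) :
    x ∈ commutator ↥H := by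
  obtain ⟨k, hk⟩ := IsPGroup.iff_orderOf.1 P.isPGroup' ⟨(x : G), hx⟩
  rw [Subgroup.orderOf_mk] at hk
  have hxk : x ^ p ^ k = 1 := Subtype.ext (by
    rw [SubmonoidClass.coe_pow, ← hk, pow_orderOf_eq_one]; rfl)
  let K : Subgroup (Abelianization ↥H) :=
    { carrier := {a | (orderOf a).Coprime p}
      one_mem' := by simp
      mul_mem' := fun {a b} ha hb =>
        Nat.Coprime.coprime_dvd_left ((Commute.all a b).orderOf_mul_dvd_lcm)
          (Nat.Coprime.coprime_dvd_left (Nat.lcm_dvd_mul _ _) (Nat.Coprime.mul_left ha hb))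
      inv_mem' := fun {a} ha => by simpa using ha }
  have hle : commutator ↥H ⊔ Cfsg.pResidual p ↥H ≤ K.comap Abelianization.of := by
    refine sup_le (fun c hc => ?_) ((Subgroup.closure_le _).2 fun g hg => ?_)
    · show (orderOf (Abelianization.of c)).Coprime p
      rw [show Abelianization.of c = 1 from (QuotientGroup.eq_one_iff c).2 hc, orderOf_one]
      exact Nat.coprime_one_left p
    · exact Nat.Coprime.coprime_dvd_left (orderOf_map_dvd _ g) hg
  have h1 : (orderOf (Abelianization.of x)).Coprime p := hle hxm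
  have h2 : orderOf (Abelianization.of x) ∣ p ^ k :=
    orderOf_dvd_of_pow_eq_one (by rw [← map_pow, hxk, map_one])
  exact (QuotientGroup.eq_one_iff x).1
    (orderOf_eq_one_iff.1 (Nat.Coprime.eq_one_of_dvd (h1.pow_right k) h2))

/-- Wielandt–Yoshida. -/
theorem inf_commutator_eq (P : Sylow p G) (Q : Subgroup G)
    (hQ : Cfsg.IsWeaklyClosed Q (P : Subgroup G))
    (hWY : ∀ u ∈ (P : Subgroup G), ∀ z ∈ Q, ∀ W₀ : Subgroup ↥Q, IsCoatom W₀ →
      (fun y : G => y⁻¹ * z⁻¹ * y * z)^[p - 1] u ∈ W₀.map Q.subtype →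
      (fun y : G => y⁻¹ * z⁻¹ * y * z)^[p - 1] u ∈ ((frattini ↥W₀).map W₀.subtype).map Q.subtype) :
    (P : Subgroup G) ⊓ commutator G =
      (P : Subgroup G) ⊓ ⁅Subgroup.normalizer (Q : Set G), Subgroup.normalizer (Q : Set G)⁆ := by
  have hres := pResidual_normalizer_eq P Q hQ hWY
  obtain ⟨H, hH⟩ : ∃ H : Subgroup G, H = Subgroup.normalizer (Q : Set G) := ⟨_, rfl⟩
  rw [← hH] at hres ⊢
  have hPH : (P : Subgroup G) ≤ H := hH ▸ CfsgLib.Transfer.IsWeaklyClosed.normal hQ
  haveI := CfsgLib.Transfer.pResidual_normal (G := G) (p := p)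
  have hcc : ⁅H, H⁆ = (commutator ↥H).map H.subtype := by
    rw [commutator_def, Subgroup.map_commutator, ← MonoidHom.range_eq_map, Subgroup.range_subtype]
  refine le_antisymm ?_ (inf_le_inf_left _ (Subgroup.commutator_mono le_top le_top))
  rintro x ⟨hxP, hxG⟩
  set π := QuotientGroup.mk' (Cfsg.pResidual p G)
  have hsurj : Function.Surjective (π.comp H.subtype) := by
    rw [← MonoidHom.range_eq_top, MonoidHom.range_comp, Subgroup.range_subtype, eq_top_iff,
      ← MonoidHom.range_eq_top.2 (QuotientGroup.mk'_surjective (Cfsg.pResidual p G)),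
      MonoidHom.range_eq_map, ← CfsgLib.Transfer.sylow_sup_pResidual P, Subgroup.map_sup]
    refine sup_le (Subgroup.map_mono hPH) ?_
    rw [(Subgroup.map_eq_bot_iff _).2 (QuotientGroup.ker_mk' _).ge]
    exact bot_le
  have hmem : π x ∈ (commutator ↥H).map (π.comp H.subtype) := by
    rw [commutator_def, Subgroup.map_commutator, Subgroup.map_top_of_surjective _ hsurj]
    have := Subgroup.mem_map_of_mem π hxG
    rw [commutator_def, Subgroup.map_commutator,
      Subgroup.map_top_of_surjective _ (QuotientGroup.mk'_surjective _)] at this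
    exact this
  obtain ⟨c, hc, hcx⟩ := hmem
  have hker : c⁻¹ * ⟨x, hPH hxP⟩ ∈ Cfsg.pResidual p ↥H := by
    rw [← hres, Subgroup.mem_subgroupOf]
    exact QuotientGroup.eq.1 hcx
  have hx' : (⟨x, hPH hxP⟩ : ↥H) ∈ commutator ↥H ⊔ Cfsg.pResidual p ↥H := by
    simpa using Subgroup.mul_mem_sup hc hker
  exact ⟨hxP, hcc ▸ ⟨_, sylow_inf_le P H hPH (x := ⟨x, hPH hxP⟩) hxP hx', rfl⟩⟩

end CfsgLib.LocalEven.WielandtYoshida
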