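import Cfsg.Agent.Lib.LocalEven.YoshidaWreath

/-!
Yoshida's transfer theorem: without a quotient `Z_p ≀ Z_p`, the normalizer of a Sylow subgroup
controls transfer.
-/

set_option autoImplicit false

namespace CfsgLib.Yoshida

variable {G : Type*} [Group G] {N : Subgroup G} {C : Type*} [CommGroup C] (φ : ↥N →* C)

/-- The transfer cocycle. -/
noncomputable def coc (g : G) (ω : G ⧸ N) : C :=
  φ ⟨(g • ω).out⁻¹ * (g * ω.out), by
    rw [← QuotientGroup.eq, QuotientGroup.out_eq']
    conv_lhs => rw [← QuotientGroup.out_eq' ω]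
    rfl⟩

theorem coc_mul (a b : G) (ω : G ⧸ N) : coc φ (a * b) ω = coc φ a (b • ω) * coc φ b ω := by
  rw [coc, coc, coc, ← map_mul]
  exact congrArg φ (Subtype.ext (by simp only [mul_smul, Subgroup.coe_mul]; group))

theorem coc_one (ω : G ⧸ N) : coc φ 1 ω = 1 := by
  have h := coc_mul φ 1 1 ω
  rw [mul_one, one_smul] at h
  exact left_eq_mul.mp h

theorem coc_pow (x : G) (n : ℕ) (ω : G ⧸ N) :
    coc φ (x ^ n) ω = ∏ i ∈ Finset.range n, coc φ x (x ^ i • ω) := by
  induction n with
  | zero => rw [pow_zero, coc_one, Finset.range_zero, Finset.prod_empty]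
  | succ n ih => rw [pow_succ', coc_mul, ih, Finset.prod_range_succ, mul_comm]

variable [Finite G]

/-- The transfer, as the product of the cocycle over all cosets. -/
noncomputable def tr : G →* C where
  toFun g := letI := Fintype.ofFinite (G ⧸ N); ∏ ω, coc φ g ω
  map_one' := Finset.prod_eq_one fun ω _ => coc_one φ ω
  map_mul' a b := by
    letI := Fintype.ofFinite (G ⧸ N)
    simp only [coc_mul, Finset.prod_mul_distrib]
    congr 1
    exact Fintype.prod_equiv (MulAction.toPerm b) _ _ fun ω => rfl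

open scoped Classical in
/-- The transfer restricted to an invariant set of cosets. -/
noncomputable def trOn (R : Subgroup G) (O : Finset (G ⧸ N)) (hO : ∀ r ∈ R, ∀ ω ∈ O, r • ω ∈ O) : ↥R →* C where
  toFun r := ∏ ω ∈ O, coc φ (r : G) ω
  map_one' := Finset.prod_eq_one fun ω _ => coc_one φ ω
  map_mul' a b := by
    simp only [Subgroup.coe_mul, coc_mul, Finset.prod_mul_distrib]
    congr 1
    refine Finset.prod_bij' (fun ω _ => (b : G) • ω) (fun ω _ => (b : G)⁻¹ • ω) (fun ω hω => hO _ b.2 ω hω)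
      (fun ω hω => hO _ (R.inv_mem b.2) ω hω) (fun ω _ => inv_smul_smul _ _) (fun ω _ => smul_inv_smul _ _)
      (fun ω _ => rfl)

/-- Moving an invariant set by `s` conjugates the transfer on it. -/
theorem prod_coc_image {R : Subgroup G} {O : Finset (G ⧸ N)} (hO : ∀ r ∈ R, ∀ ω ∈ O, r • ω ∈ O)
    {s x : G} (hx : s⁻¹ * x * s ∈ R) [DecidableEq (G ⧸ N)] :
    ∏ ω ∈ O.image (fun ω => s • ω), coc φ x ω = trOn φ R O hO ⟨_, hx⟩ := by
  rw [Finset.prod_image fun a _ b _ h => MulAction.injective s h]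
  show _ = ∏ ω ∈ O, coc φ (s⁻¹ * x * s) ω
  have h1 : ∀ ω, coc φ x (s • ω) * coc φ s ω = coc φ s ((s⁻¹ * x * s) • ω) * coc φ (s⁻¹ * x * s) ω := by
    intro ω
    rw [← coc_mul, ← coc_mul]
    congr 1
    group
  have h2 : ∏ ω ∈ O, coc φ x (s • ω) * coc φ s ω =
      ∏ ω ∈ O, coc φ s ((s⁻¹ * x * s) • ω) * coc φ (s⁻¹ * x * s) ω := Finset.prod_congr rfl fun ω _ => h1 ω
  have h3 : ∏ ω ∈ O, coc φ s ((s⁻¹ * x * s) • ω) = ∏ ω ∈ O, coc φ s ω :=
    Finset.prod_bij' (fun ω _ => (s⁻¹ * x * s) • ω) (fun ω _ => (s⁻¹ * x * s)⁻¹ • ω) (fun ω hω => hO _ hx ω hω)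
      (fun ω hω => hO _ (R.inv_mem hx) ω hω) (fun ω _ => inv_smul_smul _ _) (fun ω _ => smul_inv_smul _ _)
      (fun ω _ => rfl)
  rw [Finset.prod_mul_distrib, Finset.prod_mul_distrib, h3, mul_comm] at h2
  exact mul_left_cancel h2

variable {p : ℕ} [hp : Fact p.Prime]

/-- Without a quotient `Z_p ≀ Z_p` the transfer of a character of the normalizer does not vanish on
the Sylow subgroup. -/
theorem exists_tr_ne_one (S : Sylow p G)
    (hno : ¬ ∃ (P : Sylow p (Equiv.Perm (Fin (p ^ 2))))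
      (f : ↥(S : Subgroup G) →* ↥(P : Subgroup (Equiv.Perm (Fin (p ^ 2))))), Function.Surjective f)
    {N : Subgroup G} (hN : N = Subgroup.normalizer ((S : Subgroup G) : Set G))
    (lam : ↥N →* Multiplicative (ZMod p))
    (hlam : ∃ y : ↥N, (y : G) ∈ (S : Subgroup G) ∧ lam y ≠ 1) :
    ∃ x ∈ (S : Subgroup G), tr lam x ≠ 1 := by
  classical
  letI := Fintype.ofFinite (G ⧸ N)
  have hSN : (S : Subgroup G) ≤ N := hN ▸ Subgroup.le_normalizer
  -- `S` contains the `p`-elements of `N`
  have hpN : ∀ y ∈ N, ∀ k : ℕ, y ^ p ^ k = 1 → y ∈ (S : Subgroup G) := by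
    intro y hy k hk
    have hz : IsPGroup p (Subgroup.zpowers y) :=
      IsPGroup.of_card_dvd_pow (n := k) (by rw [Nat.card_zpowers]; exact orderOf_dvd_of_pow_eq_one hk)
    have h := S.3 (hz.to_sup_of_normal_right' S.2 (Subgroup.zpowers_le.mpr (hN ▸ hy))) le_sup_right
    exact h.le (Subgroup.mem_sup_left (Subgroup.mem_zpowers y))
  -- an element of least order with non-trivial image
  have hex : ∃ n, ∃ y : ↥N, (y : G) ∈ (S : Subgroup G) ∧ lam y ≠ 1 ∧ orderOf (y : G) = n := by
    obtain ⟨y, h1, h2⟩ := hlam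
    exact ⟨_, y, h1, h2, rfl⟩
  obtain ⟨⟨x, hxN⟩, hxS, hxlam, hxord⟩ := Nat.find_spec hex
  have hxord' : orderOf x = Nat.find hex := hxord
  have hmin : ∀ z : ↥N, ∀ k : ℕ, (z : G) ^ p ^ k = 1 → orderOf (z : G) < orderOf x → lam z = 1 := by
    intro z k hk hlt
    by_contra h
    have hle := Nat.find_min' hex ⟨z, hpN z z.2 k hk, h, rfl⟩
    omega
  refine ⟨x, hxS, ?_⟩
  show ∏ ω, coc lam x ω ≠ 1
  set base : G ⧸ N := ((1 : G) : G ⧸ N)
  -- the base point
  have hfix : ∀ s ∈ (S : Subgroup G), s • base = base := fun s hs => by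
    rw [MulAction.Quotient.smul_mk, smul_eq_mul, mul_one]
    exact (QuotientGroup.eq.mpr (by simpa using hSN hs)).symm
  have hbase : coc lam x base = lam ⟨x, hxN⟩ := by
    have hout : base.out ∈ N := by
      have := QuotientGroup.eq.mp (QuotientGroup.out_eq' base)
      simpa using N.inv_mem this
    have h1 : (⟨(x • base).out⁻¹ * (x * base.out), by
        rw [hfix x hxS]; exact N.mul_mem (N.inv_mem hout) (N.mul_mem hxN hout)⟩ : ↥N) =
        (⟨base.out, hout⟩)⁻¹ * (⟨x, hxN⟩ * ⟨base.out, hout⟩) := Subtype.ext (by simp [hfix x hxS])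
    rw [coc, h1, map_mul, map_mul, map_inv, ← mul_assoc, inv_mul_cancel_comm]
  rw [← Finset.mul_prod_erase _ _ (Finset.mem_univ base), hbase]
  suffices hrest : ∏ ω ∈ Finset.univ.erase base, coc lam x ω = 1 by rwa [hrest, mul_one]
  -- group the remaining cosets into orbits of `S`
  let Sq := (S : Subgroup G)
  let q : G ⧸ N → MulAction.orbitRel.Quotient ↥Sq (G ⧸ N) := Quotient.mk''
  rw [← Finset.prod_fiberwise_of_maps_to (g := q) (t := (Finset.univ.erase base).image q)
    fun ω hω => Finset.mem_image_of_mem _ hω]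
  refine Finset.prod_eq_one fun c hc => ?_
  obtain ⟨ω₀, hω₀, rfl⟩ := Finset.mem_image.mp hc
  have hω₀b : ω₀ ≠ base := Finset.ne_of_mem_erase hω₀
  set O := (Finset.univ.erase base).filter (fun ω => q ω = q ω₀) with hOdef
  have hmemO : ∀ ω, ω ∈ O ↔ ∃ s : ↥Sq, (s : G) • ω₀ = ω := by
    intro ω
    rw [hOdef, Finset.mem_filter]
    constructor
    · rintro ⟨-, h⟩
      obtain ⟨s, hs⟩ := Quotient.eq''.mp h
      exact ⟨s, hs⟩
    · rintro ⟨s, rfl⟩
      refine ⟨Finset.mem_erase.mpr ⟨fun h => hω₀b ?_, Finset.mem_univ _⟩, Quotient.eq''.mpr ⟨s, rfl⟩⟩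
      rw [← inv_smul_smul (s : G) ω₀, h, hfix _ (Sq.inv_mem s.2)]
  -- a maximal subgroup of `S` over the stabiliser
  set St : Subgroup ↥Sq := (MulAction.stabilizer G ω₀).subgroupOf Sq with hSt
  have hSt_ne : St ≠ ⊤ := by
    rw [hSt, Ne, Subgroup.subgroupOf_eq_top]
    intro hle
    refine hω₀b ?_
    obtain ⟨g, rfl⟩ := QuotientGroup.mk_surjective ω₀
    refine QuotientGroup.eq.mpr ?_
    have hconj : ∀ s ∈ Sq, g⁻¹ * s * g ∈ Sq := by
      intro s hs
      have h1 : g⁻¹ * s * g ∈ N := by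
        have h := MulAction.mem_stabilizer_iff.mp (hle hs)
        rw [MulAction.Quotient.smul_mk, smul_eq_mul, QuotientGroup.eq] at h
        simpa [mul_assoc] using N.inv_mem h
      obtain ⟨k, hk⟩ := IsPGroup.exists_pow_pow_eq_one S.2 ⟨s, hs⟩
      refine hpN _ h1 k ?_
      have hk' : s ^ p ^ k = 1 := by simpa [Subtype.ext_iff] using hk
      have e : (g⁻¹ * s * g) ^ p ^ k = g⁻¹ * s ^ p ^ k * g := by
        have := conj_pow (a := g⁻¹) (b := s) (i := p ^ k)
        simpa using this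
      rw [e, hk', mul_one, inv_mul_cancel]
    have hgN : g⁻¹ ∈ N := by
      rw [hN]
      refine Subgroup.mem_normalizer_iff_map_conj_eq.mpr (Subgroup.eq_of_le_of_card_ge ?_ (le_of_eq ?_))
      · rintro _ ⟨s, hs, rfl⟩
        simpa using hconj s hs
      · exact (Subgroup.card_map_of_injective (MulEquiv.injective _)).symm
    simpa using hgN
  obtain ⟨R, hRco, hStR⟩ := (eq_top_or_exists_le_coatom St).resolve_left hSt_ne
  haveI hRn : R.Normal := by
    haveI := IsPGroup.isNilpotent (p := p) S.2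
    exact Subgroup.NormalizerCondition.normal_of_coatom R Group.normalizerCondition_of_isNilpotent hRco
  have hRidx : R.index = p := by
    obtain ⟨k, hk⟩ := IsPGroup.index S.2 R
    have hk0 : k ≠ 0 := fun h => hRco.1 (Subgroup.index_eq_one.mp (by rw [hk, h, pow_zero]))
    haveI : IsSimpleGroup (↥Sq ⧸ R) := by
      haveI : Nontrivial (↥Sq ⧸ R) :=
        not_subsingleton_iff_nontrivial.mp fun h => hRco.1 (QuotientGroup.subsingleton_iff.mp h)
      refine ⟨fun H _ => ?_⟩
      rcases hRco.le_iff.mp (show R ≤ H.comap (QuotientGroup.mk' R) from fun r hr => by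
        rw [Subgroup.mem_comap, QuotientGroup.mk'_apply, (QuotientGroup.eq_one_iff r).mpr hr]
        exact H.one_mem) with h | h
      · exact Or.inr (by rw [← Subgroup.map_comap_eq_self_of_surjective (QuotientGroup.mk'_surjective R) H, h,
          Subgroup.map_top_of_surjective _ (QuotientGroup.mk'_surjective R)])
      · exact Or.inl (by rw [← Subgroup.map_comap_eq_self_of_surjective (QuotientGroup.mk'_surjective R) H, h,
          QuotientGroup.map_mk'_self])
    have hprime : (Nat.card (↥Sq ⧸ R)).Prime := by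
      haveI := (IsPGroup.to_quotient S.2 R).isNilpotent
      letI : CommGroup (↥Sq ⧸ R) :=
        { (inferInstance : Group (↥Sq ⧸ R)) with
          mul_comm := fun a b => by
            have hc : Subgroup.center (↥Sq ⧸ R) = ⊤ := by
              rcases (inferInstance : (Subgroup.center (↥Sq ⧸ R)).Normal).eq_bot_or_eq_top with h | h
              · haveI := (IsPGroup.to_quotient S.2 R).center_nontrivial
                exact absurd h (Subgroup.nontrivial_iff_ne_bot _ |>.mp inferInstance)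
              · exact h
            exact Subgroup.mem_center_iff.mp (hc ▸ Subgroup.mem_top b) a }
      exact IsSimpleGroup.prime_card
    rw [← Subgroup.index_eq_card, hk] at hprime
    have hk1 : k = 1 := by by_contra h; exact Nat.Prime.not_prime_pow' h hprime
    rw [hk, hk1, pow_one]
  by_cases hxR : (⟨x, hxS⟩ : ↥Sq) ∈ R
  · -- `x` lies in `R`
    set R' : Subgroup G := R.map Sq.subtype with hR'
    set O₀ := O.filter (fun ω => ∃ r ∈ R', r • ω₀ = ω) with hO₀
    have hO₀inv : ∀ r ∈ R', ∀ ω ∈ O₀, r • ω ∈ O₀ := by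
      intro r hr ω hω
      rw [hO₀, Finset.mem_filter] at hω ⊢
      obtain ⟨-, r', hr', rfl⟩ := hω
      refine ⟨(hmemO _).mpr ⟨⟨r * r', Subgroup.map_subtype_le _ (R'.mul_mem hr hr')⟩, mul_smul _ _ _⟩,
        r * r', R'.mul_mem hr hr', mul_smul _ _ _⟩
    set ψ₀ := trOn lam R' O₀ hO₀inv
    let ψ : ↥R →* Multiplicative (ZMod p) := ψ₀.comp (R.equivMapOfInjective Sq.subtype Sq.subtype_injective).toMonoidHom
    obtain ⟨s, hsR⟩ : ∃ s : ↥Sq, s ∉ R := by
      by_contra h; push Not at h; exact hRco.1 (top_le_iff.mp fun t _ => h t)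
    -- the orbit is the union of the translates of `O₀`
    have hunion : O = (Finset.range p).biUnion (fun i => O₀.image (fun ω => ((s ^ i : ↥Sq) : G) • ω)) := by
      ext ω
      rw [Finset.mem_biUnion]
      constructor
      · intro hω
        obtain ⟨t, ht⟩ := (hmemO ω).mp hω
        have hcard : Nat.card (↥Sq ⧸ R) = p := by rw [← Subgroup.index_eq_card, hRidx]
        have hs1 : (s : ↥Sq ⧸ R) ≠ 1 := fun h => hsR ((QuotientGroup.eq_one_iff s).mp h)
        obtain ⟨i, hi⟩ : ∃ i : ℕ, (s : ↥Sq ⧸ R) ^ i = (t : ↥Sq ⧸ R) := by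
          have := mem_zpowers_of_prime_card hcard hs1 (g' := (t : ↥Sq ⧸ R))
          rwa [← mem_powers_iff_mem_zpowers, Submonoid.mem_powers_iff] at this
        have hi' : (s : ↥Sq ⧸ R) ^ (i % p) = (t : ↥Sq ⧸ R) := by
          rw [← hi, ← hcard, pow_mod_natCard]
        rw [← QuotientGroup.mk_pow, QuotientGroup.eq] at hi'
        refine ⟨i % p, Finset.mem_range.mpr (Nat.mod_lt _ hp.out.pos), Finset.mem_image.mpr
          ⟨((((s ^ (i % p))⁻¹ * t : ↥Sq)) : G) • ω₀, ?_, ?_⟩⟩
        · rw [hO₀, Finset.mem_filter]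
          exact ⟨(hmemO _).mpr ⟨_, rfl⟩, _, ⟨_, hi', rfl⟩, rfl⟩
        · rw [← mul_smul, ← Subgroup.coe_mul, mul_inv_cancel_left, ht]
      · rintro ⟨i, -, hi⟩
        obtain ⟨ω', hω', rfl⟩ := Finset.mem_image.mp hi
        obtain ⟨t, rfl⟩ := (hmemO ω').mp (Finset.mem_filter.mp hω').1
        exact (hmemO _).mpr ⟨s ^ i * t, by rw [Subgroup.coe_mul, mul_smul]⟩
    have hdisj : ((Finset.range p : Finset ℕ) : Set ℕ).PairwiseDisjoint
        (fun i => O₀.image (fun ω => ((s ^ i : ↥Sq) : G) • ω)) := by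
      intro i hi j hj hij
      rw [Function.onFun, Finset.disjoint_left]
      intro ω h1 h2
      obtain ⟨a, ha, rfl⟩ := Finset.mem_image.mp h1
      obtain ⟨b, hb, hab⟩ := Finset.mem_image.mp h2
      obtain ⟨-, _, ⟨r, hr, rfl⟩, rfl⟩ := Finset.mem_filter.mp ha
      obtain ⟨-, _, ⟨r', hr', rfl⟩, rfl⟩ := Finset.mem_filter.mp hb
      refine hij ?_
      have hst : (s ^ i * r)⁻¹ * (s ^ j * r') ∈ St := by
        show (((s ^ i * r)⁻¹ * (s ^ j * r') : ↥Sq) : G) ∈ MulAction.stabilizer G ω₀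
        rw [MulAction.mem_stabilizer_iff, Subgroup.coe_mul, mul_smul, Subgroup.coe_inv, Subgroup.coe_mul,
          inv_smul_eq_iff, Subgroup.coe_mul, mul_smul, mul_smul]
        exact hab
      have hR1 : ((s ^ i)⁻¹ * s ^ j : ↥Sq) ∈ R := by
        have := R.mul_mem (R.mul_mem hr (hStR hst)) (R.inv_mem hr')
        simpa [mul_assoc] using this
      rw [← QuotientGroup.eq, QuotientGroup.mk_pow, QuotientGroup.mk_pow, pow_eq_pow_iff_modEq] at hR1
      have hs1 : (s : ↥Sq ⧸ R) ≠ 1 := fun h => hsR ((QuotientGroup.eq_one_iff s).mp h)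
      have hord : orderOf (s : ↥Sq ⧸ R) = p := by
        have hcard : Nat.card (↥Sq ⧸ R) = p := by rw [← Subgroup.index_eq_card, hRidx]
        rcases (Nat.dvd_prime hp.out).mp (hcard ▸ orderOf_dvd_natCard (s : ↥Sq ⧸ R)) with h | h
        · exact absurd (orderOf_eq_one_iff.mp h) hs1
        · exact h
      rw [hord] at hR1
      exact Nat.ModEq.eq_of_lt_of_lt hR1 (Finset.mem_range.mp hi) (Finset.mem_range.mp hj)
    rw [hunion, Finset.prod_biUnion hdisj]
    by_contra hne
    refine hno (exists_surjective S.2 R hRidx ψ (x := ⟨⟨x, hxS⟩, hxR⟩) hsR ?_)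
    intro h1
    refine hne (Eq.trans ?_ h1)
    refine Finset.prod_congr rfl fun i _ => ?_
    have hmem : ((s ^ i : ↥Sq) : G)⁻¹ * x * ((s ^ i : ↥Sq) : G) ∈ R' := by
      refine ⟨(s ^ i)⁻¹ * ⟨x, hxS⟩ * s ^ i, ?_, rfl⟩
      simpa using hRn.conj_mem _ hxR (s ^ i)⁻¹
    rw [prod_coc_image lam hO₀inv hmem]
    exact congrArg ψ₀ (Subtype.ext (by
      show _ = ((MulAut.conjNormal ((s ^ i)⁻¹) (⟨⟨x, hxS⟩, hxR⟩ : ↥R) : ↥Sq) : G)
      rw [MulAut.conjNormal_apply]
      simp))
  · -- `x` lies outside `R`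
    let qx : G ⧸ N → MulAction.orbitRel.Quotient (Subgroup.zpowers x) (G ⧸ N) := Quotient.mk''
    rw [← Finset.prod_fiberwise_of_maps_to (g := qx) (t := O.image qx)
      fun ω hω => Finset.mem_image_of_mem _ hω]
    refine Finset.prod_eq_one fun c hc => ?_
    obtain ⟨ω, hω, rfl⟩ := Finset.mem_image.mp hc
    set n := Function.minimalPeriod (x • ·) ω with hn
    have hxp : IsOfFinOrder x := isOfFinOrder_of_finite x
    have hnpos : 0 < n := by
      refine Function.IsPeriodicPt.minimalPeriod_pos (n := orderOf x) (orderOf_pos x) ?_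
      show (x • ·)^[orderOf x] ω = ω
      simp [smul_iterate, pow_orderOf_eq_one]
    have hfib : (O.filter fun ω' => qx ω' = qx ω) = (Finset.range n).image (fun i => x ^ i • ω) := by
      ext ω'
      rw [Finset.mem_filter, Finset.mem_image]
      constructor
      · rintro ⟨-, h⟩
        obtain ⟨⟨_, ⟨z, rfl⟩⟩, hz⟩ := Quotient.eq''.mp h
        obtain ⟨i, hi⟩ : ∃ i : ℕ, x ^ i = x ^ z := by
          have : x ^ z ∈ Submonoid.powers x := hxp.mem_powers_iff_mem_zpowers.mpr ⟨z, rfl⟩
          exact this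
        refine ⟨i % n, Finset.mem_range.mpr (Nat.mod_lt _ hnpos), ?_⟩
        rw [hn, MulAction.pow_smul_mod_minimalPeriod, hi]
        exact hz
      · rintro ⟨i, -, rfl⟩
        obtain ⟨s, rfl⟩ := (hmemO ω).mp hω
        exact ⟨(hmemO _).mpr ⟨⟨x, hxS⟩ ^ i * s, by simp [mul_smul]⟩,
          Quotient.eq''.mpr ⟨⟨x ^ i, Subgroup.pow_mem _ (Subgroup.mem_zpowers x) i⟩, rfl⟩⟩
    rw [hfib, Finset.prod_image fun i hi j hj h => ?_]
    swap
    · have h' : (x • ·)^[i] ω = (x • ·)^[j] ω := by rw [smul_iterate, smul_iterate]; exact h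
      exact (Function.iterate_eq_iterate_iff_of_lt_minimalPeriod (Finset.mem_range.mp hi) (Finset.mem_range.mp hj)).mp h'
    rw [← coc_pow]
    have hxn : x ^ n • ω = ω := by
      have := Function.isPeriodicPt_minimalPeriod (x • ·) ω
      rw [Function.IsPeriodicPt, Function.IsFixedPt, smul_iterate] at this
      exact this
    -- `p` divides `n`
    have hdvd : p ∣ n := by
      obtain ⟨t, ht⟩ := (hmemO ω).mp hω
      have hst : t⁻¹ * (⟨x, hxS⟩ : ↥Sq) ^ n * t ∈ St := by
        show ((t⁻¹ * (⟨x, hxS⟩ : ↥Sq) ^ n * t : ↥Sq) : G) ∈ MulAction.stabilizer G ω₀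
        rw [MulAction.mem_stabilizer_iff, Subgroup.coe_mul, Subgroup.coe_mul, Subgroup.coe_inv, Subgroup.coe_pow,
          mul_smul, mul_smul, ht, hxn, ← ht, inv_smul_smul]
      have hR1 := hRn.conj_mem _ (hStR hst) t
      have hR2 : (⟨x, hxS⟩ : ↥Sq) ^ n ∈ R := by simpa [mul_assoc] using hR1
      rw [← QuotientGroup.eq_one_iff, QuotientGroup.mk_pow] at hR2
      have hord : orderOf ((⟨x, hxS⟩ : ↥Sq) : ↥Sq ⧸ R) = p := by
        have hcard : Nat.card (↥Sq ⧸ R) = p := by rw [← Subgroup.index_eq_card, hRidx]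
        rcases (Nat.dvd_prime hp.out).mp (hcard ▸ orderOf_dvd_natCard ((⟨x, hxS⟩ : ↥Sq) : ↥Sq ⧸ R)) with h | h
        · exact absurd ((QuotientGroup.eq_one_iff _).mp (orderOf_eq_one_iff.mp h)) hxR
        · exact h
      exact hord ▸ orderOf_dvd_of_pow_eq_one hR2
    obtain ⟨k, hk⟩ : ∃ k : ℕ, x ^ p ^ k = 1 := by
      obtain ⟨k, hk⟩ := IsPGroup.exists_pow_pow_eq_one S.2 ⟨x, hxS⟩
      exact ⟨k, by simpa [Subtype.ext_iff] using hk⟩
    have hconj : ∀ (g y : G) (i : ℕ), (g⁻¹ * (y * g)) ^ i = g⁻¹ * (y ^ i * g) := by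
      intro g y i
      have := conj_pow (a := g⁻¹) (b := y) (i := i)
      simpa [mul_assoc] using this
    have hlt : orderOf ((x • ·)^[0] x) = orderOf x := rfl
    refine hmin _ k ?_ ?_
    · simp only
      rw [hxn, hconj, ← pow_mul, mul_comm n, pow_mul, hk, one_pow, one_mul, inv_mul_cancel]
    · simp only
      rw [hxn]
      have he : orderOf (ω.out⁻¹ * (x ^ n * ω.out)) = orderOf (x ^ n) := by
        have := orderOf_injective (MulAut.conj ω.out⁻¹).toMonoidHom (MulEquiv.injective _) (x ^ n)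
        simpa [mul_assoc] using this
      rw [he]
      have hx1 : x ≠ 1 := fun h => hxR (by
        have : (⟨x, hxS⟩ : ↥Sq) = 1 := Subtype.ext h
        rw [this]; exact R.one_mem)
      obtain ⟨m, hm⟩ : p ∣ orderOf x := by
        obtain ⟨j, hj1, hj2⟩ := (Nat.dvd_prime_pow hp.out).mp (orderOf_dvd_of_pow_eq_one hk)
        rcases j with _ | j
        · exact absurd (orderOf_eq_one_iff.mp (by simpa using hj2)) hx1
        · exact hj2 ▸ dvd_pow_self p j.succ_ne_zero
      have hmpos : 0 < m := by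
        rcases m with _ | m
        · exact absurd (by rw [hm, Nat.mul_zero]) (orderOf_pos x).ne'
        · exact Nat.succ_pos m
      refine lt_of_le_of_lt (Nat.le_of_dvd hmpos (orderOf_dvd_of_pow_eq_one ?_)) ?_
      · obtain ⟨d, hd⟩ := hdvd
        rw [← pow_mul, hd, show p * d * m = orderOf x * d by rw [hm]; ring, pow_mul, pow_orderOf_eq_one, one_pow]
      · rw [hm]; exact lt_mul_of_one_lt_left hmpos hp.out.one_lt

/-- Yoshida's theorem. -/
theorem focal_eq (S : Sylow p G)
    (hno : ¬ ∃ (P : Sylow p (Equiv.Perm (Fin (p ^ 2))))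
      (f : ↥(S : Subgroup G) →* ↥(P : Subgroup (Equiv.Perm (Fin (p ^ 2))))), Function.Surjective f) :
    (S : Subgroup G) ⊓ commutator G = (S : Subgroup G) ⊓
      ⁅Subgroup.normalizer ((S : Subgroup G) : Set G), Subgroup.normalizer ((S : Subgroup G) : Set G)⁆ := by
  set N := Subgroup.normalizer ((S : Subgroup G) : Set G) with hN
  have hSN : (S : Subgroup G) ≤ N := Subgroup.le_normalizer
  let ab : ↥N →* Abelianization ↥N := Abelianization.of
  let π : ↥(S : Subgroup G) →* Abelianization ↥N := ab.comp (Subgroup.inclusion hSN)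
  set B := π.range with hB
  have hBp : IsPGroup p ↥B := IsPGroup.of_surjective S.2 π.rangeRestrict π.rangeRestrict_surjective
  have hBmax : ∀ b : Abelianization ↥N, ∀ k : ℕ, b ^ p ^ k = 1 → b ∈ B := by
    intro b k hk
    have hidx : ¬ p ∣ B.index := by
      intro hd
      have h1 : ((S : Subgroup G).subgroupOf N).map ab = B := by
        rw [hB, MonoidHom.range_comp, Subgroup.inclusion_range]
      rw [← h1] at hd
      exact (S.subtype hSN).not_dvd_index ((hd.trans (Subgroup.index_map_dvd _ fun y => QuotientGroup.mk_surjective y)))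
    have hz : IsPGroup p (Subgroup.zpowers b) :=
      IsPGroup.of_card_dvd_pow (n := k) (by rw [Nat.card_zpowers]; exact orderOf_dvd_of_pow_eq_one hk)
    have := (hBp.toSylow hidx).3 (hBp.to_sup_of_normal_right hz) le_sup_left
    exact this.le (Subgroup.mem_sup_right (Subgroup.mem_zpowers b))
  let v : ↥(S : Subgroup G) →* Abelianization ↥N := (tr ab).comp (S : Subgroup G).subtype
  have hvB : v.range ≤ B := by
    rintro _ ⟨s, rfl⟩
    obtain ⟨k, hk⟩ := IsPGroup.exists_pow_pow_eq_one S.2 s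
    exact hBmax _ k (by rw [← map_pow, hk, map_one])
  have hvtop : v.range = B := by
    by_contra hne
    have hlt : v.range.subgroupOf B ≠ ⊤ := by
      rw [Ne, Subgroup.subgroupOf_eq_top]
      exact fun h => hne (le_antisymm hvB h)
    obtain ⟨B₁, hB₁co, hB₁⟩ := (eq_top_or_exists_le_coatom (v.range.subgroupOf B)).resolve_left hlt
    haveI : B₁.Normal := inferInstance
    have hB₁p : Nat.card (↥B ⧸ B₁) = p := by
      obtain ⟨k, hk⟩ := IsPGroup.index hBp B₁
      have hk0 : k ≠ 0 := fun h => hB₁co.1 (Subgroup.index_eq_one.mp (by rw [hk, h, pow_zero]))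
      haveI : Nontrivial (↥B ⧸ B₁) :=
        not_subsingleton_iff_nontrivial.mp fun h => hB₁co.1 (QuotientGroup.subsingleton_iff.mp h)
      haveI : IsSimpleGroup (↥B ⧸ B₁) := by
        refine ⟨fun H _ => ?_⟩
        rcases hB₁co.le_iff.mp (show B₁ ≤ H.comap (QuotientGroup.mk' B₁) from fun r hr => by
          rw [Subgroup.mem_comap, QuotientGroup.mk'_apply, (QuotientGroup.eq_one_iff r).mpr hr]
          exact H.one_mem) with h | h
        · exact Or.inr (by rw [← Subgroup.map_comap_eq_self_of_surjective (QuotientGroup.mk'_surjective B₁) H, h,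
            Subgroup.map_top_of_surjective _ (QuotientGroup.mk'_surjective B₁)])
        · exact Or.inl (by rw [← Subgroup.map_comap_eq_self_of_surjective (QuotientGroup.mk'_surjective B₁) H, h,
            QuotientGroup.map_mk'_self])
      have hprime : (Nat.card (↥B ⧸ B₁)).Prime := IsSimpleGroup.prime_card
      rw [← Subgroup.index_eq_card, hk] at hprime
      have hk1 : k = 1 := by by_contra h; exact Nat.Prime.not_prime_pow' h hprime
      rw [← Subgroup.index_eq_card, hk, hk1, pow_one]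
    let e : (↥B ⧸ B₁) ≃* Multiplicative (ZMod p) := mulEquivOfPrimeCardEq hB₁p (by simp)
    set m := B.index with hm
    let powm : Abelianization ↥N →* ↥B := (powMonoidHom m).codRestrict B fun b => B.pow_index_mem b
    let χ : Abelianization ↥N →* Multiplicative (ZMod p) := e.toMonoidHom.comp ((QuotientGroup.mk' B₁).comp powm)
    have hmcop : (Nat.card ↥B).Coprime m := by
      obtain ⟨j, hj⟩ := IsPGroup.iff_card.mp hBp
      rw [hj]
      refine Nat.Coprime.pow_left j (hp.out.coprime_iff_not_dvd.mpr fun hd => ?_)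
      haveI : Finite (Abelianization ↥N) := inferInstance
      obtain ⟨b, hb⟩ := exists_prime_orderOf_dvd_card' (G := Abelianization ↥N ⧸ B) p (by rwa [← Subgroup.index_eq_card])
      obtain ⟨a, rfl⟩ := QuotientGroup.mk_surjective b
      have hpa : p ∣ orderOf a := hb ▸ orderOf_map_dvd (QuotientGroup.mk' B) a
      obtain ⟨j', r, hr, hjr⟩ := Nat.exists_eq_pow_mul_and_not_dvd (orderOf_pos a).ne' p hp.out.ne_one
      have har : a ^ r ∈ B := hBmax _ j' (by rw [← pow_mul, mul_comm, ← hjr, pow_orderOf_eq_one])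
      have : orderOf (a : Abelianization ↥N ⧸ B) ∣ r := orderOf_dvd_of_pow_eq_one (by
        rw [← QuotientGroup.mk_pow]; exact (QuotientGroup.eq_one_iff _).mpr har)
      exact hr (hb ▸ this)
    obtain ⟨x, hxS, hx⟩ := exists_tr_ne_one S hno hN (χ.comp ab) (by
      obtain ⟨b, hb⟩ : ∃ b : ↥B, b ∉ B₁ := by
        by_contra h; push Not at h; exact hB₁co.1 (top_le_iff.mp fun t _ => h t)
      obtain ⟨s, hs⟩ := b.2
      refine ⟨⟨s, hSN s.2⟩, s.2, fun h => hb ?_⟩
      have h1 : powm (b : Abelianization ↥N) ∈ B₁ := by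
        rw [← QuotientGroup.eq_one_iff]
        apply e.injective
        rw [map_one, ← h]
        show e _ = χ (π s)
        rw [hs]
        rfl
      have h2 : b ^ m ∈ B₁ := by
        have : powm (b : Abelianization ↥N) = b ^ m := Subtype.ext rfl
        rwa [this] at h1
      obtain ⟨c, hc⟩ := exists_pow_eq_self_of_coprime (n := m) (x := b) (hmcop.symm.coprime_dvd_right (orderOf_dvd_natCard b))
      rw [← hc]
      exact B₁.pow_mem h2 c)
    refine hx ?_
    have h1 : tr (χ.comp ab) x = χ (tr ab x) := by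
      letI := Fintype.ofFinite (G ⧸ N)
      show ∏ ω, coc (χ.comp ab) x ω = χ (∏ ω, coc ab x ω)
      rw [map_prod]
      rfl
    rw [h1]
    have h2 : (⟨tr ab x, hvB ⟨⟨x, hxS⟩, rfl⟩⟩ : ↥B) ∈ B₁ := hB₁ ⟨⟨x, hxS⟩, rfl⟩
    show e (QuotientGroup.mk' B₁ (powm (tr ab x))) = 1
    have h3 : powm (tr ab x) = (⟨tr ab x, hvB ⟨⟨x, hxS⟩, rfl⟩⟩ : ↥B) ^ m := Subtype.ext rfl
    rw [h3, QuotientGroup.mk'_apply, (QuotientGroup.eq_one_iff _).mpr (B₁.pow_mem h2 m), map_one]
  -- compare indices
  have hF : (commutator G).subgroupOf (S : Subgroup G) ≤ v.ker := by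
    intro s hs
    exact (Abelianization.commutator_subset_ker (tr ab)) hs
  have hD : π.ker = (⁅N, N⁆).subgroupOf (S : Subgroup G) := by
    ext s
    rw [MonoidHom.mem_ker, Subgroup.mem_subgroupOf, ← Subgroup.map_subtype_commutator]
    show ab (Subgroup.inclusion hSN s) = 1 ↔ _
    rw [← MonoidHom.mem_ker, Abelianization.ker_of]
    exact (Subgroup.mem_map_iff_mem N.subtype_injective).symm
  have hidx : π.ker.index ≤ ((commutator G).subgroupOf (S : Subgroup G)).index := by
    rw [Subgroup.index_ker, ← hB, ← hvtop, ← Subgroup.index_ker]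
    exact Nat.le_of_dvd (Nat.pos_of_ne_zero Subgroup.index_ne_zero_of_finite) (Subgroup.index_dvd_of_le hF)
  have hle : ⁅N, N⁆ ≤ commutator G := by rw [commutator_def]; exact Subgroup.commutator_mono le_top le_top
  rw [hD] at hidx
  have heq : (⁅N, N⁆).subgroupOf (S : Subgroup G) = (commutator G).subgroupOf (S : Subgroup G) := by
    refine Subgroup.eq_of_le_of_card_ge (fun s hs => hle hs) ?_
    have a1 := Subgroup.card_mul_index ((⁅N, N⁆).subgroupOf (S : Subgroup G))
    have a2 := Subgroup.card_mul_index ((commutator G).subgroupOf (S : Subgroup G))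
    have hpos : 0 < ((⁅N, N⁆).subgroupOf (S : Subgroup G)).index := Nat.pos_of_ne_zero Subgroup.index_ne_zero_of_finite
    by_contra hc
    have := Nat.mul_lt_mul_of_lt_of_le (not_le.mp hc) hidx (lt_of_lt_of_le hpos hidx)
    omega
  have := congrArg (Subgroup.map (S : Subgroup G).subtype) heq
  rw [Subgroup.subgroupOf_map_subtype, Subgroup.subgroupOf_map_subtype] at this
  rw [inf_comm, ← this, inf_comm]

end CfsgLib.Yoshida
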