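import Mathlib

/-!
A criterion for a `p`-group to map onto `Z_p ≀ Z_p`, realised as a Sylow subgroup of `Sym(p ^ 2)`.
-/

set_option autoImplicit false

open Polynomial

namespace CfsgLib.Yoshida

variable {p : ℕ} [hp : Fact p.Prime]

/-- The cyclic shift of `(ZMod p) ^ p`. -/
def shift (p : ℕ) : Module.End (ZMod p) (ZMod p → ZMod p) where
  toFun v i := v (i + 1)
  map_add' _ _ := rfl
  map_smul' _ _ := rfl

theorem shift_pow (n : ℕ) (v : ZMod p → ZMod p) (i : ZMod p) :
    (shift p ^ n) v i = v (i + n) := by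
  induction n generalizing i with
  | zero => simp
  | succ n ih =>
    rw [pow_succ', Module.End.mul_apply]
    show (shift p ^ n) v (i + 1) = _
    rw [ih, Nat.cast_succ, add_assoc, add_comm (1 : ZMod p)]

theorem shift_pow_self : shift p ^ p = 1 := by
  refine LinearMap.ext fun v => funext fun i => ?_
  rw [shift_pow, ZMod.natCast_self, add_zero, Module.End.one_apply]

/-- A shift invariant subspace containing a vector of non-zero sum is everything. -/
theorem eq_top_of_shift (W : Submodule (ZMod p) (ZMod p → ZMod p)) (hW : ∀ v ∈ W, shift p v ∈ W)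
    {w : ZMod p → ZMod p} (hw : w ∈ W) (hsum : ∑ i, w i ≠ 0) : W = ⊤ := by
  haveI : NeZero p := ⟨hp.out.ne_zero⟩
  have hWpow : ∀ (n : ℕ), ∀ v ∈ W, (shift p ^ n) v ∈ W := by
    intro n
    induction n with
    | zero => exact fun v hv => hv
    | succ n ih => intro v hv; rw [pow_succ', Module.End.mul_apply]; exact hW _ (ih v hv)
  have hWq : ∀ (q : Polynomial (ZMod p)), aeval (shift p) q w ∈ W := by
    intro q
    induction q using Polynomial.induction_on' with
    | add a b ha hb => rw [map_add, LinearMap.add_apply]; exact W.add_mem ha hb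
    | monomial n a =>
      rw [aeval_monomial, Module.End.mul_apply, Module.algebraMap_end_apply]
      exact W.smul_mem a (hWpow n w hw)
  set e0 : ZMod p → ZMod p := Pi.single 0 1 with he0
  -- the polynomial attached to a vector
  have hrep : ∀ v : ZMod p → ZMod p, ∃ q : Polynomial (ZMod p),
      aeval (shift p) q e0 = v ∧ q.eval 1 = ∑ i, v i := by
    intro v
    refine ⟨∑ k : ZMod p, monomial k.val (v (-k)), ?_, ?_⟩
    · funext i
      rw [map_sum, LinearMap.sum_apply, Finset.sum_apply, Finset.sum_eq_single (-i)]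
      · rw [aeval_monomial, Module.End.mul_apply, Module.algebraMap_end_apply, Pi.smul_apply, shift_pow,
          ZMod.natCast_zmod_val, add_neg_cancel, he0, Pi.single_eq_same, neg_neg, smul_eq_mul, mul_one]
      · intro k _ hk
        rw [aeval_monomial, Module.End.mul_apply, Module.algebraMap_end_apply, Pi.smul_apply, shift_pow,
          ZMod.natCast_zmod_val, he0, Pi.single_eq_of_ne, smul_zero]
        intro h
        exact hk (eq_neg_of_add_eq_zero_right h)
      · exact fun h => absurd (Finset.mem_univ _) h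
    · rw [eval_finsetSum]
      simp only [eval_monomial, one_pow, mul_one]
      exact Fintype.sum_equiv (Equiv.neg (ZMod p)) _ _ fun k => rfl
  obtain ⟨qw, hqw, hqw1⟩ := hrep w
  set u : Module.End (ZMod p) (ZMod p → ZMod p) := aeval (shift p) qw with hu
  have hup : u ^ p = (∑ i, w i) • 1 := by
    rw [hu, ← map_pow, ← ZMod.expand_card, Polynomial.expand_eq_comp_X_pow, aeval_comp, map_pow, aeval_X,
      shift_pow_self, ← hqw1, ← map_one (algebraMap (ZMod p) (Module.End (ZMod p) (ZMod p → ZMod p))),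
      aeval_algebraMap_apply, Algebra.algebraMap_eq_smul_one, coe_aeval_eq_eval]
    simp
  refine eq_top_iff.mpr fun v _ => ?_
  obtain ⟨m, hm⟩ := Nat.exists_eq_succ_of_ne_zero hp.out.ne_zero
  obtain ⟨qz, hqz, -⟩ := hrep ((u ^ m) ((∑ i, w i)⁻¹ • v))
  have h1 : aeval (shift p) qz w = v := by
    calc aeval (shift p) qz w = aeval (shift p) (qw * qz) e0 := by
          rw [mul_comm, map_mul, Module.End.mul_apply, hqw]
      _ = (u ^ p) ((∑ i, w i)⁻¹ • v) := by
          rw [map_mul, Module.End.mul_apply, hqz, ← hu, ← Module.End.mul_apply, ← pow_succ', ← Nat.succ_eq_add_one, ← hm]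
      _ = v := by rw [hup, LinearMap.smul_apply, Module.End.one_apply, smul_smul, mul_inv_cancel₀ hsum, one_smul]
  exact h1 ▸ hWq qz

/-- The order of a Sylow `p`-subgroup of `Sym(p ^ 2)`. -/
theorem card_sylow_perm (P : Sylow p (Equiv.Perm (Fin (p ^ 2)))) : Nat.card P = p ^ (p + 1) := by
  rw [Sylow.card_eq_multiplicity, Nat.card_perm, Nat.card_eq_fintype_card, Fintype.card_fin,
    Nat.factorization_def _ hp.out]
  congr 1
  rw [show p ^ 2 = p * p by ring, padicValNat_factorial_mul]
  conv_lhs => enter [1, 2, 1]; rw [show p = p * 1 by ring]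
  rw [padicValNat_factorial_mul]
  simp [add_comm]

/-- A subgroup of index `p` with a character whose shifts have a non-trivial product gives
`Z_p ≀ Z_p` as a quotient. -/
theorem exists_surjective {S : Type*} [Group S] [Finite S] (hS : IsPGroup p S) (R : Subgroup S) [R.Normal]
    (hR : R.index = p) (ψ : ↥R →* Multiplicative (ZMod p)) {x : ↥R} {s : S} (hs : s ∉ R)
    (hx : ∏ i ∈ Finset.range p, ψ (MulAut.conjNormal ((s ^ i)⁻¹) x) ≠ 1) :
    ∃ (P : Sylow p (Equiv.Perm (Fin (p ^ 2)))) (f : S →* ↥(P : Subgroup (Equiv.Perm (Fin (p ^ 2))))),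
      Function.Surjective f := by
  haveI : NeZero p := ⟨hp.out.ne_zero⟩
  have hsp : s ^ p ∈ R := hR ▸ R.pow_index_mem s
  have hψne : ψ.range = ⊤ := by
    haveI : IsSimpleGroup (Multiplicative (ZMod p)) := isSimpleGroup_of_prime_card (p := p) (by simp)
    rcases (inferInstance : ψ.range.Normal).eq_bot_or_eq_top with h | h
    · exact absurd (Finset.prod_eq_one fun i _ => by
        have : ψ (MulAut.conjNormal ((s ^ i)⁻¹) x) ∈ ψ.range := ⟨_, rfl⟩
        rwa [h, Subgroup.mem_bot] at this) hx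
    · exact h
  set K : Subgroup S := ψ.ker.map R.subtype with hK
  have hKR : K ≤ R := Subgroup.map_subtype_le _
  have hKidx : K.index = p ^ 2 := by
    rw [hK, Subgroup.index_map_subtype, hR, Subgroup.index_ker, hψne, sq, Subgroup.card_top,
      Nat.card_congr (Multiplicative.toAdd), Nat.card_zmod]
  have hψinv : ∀ (r : ↥R) (y : ↥R), ψ (MulAut.conjNormal (r : S) y) = ψ y := by
    intro r y
    rw [show MulAut.conjNormal (r : S) y = r * y * r⁻¹ from Subtype.ext (by simp), map_mul, map_mul, map_inv,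
      mul_inv_cancel_comm]
  have hψper : ∀ (i j : ℕ), (i : ZMod p) = j → ∀ y : ↥R,
      ψ (MulAut.conjNormal ((s ^ i)⁻¹) y) = ψ (MulAut.conjNormal ((s ^ j)⁻¹) y) := by
    have key : ∀ (i k : ℕ) (y : ↥R),
        ψ (MulAut.conjNormal ((s ^ (i + p * k))⁻¹) y) = ψ (MulAut.conjNormal ((s ^ i)⁻¹) y) := by
      intro i k y
      have hmem : ((s ^ p) ^ k)⁻¹ ∈ R := R.inv_mem (R.pow_mem hsp k)
      have h1 := hψinv ⟨((s ^ p) ^ k)⁻¹, hmem⟩ (MulAut.conjNormal ((s ^ i)⁻¹) y)
      rw [← h1, ← MulAut.mul_apply, ← map_mul, pow_add, pow_mul, mul_inv_rev]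
    intro i j hij y
    rw [ZMod.natCast_eq_natCast_iff'] at hij
    rw [← Nat.mod_add_div i p, ← Nat.mod_add_div j p, key, key, hij]
  -- the map onto the base group
  let Θ : ↥R →* Multiplicative (ZMod p → ZMod p) :=
    { toFun := fun y => Multiplicative.ofAdd fun i => Multiplicative.toAdd (ψ (MulAut.conjNormal ((s ^ i.val)⁻¹) y))
      map_one' := by ext i; simp
      map_mul' := fun a b => by ext i; simp }
  have hΘ : ∀ (y : ↥R) (i : ZMod p), Multiplicative.toAdd (Θ y) i =
      Multiplicative.toAdd (ψ (MulAut.conjNormal ((s ^ i.val)⁻¹) y)) := fun _ _ => rfl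
  let W : Submodule (ZMod p) (ZMod p → ZMod p) := AddSubgroup.toZModSubmodule p (Subgroup.toAddSubgroup' Θ.range)
  have hWmem : ∀ v, v ∈ W ↔ ∃ y, Θ y = Multiplicative.ofAdd v := fun v => Iff.rfl
  have hWtop : W = ⊤ := by
    refine eq_top_of_shift W ?_ (w := Multiplicative.toAdd (Θ x)) ((hWmem _).mpr ⟨x, rfl⟩) ?_
    · intro v hv
      obtain ⟨y, hy⟩ := (hWmem v).mp hv
      refine (hWmem _).mpr ⟨MulAut.conjNormal s⁻¹ y, ?_⟩
      refine Multiplicative.toAdd.injective (funext fun i => ?_)
      show _ = v (i + 1)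
      rw [show v = Multiplicative.toAdd (Θ y) by rw [hy]; rfl, hΘ, hΘ, ← MulAut.mul_apply, ← map_mul,
        ← mul_inv_rev, ← pow_succ']
      exact congrArg _ (hψper _ _ (by simp) y)
    · intro h
      apply hx
      apply Multiplicative.toAdd.injective
      rw [toAdd_prod, toAdd_one, ← h]
      refine Finset.sum_bij' (fun i _ => (i : ZMod p)) (fun i _ => i.val) ?_ ?_ ?_ ?_ ?_
      · intros; exact Finset.mem_univ _
      · intro a _; exact Finset.mem_range.mpr a.val_lt
      · intro a ha; exact ZMod.val_cast_of_lt (Finset.mem_range.mp ha)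
      · intro a _; exact ZMod.natCast_zmod_val a
      · intro a ha
        rw [hΘ, ZMod.val_cast_of_lt (Finset.mem_range.mp ha)]
  have hΘsurj : Nat.card Θ.range = p ^ p := by
    have : Θ.range = ⊤ := eq_top_iff.mpr fun v _ => by
      obtain ⟨y, hy⟩ := (hWmem (Multiplicative.toAdd v)).mp (hWtop ▸ Submodule.mem_top)
      exact ⟨y, hy⟩
    rw [this, Subgroup.card_top, Nat.card_congr Multiplicative.toAdd, Nat.card_fun, Nat.card_zmod]
  have hcore : K.normalCore = Θ.ker.map R.subtype := by
    have hgen : ∀ t : S, ∃ (i : ℕ) (r : ↥R), t = s ^ i * (r : S) := by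
      intro t
      have hcard : Nat.card (S ⧸ R) = p := by rw [← Subgroup.index_eq_card, hR]
      have hs1 : (s : S ⧸ R) ≠ 1 := fun h => hs ((QuotientGroup.eq_one_iff s).mp h)
      obtain ⟨i, hi⟩ : ∃ i : ℕ, (s : S ⧸ R) ^ i = (t : S ⧸ R) := by
        have := mem_zpowers_of_prime_card hcard hs1 (g' := (t : S ⧸ R))
        rwa [← mem_powers_iff_mem_zpowers, Submonoid.mem_powers_iff] at this
      rw [← QuotientGroup.mk_pow, QuotientGroup.eq] at hi
      exact ⟨i, ⟨_, hi⟩, by simp⟩
    ext y
    constructor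
    · intro hy
      refine ⟨⟨y, hKR (K.normalCore_le hy)⟩, ?_, rfl⟩
      rw [SetLike.mem_coe, MonoidHom.mem_ker]
      refine Multiplicative.toAdd.injective (funext fun i => ?_)
      have h1 := K.normalCore_le (K.normalCore_normal.conj_mem y hy (s ^ i.val)⁻¹)
      obtain ⟨k, hk, hky⟩ := h1
      rw [hΘ]
      have : MulAut.conjNormal ((s ^ i.val)⁻¹) (⟨y, hKR (K.normalCore_le hy)⟩ : ↥R) = k :=
        Subtype.ext (by rw [MulAut.conjNormal_apply]; exact hky.symm)
      rw [this, MonoidHom.mem_ker.mp hk]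
      rfl
    · rintro ⟨y, hy, rfl⟩ t
      rw [SetLike.mem_coe, MonoidHom.mem_ker] at hy
      obtain ⟨i, r, hir⟩ := hgen t⁻¹
      have h0 := congrArg (fun v : Multiplicative (ZMod p → ZMod p) => Multiplicative.toAdd v (i : ZMod p)) hy
      simp only [hΘ] at h0
      rw [hψper (i : ZMod p).val i (by simp)] at h0
      have h0' : ψ (MulAut.conjNormal ((s ^ i)⁻¹) y) = 1 := Multiplicative.toAdd.injective h0
      have ht : t = (r : S)⁻¹ * (s ^ i)⁻¹ := by rw [← mul_inv_rev, ← hir, inv_inv]
      have hfin : ψ (MulAut.conjNormal t y) = 1 := by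
        rw [ht, map_mul, MulAut.mul_apply, ← Subgroup.coe_inv, hψinv, h0']
      exact ⟨MulAut.conjNormal t y, hfin, MulAut.conjNormal_apply t y⟩
  -- the permutation representation
  obtain ⟨e⟩ : Nonempty ((S ⧸ K) ≃ Fin (p ^ 2)) := ⟨(Finite.equivFinOfCardEq (by rw [← Subgroup.index_eq_card, hKidx]))⟩
  let g : S →* Equiv.Perm (Fin (p ^ 2)) := e.permCongrHom.toMonoidHom.comp (MulAction.toPermHom S (S ⧸ K))
  have hker : g.ker = K.normalCore := by
    rw [Subgroup.normalCore_eq_ker]
    ext t
    simp [g]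
  have hcard : Nat.card g.range = p ^ (p + 1) := by
    rw [← Subgroup.index_ker, hker, hcore, Subgroup.index_map_subtype, hR, Subgroup.index_ker, hΘsurj, pow_succ]
  have hgp : IsPGroup p g.range := by
    rw [IsPGroup.iff_card]
    exact ⟨_, hcard⟩
  obtain ⟨P, hP⟩ := hgp.exists_le_sylow
  have heq : g.range = (P : Subgroup (Equiv.Perm (Fin (p ^ 2)))) :=
    Subgroup.eq_of_le_of_card_ge hP (by rw [card_sylow_perm P, hcard])
  refine ⟨P, g.codRestrict _ (fun t => hP ⟨t, rfl⟩), fun z => ?_⟩
  obtain ⟨t, ht⟩ := (heq.ge z.2 : (z : Equiv.Perm (Fin (p ^ 2))) ∈ g.range)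
  exact ⟨t, Subtype.ext ht⟩

end CfsgLib.Yoshida
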